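import Mathlib

set_option autoImplicit false

/-!
Linear algebra shared by the Witt-type arguments: vectors with prescribed pairings, and the induction that turns a
one-vector extension step into the extension of partial isometries.
-/

namespace CfsgLib.Geom

variable {F V : Type*} [Field F] [AddCommGroup V] [Module F V]

/-- Duality for a sesquilinear form separating on the left: a vector outside `W` can be paired to one by a vector
orthogonal to `W`. -/
theorem exists_perp_pair {σ : F →+* F} [RingHomSurjective σ] [FiniteDimensional F V]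
    (B : V →ₛₗ[σ] V →ₗ[F] F) (hB : ∀ x, (∀ y, B x y = 0) → x = 0)
    (W : Submodule F V) {x₀ : V} (hx : x₀ ∉ W) :
    ∃ u : V, (∀ w ∈ W, B w u = 0) ∧ B x₀ u = 1 := by
  have hinj : Function.Injective B := by
    intro a b h
    have h0 : a - b = 0 := hB _ fun y => by simp [h]
    exact sub_eq_zero.1 h0
  have hnot : B x₀ ∉ W.map B := by
    rintro ⟨w, hw, he⟩
    exact hx (hinj he ▸ hw)
  obtain ⟨Φ, hΦ, hΦ0⟩ := Submodule.exists_dual_map_eq_bot_of_notMem hnot inferInstance
  have hzero : ∀ w ∈ W, Φ (B w) = 0 := fun w hw =>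
    (Submodule.mem_bot F).1 (hΦ0 ▸ Submodule.mem_map_of_mem (Submodule.mem_map_of_mem hw))
  set u₀ : V := (Module.evalEquiv F V).symm Φ with hu₀
  have hev : ∀ f : Module.Dual F V, f u₀ = Φ f := fun f => by
    rw [hu₀, Module.apply_evalEquiv_symm_apply]
  refine ⟨(Φ (B x₀))⁻¹ • u₀, fun w hw => ?_, ?_⟩
  · simp [hev, hzero w hw]
  · simp [hev, inv_mul_cancel₀ hΦ]

/-- A vector meeting two functionals that do not vanish, and orthogonal to a subspace. -/
theorem exists_common_pair {σ : F →+* F} [RingHomSurjective σ] [FiniteDimensional F V]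
    (B : V →ₛₗ[σ] V →ₗ[F] F) (hB : ∀ x, (∀ y, B x y = 0) → x = 0)
    (W : Submodule F V) {x y : V} (hx : x ∉ W) (hy : y ∉ W) :
    ∃ u : V, (∀ w ∈ W, B w u = 0) ∧ B x u ≠ 0 ∧ B y u ≠ 0 := by
  obtain ⟨a, ha, hxa⟩ := exists_perp_pair B hB W hx
  obtain ⟨b, hb, hyb⟩ := exists_perp_pair B hB W hy
  by_cases hya : B y a = 0
  · by_cases hxb : B x b = 0
    · refine ⟨a + b, fun w hw => by simp [ha w hw, hb w hw], ?_, ?_⟩
      · simp [hxa, hxb]
      · simp [hya, hyb]
    · exact ⟨b, hb, hxb, by simp [hyb]⟩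
  · exact ⟨a, ha, by simp [hxa], hya⟩

/-- An endomorphism preserving a left-separating form is bijective. -/
theorem exists_equiv_of_preserving {σ : F →+* F} [FiniteDimensional F V]
    (B : V →ₛₗ[σ] V →ₗ[F] F) (hB : ∀ x, (∀ y, B x y = 0) → x = 0)
    (T : V →ₗ[F] V) (hT : ∀ x y, B (T x) (T y) = B x y) :
    ∃ e : V ≃ₗ[F] V, ∀ x, e x = T x := by
  have hinj : Function.Injective T := by
    rw [← LinearMap.ker_eq_bot, Submodule.eq_bot_iff]
    intro x hx
    rw [LinearMap.mem_ker] at hx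
    refine hB x fun y => ?_
    rw [← hT, hx]
    simp
  exact ⟨LinearEquiv.ofInjectiveEndo T hinj, fun x => rfl⟩

/-- The induction behind Witt's lemma. `c` is the two-point invariant, `G` a group of maps preserving it; the step
moves one vector while fixing a subspace pointwise. -/
theorem extend_partial [FiniteDimensional F V] (c : V → V → F) (G : Subgroup (V ≃ₗ[F] V))
    (hG : ∀ g ∈ G, ∀ u v, c (g u) (g v) = c u v)
    (step : ∀ (H : Submodule F V) (x y : V), x ∉ H → y ∉ H →
      (∀ (a b : F), ∀ h ∈ H, ∀ h' ∈ H, c (a • x + h) (b • x + h') = c (a • y + h) (b • y + h')) →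
      ∃ g ∈ G, (∀ h ∈ H, g h = h) ∧ g x = y)
    (X : Submodule F V) (φ : X →ₗ[F] V) (hinj : Function.Injective φ)
    (hφ : ∀ x x' : X, c (φ x) (φ x') = c x x') :
    ∃ g ∈ G, ∀ x : X, g (x : V) = φ x := by
  induction hn : Module.finrank F X using Nat.strong_induction_on generalizing X with
  | _ n ih =>
    by_cases hX : X = ⊥
    · subst hX
      refine ⟨1, one_mem G, fun x => ?_⟩
      have hx : x = 0 := Subtype.ext ((Submodule.mem_bot F).1 x.2)
      simp [hx]
    obtain ⟨x₀, hx₀X, hx₀⟩ := Submodule.exists_mem_ne_zero_of_ne_bot hX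
    obtain ⟨C, hC⟩ := Submodule.exists_isCompl (F ∙ x₀)
    set H : Submodule F V := C ⊓ X with hH
    have hHX : H ≤ X := inf_le_right
    have hx₀H : x₀ ∉ H := fun h => hx₀
      ((Submodule.mem_bot F).1 (hC.disjoint.le_bot ⟨Submodule.mem_span_singleton_self x₀, h.1⟩))
    have hdec : ∀ x ∈ X, ∃ (a : F) (h : V), h ∈ H ∧ x = a • x₀ + h := by
      intro x hx
      have hx' : x ∈ (F ∙ x₀) ⊔ C := by rw [hC.sup_eq_top]; trivial
      obtain ⟨p, hp, q, hq, rfl⟩ := Submodule.mem_sup.1 hx'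
      obtain ⟨a, rfl⟩ := Submodule.mem_span_singleton.1 hp
      refine ⟨a, q, ⟨hq, ?_⟩, rfl⟩
      simpa using X.sub_mem hx (X.smul_mem a hx₀X)
    have hlt : Module.finrank F H < n := by
      subst hn
      exact Submodule.finrank_lt_finrank_of_lt (lt_of_le_of_ne hHX fun h => hx₀H (h ▸ hx₀X))
    obtain ⟨g, hgG, hg⟩ := ih _ hlt H (φ.comp (Submodule.inclusion hHX))
      (hinj.comp (Submodule.inclusion_injective hHX)) (fun x x' => hφ _ _) rfl
    let z : X := ⟨x₀, hx₀X⟩
    set y : V := g.symm (φ z) with hy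
    have hgy : g y = φ z := g.apply_symm_apply _
    have hgH : ∀ (h : V) (hh : h ∈ H), g h = φ ⟨h, hHX hh⟩ := fun h hh => hg ⟨h, hh⟩
    have hyH : y ∉ H := by
      intro hyH
      have h1 : φ ⟨y, hHX hyH⟩ = φ z := (hgH y hyH).symm.trans hgy
      have h2 : y = x₀ := congrArg Subtype.val (hinj h1)
      exact hx₀H (h2 ▸ hyH)
    have key : ∀ (a : F) (h : V) (hh : h ∈ H),
        φ (a • z + ⟨h, hHX hh⟩) = g (a • y + h) := fun a h hh => by
      simp [hgy, hgH h hh]
    have hinv : ∀ (a b : F), ∀ h ∈ H, ∀ h' ∈ H,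
        c (a • x₀ + h) (b • x₀ + h') = c (a • y + h) (b • y + h') := by
      intro a b h hh h' hh'
      rw [← hG g hgG (a • y + h) (b • y + h'), ← key a h hh, ← key b h' hh', hφ]
      rfl
    obtain ⟨t, htG, htH, htx⟩ := step H x₀ y hx₀H hyH hinv
    refine ⟨g * t, mul_mem hgG htG, fun x => ?_⟩
    obtain ⟨a, h, hh, hxe⟩ := hdec _ x.2
    have hx : x = a • z + ⟨h, hHX hh⟩ := Subtype.ext hxe
    rw [hx, key a h hh, LinearEquiv.mul_apply]
    simp [z, htx, htH h hh]

end CfsgLib.Geom
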