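import Mathlib
import Cfsg.Agent.Lib.Geom.Perp

set_option autoImplicit false

/-!
Witt's lemma for quadratic forms with left-separating polar form, over any field.
-/

namespace CfsgLib.Geom

open QuadraticMap (polar)

variable {F V : Type*} [Field F] [AddCommGroup V] [Module F V]

/-- The isometries of a quadratic form, as a subgroup of the linear automorphisms. -/
def quadIsoms (Q : QuadraticForm F V) : Subgroup (V ≃ₗ[F] V) where
  carrier := {g | ∀ v, Q (g v) = Q v}
  mul_mem' {a b} ha hb v := by simp [LinearEquiv.mul_apply, ha (b v), hb v]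
  one_mem' v := by simp
  inv_mem' {a} ha v := by
    rw [← ha (a⁻¹ v), ← LinearEquiv.mul_apply, mul_inv_cancel, LinearEquiv.coe_one, id_eq]

theorem mem_quadIsoms {Q : QuadraticForm F V} {g : V ≃ₗ[F] V} :
    g ∈ quadIsoms Q ↔ ∀ v, Q (g v) = Q v := Iff.rfl

theorem polar_quadIsom {Q : QuadraticForm F V} {g : V ≃ₗ[F] V} (hg : g ∈ quadIsoms Q) (u v : V) :
    polar Q (g u) (g v) = polar Q u v := by
  simp only [QuadraticMap.polar]
  rw [← map_add, hg, hg, hg]

theorem quad_map_add_smul (Q : QuadraticForm F V) (x p : V) (a : F) :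
    Q (x + a • p) = Q x + a * a * Q p + a * polar Q x p := by
  rw [QuadraticMap.map_add Q x (a • p), QuadraticMap.map_smul, QuadraticMap.polar_smul_right]
  simp [smul_eq_mul]

theorem quad_smul (Q : QuadraticForm F V) (a : F) (p : V) : Q (a • p) = a * a * Q p := by
  simp [QuadraticMap.map_smul]

theorem polar_self_two (Q : QuadraticForm F V) (p : V) : polar Q p p = 2 * Q p := by
  rw [QuadraticMap.polar_self]; simp [two_mul, two_smul]

/-- A linear map preserving `Q`, with left-separating polar form, is an element of `quadIsoms Q`. -/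
theorem exists_mem_quadIsoms [FiniteDimensional F V] (Q : QuadraticForm F V)
    (hQ : ∀ x, (∀ y, polar Q x y = 0) → x = 0) (T : V →ₗ[F] V) (hT : ∀ v, Q (T v) = Q v) :
    ∃ g ∈ quadIsoms Q, ∀ x, g x = T x := by
  obtain ⟨e, he⟩ := exists_equiv_of_preserving Q.polarBilin (by simpa using hQ) T
    (fun x y => by
      simp only [QuadraticMap.polarBilin_apply_apply, QuadraticMap.polar]
      rw [← map_add, hT, hT, hT])
  exact ⟨e, fun v => by rw [he, hT], he⟩

/-- One step of Witt's lemma for quadratic forms. -/
theorem quad_step [FiniteDimensional F V] (Q : QuadraticForm F V)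
    (hQ : ∀ x, (∀ y, polar Q x y = 0) → x = 0) (H : Submodule F V) (x₀ y₀ : V) (hx : x₀ ∉ H)
    (hy : y₀ ∉ H) (hq : ∀ a : F, ∀ h ∈ H, Q (a • x₀ + h) = Q (a • y₀ + h)) :
    ∃ g ∈ quadIsoms Q, (∀ h ∈ H, g h = h) ∧ g x₀ = y₀ := by
  set P : V →ₗ[F] V →ₗ[F] F := Q.polarBilin with hP
  have hPa : ∀ a b, P a b = polar Q a b := fun a b => rfl
  have hPc : ∀ a b, polar Q a b = polar Q b a := QuadraticMap.polar_comm Q
  have hq0 : Q y₀ = Q x₀ := by simpa using (hq 1 0 H.zero_mem).symm
  have hph : ∀ h ∈ H, polar Q (y₀ - x₀) h = 0 := by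
    intro h hh
    have h1 := hq 1 h hh
    simp only [one_smul] at h1
    rw [QuadraticMap.polar_sub_left]
    simp only [QuadraticMap.polar]
    linear_combination -h1 - hq0
  obtain ⟨p, hp⟩ : ∃ p, p = y₀ - x₀ := ⟨_, rfl⟩
  rw [← hp] at hph
  have hxp : Q p + polar Q x₀ p = 0 := by
    have h1 := QuadraticMap.map_add Q x₀ p
    rw [show x₀ + p = y₀ by rw [hp]; abel, hq0] at h1
    linear_combination -h1
  by_cases hp0 : p = 0
  · refine ⟨1, one_mem _, fun h _ => rfl, ?_⟩
    rw [hp, sub_eq_zero] at hp0
    simp [hp0]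
  by_cases hQp : Q p = 0
  · -- singular difference vector
    have hpp : polar Q p p = 0 := by rw [polar_self_two, hQp, mul_zero]
    have hxp0 : polar Q x₀ p = 0 := by linear_combination hxp - hQp
    by_cases hxW : x₀ ∈ H ⊔ (F ∙ p)
    · -- `p` lies in the domain and is rescaled
      obtain ⟨h, hh, q, hqm, hxe⟩ := Submodule.mem_sup.1 hxW
      obtain ⟨a, rfl⟩ := Submodule.mem_span_singleton.1 hqm
      have ha : a ≠ 0 := by
        rintro rfl
        exact hx (by rw [← hxe]; simpa using hh)
      have ha1 : 1 + a⁻¹ ≠ 0 := by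
        intro h0
        have h1 : a + 1 = 0 := by
          calc a + 1 = a * (1 + a⁻¹) := by rw [mul_add, mul_inv_cancel₀ ha, mul_one]
            _ = 0 := by rw [h0, mul_zero]
        refine hy ?_
        have h2 : y₀ = h + (a + 1) • p := by
          rw [add_smul, one_smul, ← add_assoc, hxe, hp]; abel
        rw [h2, h1, zero_smul, add_zero]; exact hh
      have hpH : p ∉ H := fun hpH => hx (hxe ▸ H.add_mem hh (H.smul_mem a hpH))
      obtain ⟨v₀, hv₀H, hv₀p⟩ := exists_perp_pair P hQ H hpH
      obtain ⟨v, hv⟩ : ∃ v, v = v₀ + (-(Q v₀)) • p := ⟨_, rfl⟩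
      have hpv : polar Q p v = 1 := by
        rw [hv, QuadraticMap.polar_add_right, QuadraticMap.polar_smul_right, hpp, smul_zero,
          add_zero, ← hPa, hv₀p]
      have hvH : ∀ w ∈ H, polar Q v w = 0 := by
        intro w hw
        rw [hv, QuadraticMap.polar_add_left, QuadraticMap.polar_smul_left, hph w hw,
          hPc v₀ w, ← hPa, hv₀H w hw, smul_zero, add_zero]
      have hQv : Q v = 0 := by
        rw [hv, quad_map_add_smul, hQp, hPc v₀ p, ← hPa, hv₀p]; ring
      set α := a⁻¹ with hα
      set β := -α / (1 + α) with hβ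
      have hαβ : α + β + α * β = 0 := by
        rw [hβ]; field_simp; ring
      let T : V →ₗ[F] V :=
        LinearMap.id + α • (P v).smulRight p + β • (P p).smulRight v
      have hTa : ∀ z, T z = z + (α * polar Q v z) • p + (β * polar Q p z) • v := fun z => by
        simp [T, hPa, smul_smul]
      have hT : ∀ z, Q (T z) = Q z := by
        intro z
        rw [hTa, quad_map_add_smul, quad_map_add_smul, hQp, hQv, QuadraticMap.polar_add_left,
          QuadraticMap.polar_smul_left, hpv, hPc z p, hPc z v, smul_eq_mul]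
        linear_combination (polar Q v z * polar Q p z) * hαβ
      obtain ⟨g, hg, hga⟩ := exists_mem_quadIsoms Q hQ T hT
      refine ⟨g, hg, fun w hw => ?_, ?_⟩
      · rw [hga, hTa, hvH w hw, hph w hw]; simp
      · rw [hga, hTa, ← hxe, QuadraticMap.polar_add_right, QuadraticMap.polar_add_right,
          QuadraticMap.polar_smul_right, QuadraticMap.polar_smul_right, hvH h hh, hph h hh,
          hpp, hPc v p, hpv]
        have : α * (0 + a * 1) = 1 := by rw [hα]; field_simp; ring
        simp only [smul_eq_mul, mul_zero, add_zero, zero_add, zero_smul, mul_one] at this ⊢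
        rw [this, one_smul, hxe, hp]; abel
    · -- a Siegel transformation
      obtain ⟨u, huW, hux⟩ := exists_perp_pair P hQ (H ⊔ (F ∙ p)) hxW
      have hup : polar Q u p = 0 := by
        rw [hPc, ← hPa]
        exact huW p (Submodule.mem_sup_right (Submodule.mem_span_singleton_self p))
      let T : V →ₗ[F] V :=
        LinearMap.id + (P u).smulRight p - (P p).smulRight u - Q u • (P p).smulRight p
      have hTa : ∀ z, T z = z + (polar Q u z - Q u * polar Q p z) • p + (-(polar Q p z)) • u :=
        fun z => by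
          simp only [T, LinearMap.sub_apply, LinearMap.add_apply, LinearMap.smul_apply,
            LinearMap.smulRight_apply, LinearMap.id_apply, hPa, sub_smul, neg_smul, smul_smul]
          abel
      have hT : ∀ z, Q (T z) = Q z := by
        intro z
        rw [hTa, quad_map_add_smul, quad_map_add_smul, hQp, QuadraticMap.polar_add_left,
          QuadraticMap.polar_smul_left, hPc p u, hup, hPc z p, hPc z u, smul_eq_mul]
        ring
      obtain ⟨g, hg, hga⟩ := exists_mem_quadIsoms Q hQ T hT
      refine ⟨g, hg, fun w hw => ?_, ?_⟩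
      · rw [hga, hTa, hph w hw, hPc u w, ← hPa, huW w (Submodule.mem_sup_left hw)]
        simp
      · rw [hga, hTa, hPc p x₀, hxp0, hPc u x₀, ← hPa, hux]
        simp [hp]
  · -- a reflection
    let T : V →ₗ[F] V := LinearMap.id - (Q p)⁻¹ • (P p).smulRight p
    have hTa : ∀ z, T z = z + (-((Q p)⁻¹ * polar Q p z)) • p := fun z => by
      simp [T, hPa, smul_smul, sub_eq_add_neg, neg_smul]
    have hT : ∀ z, Q (T z) = Q z := by
      intro z
      rw [hTa, quad_map_add_smul, hPc z p]
      field_simp
      ring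
    obtain ⟨g, hg, hga⟩ := exists_mem_quadIsoms Q hQ T hT
    refine ⟨g, hg, fun w hw => ?_, ?_⟩
    · rw [hga, hTa, hph w hw]; simp
    · rw [hga, hTa]
      have h1 : -((Q p)⁻¹ * polar Q p x₀) = 1 := by
        rw [hPc p x₀, show polar Q x₀ p = -Q p by linear_combination hxp, mul_neg, neg_neg,
          inv_mul_cancel₀ hQp]
      rw [h1, one_smul, hp]; abel

/-- Witt's lemma for a quadratic form whose polar form separates on the left, over any field: an injective linear
map defined on a subspace and preserving `Q` extends to an isometry. -/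
theorem witt_quadratic [FiniteDimensional F V] (Q : QuadraticForm F V)
    (hQ : ∀ x, (∀ y, polar Q x y = 0) → x = 0) (X : Submodule F V) (φ : X →ₗ[F] V)
    (hinj : Function.Injective φ) (hφ : ∀ x : X, Q (φ x) = Q x) :
    ∃ g ∈ quadIsoms Q, ∀ x : X, g (x : V) = φ x :=
  extend_partial (fun u _ => Q u) (quadIsoms Q) (fun g hg u _ => hg u)
    (fun H x y hx hy h => quad_step Q hQ H x y hx hy fun a w hw => h a a w hw w hw)
    X φ hinj fun x _ => hφ x

end CfsgLib.Geom
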