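import Mathlib
import Cfsg.Agent.Lib.Geom.Perp

set_option autoImplicit false

/-!
Witt's lemma for alternating forms and for Hermitian forms with a trace element, over any field.
-/

namespace CfsgLib.Geom

variable {F V : Type*} [Field F] [AddCommGroup V] [Module F V]

/-- The automorphisms preserving a two-variable form, as a subgroup. -/
def formIsoms {σ : F →+* F} (B : V →ₛₗ[σ] V →ₗ[F] F) : Subgroup (V ≃ₗ[F] V) where
  carrier := {g | ∀ u v, B (g u) (g v) = B u v}
  mul_mem' {a b} ha hb u v := by simp [LinearEquiv.mul_apply, ha (b u) (b v), hb u v]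
  one_mem' u v := by simp
  inv_mem' {a} ha u v := by
    rw [← ha (a⁻¹ u) (a⁻¹ v), ← LinearEquiv.mul_apply, ← LinearEquiv.mul_apply, mul_inv_cancel]
    simp

theorem mem_formIsoms {σ : F →+* F} {B : V →ₛₗ[σ] V →ₗ[F] F} {g : V ≃ₗ[F] V} :
    g ∈ formIsoms B ↔ ∀ u v, B (g u) (g v) = B u v := Iff.rfl

/-- Membership in `formIsoms` of a linear map preserving a left-separating form. -/
theorem exists_mem_formIsoms [FiniteDimensional F V] {σ : F →+* F} (B : V →ₛₗ[σ] V →ₗ[F] F)
    (hB : ∀ x, (∀ y, B x y = 0) → x = 0) (T : V →ₗ[F] V) (hT : ∀ u v, B (T u) (T v) = B u v) :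
    ∃ g ∈ formIsoms B, ∀ x, g x = T x := by
  obtain ⟨e, he⟩ := exists_equiv_of_preserving B hB T hT
  exact ⟨e, fun u v => by rw [he, he, hT], he⟩

/-! ### Alternating forms: everything is done by symplectic transvections -/

theorem alt_swap (B : V →ₗ[F] V →ₗ[F] F) (hA : ∀ v, B v v = 0) (u v : V) : B v u = -B u v := by
  have h := hA (u + v)
  simp only [map_add, LinearMap.add_apply, hA] at h
  linear_combination h

/-- The symplectic transvection `z ↦ z + c B(z, p) p`. -/
def altTransvection (B : V →ₗ[F] V →ₗ[F] F) (p : V) (c : F) : V →ₗ[F] V :=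
  LinearMap.id + c • (B.flip p).smulRight p

theorem altTransvection_apply (B : V →ₗ[F] V →ₗ[F] F) (p : V) (c : F) (z : V) :
    altTransvection B p c z = z + (c * B z p) • p := by
  simp [altTransvection, smul_smul]

theorem altTransvection_preserves (B : V →ₗ[F] V →ₗ[F] F) (hA : ∀ v, B v v = 0) (p : V) (c : F)
    (u v : V) : B (altTransvection B p c u) (altTransvection B p c v) = B u v := by
  simp only [altTransvection_apply, map_add, map_smul, LinearMap.add_apply, LinearMap.smul_apply,
    smul_eq_mul, hA p]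
  rw [alt_swap B hA v p]
  ring

/-- The set of automorphisms which are symplectic transvections of `B`. -/
def altTransvectionSet (B : V →ₗ[F] V →ₗ[F] F) : Set (V ≃ₗ[F] V) :=
  {g | ∃ (p : V) (c : F), ∀ z, g z = z + (c * B z p) • p}

theorem altTransvectionSet_closure_le [FiniteDimensional F V] (B : V →ₗ[F] V →ₗ[F] F)
    (hA : ∀ v, B v v = 0) : Subgroup.closure (altTransvectionSet B) ≤ formIsoms B := by
  refine (Subgroup.closure_le _).2 ?_
  rintro g ⟨p, c, hg⟩ u v
  rw [hg, hg, ← altTransvection_apply, ← altTransvection_apply,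
    altTransvection_preserves B hA]

/-- One step of Witt's lemma for alternating forms, by a product of transvections. -/
theorem alt_step [FiniteDimensional F V] (B : V →ₗ[F] V →ₗ[F] F) (hA : ∀ v, B v v = 0)
    (hB : ∀ x, (∀ y, B x y = 0) → x = 0) (H : Submodule F V) (x₀ y₀ : V) (hx : x₀ ∉ H)
    (hy : y₀ ∉ H) (hph : ∀ h ∈ H, B x₀ h = B y₀ h) :
    ∃ g ∈ Subgroup.closure (altTransvectionSet B), (∀ h ∈ H, g h = h) ∧ g x₀ = y₀ := by
  have one : ∀ a b : V, B a b ≠ 0 → (∀ h ∈ H, B a h = B b h) →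
      ∃ g ∈ Subgroup.closure (altTransvectionSet B), (∀ h ∈ H, g h = h) ∧ g a = b := by
    intro a b hab hh
    obtain ⟨e, -, he⟩ := exists_mem_formIsoms B hB (altTransvection B (b - a) (B a b)⁻¹)
      (altTransvection_preserves B hA _ _)
    simp only [altTransvection_apply] at he
    refine ⟨e, Subgroup.subset_closure ⟨_, _, he⟩, fun w hw => ?_, ?_⟩
    · rw [he, map_sub, alt_swap B hA b w, alt_swap B hA a w, hh w hw]; simp
    · rw [he, map_sub, hA, sub_zero, inv_mul_cancel₀ hab, one_smul]; abel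
  by_cases hxy : B x₀ y₀ = 0
  · obtain ⟨w, hwH, hwx, hwy⟩ := exists_common_pair B hB H hx hy
    have hz : ∀ h ∈ H, B x₀ h = B (x₀ + w) h := fun h hh => by
      rw [map_add, LinearMap.add_apply, alt_swap B hA h w, hwH h hh]; simp
    obtain ⟨g₁, hg₁, hg₁H, hg₁x⟩ := one x₀ (x₀ + w) (by simp [map_add, hA, hwx]) hz
    obtain ⟨g₂, hg₂, hg₂H, hg₂x⟩ := one (x₀ + w) y₀
      (by simp [map_add, hxy, alt_swap B hA y₀ w, hwy]) (fun h hh => (hz h hh).symm.trans (hph h hh))
    refine ⟨g₂ * g₁, mul_mem hg₂ hg₁, fun h hh => ?_, ?_⟩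
    · rw [LinearEquiv.mul_apply, hg₁H h hh, hg₂H h hh]
    · rw [LinearEquiv.mul_apply, hg₁x, hg₂x]
  · exact one x₀ y₀ hxy hph

/-- Witt's lemma for alternating forms, by products of transvections. -/
theorem witt_alternating [FiniteDimensional F V] (B : V →ₗ[F] V →ₗ[F] F) (hA : ∀ v, B v v = 0)
    (hB : ∀ x, (∀ y, B x y = 0) → x = 0) (X : Submodule F V) (φ : X →ₗ[F] V)
    (hinj : Function.Injective φ) (hφ : ∀ x x' : X, B (φ x) (φ x') = B x x') :
    ∃ g ∈ Subgroup.closure (altTransvectionSet B),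
      (∀ u v, B (g u) (g v) = B u v) ∧ ∀ x : X, g (x : V) = φ x := by
  have hle := altTransvectionSet_closure_le B hA
  obtain ⟨g, hg, hgX⟩ := extend_partial (fun u v => B u v) _ (fun g hg => hle hg)
    (fun H x y hx hy h => alt_step B hA hB H x y hx hy fun w hw => by
      simpa using h 1 0 0 H.zero_mem w hw) X φ hinj hφ
  exact ⟨g, hg, hle hg, hgX⟩

/-- The isometry group of a left-separating alternating form is generated by transvections. -/
theorem formIsoms_eq_closure_alt [FiniteDimensional F V] (B : V →ₗ[F] V →ₗ[F] F)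
    (hA : ∀ v, B v v = 0) (hB : ∀ x, (∀ y, B x y = 0) → x = 0) :
    formIsoms B = Subgroup.closure (altTransvectionSet B) := by
  refine le_antisymm (fun g hg => ?_) (altTransvectionSet_closure_le B hA)
  obtain ⟨t, ht, -, htX⟩ := witt_alternating B hA hB ⊤
    ((g : V →ₗ[F] V).comp (⊤ : Submodule F V).subtype)
    (fun a b h => Subtype.ext (g.injective h)) (fun a b => hg a b)
  have : t = g := LinearEquiv.ext fun x => htX ⟨x, trivial⟩
  exact this ▸ ht

/-! ### Hermitian forms -/

/-- One step of Witt's lemma for Hermitian forms with an element of trace one. -/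
theorem herm_step [FiniteDimensional F V] {σ : F →+* F} [RingHomSurjective σ]
    (hσ2 : ∀ a, σ (σ a) = a) (ht : ∃ t, t + σ t = 1) (B : V →ₛₗ[σ] V →ₗ[F] F)
    (hS : ∀ u v, σ (B u v) = B v u) (hB : ∀ x, (∀ y, B x y = 0) → x = 0)
    (H : Submodule F V) (x₀ y₀ : V) (hx : x₀ ∉ H) (hy : y₀ ∉ H)
    (hh0 : ∀ h ∈ H, B x₀ h = B y₀ h) (hq0 : B y₀ y₀ = B x₀ x₀) :
    ∃ g ∈ formIsoms B, (∀ h ∈ H, g h = h) ∧ g x₀ = y₀ := by
  obtain ⟨t, ht⟩ := ht
  have hfix : ∀ z, σ (B z z) = B z z := fun z => hS z z
  have hph : ∀ h ∈ H, B (y₀ - x₀) h = 0 := fun h hh => by simp [hh0 h hh]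
  obtain ⟨p, hp⟩ : ∃ p, p = y₀ - x₀ := ⟨_, rfl⟩
  rw [← hp] at hph
  have hyp : y₀ = x₀ + p := by rw [hp]; abel
  have hxp : B x₀ p + B p x₀ + B p p = 0 := by
    rw [hyp] at hq0
    simp only [map_add, LinearMap.add_apply] at hq0
    linear_combination hq0
  by_cases hp0 : p = 0
  · exact ⟨1, one_mem _, fun h _ => rfl, by rw [hyp, hp0]; simp⟩
  by_cases hpx : B p x₀ = 0
  · have hxp0 : B x₀ p = 0 := by rw [← hS p x₀, hpx, map_zero]
    have hpp : B p p = 0 := by rw [hxp0, hpx] at hxp; linear_combination hxp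
    by_cases hxW : x₀ ∈ H ⊔ (F ∙ p)
    · -- `p` is rescaled
      obtain ⟨h, hh, q, hqm, hxe⟩ := Submodule.mem_sup.1 hxW
      obtain ⟨a, rfl⟩ := Submodule.mem_span_singleton.1 hqm
      have ha : a ≠ 0 := by
        rintro rfl
        exact hx (by rw [← hxe]; simpa using hh)
      have hy2 : y₀ = h + (a + 1) • p := by
        rw [hyp, ← hxe, add_smul, one_smul, add_assoc]
      have ha1 : 1 + a⁻¹ ≠ 0 := by
        intro h0
        have h1 : a + 1 = 0 := by
          calc a + 1 = a * (1 + a⁻¹) := by rw [mul_add, mul_inv_cancel₀ ha, mul_one]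
            _ = 0 := by rw [h0, mul_zero]
        exact hy (by rw [hy2, h1, zero_smul, add_zero]; exact hh)
      have hpH : p ∉ H := fun hpH => hx (hxe ▸ H.add_mem hh (H.smul_mem a hpH))
      obtain ⟨v₀, hv₀H, hv₀p⟩ := exists_perp_pair B hB H hpH
      have hv₀p' : B v₀ p = 1 := by rw [← hS p v₀, hv₀p, map_one]
      obtain ⟨k, hk⟩ : ∃ k, k = -(B v₀ v₀ * t) := ⟨_, rfl⟩
      have hk0 : σ k + k + B v₀ v₀ = 0 := by
        rw [hk, map_neg, map_mul, hfix]; linear_combination -(B v₀ v₀) * ht
      obtain ⟨v, hv⟩ : ∃ v, v = v₀ + k • p := ⟨_, rfl⟩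
      have hpv : B p v = 1 := by simp [hv, hv₀p, hpp]
      have hvp : B v p = 1 := by rw [← hS p v, hpv, map_one]
      have hvv : B v v = 0 := by
        simp only [hv, map_add, LinearMap.map_smulₛₗ, LinearMap.add_apply, LinearMap.smul_apply,
          map_smul, smul_eq_mul, hpp, hv₀p, hv₀p']
        linear_combination hk0
      have hvH : ∀ w ∈ H, B v w = 0 := fun w hw => by
        have h1 : B v₀ w = 0 := by rw [← hS w v₀, hv₀H w hw, map_zero]
        simp [hv, h1, hph w hw]
      obtain ⟨α, hα⟩ : ∃ α, α = a⁻¹ := ⟨_, rfl⟩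
      obtain ⟨β, hβ⟩ : ∃ β, β = -σ α / (1 + σ α) := ⟨_, rfl⟩
      have hs1 : 1 + σ α ≠ 0 := by
        rw [← map_one σ, ← map_add, hα]
        exact fun h0 => ha1 (σ.injective (by rw [h0, map_zero]))
      have hab : β + σ α + σ α * β = 0 := by rw [hβ]; field_simp; ring
      have hab' : α + σ β + σ β * α = 0 := by
        have h1 := congrArg σ hab
        simp only [map_add, map_mul, hσ2, map_zero] at h1
        linear_combination h1
      let T : V →ₗ[F] V := LinearMap.id + α • (B v).smulRight p + β • (B p).smulRight v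
      have hTa : ∀ z, T z = z + (α * B v z) • p + (β * B p z) • v := fun z => by
        simp [T, smul_smul]
      obtain ⟨g, hg, hga⟩ := exists_mem_formIsoms B hB T fun x y => by
        simp only [hTa, map_add, LinearMap.map_smulₛₗ, LinearMap.add_apply, LinearMap.smul_apply,
          map_smul, map_mul, smul_eq_mul, hpp, hvv, hpv, hvp, hS, RingHom.id_apply]
        linear_combination (B x v * B p y) * hab + (B x p * B v y) * hab'
      refine ⟨g, hg, fun w hw => ?_, ?_⟩
      · rw [hga, hTa, hvH w hw, hph w hw]; simp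
      · rw [hga, hTa, ← hxe]
        simp only [map_add, map_smul, smul_eq_mul, hvH h hh, hph h hh, hpp, hvp]
        rw [hα, hy2]
        have : a⁻¹ * (0 + a * 1) = 1 := by field_simp; ring
        rw [this]; simp [add_smul, add_assoc]
    · -- a Siegel (Eichler) map
      obtain ⟨u, huW, hux⟩ := exists_perp_pair B hB (H ⊔ (F ∙ p)) hxW
      have hpu : B p u = 0 := huW p (Submodule.mem_sup_right (Submodule.mem_span_singleton_self p))
      have hup : B u p = 0 := by rw [← hS p u, hpu, map_zero]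
      obtain ⟨k, hk⟩ : ∃ k, k = -(B u u * t) := ⟨_, rfl⟩
      have hk0 : σ k + k + B u u = 0 := by
        rw [hk, map_neg, map_mul, hfix]; linear_combination -(B u u) * ht
      let T : V →ₗ[F] V :=
        LinearMap.id + (B u).smulRight p - (B p).smulRight u + k • (B p).smulRight p
      have hTa : ∀ z, T z = z + (B u z + k * B p z) • p + (-(B p z)) • u := fun z => by
        simp only [T, LinearMap.sub_apply, LinearMap.add_apply, LinearMap.smul_apply,
          LinearMap.smulRight_apply, LinearMap.id_apply, add_smul, neg_smul, smul_smul]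
        abel
      obtain ⟨g, hg, hga⟩ := exists_mem_formIsoms B hB T fun x y => by
        simp only [hTa, map_add, LinearMap.map_smulₛₗ, LinearMap.add_apply, LinearMap.smul_apply,
          map_smul, map_mul, map_neg, smul_eq_mul, hpp, hpu, hup, hS, RingHom.id_apply]
        linear_combination (B x p * B p y) * hk0
      refine ⟨g, hg, fun w hw => ?_, ?_⟩
      · have h1 : B u w = 0 := by
          rw [← hS w u, huW w (Submodule.mem_sup_left hw), map_zero]
        rw [hga, hTa, hph w hw, h1]; simp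
      · rw [hga, hTa, hpx, ← hS x₀ u, hux, hyp]; simp
  · -- a quasi-reflection
    obtain ⟨c, hc⟩ : ∃ c, c = (B p x₀)⁻¹ := ⟨_, rfl⟩
    have hc0 : σ c + c + σ c * c * B p p = 0 := by
      have h1 : B x₀ p = σ (B p x₀) := (hS p x₀).symm
      have hne : σ (B p x₀) ≠ 0 := fun h0 => hpx (σ.injective (by rw [h0, map_zero]))
      rw [h1] at hxp
      rw [hc, map_inv₀]
      field_simp
      linear_combination hxp
    let T : V →ₗ[F] V := LinearMap.id + c • (B p).smulRight p
    have hTa : ∀ z, T z = z + (c * B p z) • p := fun z => by simp [T, smul_smul]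
    obtain ⟨g, hg, hga⟩ := exists_mem_formIsoms B hB T fun x y => by
      simp only [hTa, map_add, LinearMap.map_smulₛₗ, LinearMap.add_apply, LinearMap.smul_apply,
        map_smul, map_mul, smul_eq_mul, hS, RingHom.id_apply]
      linear_combination (B x p * B p y) * hc0
    refine ⟨g, hg, fun w hw => ?_, ?_⟩
    · rw [hga, hTa, hph w hw]; simp
    · rw [hga, hTa, hc, inv_mul_cancel₀ hpx, one_smul, hyp]

/-- Witt's lemma for Hermitian forms with an element of trace one. -/
theorem witt_hermitian [FiniteDimensional F V] {σ : F →+* F}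
    (hσ2 : ∀ a, σ (σ a) = a) (ht : ∃ t, t + σ t = 1) (B : V →ₛₗ[σ] V →ₗ[F] F)
    (hS : ∀ u v, σ (B u v) = B v u) (hB : ∀ x, (∀ y, B x y = 0) → x = 0)
    (X : Submodule F V) (φ : X →ₗ[F] V) (hinj : Function.Injective φ)
    (hφ : ∀ x x' : X, B (φ x) (φ x') = B x x') :
    ∃ g ∈ formIsoms B, ∀ x : X, g (x : V) = φ x := by
  haveI : RingHomSurjective σ := ⟨fun a => ⟨σ a, hσ2 a⟩⟩
  exact extend_partial (fun u v => B u v) (formIsoms B) (fun g hg => hg)
    (fun H x y hx hy h => herm_step hσ2 ht B hS hB H x y hx hy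
      (fun w hw => by simpa using h 1 0 0 H.zero_mem w hw)
      (by simpa using (h 1 1 0 H.zero_mem 0 H.zero_mem).symm)) X φ hinj hφ

/-- A non-identity involution of a field has an element of trace one. -/
theorem exists_trace_one {σ : F →+* F} (hσ : σ ≠ RingHom.id F) (hσ2 : ∀ a, σ (σ a) = a) :
    ∃ t, t + σ t = 1 := by
  obtain ⟨a, ha⟩ : ∃ a, a + σ a ≠ 0 := by
    by_contra hno
    push Not at hno
    apply hσ
    have h2 : (1 : F) + 1 = 0 := by simpa using hno 1
    refine RingHom.ext fun x => ?_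
    simp only [RingHom.id_apply]
    linear_combination hno x - x * h2
  refine ⟨a / (a + σ a), ?_⟩
  rw [map_div₀, map_add, hσ2, add_comm (σ a) a, ← add_div, div_self ha]

end CfsgLib.Geom
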