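import Mathlib
import Cfsg.Agent.Lib.Geom.WittQuad

set_option autoImplicit false

/-!
Transitivity of an isometry group on vectors with a given value.
-/

namespace CfsgLib.Geom

open QuadraticMap (polar)

variable {F V : Type*} [Field F] [AddCommGroup V] [Module F V]

/-- Two non-zero vectors with the same value of `Q` are related by an isometry. -/
theorem exists_isom_vector [FiniteDimensional F V] (Q : QuadraticForm F V)
    (hQ : ∀ x, (∀ y, polar Q x y = 0) → x = 0) {x y : V} (hx : x ≠ 0) (hy : y ≠ 0)
    (h : Q x = Q y) : ∃ g ∈ quadIsoms Q, g x = y := by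
  set e := LinearEquiv.toSpanNonzeroSingleton F V x hx with he
  let φ : (F ∙ x) →ₗ[F] V := (LinearMap.toSpanSingleton F V y).comp e.symm.toLinearMap
  have hφ : ∀ c : F, φ (e c) = c • y := fun c => by simp [φ]
  obtain ⟨g, hg, hgX⟩ := witt_quadratic Q hQ (F ∙ x) φ
    (fun a b hab => by
      obtain ⟨c, rfl⟩ := e.surjective a
      obtain ⟨d, rfl⟩ := e.surjective b
      rw [hφ, hφ] at hab
      rw [smul_left_injective F hy hab])
    (fun a => by
      obtain ⟨c, rfl⟩ := e.surjective a
      rw [hφ, quad_smul, ← h, ← quad_smul, he]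
      simp)
  refine ⟨g, hg, ?_⟩
  have h1 := hgX (e 1)
  rw [hφ, one_smul] at h1
  simpa [he] using h1

end CfsgLib.Geom
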