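import Mathlib
import Cfsg.Agent.Lib.Geom.WittQuad

set_option autoImplicit false

/-!
Reflections (orthogonal transvections in characteristic two) and the generation of the isometry group by them.
-/

namespace CfsgLib.Geom

open QuadraticMap (polar)

variable {F V : Type*} [Field F] [AddCommGroup V] [Module F V]

/-- The map `z ↦ z - Q(v)⁻¹ f(v,z) v`. -/
def reflLin (Q : QuadraticForm F V) (v : V) : V →ₗ[F] V :=
  LinearMap.id - (Q v)⁻¹ • (Q.polarBilin v).smulRight v

theorem reflLin_apply (Q : QuadraticForm F V) (v z : V) :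
    reflLin Q v z = z - ((Q v)⁻¹ * polar Q v z) • v := by
  simp [reflLin, smul_smul]

theorem reflLin_reflLin (Q : QuadraticForm F V) {v : V} (hv : Q v ≠ 0) (z : V) :
    reflLin Q v (reflLin Q v z) = z := by
  rw [reflLin_apply, reflLin_apply, QuadraticMap.polar_sub_right, QuadraticMap.polar_smul_right,
    polar_self_two, smul_eq_mul]
  have h : (Q v)⁻¹ * (polar Q v z - (Q v)⁻¹ * polar Q v z * (2 * Q v)) =
      -((Q v)⁻¹ * polar Q v z) := by field_simp; ring
  rw [h, neg_smul]; abel

/-- The reflection at an anisotropic vector, as a linear automorphism. -/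
def reflEquiv (Q : QuadraticForm F V) (v : V) (hv : Q v ≠ 0) : V ≃ₗ[F] V :=
  LinearEquiv.ofLinearMap (reflLin Q v) (reflLin Q v)
    (LinearMap.ext fun z => reflLin_reflLin Q hv z) (LinearMap.ext fun z => reflLin_reflLin Q hv z)

theorem reflEquiv_apply (Q : QuadraticForm F V) (v : V) (hv : Q v ≠ 0) (z : V) :
    reflEquiv Q v hv z = z - ((Q v)⁻¹ * polar Q v z) • v :=
  reflLin_apply Q v z

theorem reflEquiv_mul_self (Q : QuadraticForm F V) (v : V) (hv : Q v ≠ 0) :
    reflEquiv Q v hv * reflEquiv Q v hv = 1 :=
  LinearEquiv.ext fun z => reflLin_reflLin Q hv z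

theorem reflEquiv_inv (Q : QuadraticForm F V) (v : V) (hv : Q v ≠ 0) :
    (reflEquiv Q v hv)⁻¹ = reflEquiv Q v hv :=
  inv_eq_of_mul_eq_one_right (reflEquiv_mul_self Q v hv)

theorem reflEquiv_mem (Q : QuadraticForm F V) (v : V) (hv : Q v ≠ 0) :
    reflEquiv Q v hv ∈ quadIsoms Q := by
  intro z
  rw [reflEquiv_apply, sub_eq_add_neg, ← neg_smul, quad_map_add_smul, QuadraticMap.polar_comm Q z v]
  field_simp
  ring

theorem reflEquiv_self (Q : QuadraticForm F V) (v : V) (hv : Q v ≠ 0) :
    reflEquiv Q v hv v = -v := by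
  have h : (Q v)⁻¹ * (2 * Q v) = 2 := by field_simp
  rw [reflEquiv_apply, polar_self_two, h, two_smul]; abel

theorem reflEquiv_fix (Q : QuadraticForm F V) (v : V) (hv : Q v ≠ 0) {z : V}
    (h : polar Q v z = 0) : reflEquiv Q v hv z = z := by
  simp [reflEquiv_apply, h]

/-- Two vectors with the same value and anisotropic difference are exchanged by the reflection at the difference. -/
theorem reflEquiv_sub (Q : QuadraticForm F V) {x y : V} (hq : Q x = Q y) (h : Q (y - x) ≠ 0) :
    reflEquiv Q (y - x) h x = y := by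
  have h1 : Q (y - x) = -polar Q (y - x) x := by
    have h2 := QuadraticMap.map_add Q (y - x) x
    rw [sub_add_cancel, hq] at h2
    linear_combination -h2
  have h3 : (Q (y - x))⁻¹ * polar Q (y - x) x = -1 := by
    rw [show polar Q (y - x) x = -Q (y - x) by linear_combination h1, mul_neg, inv_mul_cancel₀ h]
  rw [reflEquiv_apply, h3]
  simp

/-- Conjugating a reflection gives the reflection at the image vector. -/
theorem conj_reflEquiv (Q : QuadraticForm F V) {g : V ≃ₗ[F] V} (hg : g ∈ quadIsoms Q) (v : V)
    (hv : Q v ≠ 0) :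
    g * reflEquiv Q v hv * g⁻¹ = reflEquiv Q (g v) (by rwa [hg]) := by
  rw [mul_inv_eq_iff_eq_mul]
  refine LinearEquiv.ext fun z => ?_
  simp [LinearEquiv.mul_apply, reflEquiv_apply, polar_quadIsom hg, hg v]

/-- The set of reflections. -/
def reflSet (Q : QuadraticForm F V) : Set (V ≃ₗ[F] V) :=
  {g | ∃ v, ∃ hv : Q v ≠ 0, g = reflEquiv Q v hv}

theorem reflEquiv_mem_closure (Q : QuadraticForm F V) (v : V) (hv : Q v ≠ 0) :
    reflEquiv Q v hv ∈ Subgroup.closure (reflSet Q) :=
  Subgroup.subset_closure ⟨v, hv, rfl⟩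

theorem reflSet_closure_le (Q : QuadraticForm F V) :
    Subgroup.closure (reflSet Q) ≤ quadIsoms Q := by
  refine (Subgroup.closure_le _).2 ?_
  rintro g ⟨v, hv, rfl⟩
  exact reflEquiv_mem Q v hv

/-- Generation by reflections away from characteristic two. -/
theorem quadIsoms_le_closure_odd [FiniteDimensional F V] (Q : QuadraticForm F V)
    (h2 : (2 : F) ≠ 0) (hQ : ∀ x, (∀ y, polar Q x y = 0) → x = 0) :
    quadIsoms Q ≤ Subgroup.closure (reflSet Q) := by
  intro g hg
  haveI : Invertible (2 : F) := invertibleOfNonzero h2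
  obtain ⟨b, hb⟩ := LinearMap.BilinForm.exists_orthogonal_basis
    (B := Q.polarBilin) ⟨fun x y => QuadraticMap.polar_comm Q x y⟩
  have hb' : ∀ i j, i ≠ j → polar Q (b i) (b j) = 0 := fun i j hij => hb hij
  have hbQ : ∀ i, Q (b i) ≠ 0 := by
    intro i hi
    refine b.ne_zero i (hQ (b i) ?_)
    have : Q.polarBilin (b i) = 0 := b.ext fun j => by
      by_cases hij : i = j
      · subst hij; simp [polar_self_two, hi]
      · simpa using hb' i j hij
    exact fun y => LinearMap.congr_fun this y
  suffices ∀ k : ℕ, ∃ t ∈ Subgroup.closure (reflSet Q),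
      ∀ i : Fin (Module.finrank F V), (i : ℕ) < k → t (b i) = g (b i) by
    obtain ⟨t, ht, htb⟩ := this (Module.finrank F V)
    have : t = g := LinearEquiv.toLinearMap_injective (b.ext fun i => htb i i.2)
    exact this ▸ ht
  intro k
  induction k with
  | zero => exact ⟨1, one_mem _, fun i hi => absurd hi (Nat.not_lt_zero _)⟩
  | succ k ih =>
    obtain ⟨t, ht, htb⟩ := ih
    by_cases hk : k < Module.finrank F V
    swap
    · exact ⟨t, ht, fun i _ => htb i (by have := i.2; omega)⟩
    set j : Fin (Module.finrank F V) := ⟨k, hk⟩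
    have htO := reflSet_closure_le Q ht
    set x := b j with hx
    obtain ⟨y, hy⟩ : ∃ y, y = t.symm (g x) := ⟨_, rfl⟩
    have hty : t y = g x := by rw [hy, LinearEquiv.apply_symm_apply]
    have hqy : Q x = Q y := by rw [← hg x, ← hty, htO]
    have hperp : ∀ i : Fin (Module.finrank F V), (i : ℕ) < k →
        polar Q x (b i) = 0 ∧ polar Q y (b i) = 0 := by
      intro i hi
      have hji : j ≠ i := fun h => by subst h; exact lt_irrefl _ hi
      refine ⟨hb' j i hji, ?_⟩
      rw [← polar_quadIsom htO y (b i), hty, htb i hi, polar_quadIsom hg]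
      exact hb' j i hji
    obtain ⟨r, hr, hrfix, hrx⟩ : ∃ r ∈ Subgroup.closure (reflSet Q),
        (∀ z, polar Q x z = 0 → polar Q y z = 0 → r z = z) ∧ r x = y := by
      by_cases hp : Q (y - x) = 0
      · have hplus : Q (y - -x) ≠ 0 := by
          intro h0
          apply hbQ j
          have e1 := QuadraticMap.map_add Q y x
          have e2 : Q (y - x) = Q y + Q x - polar Q y x := by
            rw [sub_eq_add_neg, QuadraticMap.map_add Q y (-x), QuadraticMap.polar_neg_right,
              QuadraticMap.map_neg]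
            ring
          rw [sub_neg_eq_add] at h0
          rw [h0] at e1
          rw [hp] at e2
          have : 2 * (2 * Q x) = 0 := by linear_combination -e1 - e2 + 2 * hqy
          simpa [h2, hx] using this
        refine ⟨reflEquiv Q (y - -x) hplus * reflEquiv Q x (hbQ j),
          mul_mem (reflEquiv_mem_closure _ _ _) (reflEquiv_mem_closure _ _ _), fun z h1 h2' => ?_, ?_⟩
        · rw [LinearEquiv.mul_apply, reflEquiv_fix _ _ _ h1, reflEquiv_fix]
          simp [h1, h2']
        · rw [LinearEquiv.mul_apply, reflEquiv_self, reflEquiv_sub Q (by rw [QuadraticMap.map_neg, hqy]) hplus]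
      · refine ⟨reflEquiv Q (y - x) hp, reflEquiv_mem_closure _ _ _, fun z h1 h2' => ?_,
          reflEquiv_sub Q hqy hp⟩
        rw [reflEquiv_fix]
        simp [QuadraticMap.polar_sub_left, h1, h2']
    refine ⟨t * r, mul_mem ht hr, fun i hi => ?_⟩
    rw [LinearEquiv.mul_apply]
    rcases Nat.lt_succ_iff_lt_or_eq.1 hi with hi' | hi'
    · rw [hrfix _ (hperp i hi').1 (hperp i hi').2, htb i hi']
    · have : i = j := Fin.ext hi'
      rw [this, ← hx, hrx, hty]

/-- One reflection step in characteristic two: an auxiliary vector meeting both `x` and `y` makes the difference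
anisotropic. -/
theorem refl_two_step (Q : QuadraticForm F V) (h2 : (2 : F) = 0) {x y a : V} (hq : Q x = Q y)
    (ha : Q a ≠ 0) (hxa : polar Q a x ≠ 0) (hya : polar Q a y ≠ 0) :
    ∃ r ∈ Subgroup.closure (reflSet Q), r x = y ∧
      ∀ z, polar Q a z = 0 → polar Q x z = polar Q y z → r z = z := by
  obtain ⟨x₁, hx₁⟩ : ∃ x₁, x₁ = reflEquiv Q a ha x := ⟨_, rfl⟩
  have hq₁ : Q x₁ = Q y := by rw [hx₁, reflEquiv_mem Q a ha, hq]
  obtain ⟨c, hc⟩ : ∃ c, c = (Q a)⁻¹ * polar Q a x := ⟨_, rfl⟩
  have hx₁' : x₁ = x - c • a := by rw [hx₁, reflEquiv_apply, hc]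
  by_cases hp : Q (y - x) = 0
  swap
  · refine ⟨reflEquiv Q (y - x) hp, reflEquiv_mem_closure _ _ _, reflEquiv_sub Q hq hp,
      fun z _ hz => reflEquiv_fix _ _ _ ?_⟩
    simp [QuadraticMap.polar_sub_left, hz]
  have hd : y - x₁ = (y - x) + c • a := by rw [hx₁']; abel
  have hc' : c * Q a = polar Q a x := by rw [hc]; field_simp
  have hne : Q (y - x₁) ≠ 0 := by
    rw [hd, quad_map_add_smul, hp, QuadraticMap.polar_sub_left, QuadraticMap.polar_comm Q y a,
      QuadraticMap.polar_comm Q x a]
    have : 0 + c * c * Q a + c * (polar Q a y - polar Q a x) = c * polar Q a y := by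
      linear_combination c * hc'
    rw [this]
    refine mul_ne_zero ?_ hya
    rw [hc]; exact mul_ne_zero (inv_ne_zero ha) hxa
  refine ⟨reflEquiv Q (y - x₁) hne * reflEquiv Q a ha,
    mul_mem (reflEquiv_mem_closure _ _ _) (reflEquiv_mem_closure _ _ _), ?_, fun z haz hz => ?_⟩
  · rw [LinearEquiv.mul_apply, ← hx₁, reflEquiv_sub Q hq₁ hne]
  · rw [LinearEquiv.mul_apply, reflEquiv_fix _ _ _ haz, reflEquiv_fix]
    simp [hd, haz, hz]

/-- Generation by reflections in characteristic two, unless the field has two elements and the dimension is four. -/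
theorem quadIsoms_le_closure_even [FiniteDimensional F V] (Q : QuadraticForm F V)
    (h2 : (2 : F) = 0) (hQ : ∀ x, (∀ y, polar Q x y = 0) → x = 0)
    (hex : (∃ t : F, t ≠ 0 ∧ t ≠ 1) ∨ Module.finrank F V ≠ 4) :
    quadIsoms Q ≤ Subgroup.closure (reflSet Q) := by
  intro g hg
  set P : V →ₗ[F] V →ₗ[F] F := Q.polarBilin with hP
  have hPa : ∀ a b, P a b = polar Q a b := fun a b => rfl
  have hPc : ∀ a b, polar Q a b = polar Q b a := QuadraticMap.polar_comm Q
  have hself : ∀ a, polar Q a a = 0 := fun a => by rw [polar_self_two, h2, zero_mul]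
  have hnd : ∀ x, (∀ y, P x y = 0) → x = 0 := hQ
  have hle := reflSet_closure_le Q
  rcases subsingleton_or_nontrivial V with hV | hV
  · have : g = 1 := LinearEquiv.ext fun x => Subsingleton.elim _ _
    exact this ▸ one_mem _
  -- an anisotropic vector
  obtain ⟨e, he⟩ : ∃ e, Q e ≠ 0 := by
    by_contra hall
    push Not at hall
    obtain ⟨x, hx⟩ := exists_ne (0 : V)
    exact hx (hQ x fun y => by simp [QuadraticMap.polar, hall])
  have he0 : e ≠ 0 := fun h => he (by simp [h])
  -- moving `e` to `g e`
  obtain ⟨t₀, ht₀, ht₀e⟩ : ∃ t ∈ Subgroup.closure (reflSet Q), t e = g e := by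
    obtain ⟨y, hy⟩ : ∃ y, y = g e := ⟨_, rfl⟩
    rw [← hy]
    have hqy : Q e = Q y := by rw [hy, hg]
    by_cases hey : polar Q e y = 0
    swap
    · have h : Q (y - e) ≠ 0 := by
        rw [sub_eq_add_neg, QuadraticMap.map_add Q, QuadraticMap.polar_neg_right,
          QuadraticMap.map_neg, hPc y e]
        intro h0
        exact hey (by linear_combination -h0 - hqy + Q e * h2)
      exact ⟨_, reflEquiv_mem_closure Q (y - e) h, reflEquiv_sub Q hqy h⟩
    by_cases hdep : y ∈ (F ∙ e)
    · obtain ⟨c, hc⟩ := Submodule.mem_span_singleton.1 hdep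
      rw [← hc, quad_smul] at hqy
      have h1 : (c - 1) * (c + 1) = 0 := by
        refine mul_right_cancel₀ he ?_
        linear_combination -hqy
      have hc1 : c = 1 := by
        rcases mul_eq_zero.1 h1 with h | h
        · exact sub_eq_zero.1 h
        · linear_combination h - h2
      exact ⟨1, one_mem _, by rw [← hc, hc1, one_smul]; rfl⟩
    have hex' : e ∉ (F ∙ y) := by
      intro h
      obtain ⟨c, hc⟩ := Submodule.mem_span_singleton.1 h
      have hc0 : c ≠ 0 := by rintro rfl; exact he0 (by simpa using hc.symm)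
      exact hdep (Submodule.mem_span_singleton.2 ⟨c⁻¹, by rw [← hc, smul_smul, inv_mul_cancel₀ hc0, one_smul]⟩)
    obtain ⟨u, huy, hue⟩ := exists_perp_pair P hnd (F ∙ y) hex'
    obtain ⟨v, hve, hvy⟩ := exists_perp_pair P hnd (F ∙ e) hdep
    have hyu : polar Q y u = 0 := huy y (Submodule.mem_span_singleton_self y)
    have hev : polar Q e v = 0 := hve e (Submodule.mem_span_singleton_self e)
    obtain ⟨a, hae, hay, ha⟩ : ∃ a, polar Q a e = 1 ∧ polar Q a y = 1 ∧ Q a ≠ 0 := by
      have hue' : polar Q u e = 1 := by rw [hPc, ← hPa, hue]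
      have hvy' : polar Q v y = 1 := by rw [hPc, ← hPa, hvy]
      have huy' : polar Q u y = 0 := by rw [hPc, hyu]
      have hve' : polar Q v e = 0 := by rw [hPc, hev]
      have base : ∀ k, polar Q e k = 0 → polar Q y k = 0 →
          polar Q ((u + v) + k) e = 1 ∧ polar Q ((u + v) + k) y = 1 := by
        intro k hek hyk
        rw [hPc] at hek hyk
        simp [QuadraticMap.polar_add_left, hue', hvy', huy', hve', hek, hyk]
      by_cases hk : ∃ k, polar Q e k = 0 ∧ polar Q y k = 0 ∧ Q ((u + v) + k) ≠ 0
      · obtain ⟨k, h1, h2', h3⟩ := hk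
        exact ⟨_, (base k h1 h2').1, (base k h1 h2').2, h3⟩
      · exfalso
        push Not at hk
        have ha0 : Q (u + v) = 0 := by
          simpa using hk 0 (by simp) (by simp)
        have hlin : ∀ k, polar Q e k = 0 → polar Q y k = 0 → Q k = -polar Q (u + v) k := by
          intro k h1 h2'
          have := hk k h1 h2'
          rw [QuadraticMap.map_add Q, ha0] at this
          linear_combination this
        rcases hex with ⟨s, hs0, hs1⟩ | hn
        · have h1 := hlin e (hself e) (by rw [hPc]; exact hey)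
          have h2' := hlin (s • e) (by simp [hself]) (by simp [hPc y e, hey])
          rw [quad_smul, QuadraticMap.polar_smul_right, smul_eq_mul] at h2'
          have h0 : s * (s - 1) * Q e = 0 := by linear_combination h2' - s * h1
          simp [sub_eq_zero, hs0, hs1, he] at h0
        · set K : Submodule F V := LinearMap.ker (P e) ⊓ LinearMap.ker (P y) with hK
          have hKK : ∀ k ∈ K, ∀ k' ∈ K, P k k' = 0 := by
            intro k hk1 k' hk2
            have m := K.add_mem hk1 hk2
            have e1 := hlin k hk1.1 hk1.2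
            have e2 := hlin k' hk2.1 hk2.2
            have e3 := hlin (k + k') m.1 m.2
            rw [QuadraticMap.map_add Q, QuadraticMap.polar_add_right] at e3
            rw [hPa]
            linear_combination e3 - e1 - e2
          have hKle : K ≤ Submodule.span F {e, y} := by
            intro z hz
            by_contra hzn
            obtain ⟨w, hwW, hwz⟩ := exists_perp_pair P hnd _ hzn
            have h1 : polar Q e w = 0 := hwW e (Submodule.subset_span (by simp))
            have h2' : polar Q y w = 0 := hwW y (Submodule.subset_span (by simp))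
            have := hKK z hz w ⟨h1, h2'⟩
            rw [hwz] at this
            exact one_ne_zero this
          have hfe := (P e).finrank_range_add_finrank_ker
          have hfy := (P y).finrank_range_add_finrank_ker
          have hre := (Submodule.finrank_le (LinearMap.range (P e))).trans_eq (Module.finrank_self F)
          have hry := (Submodule.finrank_le (LinearMap.range (P y))).trans_eq (Module.finrank_self F)
          have hinf := Submodule.finrank_sup_add_finrank_inf_eq (LinearMap.ker (P e)) (LinearMap.ker (P y))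
          have hsup := Submodule.finrank_le (LinearMap.ker (P e) ⊔ LinearMap.ker (P y))
          have hK2 : Module.finrank F K ≤ 2 := (Submodule.finrank_mono hKle).trans (by
            rw [Submodule.span_insert]
            have hy0 : y ≠ 0 := fun h => hdep (h ▸ Submodule.zero_mem _)
            have := Submodule.finrank_add_le_finrank_add_finrank (F ∙ e) (F ∙ y)
            rw [finrank_span_singleton he0, finrank_span_singleton hy0] at this
            exact this)
          rw [hK] at hK2
          have hn4 : Module.finrank F V ≤ 3 ∨ Module.finrank F V = 4 := by omega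
          rcases hn4 with hn3 | hn4
          · -- at most three dimensions: the four vectors below would be independent
            have hli : LinearIndependent F ![e, y, u, v] := by
              rw [Fintype.linearIndependent_iff]
              intro c hc
              simp [Fin.sum_univ_four] at hc
              have he1 := congrArg (P e) hc
              have hy1 := congrArg (P y) hc
              rw [hPa] at hue hvy
              simp [hPa, hself, hey, hev, hue] at he1
              simp [hPa, hself, hPc y e, hey, hyu, hvy] at hy1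
              rw [he1, hy1, zero_smul, zero_smul, add_zero, add_zero] at hc
              have hli2 : c 0 = 0 ∧ c 1 = 0 := by
                by_cases h1 : c 1 = 0
                · rw [h1, zero_smul, add_zero] at hc
                  exact ⟨(smul_eq_zero.1 hc).resolve_right he0, h1⟩
                · exfalso
                  refine hdep (Submodule.mem_span_singleton.2 ⟨-(c 1)⁻¹ * c 0, ?_⟩)
                  have := congrArg (fun w => (c 1)⁻¹ • w) hc
                  simp only [smul_add, smul_smul, inv_mul_cancel₀ h1, one_smul, smul_zero] at this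
                  rw [mul_smul, neg_smul, smul_smul]
                  exact neg_eq_of_add_eq_zero_right this
              intro i; fin_cases i <;> simp [hli2.1, hli2.2, he1, hy1]
            have := hli.fintype_card_le_finrank
            simp at this
            omega
          · exact hn hn4
    obtain ⟨r, hr, hre, -⟩ := refl_two_step Q h2 hqy ha (by simp [hae]) (by simp [hay])
    exact ⟨r, hr, hre⟩
  -- the stabiliser of `e`: steps between subspaces orthogonal to `e`
  obtain ⟨h, hh⟩ : ∃ h, h = t₀⁻¹ * g := ⟨_, rfl⟩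
  have hhO : h ∈ quadIsoms Q := by rw [hh]; exact mul_mem (inv_mem (hle ht₀)) hg
  have hhe : h e = e := by
    rw [hh, LinearEquiv.mul_apply, ← ht₀e, ← LinearEquiv.mul_apply, inv_mul_cancel]; rfl
  suffices h ∈ Subgroup.closure (reflSet Q) by
    have hg' : g = t₀ * h := by rw [hh, mul_inv_cancel_left]
    rw [hg']; exact mul_mem ht₀ this
  have step : ∀ H : Submodule F V, e ∈ H → (∀ z ∈ H, polar Q e z = 0) → ∀ x, x ∉ H →
      ∀ t ∈ Subgroup.closure (reflSet Q), (∀ z ∈ H, t z = h z) →
      ∃ t' ∈ Subgroup.closure (reflSet Q), ∀ z ∈ H ⊔ (F ∙ x), t' z = h z := by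
    intro H heH hHe x hx t ht htH
    obtain ⟨y, hy⟩ : ∃ y, y = t.symm (h x) := ⟨_, rfl⟩
    have hty : t y = h x := by rw [hy, LinearEquiv.apply_symm_apply]
    have hqy : Q x = Q y := by rw [← hhO x, ← hty, hle ht]
    have hxy : ∀ z ∈ H, polar Q x z = polar Q y z := fun z hz => by
      rw [← polar_quadIsom (hle ht) y z, hty, htH z hz, polar_quadIsom hhO]
    have hyH : y ∉ H := fun hyH => hx (by
      have : h y = h x := by rw [← htH y hyH, hty]
      exact h.injective this ▸ hyH)
    obtain ⟨a, haH, ha, hax, hay⟩ : ∃ a, (∀ z ∈ H, polar Q a z = 0) ∧ Q a ≠ 0 ∧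
        polar Q a x ≠ 0 ∧ polar Q a y ≠ 0 := by
      by_cases hex0 : polar Q e x = 0
      · obtain ⟨a, haH, hxa, hya⟩ := exists_common_pair P hnd H hx hyH
        have haH' : ∀ z ∈ H, polar Q a z = 0 := fun z hz => by rw [hPc, ← hPa, haH z hz]
        have hye : polar Q e y = 0 := by
          rw [hPc, ← hxy e heH, hPc]; exact hex0
        by_cases ha : Q a = 0
        · refine ⟨a + e, fun z hz => by simp [haH' z hz, hHe z hz], ?_, ?_, ?_⟩
          · rw [QuadraticMap.map_add Q, ha, haH' e heH]; simpa using he
          · simpa [QuadraticMap.polar_add_left, hPc a x, hex0, hPa] using hxa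
          · simpa [QuadraticMap.polar_add_left, hPc a y, hye, hPa] using hya
        · exact ⟨a, haH', ha, by rw [hPc]; exact hxa, by rw [hPc]; exact hya⟩
      · refine ⟨e, hHe, he, hex0, ?_⟩
        rwa [hPc, ← hxy e heH, hPc]
    obtain ⟨r, hr, hrx, hrfix⟩ := refl_two_step Q h2 hqy ha hax hay
    refine ⟨t * r, mul_mem ht hr, fun z hz => ?_⟩
    obtain ⟨w, hw, c, hc, rfl⟩ := Submodule.mem_sup.1 hz
    obtain ⟨b, rfl⟩ := Submodule.mem_span_singleton.1 hc
    rw [LinearEquiv.mul_apply, map_add, map_smul, hrfix w (haH w hw) (hxy w hw), hrx, map_add, map_smul,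
      htH w hw, hty, map_add, map_smul]
  suffices ∀ n, ∀ H : Submodule F V, Module.finrank F H = n → e ∈ H →
      ∃ t ∈ Subgroup.closure (reflSet Q), ∀ z ∈ H, polar Q e z = 0 → t z = h z by
    -- first the whole of `e`'s orthogonal, then one further vector
    obtain ⟨t, ht, htK⟩ := this _ (LinearMap.ker (P e)) rfl (hself e)
    obtain ⟨f, -, hf⟩ := exists_perp_pair P hnd ⊥ (x₀ := e) (fun h => he0 ((Submodule.mem_bot F).1 h))
    have hfK : f ∉ LinearMap.ker (P e) := fun hfK => one_ne_zero (hf.symm.trans hfK)
    obtain ⟨t', ht', ht'K⟩ := step (LinearMap.ker (P e)) (hself e) (fun z hz => hz) f hfK t ht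
      (fun z hz => htK z hz hz)
    have : t' = h := by
      refine LinearEquiv.ext fun z => ht'K z (Submodule.mem_sup.2
        ⟨z - P e z • f, ?_, P e z • f, Submodule.smul_mem _ _ (Submodule.mem_span_singleton_self f),
          sub_add_cancel _ _⟩)
      simp [LinearMap.mem_ker, hf]
    exact this ▸ ht'
  intro n
  induction n using Nat.strong_induction_on with
  | _ n ih =>
    intro H hn heH
    set H' : Submodule F V := H ⊓ LinearMap.ker (P e) with hH'
    have heH' : e ∈ H' := ⟨heH, hself e⟩
    by_cases hsp : H' ≤ (F ∙ e)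
    · refine ⟨1, one_mem _, fun z hz hze => ?_⟩
      obtain ⟨c, rfl⟩ := Submodule.mem_span_singleton.1 (hsp ⟨hz, hze⟩)
      simp [hhe]
    · obtain ⟨x, hxH', hxe⟩ := Set.not_subset.1 hsp
      obtain ⟨C, hC⟩ := Submodule.exists_isCompl (Submodule.span F {e, x})
      obtain ⟨H₀, hH₀⟩ : ∃ H₀, H₀ = (F ∙ e) ⊔ (C ⊓ H') := ⟨_, rfl⟩
      have hH₀le : H₀ ≤ H' := by
        rw [hH₀]; exact sup_le ((Submodule.span_singleton_le_iff_mem _ _).2 heH') inf_le_right
      have hx₀ : x ∉ H₀ := by
        rw [hH₀]
        intro hx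
        obtain ⟨p, hp, q, hq, hpq⟩ := Submodule.mem_sup.1 hx
        have hq' : q ∈ Submodule.span F {e, x} := by
          rw [show q = x - p by rw [← hpq]; abel]
          exact Submodule.sub_mem _ (Submodule.subset_span (by simp))
            (Submodule.span_mono (by simp) hp)
        have : q = 0 := (Submodule.mem_bot F).1 (hC.disjoint.le_bot ⟨hq', hq.1⟩)
        exact hxe (by rw [← hpq, this, add_zero]; exact hp)
      have heH₀ : e ∈ H₀ := by rw [hH₀]; exact Submodule.mem_sup_left (Submodule.mem_span_singleton_self e)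
      have hlt : Module.finrank F H₀ < n := by
        subst hn
        refine lt_of_lt_of_le (Submodule.finrank_lt_finrank_of_lt ?_) (Submodule.finrank_mono (inf_le_left : H ⊓ LinearMap.ker (P e) ≤ H))
        exact lt_of_le_of_ne hH₀le fun h => hx₀ (h ▸ hxH')
      obtain ⟨t, ht, htH⟩ := ih _ hlt H₀ rfl heH₀
      obtain ⟨t', ht', ht'H⟩ := step H₀ heH₀ (fun z hz => (hH₀le hz).2) x hx₀ t ht
        (fun z hz => htH z hz (hH₀le hz).2)
      refine ⟨t', ht', fun z hz hze => ht'H z ?_⟩
      have hz' : z ∈ Submodule.span F {e, x} ⊔ C := by rw [hC.sup_eq_top]; trivial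
      obtain ⟨p, hp, q, hq, rfl⟩ := Submodule.mem_sup.1 hz'
      have hpH' : p ∈ H' := (Submodule.span_le.2 (by
        rintro w (rfl | rfl)
        exacts [heH', hxH'])) hp
      have hqH' : q ∈ H' := by
        have := H'.sub_mem (⟨hz, hze⟩ : p + q ∈ H') hpH'
        simpa using this
      obtain ⟨b, c, rfl⟩ := Submodule.mem_span_pair.1 hp
      rw [hH₀, show b • e + c • x + q = (b • e + q) + c • x by abel]
      exact Submodule.add_mem_sup (Submodule.add_mem_sup
        (Submodule.smul_mem _ _ (Submodule.mem_span_singleton_self e)) ⟨hq, hqH'⟩)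
        (Submodule.smul_mem _ _ (Submodule.mem_span_singleton_self x))

/-- The isometry group of a quadratic form with left-separating polar form is generated by reflections, unless the
field has two elements and the dimension is four. -/
theorem quadIsoms_eq_closure [FiniteDimensional F V] (Q : QuadraticForm F V)
    (hQ : ∀ x, (∀ y, polar Q x y = 0) → x = 0)
    (hex : (∃ t : F, t ≠ 0 ∧ t ≠ 1) ∨ Module.finrank F V ≠ 4) :
    quadIsoms Q = Subgroup.closure (reflSet Q) := by
  refine le_antisymm ?_ (reflSet_closure_le Q)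
  by_cases h2 : (2 : F) = 0
  · exact quadIsoms_le_closure_even Q h2 hQ hex
  · exact quadIsoms_le_closure_odd Q h2 hQ

end CfsgLib.Geom
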