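import Mathlib
import Cfsg.Agent.Lib.Geom.QuadRefl

set_option autoImplicit false

/-!
Relations between reflections, through the Clifford algebra: in a product of reflections equal to one the number of
factors is even and the product of the values of `Q` is a square. This yields the spinor norm and the Dickson
invariant as one homomorphism on the reflection group, in every characteristic.
-/

namespace CfsgLib.Geom

open QuadraticMap (polar)
open CliffordAlgebra (ι involute contractLeft)

variable {F V : Type*} [Field F] [AddCommGroup V] [Module F V]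

theorem cliff_swap (Q : QuadraticForm F V) (a b : V) (x : CliffordAlgebra Q) :
    ι Q a * (ι Q b * x) = polar Q a b • x - ι Q b * (ι Q a * x) := by
  rw [← mul_assoc, CliffordAlgebra.ι_mul_ι_comm, sub_mul, ← Algebra.smul_def, mul_assoc]

theorem cliff_sq (Q : QuadraticForm F V) (a : V) (x : CliffordAlgebra Q) :
    ι Q a * (ι Q a * x) = Q a • x := by
  rw [← mul_assoc, CliffordAlgebra.ι_sq_scalar, ← Algebra.smul_def]

/-- The graded commutator with a vector is a contraction. -/
theorem ι_mul_sub_involute (Q : QuadraticForm F V) (m : V) (x : CliffordAlgebra Q) :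
    ι Q m * x - involute x * ι Q m = contractLeft (Q.polarBilin m) x := by
  induction x using CliffordAlgebra.left_induction with
  | algebraMap r =>
    rw [AlgHom.commutes, Algebra.commutes, sub_self, CliffordAlgebra.contractLeft_algebraMap]
  | add x y hx hy => rw [map_add, map_add, mul_add, add_mul, ← hx, ← hy]; abel
  | ι_mul b a hb =>
    rw [map_mul, CliffordAlgebra.involute_ι, CliffordAlgebra.contractLeft_ι_mul, ← hb, cliff_swap,
      QuadraticMap.polarBilin_apply_apply, mul_sub, neg_mul, neg_mul, sub_neg_eq_add, mul_assoc]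
    abel

/-- Scalars embed in the Clifford algebra, in every characteristic. -/
theorem cliff_algebraMap_injective [FiniteDimensional F V] (Q : QuadraticForm F V) :
    Function.Injective (algebraMap F (CliffordAlgebra Q)) := by
  classical
  set B : LinearMap.BilinForm F V := (-Q).toBilin (Module.finBasis F V)
  have hB : LinearMap.BilinMap.toQuadraticMap B = 0 - Q := by
    rw [zero_sub]; exact QuadraticMap.toQuadraticMap_toBilin _ _
  intro a b hab
  have h := congrArg (CliffordAlgebra.changeForm hB) hab
  rw [CliffordAlgebra.changeForm_algebraMap, CliffordAlgebra.changeForm_algebraMap] at h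
  exact (ExteriorAlgebra.algebraMap_inj V a b).1 h

/-- An element of the Clifford algebra killed by every contraction is a scalar. -/
theorem scalar_of_contractLeft_eq_zero [FiniteDimensional F V] (Q : QuadraticForm F V)
    (x : CliffordAlgebra Q) (hx : ∀ d : Module.Dual F V, contractLeft d x = 0) :
    ∃ c : F, x = algebraMap F (CliffordAlgebra Q) c := by
  classical
  set b := Module.finBasis F V
  let A : Finset (Fin (Module.finrank F V)) → Subalgebra F (CliffordAlgebra Q) := fun s =>
    Algebra.adjoin F ((fun i => ι Q (b i)) '' (s : Set _))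
  have hgen : ∀ s, ∀ i ∈ s, ι Q (b i) ∈ A s := fun s i hi => Algebra.subset_adjoin ⟨i, hi, rfl⟩
  have hall : ∀ y : CliffordAlgebra Q, y ∈ A Finset.univ := by
    intro y
    induction y using CliffordAlgebra.induction with
    | algebraMap r => exact Subalgebra.algebraMap_mem _ r
    | ι v =>
      rw [← b.sum_repr v, map_sum]
      exact sum_mem fun i _ => by
        rw [map_smul]; exact Subalgebra.smul_mem _ (hgen _ i (Finset.mem_univ i)) _
    | mul a c ha hc => exact mul_mem ha hc
    | add a c ha hc => exact add_mem ha hc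
  have hmul : ∀ s, ∀ i, i ∉ s → ∀ y ∈ A s, ∀ z, contractLeft (b.coord i) (y * z) =
      involute y * contractLeft (b.coord i) z := by
    intro s i hi y hy
    induction hy using Algebra.adjoin_induction with
    | mem y hy =>
      obtain ⟨j, hj, rfl⟩ := hy
      intro z
      have hji : j ≠ i := fun h => hi (h ▸ hj)
      rw [CliffordAlgebra.contractLeft_ι_mul, Module.Basis.coord_apply, Module.Basis.repr_self,
        Finsupp.single_eq_of_ne hji.symm, zero_smul, zero_sub, CliffordAlgebra.involute_ι, neg_mul]
    | algebraMap r =>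
      intro z
      rw [CliffordAlgebra.contractLeft_algebraMap_mul, AlgHom.commutes]
    | add a c _ _ ha hc => intro z; rw [add_mul, map_add, map_add, ha, hc, add_mul]
    | mul a c _ _ ha hc => intro z; rw [mul_assoc, ha, hc, map_mul, mul_assoc]
  suffices ∀ s, ∀ y ∈ A s, (∀ i, contractLeft (b.coord i) y = 0) →
      ∃ c : F, y = algebraMap F (CliffordAlgebra Q) c from
    this Finset.univ x (hall x) fun i => hx _
  intro s
  induction s using Finset.induction_on with
  | empty =>
    intro y hy _
    simp only [A, Finset.coe_empty, Set.image_empty, Algebra.adjoin_empty] at hy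
    obtain ⟨c, hc⟩ := Algebra.mem_bot.1 hy
    exact ⟨c, hc.symm⟩
  | insert i s hi ih =>
    intro y hy hy0
    have hstab : ∀ y ∈ A (insert i s), ∀ a ∈ A s, ∀ c ∈ A s,
        ∃ a' ∈ A s, ∃ c' ∈ A s, y * (a + ι Q (b i) * c) = a' + ι Q (b i) * c' := by
      intro y hy
      induction hy using Algebra.adjoin_induction with
      | mem y hy =>
        intro a ha c hc
        obtain ⟨j, hj, rfl⟩ := hy
        rcases Finset.mem_insert.1 hj with rfl | hj
        · exact ⟨Q (b j) • c, Subalgebra.smul_mem _ hc _, a, ha, by
            dsimp only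
            rw [mul_add, cliff_sq]; abel⟩
        · refine ⟨ι Q (b j) * a + polar Q (b j) (b i) • c,
            add_mem (mul_mem (hgen s j hj) ha) (Subalgebra.smul_mem _ hc _),
            -(ι Q (b j) * c), neg_mem (mul_mem (hgen s j hj) hc), ?_⟩
          dsimp only
          rw [mul_add, cliff_swap, mul_neg]; abel
      | algebraMap r =>
        intro a ha c hc
        refine ⟨r • a, Subalgebra.smul_mem _ ha _, r • c, Subalgebra.smul_mem _ hc _, ?_⟩
        rw [← Algebra.smul_def, smul_add, mul_smul_comm]
      | add y z _ _ hy hz =>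
        intro a ha c hc
        obtain ⟨a₁, ha₁, c₁, hc₁, e₁⟩ := hy a ha c hc
        obtain ⟨a₂, ha₂, c₂, hc₂, e₂⟩ := hz a ha c hc
        exact ⟨a₁ + a₂, add_mem ha₁ ha₂, c₁ + c₂, add_mem hc₁ hc₂, by
          rw [add_mul, e₁, e₂, mul_add]; abel⟩
      | mul y z _ _ hy hz =>
        intro a ha c hc
        obtain ⟨a₂, ha₂, c₂, hc₂, e₂⟩ := hz a ha c hc
        obtain ⟨a₁, ha₁, c₁, hc₁, e₁⟩ := hy a₂ ha₂ c₂ hc₂
        exact ⟨a₁, ha₁, c₁, hc₁, by rw [mul_assoc, e₂, e₁]⟩
    obtain ⟨a, ha, c, hc, hyac⟩ := hstab y hy 1 (one_mem _) 0 (zero_mem _)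
    rw [mul_zero, add_zero, mul_one] at hyac
    have hz : ∀ z ∈ A s, contractLeft (b.coord i) z = 0 := fun z hz => by
      have := hmul s i hi z hz 1
      rwa [mul_one, CliffordAlgebra.contractLeft_one, mul_zero] at this
    have hc0 : c = 0 := by
      have := hy0 i
      rw [hyac, map_add, hz a ha, zero_add, CliffordAlgebra.contractLeft_ι_mul, hz c hc, mul_zero,
        sub_zero, Module.Basis.coord_apply, Module.Basis.repr_self, Finsupp.single_eq_same,
        one_smul] at this
      exact this
    have hya : y = a := by rw [hyac, hc0, mul_zero, add_zero]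
    subst hya
    exact ih y ha hy0

/-- The product of the vectors of a list in the Clifford algebra. -/
def cliffWord (Q : QuadraticForm F V) (L : List {v : V // Q v ≠ 0}) : CliffordAlgebra Q :=
  (L.map fun v => ι Q v.1).prod

/-- The product of the reflections of a list. -/
def reflWord (Q : QuadraticForm F V) (L : List {v : V // Q v ≠ 0}) : V ≃ₗ[F] V :=
  (L.map fun v => reflEquiv Q v.1 v.2).prod

theorem cliffWord_mul_ι (Q : QuadraticForm F V) (L : List {v : V // Q v ≠ 0}) (z : V) :
    cliffWord Q L * ι Q z = ((-1 : F) ^ L.length) • (ι Q (reflWord Q L z) * cliffWord Q L) := by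
  induction L with
  | nil => simp [cliffWord, reflWord]
  | cons v L ih =>
    obtain ⟨w, hw⟩ : ∃ w, w = reflWord Q L z := ⟨_, rfl⟩
    have e : ι Q v.1 * ι Q w = -(ι Q (reflEquiv Q v.1 v.2 w) * ι Q v.1) := by
      rw [reflEquiv_apply, map_sub, map_smul, sub_mul, smul_mul_assoc, CliffordAlgebra.ι_sq_scalar,
        neg_sub, CliffordAlgebra.ι_mul_ι_comm]
      have : (Q v.1)⁻¹ * polar Q v.1 w * Q v.1 = polar Q v.1 w := by field_simp [v.2]
      rw [Algebra.algebraMap_eq_smul_one, Algebra.algebraMap_eq_smul_one, smul_smul, this]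
    have hcw : cliffWord Q (v :: L) = ι Q v.1 * cliffWord Q L := by simp [cliffWord]
    have hrw : reflWord Q (v :: L) z = reflEquiv Q v.1 v.2 w := by simp [reflWord, hw]
    rw [hcw, hrw, mul_assoc, ih, ← hw, mul_smul_comm, ← mul_assoc, e, List.length_cons, pow_succ,
      neg_mul, mul_assoc, smul_neg, mul_neg_one, neg_smul]

theorem cliffWord_mul_reverse (Q : QuadraticForm F V) (L : List {v : V // Q v ≠ 0}) :
    cliffWord Q L * CliffordAlgebra.reverse (cliffWord Q L) =
      algebraMap F (CliffordAlgebra Q) (L.map fun v => Q v.1).prod := by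
  induction L with
  | nil => simp [cliffWord, CliffordAlgebra.reverse.map_one]
  | cons v L ih =>
    have hcw : cliffWord Q (v :: L) = ι Q v.1 * cliffWord Q L := by simp [cliffWord]
    rw [hcw, CliffordAlgebra.reverse.map_mul, CliffordAlgebra.reverse_ι, mul_assoc,
      ← mul_assoc (cliffWord Q L), ih, ← Algebra.smul_def, mul_smul_comm, CliffordAlgebra.ι_sq_scalar,
      Algebra.smul_def, ← map_mul, List.map_cons, List.prod_cons, mul_comm]

theorem cliffWord_mem_evenOdd (Q : QuadraticForm F V) (L : List {v : V // Q v ≠ 0}) :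
    cliffWord Q L ∈ CliffordAlgebra.evenOdd Q (L.length : ZMod 2) := by
  induction L with
  | nil =>
    simp only [cliffWord, List.map_nil, List.prod_nil, List.length_nil, Nat.cast_zero]
    exact CliffordAlgebra.one_le_evenOdd_zero Q (Submodule.one_le.1 le_rfl)
  | cons v L ih =>
    rw [List.length_cons, Nat.cast_succ, add_comm, cliffWord, List.map_cons, List.prod_cons]
    exact CliffordAlgebra.evenOdd_mul_le Q _ _
      (Submodule.mul_mem_mul (CliffordAlgebra.ι_mem_evenOdd_one Q v.1) ih)

/-- A relation between reflections has even length and square value product. -/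
theorem reflWord_eq_one [FiniteDimensional F V] (Q : QuadraticForm F V)
    (hQ : ∀ x, (∀ y, polar Q x y = 0) → x = 0) (L : List {v : V // Q v ≠ 0})
    (hL : reflWord Q L = 1) :
    Even L.length ∧ IsSquare (L.map fun v => Q v.1).prod := by
  obtain ⟨u, hu⟩ : ∃ u, u = cliffWord Q L := ⟨_, rfl⟩
  have hinv : involute u = ((-1 : F) ^ L.length) • u := by
    rcases Nat.even_or_odd L.length with he | ho
    · rw [CliffordAlgebra.involute_eq_of_mem_even, he.neg_one_pow, one_smul]
      have := cliffWord_mem_evenOdd Q L
      rwa [ZMod.natCast_eq_zero_iff_even.2 he, ← hu] at this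
    · rw [CliffordAlgebra.involute_eq_of_mem_odd, ho.neg_one_pow, neg_one_smul]
      have := cliffWord_mem_evenOdd Q L
      rwa [ZMod.natCast_eq_one_iff_odd.2 ho, ← hu] at this
  have hcon : ∀ d : Module.Dual F V, contractLeft d u = 0 := by
    intro d
    obtain ⟨m, hm⟩ : ∃ m, Q.polarBilin m = d := by
      have hinj : Function.Injective Q.polarBilin := fun a c hac => sub_eq_zero.1 (hQ _ fun y => by
        rw [QuadraticMap.polar_sub_left]
        exact sub_eq_zero.2 (LinearMap.congr_fun hac y))
      exact (LinearMap.injective_iff_surjective_of_finrank_eq_finrank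
        Subspace.dual_finrank_eq.symm).1 hinj d
    rw [← hm, ← ι_mul_sub_involute, hinv, smul_mul_assoc, hu, cliffWord_mul_ι, hL, smul_smul,
      ← pow_add, Even.neg_one_pow ⟨_, rfl⟩, one_smul]
    simp
  obtain ⟨c, hc⟩ := scalar_of_contractLeft_eq_zero Q u hcon
  have hprod := cliffWord_mul_reverse Q L
  rw [← hu, hc, CliffordAlgebra.reverse.commutes, ← map_mul] at hprod
  have hinj := cliff_algebraMap_injective Q
  have hne : c * c ≠ 0 := by
    rw [hinj hprod, Ne, List.prod_eq_zero_iff]
    simp only [List.mem_map, not_exists, not_and]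
    exact fun v _ h => v.2 h
  refine ⟨?_, ⟨c, (hinj hprod).symm⟩⟩
  by_contra hodd
  rw [Nat.not_even_iff_odd] at hodd
  have h1 := cliffWord_mem_evenOdd Q L
  rw [ZMod.natCast_eq_one_iff_odd.2 hodd, ← hu] at h1
  have h0 : u ∈ CliffordAlgebra.evenOdd Q 0 := by
    rw [hc, Algebra.algebraMap_eq_smul_one]
    exact Submodule.smul_mem _ _ (CliffordAlgebra.one_le_evenOdd_zero Q (Submodule.one_le.1 le_rfl))
  have : u = 0 := (Submodule.mem_bot F).1
    ((CliffordAlgebra.evenOdd_isCompl Q).disjoint.le_bot ⟨h0, h1⟩)
  rw [this] at hc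
  exact hne (by rw [hinj (hc.symm.trans (map_zero _).symm)]; ring)

end CfsgLib.Geom
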