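import Mathlib
import Cfsg.Agent.Lib.Geom.Clifford
import Cfsg.Agent.Lib.Geom.WittVec

set_option autoImplicit false

/-!
The spinor norm and the Dickson invariant as one homomorphism `reflHom` on the group generated by reflections, and
its kernel: the commutator subgroup, when there are at most two square classes.
-/

namespace CfsgLib.Geom

open QuadraticMap (polar)

variable {F V : Type*} [Field F] [AddCommGroup V] [Module F V]

/-- Square classes of a field. -/
def SqClass (F : Type*) [Field F] : Type _ :=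
  Fˣ ⧸ (powMonoidHom 2 : Fˣ →* Fˣ).range

/-- Square classes form a commutative group. -/
instance instCommGroupSqClass (F : Type*) [Field F] : CommGroup (SqClass F) :=
  inferInstanceAs (CommGroup (Fˣ ⧸ (powMonoidHom 2 : Fˣ →* Fˣ).range))

/-- The projection to square classes. -/
def sqProj (F : Type*) [Field F] : Fˣ →* SqClass F := QuotientGroup.mk' _

theorem sqProj_eq_one_iff (F : Type*) [Field F] (a : Fˣ) :
    sqProj F a = 1 ↔ a ∈ (powMonoidHom 2 : Fˣ →* Fˣ).range :=
  QuotientGroup.eq_one_iff a

theorem sqProj_surjective (F : Type*) [Field F] : Function.Surjective (sqProj F) :=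
  QuotientGroup.mk'_surjective _

/-- The square class of a non-zero element. -/
def sqClass {a : F} (ha : a ≠ 0) : SqClass F := sqProj F (Units.mk0 a ha)

theorem sqClass_eq_one_iff {a : F} (ha : a ≠ 0) : sqClass ha = 1 ↔ IsSquare a := by
  rw [sqClass, sqProj_eq_one_iff]
  constructor
  · rintro ⟨t, ht⟩
    exact ⟨t, by rw [← sq]; exact (congrArg Units.val ht).symm⟩
  · rintro ⟨t, ht⟩
    have ht0 : t ≠ 0 := by rintro rfl; exact ha (by simpa using ht)
    exact ⟨Units.mk0 t ht0, Units.ext (by simp [powMonoidHom, ht, sq])⟩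

theorem sqClass_mul {a b : F} (ha : a ≠ 0) (hb : b ≠ 0) :
    sqClass (mul_ne_zero ha hb) = sqClass ha * sqClass hb := by
  rw [sqClass, sqClass, sqClass, ← map_mul, Units.mk0_mul]

theorem sqClass_mul_self (c : SqClass F) : c * c = 1 := by
  obtain ⟨a, rfl⟩ := sqProj_surjective F c
  rw [← map_mul, sqProj_eq_one_iff]
  exact ⟨a, by simp [powMonoidHom, sq]⟩

theorem sqClass_eq_iff {a b : F} (ha : a ≠ 0) (hb : b ≠ 0) :
    sqClass ha = sqClass hb ↔ ∃ t : F, t ≠ 0 ∧ a = t * t * b := by
  rw [← mul_right_inj (sqClass hb), sqClass_mul_self, ← sqClass_mul, sqClass_eq_one_iff]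
  constructor
  · rintro ⟨s, hs⟩
    have hs0 : s ≠ 0 := by rintro rfl; exact mul_ne_zero hb ha (by simpa using hs)
    exact ⟨s / b, div_ne_zero hs0 hb, by field_simp; linear_combination hs⟩
  · rintro ⟨t, -, rfl⟩
    exact ⟨t * b, by ring⟩

/-- The parity and square class attached to an anisotropic vector. -/
def reflVal (Q : QuadraticForm F V) (v : {v : V // Q v ≠ 0}) :
    Multiplicative (ZMod 2) × SqClass F :=
  (Multiplicative.ofAdd 1, sqClass v.2)

/-- The invariant of a list of anisotropic vectors. -/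
def wordVal (Q : QuadraticForm F V) (L : List {v : V // Q v ≠ 0}) :
    Multiplicative (ZMod 2) × SqClass F :=
  (L.map (reflVal Q)).prod

theorem wordVal_append (Q : QuadraticForm F V) (L M : List {v : V // Q v ≠ 0}) :
    wordVal Q (L ++ M) = wordVal Q L * wordVal Q M := by
  simp [wordVal]

theorem wordVal_reverse (Q : QuadraticForm F V) (L : List {v : V // Q v ≠ 0}) :
    wordVal Q L.reverse = wordVal Q L :=
  ((L.reverse_perm).map (reflVal Q)).prod_eq

theorem wordVal_mul_self (Q : QuadraticForm F V) (L : List {v : V // Q v ≠ 0}) :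
    wordVal Q L * wordVal Q L = 1 :=
  Prod.ext (by
    have : ∀ z : Multiplicative (ZMod 2), z * z = 1 := by decide
    exact this _) (sqClass_mul_self _)

theorem reflWord_append (Q : QuadraticForm F V) (L M : List {v : V // Q v ≠ 0}) :
    reflWord Q (L ++ M) = reflWord Q L * reflWord Q M := by
  simp [reflWord]

theorem reflWord_reverse (Q : QuadraticForm F V) (L : List {v : V // Q v ≠ 0}) :
    reflWord Q L.reverse = (reflWord Q L)⁻¹ := by
  induction L with
  | nil => simp [reflWord]
  | cons v L ih =>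
    have h1 : reflWord Q (v :: L) = reflEquiv Q v.1 v.2 * reflWord Q L := by simp [reflWord]
    rw [List.reverse_cons, reflWord_append, ih, h1, mul_inv_rev]
    simp [reflWord, reflEquiv_inv]

theorem wordVal_eq_one_of_reflWord_eq_one [FiniteDimensional F V] (Q : QuadraticForm F V)
    (hQ : ∀ x, (∀ y, polar Q x y = 0) → x = 0) (L : List {v : V // Q v ≠ 0})
    (hL : reflWord Q L = 1) : wordVal Q L = 1 := by
  obtain ⟨he, hsq⟩ := reflWord_eq_one Q hQ L hL
  have hval : ∀ M : List {v : V // Q v ≠ 0}, ∀ hp : (M.map fun v => Q v.1).prod ≠ 0,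
      wordVal Q M = (Multiplicative.ofAdd (M.length : ZMod 2), sqClass hp) := by
    intro M
    induction M with
    | nil =>
      intro hp
      exact Prod.ext rfl ((sqClass_eq_one_iff hp).2 ⟨1, by simp⟩).symm
    | cons v M ih =>
      intro hp
      have hp' : (M.map fun v => Q v.1).prod ≠ 0 := fun h => hp (by
        rw [List.map_cons, List.prod_cons, h, mul_zero])
      rw [wordVal, List.map_cons, List.prod_cons, ← wordVal, ih hp']
      refine Prod.ext ?_ ?_
      · show Multiplicative.ofAdd (1 : ZMod 2) * Multiplicative.ofAdd (M.length : ZMod 2) = _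
        rw [← ofAdd_add, List.length_cons, Nat.cast_succ, add_comm]
      · show sqClass v.2 * sqClass hp' = _
        rw [← sqClass_mul]
        rfl
  have hp : (L.map fun v => Q v.1).prod ≠ 0 := by
    simp only [Ne, List.prod_eq_zero_iff, List.mem_map, not_exists, not_and]
    exact fun v _ h => v.2 h
  rw [hval L hp, ZMod.natCast_eq_zero_iff_even.2 he, (sqClass_eq_one_iff hp).2 hsq]
  rfl

theorem wordVal_congr [FiniteDimensional F V] (Q : QuadraticForm F V)
    (hQ : ∀ x, (∀ y, polar Q x y = 0) → x = 0) (L M : List {v : V // Q v ≠ 0})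
    (h : reflWord Q L = reflWord Q M) : wordVal Q L = wordVal Q M := by
  have h1 := wordVal_eq_one_of_reflWord_eq_one Q hQ (L ++ M.reverse)
    (by rw [reflWord_append, reflWord_reverse, h, mul_inv_cancel])
  rw [wordVal_append, wordVal_reverse] at h1
  calc wordVal Q L = wordVal Q L * (wordVal Q M * wordVal Q M) := by
        rw [wordVal_mul_self, mul_one]
    _ = wordVal Q M := by rw [← mul_assoc, h1, one_mul]

theorem exists_reflWord (Q : QuadraticForm F V) {g : V ≃ₗ[F] V}
    (hg : g ∈ Subgroup.closure (reflSet Q)) : ∃ L, reflWord Q L = g := by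
  induction hg using Subgroup.closure_induction with
  | mem g hg =>
    obtain ⟨v, hv, rfl⟩ := hg
    exact ⟨[⟨v, hv⟩], by simp [reflWord]⟩
  | one => exact ⟨[], by simp [reflWord]⟩
  | mul a b _ _ ha hb =>
    obtain ⟨L, rfl⟩ := ha
    obtain ⟨M, rfl⟩ := hb
    exact ⟨L ++ M, reflWord_append Q L M⟩
  | inv a _ ha =>
    obtain ⟨L, rfl⟩ := ha
    exact ⟨L.reverse, reflWord_reverse Q L⟩

/-- The spinor norm together with the Dickson invariant, on the group generated by reflections. -/
noncomputable def reflHom [FiniteDimensional F V] (Q : QuadraticForm F V)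
    (hQ : ∀ x, (∀ y, polar Q x y = 0) → x = 0) :
    Subgroup.closure (reflSet Q) →* Multiplicative (ZMod 2) × SqClass F where
  toFun g := wordVal Q (exists_reflWord Q g.2).choose
  map_one' := by
    refine (wordVal_congr Q hQ _ [] ?_).trans rfl
    rw [(exists_reflWord Q (1 : Subgroup.closure (reflSet Q)).2).choose_spec]
    rfl
  map_mul' a b := by
    rw [← wordVal_append]
    refine wordVal_congr Q hQ _ _ ?_
    rw [reflWord_append, (exists_reflWord Q (a * b).2).choose_spec,
      (exists_reflWord Q a.2).choose_spec, (exists_reflWord Q b.2).choose_spec]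
    rfl

theorem reflHom_refl [FiniteDimensional F V] (Q : QuadraticForm F V)
    (hQ : ∀ x, (∀ y, polar Q x y = 0) → x = 0) (v : V) (hv : Q v ≠ 0) :
    reflHom Q hQ ⟨reflEquiv Q v hv, reflEquiv_mem_closure Q v hv⟩ =
      (Multiplicative.ofAdd 1, sqClass hv) := by
  refine (wordVal_congr Q hQ _ [⟨v, hv⟩] ?_).trans (by simp [wordVal, reflVal])
  rw [(exists_reflWord Q (reflEquiv_mem_closure Q v hv)).choose_spec]
  simp [reflWord]

/-- A map on at most two square classes, together with the parity, extends to a homomorphism. -/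
theorem exists_hom_of_two_classes {A : Type*} [CommGroup A]
    (hcl : ∀ c d : SqClass F, c ≠ 1 → d ≠ 1 → c = d) (f : SqClass F → A) (hf2 : ∀ c, f c * f c = 1) :
    ∃ θ : Multiplicative (ZMod 2) × SqClass F →* A,
      ∀ c, θ (Multiplicative.ofAdd 1, c) = f c := by
  have hmulc : ∀ c d, f 1 * f (c * d) = (f 1 * f c) * (f 1 * f d) := by
    intro c d
    by_cases hc : c = 1
    · rw [hc, one_mul, hf2, one_mul]
    by_cases hd : d = 1
    · rw [hd, mul_one, hf2, mul_one]
    · rw [hcl c d hc hd, sqClass_mul_self, hf2, mul_mul_mul_comm, hf2, hf2, one_mul]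
  have hpow : ∀ a b : ZMod 2, f 1 ^ (a + b).val = f 1 ^ a.val * f 1 ^ b.val := by
    intro a b
    rw [← pow_add, ZMod.val_add]
    conv_rhs => rw [← Nat.mod_add_div (a.val + b.val) 2, pow_add, pow_mul, sq, hf2, one_pow, mul_one]
  refine ⟨{ toFun := fun p => f 1 ^ (p.1.toAdd).val * (f 1 * f p.2)
            map_one' := ?_
            map_mul' := fun p q => ?_ }, fun c => ?_⟩
  · simp [hf2]
  · simp only [Prod.fst_mul, Prod.snd_mul, toAdd_mul, hpow, hmulc]
    exact mul_mul_mul_comm _ _ _ _
  · show f 1 ^ (1 : ZMod 2).val * (f 1 * f c) = f c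
    rw [ZMod.val_one, pow_one, ← mul_assoc, hf2, one_mul]

/-- Reflections at vectors of the same square class agree in every abelian quotient of the reflection group. -/
theorem refl_image_congr [FiniteDimensional F V] (Q : QuadraticForm F V)
    (hQ : ∀ x, (∀ y, polar Q x y = 0) → x = 0)
    (hex : (∃ t : F, t ≠ 0 ∧ t ≠ 1) ∨ Module.finrank F V ≠ 4) {A : Type*} [CommGroup A]
    (ψ : Subgroup.closure (reflSet Q) →* A) {v w : V} (hv : Q v ≠ 0) (hw : Q w ≠ 0)
    (hvw : sqClass hv = sqClass hw) :
    ψ ⟨reflEquiv Q v hv, reflEquiv_mem_closure Q v hv⟩ =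
      ψ ⟨reflEquiv Q w hw, reflEquiv_mem_closure Q w hw⟩ := by
  obtain ⟨t, ht, he⟩ := (sqClass_eq_iff hv hw).1 hvw
  have htw : Q (t • w) ≠ 0 := by
    rw [quad_smul]; exact mul_ne_zero (mul_ne_zero ht ht) hw
  have hscale : reflEquiv Q (t • w) htw = reflEquiv Q w hw := by
    refine LinearEquiv.ext fun z => ?_
    simp only [reflEquiv_apply, quad_smul, QuadraticMap.polar_smul_left, smul_smul, smul_eq_mul]
    congr 2
    field_simp
  obtain ⟨g, hg, hgv⟩ := exists_isom_vector Q hQ (x := v) (y := t • w)
    (fun h => hv (by simp [h])) (fun h => htw (by simp [h])) (by rw [quad_smul]; exact he)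
  rw [quadIsoms_eq_closure Q hQ hex] at hg
  have hconj := conj_reflEquiv Q (reflSet_closure_le Q hg) v hv
  simp only [hgv, hscale] at hconj
  have h1 : (⟨g, hg⟩ : Subgroup.closure (reflSet Q)) *
      ⟨reflEquiv Q v hv, reflEquiv_mem_closure Q v hv⟩ *
      (⟨g, hg⟩ : Subgroup.closure (reflSet Q))⁻¹ =
      ⟨reflEquiv Q w hw, reflEquiv_mem_closure Q w hw⟩ := Subtype.ext hconj
  rw [← h1, map_mul, map_mul, map_inv, mul_comm (ψ _) (ψ _), mul_inv_cancel_right]

/-- The kernel of `reflHom` is the commutator subgroup of the reflection group, when there are at most two square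
classes. -/
theorem commutator_eq_ker_reflHom [FiniteDimensional F V] (Q : QuadraticForm F V)
    (hQ : ∀ x, (∀ y, polar Q x y = 0) → x = 0)
    (hex : (∃ t : F, t ≠ 0 ∧ t ≠ 1) ∨ Module.finrank F V ≠ 4)
    (hcl : ∀ c d : SqClass F, c ≠ 1 → d ≠ 1 → c = d) :
    commutator (Subgroup.closure (reflSet Q)) = (reflHom Q hQ).ker := by
  classical
  refine le_antisymm (Abelianization.commutator_subset_ker (reflHom Q hQ)) ?_
  let f : SqClass F → Abelianization (Subgroup.closure (reflSet Q)) := fun c =>
    if h : ∃ v : {v : V // Q v ≠ 0}, sqClass v.2 = c then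
      Abelianization.of ⟨reflEquiv Q h.choose.1 h.choose.2, reflEquiv_mem_closure Q _ _⟩
    else 1
  have hf : ∀ (v : V) (hv : Q v ≠ 0), f (sqClass hv) =
      Abelianization.of ⟨reflEquiv Q v hv, reflEquiv_mem_closure Q v hv⟩ := fun v hv => by
    have h : ∃ u : {v : V // Q v ≠ 0}, sqClass u.2 = sqClass hv := ⟨⟨v, hv⟩, rfl⟩
    simp only [f, dif_pos h]
    exact refl_image_congr Q hQ hex Abelianization.of h.choose.2 hv h.choose_spec
  have hf2 : ∀ c, f c * f c = 1 := by
    intro c
    simp only [f]
    split_ifs with h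
    · rw [← map_mul]
      exact (congrArg _ (Subtype.ext (reflEquiv_mul_self Q h.choose.1 h.choose.2))).trans (map_one _)
    · exact one_mul 1
  obtain ⟨θ, hθ⟩ := exists_hom_of_two_classes hcl f hf2
  have hcomp : ∀ g, θ (reflHom Q hQ g) = Abelianization.of g := by
    rintro ⟨g, hg⟩
    induction hg using Subgroup.closure_induction with
    | mem g hg =>
      obtain ⟨v, hv, rfl⟩ := hg
      rw [reflHom_refl, hθ, hf v hv]
    | one =>
      show θ (reflHom Q hQ 1) = Abelianization.of 1
      simp only [map_one]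
    | mul a b ha hb iha ihb =>
      have := congrArg₂ (· * ·) iha ihb
      simp only [← map_mul] at this
      exact this
    | inv a ha iha =>
      have := congrArg (·⁻¹) iha
      simp only [← map_inv] at this
      exact this
  intro g hg
  have h1 : Abelianization.of g = 1 := by
    rw [← hcomp, MonoidHom.mem_ker.1 hg, map_one]
  rwa [← MonoidHom.mem_ker, Abelianization.ker_of] at h1

end CfsgLib.Geom
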