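import Mathlib
import Cfsg.Agent.Lib.Geom.SpinorNorm

set_option autoImplicit false

/-!
Square classes of finite fields and representation of field elements by quadratic forms.
-/

namespace CfsgLib.Geom

open QuadraticMap (polar)

variable {F V : Type*} [Field F] [Finite F] [AddCommGroup V] [Module F V]

theorem ringChar_ne_two_of_ne (h2 : (2 : F) ≠ 0) : ringChar F ≠ 2 := by
  intro h
  have h' : ((2 : ℕ) : F) = 0 := by rw [← h]; exact ringChar.Nat.cast_ringChar
  exact h2 (by exact_mod_cast h')

theorem isSquare_of_two_eq_zero (h2 : (2 : F) = 0) (a : F) : IsSquare a := by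
  refine FiniteField.isSquare_of_char_two ?_ a
  exact CharP.ringChar_of_prime_eq_zero Nat.prime_two (by exact_mod_cast h2)

theorem isSquare_mul_of_not (a b : F) (ha : ¬ IsSquare a) (hb : ¬ IsSquare b) : IsSquare (a * b) := by
  classical
  have : Fintype F := Fintype.ofFinite F
  have ha0 : a ≠ 0 := fun h => ha ⟨0, by simp [h]⟩
  have hb0 : b ≠ 0 := fun h => hb ⟨0, by simp [h]⟩
  refine (quadraticChar_one_iff_isSquare (mul_ne_zero ha0 hb0)).1 ?_
  rw [map_mul, quadraticChar_neg_one_iff_not_isSquare.2 ha, quadraticChar_neg_one_iff_not_isSquare.2 hb]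
  norm_num

/-- A finite field has at most two square classes. -/
theorem sqClass_two (c d : SqClass F) (hc : c ≠ 1) (hd : d ≠ 1) : c = d := by
  obtain ⟨a, rfl⟩ := sqProj_surjective F c
  obtain ⟨b, rfl⟩ := sqProj_surjective F d
  have ha : a.val ≠ 0 := a.ne_zero
  have hb : b.val ≠ 0 := b.ne_zero
  have ea : sqProj F a = sqClass ha := by simp [sqClass]
  have eb : sqProj F b = sqClass hb := by simp [sqClass]
  rw [ea] at hc ⊢
  rw [eb] at hd ⊢
  rw [Ne, sqClass_eq_one_iff] at hc hd
  have := (sqClass_eq_one_iff (mul_ne_zero ha hb)).2 (isSquare_mul_of_not _ _ hc hd)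
  rw [sqClass_mul ha hb] at this
  calc sqClass ha = sqClass ha * (sqClass hb * sqClass hb) := by rw [sqClass_mul_self, mul_one]
    _ = sqClass hb := by rw [← mul_assoc, this, one_mul]

theorem exists_not_square (h2 : (2 : F) ≠ 0) : ∃ a : F, a ≠ 0 ∧ ¬ IsSquare a := by
  obtain ⟨a, ha⟩ := FiniteField.exists_nonsquare (ringChar_ne_two_of_ne h2)
  exact ⟨a, fun h => ha ⟨0, by simp [h]⟩, ha⟩

theorem card_sqClass_odd (h2 : (2 : F) ≠ 0) : Nat.card (SqClass F) = 2 := by
  obtain ⟨a, ha0, ha⟩ := exists_not_square h2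
  have hne : sqClass ha0 ≠ 1 := by rwa [Ne, sqClass_eq_one_iff]
  classical
  rw [Nat.card_eq_two_iff]
  refine ⟨1, sqClass ha0, hne.symm, Set.eq_univ_of_forall fun c => ?_⟩
  by_cases hc : c = 1
  · exact Or.inl hc
  · exact Or.inr (sqClass_two c _ hc hne)

theorem sqClass_eq_one_of_two_eq_zero (h2 : (2 : F) = 0) (c : SqClass F) : c = 1 := by
  obtain ⟨a, rfl⟩ := sqProj_surjective F c
  have : sqProj F a = sqClass a.ne_zero := by simp [sqClass]
  rw [this, sqClass_eq_one_iff]
  exact isSquare_of_two_eq_zero h2 _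

/-- A binary diagonal form with non-zero coefficients takes every value, in odd characteristic. -/
theorem exists_binary_eq (h2 : (2 : F) ≠ 0) {a b : F} (ha : a ≠ 0) (hb : b ≠ 0) (c : F) :
    ∃ s t : F, a * (s * s) + b * (t * t) = c := by
  classical
  have : Fintype F := Fintype.ofFinite F
  open Polynomial in
  obtain ⟨s, t, h⟩ := FiniteField.exists_root_sum_quadratic
    (f := C a * X ^ 2 + C 0 * X + C (-c)) (g := C b * X ^ 2 + C 0 * X + C 0)
    (degree_quadratic ha) (degree_quadratic hb) (FiniteField.odd_card_of_char_ne_two (ringChar_ne_two_of_ne h2))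
  simp only [Polynomial.eval_add, Polynomial.eval_mul, Polynomial.eval_C, Polynomial.eval_pow,
    Polynomial.eval_X] at h
  exact ⟨s, t, by linear_combination h⟩

/-- A form with non-degenerate polar form on a space of dimension at least two takes every non-zero value, in
odd characteristic. -/
theorem exists_value [FiniteDimensional F V] (Q : QuadraticForm F V) (h2 : (2 : F) ≠ 0)
    (hQ : ∀ x, (∀ y, polar Q x y = 0) → x = 0) (hn : 2 ≤ Module.finrank F V) (c : F) (hc : c ≠ 0) :
    ∃ v, Q v = c := by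
  have : Invertible (2 : F) := invertibleOfNonzero h2
  obtain ⟨b, hb⟩ := LinearMap.BilinForm.exists_orthogonal_basis
    (B := Q.polarBilin) ⟨fun x y => QuadraticMap.polar_comm Q x y⟩
  have hbQ : ∀ i, Q (b i) ≠ 0 := by
    intro i hi
    refine b.ne_zero i (hQ (b i) ?_)
    have : Q.polarBilin (b i) = 0 := b.ext fun j => by
      by_cases hij : i = j
      · subst hij; simp [hi]
      · simpa using hb hij
    exact fun y => LinearMap.congr_fun this y
  have _ : c ≠ 0 := hc
  set i : Fin (Module.finrank F V) := ⟨0, by omega⟩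
  set j : Fin (Module.finrank F V) := ⟨1, by omega⟩
  have hp : polar Q (b i) (b j) = 0 := hb (show i ≠ j by simp [i, j])
  obtain ⟨s, t, hst⟩ := exists_binary_eq h2 (hbQ i) (hbQ j) c
  refine ⟨s • b i + t • b j, ?_⟩
  rw [quad_map_add_smul, quad_smul, QuadraticMap.polar_smul_left, hp, smul_zero, mul_zero, add_zero]
  linear_combination hst

omit [Finite F] in
theorem exists_anisotropic [Nontrivial V] (Q : QuadraticForm F V)
    (hQ : ∀ x, (∀ y, polar Q x y = 0) → x = 0) : ∃ v, Q v ≠ 0 := by
  by_contra hall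
  push Not at hall
  obtain ⟨x, hx⟩ := exists_ne (0 : V)
  exact hx (hQ x fun y => by simp [QuadraticMap.polar, hall])

end CfsgLib.Geom
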