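import Mathlib
import Cfsg.Prelude.Def_ClassicalGeometry
import Cfsg.Agent.Lib.Geom.SpinorNorm

set_option autoImplicit false

/-!
The matrix group `Cfsg.isometryGroup` of a quadratic form and the abstract isometry group, reflections and
determinants.
-/

namespace CfsgLib.Geom

open QuadraticMap (polar)
open Matrix

variable {F : Type*} [Field F] {ι : Type} [Fintype ι] [DecidableEq ι]

theorem polarVec_dot (Q : QuadraticForm F (ι → F)) (v x : ι → F) :
    Cfsg.polarVec (⇑Q) v ⬝ᵥ x = polar Q v x := by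
  have h1 : Q.polarBilin v x = ∑ i, x i * Q.polarBilin v (Pi.single i 1) := by
    conv_lhs => rw [← Finset.univ_sum_single x]
    rw [map_sum]
    exact Finset.sum_congr rfl fun i _ => by
      rw [show Pi.single i (x i) = x i • (Pi.single i 1 : ι → F) by simp [← Pi.single_smul],
        map_smul, smul_eq_mul]
  simp only [QuadraticMap.polarBilin_apply_apply] at h1
  rw [h1, dotProduct]
  exact Finset.sum_congr rfl fun i _ => mul_comm _ _

theorem reflectionMatrix_mulVec (Q : QuadraticForm F (ι → F)) (v x : ι → F) :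
    Cfsg.reflectionMatrix (⇑Q) v *ᵥ x = x - ((Q v)⁻¹ * polar Q v x) • v := by
  rw [Cfsg.reflectionMatrix, Matrix.sub_mulVec, Matrix.one_mulVec, Matrix.smul_mulVec,
    Matrix.vecMulVec_mulVec, polarVec_dot]
  ext i
  simp [mul_assoc]

theorem det_reflectionMatrix (Q : QuadraticForm F (ι → F)) {v : ι → F} (hv : Q v ≠ 0) :
    (Cfsg.reflectionMatrix (⇑Q) v).det = -1 := by
  have h : Cfsg.reflectionMatrix (⇑Q) v = 1 +
      Matrix.replicateCol Unit v * Matrix.replicateRow Unit (-(Q v)⁻¹ • Cfsg.polarVec (⇑Q) v) := by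
    rw [Cfsg.reflectionMatrix, ← Matrix.vecMulVec_eq Unit, sub_eq_add_neg, ← neg_smul,
      Matrix.vecMulVec_smul]
  rw [h, Matrix.det_one_add_replicateCol_mul_replicateRow, smul_dotProduct, polarVec_dot,
    polar_self_two, smul_eq_mul]
  field_simp
  ring

theorem mem_isometryGroup_iff (Q : (ι → F) → F) (g : Matrix.GeneralLinearGroup ι F) :
    g ∈ Cfsg.isometryGroup F Q ↔ ∀ u, Q ((g : Matrix ι ι F) *ᵥ u) = Q u :=
  ⟨fun h u => h u u, fun h u _ => h u⟩

/-- The matrices of linear automorphisms. -/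
noncomputable def glOfEquiv : ((ι → F) ≃ₗ[F] (ι → F)) →* Matrix.GeneralLinearGroup ι F where
  toFun g := ⟨LinearMap.toMatrix' g.toLinearMap, LinearMap.toMatrix' g.symm.toLinearMap,
    by rw [← LinearMap.toMatrix'_comp]; simp,
    by rw [← LinearMap.toMatrix'_comp]; simp⟩
  map_one' := Units.ext (by
    show LinearMap.toMatrix' (LinearMap.id : (ι → F) →ₗ[F] ι → F) = 1
    exact LinearMap.toMatrix'_id)
  map_mul' g h := Units.ext (LinearMap.toMatrix'_comp _ _)

theorem glOfEquiv_mulVec (g : (ι → F) ≃ₗ[F] (ι → F)) (v : ι → F) :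
    (glOfEquiv g : Matrix ι ι F) *ᵥ v = g v :=
  LinearMap.toMatrix'_mulVec g.toLinearMap v

theorem glOfEquiv_bijective : Function.Bijective (glOfEquiv (F := F) (ι := ι)) := by
  refine ⟨fun g h e => LinearEquiv.ext fun v => ?_, fun A => ?_⟩
  · rw [← glOfEquiv_mulVec, ← glOfEquiv_mulVec, e]
  · refine ⟨LinearEquiv.ofLinearMap (Matrix.toLin' (A : Matrix ι ι F))
      (Matrix.toLin' (↑A⁻¹ : Matrix ι ι F)) ?_ ?_, Units.ext ?_⟩
    · rw [← Matrix.toLin'_mul, A.mul_inv, Matrix.toLin'_one]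
    · rw [← Matrix.toLin'_mul, A.inv_mul, Matrix.toLin'_one]
    · exact LinearMap.toMatrix'_toLin' _

theorem det_glOfEquiv (g : (ι → F) ≃ₗ[F] (ι → F)) :
    Matrix.GeneralLinearGroup.det (glOfEquiv g) = LinearEquiv.det g :=
  Units.ext (by
    rw [Matrix.GeneralLinearGroup.val_det_apply, LinearEquiv.coe_det]
    show (LinearMap.toMatrix' g.toLinearMap).det = LinearMap.det g.toLinearMap
    exact LinearMap.det_toMatrix' _)

theorem glOfEquiv_mem_iff (Q : QuadraticForm F (ι → F)) (g : (ι → F) ≃ₗ[F] (ι → F)) :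
    glOfEquiv g ∈ Cfsg.isometryGroup F (⇑Q) ↔ g ∈ quadIsoms Q := by
  simp only [mem_isometryGroup_iff, glOfEquiv_mulVec, mem_quadIsoms]

/-- The abstract isometry group is the matrix isometry group. -/
noncomputable def orEquiv (Q : QuadraticForm F (ι → F)) :
    quadIsoms Q ≃* Cfsg.isometryGroup F (⇑Q) :=
  MulEquiv.ofBijective
    ((glOfEquiv.comp (quadIsoms Q).subtype).codRestrict (Cfsg.isometryGroup F (⇑Q))
      fun g => (glOfEquiv_mem_iff Q g.1).2 g.2)
    ⟨fun _ _ e => Subtype.ext (glOfEquiv_bijective.1 (congrArg Subtype.val e)),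
      fun A => by
        obtain ⟨g, hg⟩ := glOfEquiv_bijective.2 A.1
        exact ⟨⟨g, (glOfEquiv_mem_iff Q g).1 (hg ▸ A.2)⟩, Subtype.ext hg⟩⟩

theorem orEquiv_coe (Q : QuadraticForm F (ι → F)) (g : quadIsoms Q) :
    ((orEquiv Q g : Cfsg.isometryGroup F (⇑Q)) : Matrix.GeneralLinearGroup ι F) = glOfEquiv g.1 :=
  rfl

theorem orEquiv_mulVec (Q : QuadraticForm F (ι → F)) (g : quadIsoms Q) (v : ι → F) :
    ((orEquiv Q g : Cfsg.isometryGroup F (⇑Q)) : Matrix.GeneralLinearGroup ι F).val *ᵥ v = g.1 v :=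
  glOfEquiv_mulVec g.1 v

theorem glOfEquiv_reflEquiv (Q : QuadraticForm F (ι → F)) (v : ι → F) (hv : Q v ≠ 0) :
    (glOfEquiv (reflEquiv Q v hv) : Matrix ι ι F) = Cfsg.reflectionMatrix (⇑Q) v := by
  refine Matrix.ext_iff_mulVec.2 fun z => ?_
  rw [glOfEquiv_mulVec, reflectionMatrix_mulVec, reflEquiv_apply]

theorem det_reflEquiv (Q : QuadraticForm F (ι → F)) (v : ι → F) (hv : Q v ≠ 0) :
    LinearEquiv.det (reflEquiv Q v hv) = -1 := by
  rw [← det_glOfEquiv]
  refine Units.ext ?_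
  show (glOfEquiv (reflEquiv Q v hv) : Matrix ι ι F).det = _
  rw [glOfEquiv_reflEquiv, det_reflectionMatrix Q hv]
  rfl

/-- Determinants of isometries are signs. -/
theorem isometry_det (Q : QuadraticForm F (ι → F))
    (hQ : (QuadraticMap.polarBilin Q).Nondegenerate) (A : Matrix ι ι F)
    (hA : ∀ u, Q (A *ᵥ u) = Q u) : A.det = 1 ∨ A.det = -1 := by
  set J := LinearMap.toMatrix₂' F Q.polarBilin with hJ
  have hJdet : J.det ≠ 0 := by
    rw [← Matrix.nondegenerate_iff_det_ne_zero]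
    exact (LinearMap.nondegenerate_toMatrix₂'_iff).2 hQ
  have hcomp : Q.polarBilin.compl₁₂ (Matrix.toLin' A) (Matrix.toLin' A) = Q.polarBilin := by
    refine LinearMap.ext fun x => LinearMap.ext fun y => ?_
    simp only [LinearMap.compl₁₂_apply, Matrix.toLin'_apply, QuadraticMap.polarBilin_apply_apply,
      QuadraticMap.polar]
    rw [← Matrix.mulVec_add, hA, hA, hA]
  have h1 := LinearMap.toMatrix₂'_compl₁₂ (R := F) Q.polarBilin (Matrix.toLin' A) (Matrix.toLin' A)
  rw [hcomp, LinearMap.toMatrix'_toLin', ← hJ] at h1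
  have h2 := congrArg Matrix.det h1
  rw [Matrix.det_mul, Matrix.det_mul, Matrix.det_transpose] at h2
  have h3 : (A.det - 1) * (A.det + 1) = 0 := by
    refine mul_right_cancel₀ hJdet ?_
    linear_combination -h2
  rcases mul_eq_zero.1 h3 with h | h
  · exact Or.inl (sub_eq_zero.1 h)
  · exact Or.inr (eq_neg_of_add_eq_zero_left h)

theorem sep_of_nondegenerate {V : Type*} [AddCommGroup V] [Module F V] (Q : QuadraticForm F V)
    (hQ : (QuadraticMap.polarBilin Q).Nondegenerate) (x : V) (hx : ∀ y, polar Q x y = 0) : x = 0 :=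
  hQ.1 x fun y => by simpa using hx y

/-- Reflection matrices generate the isometry group. -/
theorem closure_reflectionMatrix_eq_top (Q : QuadraticForm F (ι → F))
    (hQ : (QuadraticMap.polarBilin Q).Nondegenerate)
    (hex : (∃ t : F, t ≠ 0 ∧ t ≠ 1) ∨ Fintype.card ι ≠ 4) :
    Subgroup.closure {g : Cfsg.isometryGroup F (⇑Q) | ∃ v, Q v ≠ 0 ∧
      ((g : Matrix.GeneralLinearGroup ι F) : Matrix ι ι F) = Cfsg.reflectionMatrix (⇑Q) v} = ⊤ := by
  rw [eq_top_iff]
  intro A _
  obtain ⟨⟨g, hg⟩, rfl⟩ := (orEquiv Q).surjective A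
  have hle := reflSet_closure_le Q
  have hg' : g ∈ Subgroup.closure (reflSet Q) := by
    rw [← quadIsoms_eq_closure Q (sep_of_nondegenerate Q hQ)
      (by rwa [Module.finrank_fintype_fun_eq_card])]
    exact hg
  obtain ⟨L, hL⟩ := exists_reflWord Q hg'
  subst hL
  induction L with
  | nil =>
    rw [show (⟨reflWord Q [], hg⟩ : quadIsoms Q) = 1 from Subtype.ext rfl, map_one]
    exact one_mem _
  | cons v L ih =>
    have h1 : reflEquiv Q v.1 v.2 ∈ quadIsoms Q := reflEquiv_mem Q v.1 v.2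
    have h2 : reflWord Q L ∈ quadIsoms Q := by
      have : reflWord Q L = (reflEquiv Q v.1 v.2)⁻¹ * reflWord Q (v :: L) := by
        rw [eq_inv_mul_iff_mul_eq]; simp [reflWord]
      rw [this]; exact mul_mem (inv_mem h1) hg
    rw [show (⟨reflWord Q (v :: L), hg⟩ : quadIsoms Q) = ⟨_, h1⟩ * ⟨_, h2⟩ from
      Subtype.ext (by simp [reflWord]), map_mul]
    refine mul_mem (Subgroup.subset_closure ⟨v.1, v.2, ?_⟩) (ih h2 trivial ?_)
    · exact glOfEquiv_reflEquiv Q v.1 v.2
    · exact (exists_reflWord Q hg' ) |>.elim fun _ _ => by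
        rw [← quadIsoms_eq_closure Q (sep_of_nondegenerate Q hQ)
          (by rwa [Module.finrank_fintype_fun_eq_card])]
        exact h2

end CfsgLib.Geom
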