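import Mathlib
import Cfsg.Prelude.Def_ClassicalGeometry
import Cfsg.Agent.Lib.Geom.OrthMatrix
import Cfsg.Agent.Lib.Geom.FiniteField

set_option autoImplicit false

/-!
`Cfsg.Omega` as the kernel of the spinor norm and Dickson invariant over a finite field, and its index.
-/

namespace CfsgLib.Geom

open QuadraticMap (polar)

variable {F : Type*} [Field F] {ι : Type} [Fintype ι] [DecidableEq ι]

/-- The hypotheses under which reflections generate: `(|F|, dim) ≠ (2, 4)`. -/
theorem exGen_of_card [Fintype F] (h : Fintype.card F ≠ 2 ∨ Fintype.card ι ≠ 4) :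
    (∃ t : F, t ≠ 0 ∧ t ≠ 1) ∨ Module.finrank F (ι → F) ≠ 4 := by
  rcases h with h | h
  · left
    classical
    have h2 : 2 < Fintype.card F := by
      have := Fintype.one_lt_card (α := F)
      omega
    obtain ⟨t, -, ht⟩ := Finset.exists_mem_notMem_of_card_lt_card
      (s := ({0, 1} : Finset F)) (t := Finset.univ) (lt_of_le_of_lt Finset.card_le_two (by simpa using h2))
    exact ⟨t, fun h0 => ht (by simp [h0]), fun h1 => ht (by simp [h1])⟩
  · right; rwa [Module.finrank_fintype_fun_eq_card]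

theorem exGen_of_odd (h2 : (2 : F) ≠ 0) :
    (∃ t : F, t ≠ 0 ∧ t ≠ 1) ∨ Module.finrank F (ι → F) ≠ 4 :=
  Or.inl ⟨-1, by simp, fun h => h2 (by linear_combination -h)⟩

/-- `isometryGroup` as the reflection group. -/
noncomputable def reflGroupEquiv (Q : QuadraticForm F (ι → F))
    (hQ : ∀ x, (∀ y, polar Q x y = 0) → x = 0)
    (hex : (∃ t : F, t ≠ 0 ∧ t ≠ 1) ∨ Module.finrank F (ι → F) ≠ 4) :
    Cfsg.isometryGroup F (⇑Q) ≃* Subgroup.closure (reflSet Q) :=
  (orEquiv Q).symm.trans (MulEquiv.subgroupCongr (quadIsoms_eq_closure Q hQ hex))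

/-- The spinor norm and Dickson invariant on `isometryGroup`. -/
noncomputable def spinorHom (Q : QuadraticForm F (ι → F))
    (hQ : ∀ x, (∀ y, polar Q x y = 0) → x = 0)
    (hex : (∃ t : F, t ≠ 0 ∧ t ≠ 1) ∨ Module.finrank F (ι → F) ≠ 4) :
    Cfsg.isometryGroup F (⇑Q) →* Multiplicative (ZMod 2) × SqClass F :=
  (reflHom Q hQ).comp (reflGroupEquiv Q hQ hex).toMonoidHom

theorem spinorHom_refl (Q : QuadraticForm F (ι → F))
    (hQ : ∀ x, (∀ y, polar Q x y = 0) → x = 0)
    (hex : (∃ t : F, t ≠ 0 ∧ t ≠ 1) ∨ Module.finrank F (ι → F) ≠ 4)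
    (g : Cfsg.isometryGroup F (⇑Q)) {v : ι → F} (hv : Q v ≠ 0)
    (hg : ((g : Matrix.GeneralLinearGroup ι F) : Matrix ι ι F) = Cfsg.reflectionMatrix (⇑Q) v) :
    spinorHom Q hQ hex g = (Multiplicative.ofAdd 1, sqClass hv) := by
  have hg' : g = orEquiv Q ⟨reflEquiv Q v hv, reflEquiv_mem Q v hv⟩ := by
    refine Subtype.ext (Units.ext ?_)
    rw [hg, orEquiv_coe, glOfEquiv_reflEquiv]
  rw [hg', ← reflHom_refl Q hQ v hv]
  show reflHom Q hQ (MulEquiv.subgroupCongr (quadIsoms_eq_closure Q hQ hex)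
    ((orEquiv Q).symm (orEquiv Q _))) = _
  rw [MulEquiv.symm_apply_apply]
  rfl

theorem omega_eq_ker_spinorHom [Finite F] (Q : QuadraticForm F (ι → F))
    (hQ : ∀ x, (∀ y, polar Q x y = 0) → x = 0)
    (hex : (∃ t : F, t ≠ 0 ∧ t ≠ 1) ∨ Module.finrank F (ι → F) ≠ 4) :
    Cfsg.Omega F (⇑Q) = (spinorHom Q hQ hex).ker := by
  refine le_antisymm (Abelianization.commutator_subset_ker (spinorHom Q hQ hex)) fun g hg => ?_
  set e := reflGroupEquiv Q hQ hex
  have h1 : e g ∈ commutator (Subgroup.closure (reflSet Q)) := by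
    rw [commutator_eq_ker_reflHom Q hQ hex sqClass_two]
    exact hg
  have h2 : (commutator (Cfsg.isometryGroup F (⇑Q))).map e.toMonoidHom =
      commutator (Subgroup.closure (reflSet Q)) := by
    rw [commutator_def, Subgroup.map_commutator, Subgroup.map_top_of_surjective _ e.surjective,
      ← commutator_def]
  rw [← h2] at h1
  obtain ⟨g', hg', he⟩ := h1
  exact e.injective he ▸ hg'

theorem spinorHom_refl_mem_range (Q : QuadraticForm F (ι → F))
    (hQ : ∀ x, (∀ y, polar Q x y = 0) → x = 0)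
    (hex : (∃ t : F, t ≠ 0 ∧ t ≠ 1) ∨ Module.finrank F (ι → F) ≠ 4) {v : ι → F} (hv : Q v ≠ 0) :
    (Multiplicative.ofAdd (1 : ZMod 2), sqClass hv) ∈ (spinorHom Q hQ hex).range :=
  ⟨orEquiv Q ⟨reflEquiv Q v hv, reflEquiv_mem Q v hv⟩,
    spinorHom_refl Q hQ hex _ hv (glOfEquiv_reflEquiv Q v hv)⟩

theorem spinorHom_surjective_odd [Finite F] (Q : QuadraticForm F (ι → F))
    (hQ : ∀ x, (∀ y, polar Q x y = 0) → x = 0)
    (hex : (∃ t : F, t ≠ 0 ∧ t ≠ 1) ∨ Module.finrank F (ι → F) ≠ 4)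
    (h2 : (2 : F) ≠ 0) (hn : 2 ≤ Fintype.card ι) :
    Function.Surjective (spinorHom Q hQ hex) := by
  have hmem : ∀ c : SqClass F,
      (Multiplicative.ofAdd (1 : ZMod 2), c) ∈ (spinorHom Q hQ hex).range := by
    intro c
    obtain ⟨a, rfl⟩ := sqProj_surjective F c
    obtain ⟨v, hv⟩ := exists_value Q h2 hQ (by rwa [Module.finrank_fintype_fun_eq_card]) a a.ne_zero
    have hv0 : Q v ≠ 0 := by rw [hv]; exact a.ne_zero
    have : sqProj F a = sqClass hv0 := by simp [sqClass, hv]
    rw [this]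
    exact spinorHom_refl_mem_range Q hQ hex hv0
  rw [← MonoidHom.range_eq_top, eq_top_iff]
  rintro ⟨x, c⟩ -
  have h0 : ∀ y : Multiplicative (ZMod 2), y = 1 ∨ y = Multiplicative.ofAdd (1 : ZMod 2) := by decide
  rcases h0 x with rfl | rfl
  · have := mul_mem (hmem 1) (hmem c)
    convert this using 1
    have h11 : (1 : Multiplicative (ZMod 2)) =
        Multiplicative.ofAdd (1 : ZMod 2) * Multiplicative.ofAdd (1 : ZMod 2) := by decide
    exact Prod.ext h11 (one_mul c).symm
  · exact hmem c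

/-- `Ω` has index four in odd characteristic. -/
theorem omega_index_odd [Finite F] (Q : QuadraticForm F (ι → F))
    (hQ : ∀ x, (∀ y, polar Q x y = 0) → x = 0) (h2 : (2 : F) ≠ 0) (hn : 2 ≤ Fintype.card ι) :
    (Cfsg.Omega F (⇑Q)).index = 4 := by
  rw [omega_eq_ker_spinorHom Q hQ (exGen_of_odd h2), Subgroup.index_ker,
    MonoidHom.range_eq_top.2 (spinorHom_surjective_odd Q hQ _ h2 hn), Subgroup.card_top,
    Nat.card_prod, card_sqClass_odd h2]
  simp

/-- `Ω` has index two in characteristic two. -/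
theorem omega_index_even [Finite F] (Q : QuadraticForm F (ι → F))
    (hQ : ∀ x, (∀ y, polar Q x y = 0) → x = 0)
    (hex : (∃ t : F, t ≠ 0 ∧ t ≠ 1) ∨ Module.finrank F (ι → F) ≠ 4)
    (h2 : (2 : F) = 0) (hn : 1 ≤ Fintype.card ι) :
    (Cfsg.Omega F (⇑Q)).index = 2 := by
  have : Nonempty ι := Fintype.card_pos_iff.1 hn
  have hsurj : Function.Surjective (spinorHom Q hQ hex) := by
    obtain ⟨v, hv⟩ := exists_anisotropic Q hQ
    rw [← MonoidHom.range_eq_top, eq_top_iff]
    rintro ⟨x, c⟩ -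
    rw [sqClass_eq_one_of_two_eq_zero h2 c]
    have h0 : ∀ y : Multiplicative (ZMod 2), y = 1 ∨ y = Multiplicative.ofAdd (1 : ZMod 2) := by decide
    rcases h0 x with rfl | rfl
    · exact one_mem _
    · have := spinorHom_refl_mem_range Q hQ hex hv
      rwa [sqClass_eq_one_of_two_eq_zero h2 (sqClass hv)] at this
  have : Subsingleton (SqClass F) :=
    ⟨fun a b => by rw [sqClass_eq_one_of_two_eq_zero h2 a, sqClass_eq_one_of_two_eq_zero h2 b]⟩
  rw [omega_eq_ker_spinorHom Q hQ hex, Subgroup.index_ker, MonoidHom.range_eq_top.2 hsurj,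
    Subgroup.card_top, Nat.card_prod, Nat.card_of_subsingleton (1 : SqClass F)]
  simp

theorem omega_le_special (Q : QuadraticForm F (ι → F)) :
    Cfsg.Omega F (⇑Q) ≤ Cfsg.specialIsometryGroup F (⇑Q) :=
  Abelianization.commutator_subset_ker _

/-- Every subgroup of index two of the special isometry group contains `Ω`. -/
theorem omega_le_of_index_two (Q : QuadraticForm F (ι → F))
    (hQ : (QuadraticMap.polarBilin Q).Nondegenerate)
    (hex : (∃ t : F, t ≠ 0 ∧ t ≠ 1) ∨ Module.finrank F (ι → F) ≠ 4)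
    (H : Subgroup (Cfsg.specialIsometryGroup F (⇑Q))) (hH : H.index = 2) :
    Cfsg.Omega F (⇑Q) ≤ H.map (Cfsg.specialIsometryGroup F (⇑Q)).subtype := by
  let D : Subgroup (Cfsg.isometryGroup F (⇑Q)) :=
    Subgroup.closure {x | ∃ s ∈ (Cfsg.specialIsometryGroup F (⇑Q)), x = s * s}
  have hDle : D ≤ H.map (Cfsg.specialIsometryGroup F (⇑Q)).subtype := by
    refine (Subgroup.closure_le _).2 ?_
    rintro _ ⟨s, hs, rfl⟩
    exact ⟨⟨s, hs⟩ * ⟨s, hs⟩, Subgroup.mul_self_mem_of_index_two hH _, rfl⟩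
  refine le_trans ?_ hDle
  have hn : D.Normal := by
    refine Subgroup.normalizer_eq_top_iff.1 (eq_top_iff.2 fun g _ => ?_)
    rw [Subgroup.mem_normalizer_iff_map_conj_eq, MonoidHom.map_closure]
    refine congrArg Subgroup.closure (Set.ext fun x => ⟨?_, ?_⟩)
    · rintro ⟨_, ⟨s, hs, rfl⟩, rfl⟩
      exact ⟨g * s * g⁻¹, (show (Cfsg.specialIsometryGroup F (⇑Q)).Normal from MonoidHom.normal_ker _).conj_mem s hs g, by simp⟩
    · rintro ⟨s, hs, rfl⟩
      refine ⟨(g⁻¹ * s * g) * (g⁻¹ * s * g), ⟨_, ?_, rfl⟩, by simp [mul_assoc]⟩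
      simpa using (show (Cfsg.specialIsometryGroup F (⇑Q)).Normal from MonoidHom.normal_ker _).conj_mem s hs g⁻¹
  -- reflections commute modulo `D`
  let π := QuotientGroup.mk' D
  have hcomm : ∀ a b : Cfsg.isometryGroup F (⇑Q), π a * π b = π b * π a := by
    have key : ∀ {u v : ι → F}, ∀ a b : Cfsg.isometryGroup F (⇑Q), Q u ≠ 0 → Q v ≠ 0 →
        ((a : Matrix.GeneralLinearGroup ι F) : Matrix ι ι F) = Cfsg.reflectionMatrix (⇑Q) u →
        ((b : Matrix.GeneralLinearGroup ι F) : Matrix ι ι F) = Cfsg.reflectionMatrix (⇑Q) v →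
        π a * π b = π b * π a := by
      intro u v a b hu hv ha hb
      have hinv : ∀ {w : ι → F} (c : Cfsg.isometryGroup F (⇑Q)), Q w ≠ 0 →
          ((c : Matrix.GeneralLinearGroup ι F) : Matrix ι ι F) = Cfsg.reflectionMatrix (⇑Q) w →
          c * c = 1 := fun {w} c hw hc => by
        have : c = orEquiv Q ⟨reflEquiv Q w hw, reflEquiv_mem Q w hw⟩ := by
          refine Subtype.ext (Units.ext ?_)
          rw [hc, orEquiv_coe, glOfEquiv_reflEquiv]
        rw [this, ← map_mul, ← map_one (orEquiv Q)]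
        exact congrArg _ (Subtype.ext (reflEquiv_mul_self Q w hw))
      have hab : a * b ∈ (Cfsg.specialIsometryGroup F (⇑Q)) := by
        show Matrix.GeneralLinearGroup.det ((a * b : Cfsg.isometryGroup F (⇑Q)) :
          Matrix.GeneralLinearGroup ι F) = 1
        refine Units.ext ?_
        rw [Subgroup.coe_mul, map_mul, Units.val_mul, Matrix.GeneralLinearGroup.val_det_apply,
          Matrix.GeneralLinearGroup.val_det_apply, ha, hb, det_reflectionMatrix Q hu,
          det_reflectionMatrix Q hv]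
        simp
      have h1 : π (a * b * (a * b)) = 1 :=
        (QuotientGroup.eq_one_iff _).2 (Subgroup.subset_closure ⟨_, hab, rfl⟩)
      have ha' : π a * π a = 1 := by rw [← map_mul, hinv a hu ha, map_one]
      have hb' : π b * π b = 1 := by rw [← map_mul, hinv b hv hb, map_one]
      rw [map_mul, map_mul] at h1
      calc π a * π b = π a * π b * (π a * π b * (π b * π a)) := by
            rw [mul_assoc (π a) (π b) (π b * π a), ← mul_assoc (π b), hb', one_mul, ha', mul_one]
        _ = (π a * π b * (π a * π b)) * (π b * π a) := by group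
        _ = π b * π a := by rw [h1, one_mul]
    intro a b
    have htop := closure_reflectionMatrix_eq_top Q hQ
      (by rwa [Module.finrank_fintype_fun_eq_card] at hex)
    have ha : a ∈ Subgroup.closure _ := htop.symm ▸ Subgroup.mem_top a
    have hb : b ∈ Subgroup.closure _ := htop.symm ▸ Subgroup.mem_top b
    refine Subgroup.closure_induction₂ (p := fun x y _ _ => Commute (π x) (π y)) ?_ ?_ ?_ ?_ ?_ ?_ ?_ ha hb
    · rintro x y ⟨u, hu, hx⟩ ⟨v, hv, hy⟩; exact key x y hu hv hx hy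
    · intro x _; rw [map_one]; exact Commute.one_left _
    · intro x _; rw [map_one]; exact Commute.one_right _
    · intro x y z _ _ _ h1 h2; rw [map_mul]; exact h1.mul_left h2
    · intro x y z _ _ _ h1 h2; rw [map_mul]; exact h1.mul_right h2
    · intro x y _ _ h1; rw [map_inv]; exact h1.inv_left
    · intro x y _ _ h1; rw [map_inv]; exact h1.inv_right
  show commutator _ ≤ D
  rw [commutator_def, Subgroup.commutator_le]
  intro a _ b _
  rw [← QuotientGroup.eq_one_iff, ← QuotientGroup.mk'_apply, map_commutatorElement]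
  exact commutatorElement_eq_one_iff_commute.2 (hcomm a b)

end CfsgLib.Geom
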