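import Mathlib
import Cfsg.Agent.Lib.Geom.OmegaIndex

set_option autoImplicit false

/-!
The spinor norm of `-1`: the discriminant of the form.
-/

namespace CfsgLib.Geom

open QuadraticMap (polar)

variable {F : Type*} [Field F] {ι : Type} [Fintype ι] [DecidableEq ι]

theorem spinorHom_prod_list (Q : QuadraticForm F (ι → F))
    (hQ : ∀ x, (∀ y, polar Q x y = 0) → x = 0)
    (hex : (∃ t : F, t ≠ 0 ∧ t ≠ 1) ∨ Module.finrank F (ι → F) ≠ 4)
    (L : List {v : ι → F // Q v ≠ 0}) (g : Cfsg.isometryGroup F (⇑Q))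
    (hg : ∀ z, ((g : Matrix.GeneralLinearGroup ι F) : Matrix ι ι F).mulVec z = reflWord Q L z) :
    spinorHom Q hQ hex g = wordVal Q L := by
  induction L generalizing g with
  | nil =>
    have : g = 1 := by
      refine Subtype.ext (Units.ext (Matrix.ext_iff_mulVec.2 fun z => ?_))
      rw [hg]; simp [reflWord]
    rw [this, map_one]
    rfl
  | cons v L ih =>
    obtain ⟨r, hr⟩ : ∃ r : Cfsg.isometryGroup F (⇑Q),
        r = orEquiv Q ⟨reflEquiv Q v.1 v.2, reflEquiv_mem Q v.1 v.2⟩ := ⟨_, rfl⟩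
    have hrm : ((r : Matrix.GeneralLinearGroup ι F) : Matrix ι ι F) = Cfsg.reflectionMatrix (⇑Q) v.1 := by
      rw [hr, orEquiv_coe, glOfEquiv_reflEquiv]
    have h := ih (r⁻¹ * g) fun z => by
      have e : g = r * (r⁻¹ * g) := (mul_inv_cancel_left r g).symm
      have h1 := hg z
      rw [e, Subgroup.coe_mul, Units.val_mul, ← Matrix.mulVec_mulVec, hrm, reflectionMatrix_mulVec,
        ← reflEquiv_apply Q v.1 v.2] at h1
      refine (reflEquiv Q v.1 v.2).injective ?_
      rw [h1]; simp [reflWord]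
    rw [show g = r * (r⁻¹ * g) from (mul_inv_cancel_left r g).symm, map_mul,
      spinorHom_refl Q hQ hex r v.2 hrm, h]
    rfl

/-- `-1` lies in `Ω` exactly when the dimension is even and the discriminant is a square. -/
theorem neg_one_mem_omega_iff [Finite F] (Q : QuadraticForm F (ι → F))
    (hQ : (QuadraticMap.polarBilin Q).Nondegenerate) (h2 : (2 : F) ≠ 0)
    (heven : Even (Fintype.card ι)) :
    (∃ g : Cfsg.isometryGroup F (⇑Q), g ∈ Cfsg.Omega F (⇑Q) ∧
      ((g : Matrix.GeneralLinearGroup ι F) : Matrix ι ι F) = -1) ↔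
    IsSquare (LinearMap.toMatrix₂' F Q.polarBilin).det := by
  classical
  have hsep := sep_of_nondegenerate Q hQ
  have hex : (∃ t : F, t ≠ 0 ∧ t ≠ 1) ∨ Module.finrank F (ι → F) ≠ 4 := exGen_of_odd h2
  have : Invertible (2 : F) := invertibleOfNonzero h2
  obtain ⟨b, hb⟩ := LinearMap.BilinForm.exists_orthogonal_basis
    (B := Q.polarBilin) ⟨fun x y => QuadraticMap.polar_comm Q x y⟩
  have hb' : ∀ i j, i ≠ j → polar Q (b i) (b j) = 0 := fun i j hij => hb hij
  have hbQ : ∀ i, Q (b i) ≠ 0 := by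
    intro i hi
    refine b.ne_zero i (hsep (b i) ?_)
    have : Q.polarBilin (b i) = 0 := b.ext fun j => by
      by_cases hij : i = j
      · subst hij; simp [hi]
      · simpa using hb' i j hij
    exact fun y => LinearMap.congr_fun this y
  obtain ⟨L, hL⟩ : ∃ L : List {v : ι → F // Q v ≠ 0}, L = List.ofFn fun i => ⟨b i, hbQ i⟩ := ⟨_, rfl⟩
  -- the product of the orthogonal reflections is `-1`
  have hgen : ∀ (l : List (Fin (Module.finrank F (ι → F)))), l.Nodup → ∀ j,
      reflWord Q (l.map fun i => ⟨b i, hbQ i⟩) (b j) = if j ∈ l then -b j else b j := by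
    intro l
    induction l with
    | nil => intro _ j; simp [reflWord]
    | cons i l ih =>
      intro hnd j
      rw [List.nodup_cons] at hnd
      rw [List.map_cons, show ∀ (v : {v : ι → F // Q v ≠ 0}) M, reflWord Q (v :: M) =
        reflEquiv Q v.1 v.2 * reflWord Q M from fun v M => by simp [reflWord],
        LinearEquiv.mul_apply, ih hnd.2]
      by_cases hij : j = i
      · subst hij
        simp [hnd.1, reflEquiv_self]
      · have h0 : polar Q (b i) (b j) = 0 := hb' i j (Ne.symm hij)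
        by_cases hjl : j ∈ l
        · simp [hjl, reflEquiv_fix _ _ _ h0]
        · simp [hjl, hij, reflEquiv_fix _ _ _ h0]
  have hneg : ∀ z, reflWord Q L z = -z := by
    intro z
    have : (reflWord Q L).toLinearMap = -LinearMap.id := b.ext fun j => by
      have h := hgen (List.finRange _) (List.nodup_finRange _) j
      rw [if_pos (List.mem_finRange j), ← List.ofFn_eq_map, ← hL] at h
      simpa using h
    exact LinearMap.congr_fun this z
  have hprod : (L.map fun v => Q v.1).prod = ∏ i, Q (b i) := by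
    rw [hL, List.map_ofFn, List.prod_ofFn]; rfl
  have hlen : L.length = Fintype.card ι := by
    rw [hL, List.length_ofFn, Module.finrank_fintype_fun_eq_card]
  have hpne : (∏ i, Q (b i)) ≠ 0 := Finset.prod_ne_zero_iff.2 fun i _ => hbQ i
  -- the discriminant
  obtain ⟨e, -⟩ : ∃ _e : Fin (Module.finrank F (ι → F)) ≃ ι, True :=
    ⟨(Fintype.equivFinOfCardEq (Module.finrank_fintype_fun_eq_card F).symm).symm, trivial⟩
  obtain ⟨s, hs0, hs⟩ : ∃ s : F, s ≠ 0 ∧
      (LinearMap.toMatrix₂' F Q.polarBilin).det * (s * s) = 2 ^ Fintype.card ι * ∏ i, Q (b i) := by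
    let M : Matrix ι ι F := Matrix.of fun r c => b (e.symm c) r
    have hMv : ∀ c, M.mulVec (Pi.single c 1) = b (e.symm c) := fun c => by
      funext r; simp [M]
    have h1 := LinearMap.toMatrix₂'_compl₁₂ (R := F) Q.polarBilin (Matrix.toLin' M) (Matrix.toLin' M)
    rw [LinearMap.toMatrix'_toLin'] at h1
    have h3 : LinearMap.toMatrix₂' F (Q.polarBilin.compl₁₂ (Matrix.toLin' M) (Matrix.toLin' M)) =
        Matrix.diagonal fun c => 2 * Q (b (e.symm c)) := by
      ext i j
      rw [LinearMap.toMatrix₂'_apply, LinearMap.compl₁₂_apply, Matrix.toLin'_apply, Matrix.toLin'_apply,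
        hMv, hMv, QuadraticMap.polarBilin_apply_apply]
      by_cases hij : i = j
      · subst hij; rw [polar_self_two, Matrix.diagonal_apply_eq]
      · rw [Matrix.diagonal_apply_ne _ hij]
        exact hb' _ _ fun h => hij (e.symm.injective h)
    rw [h3] at h1
    have h4 := congrArg Matrix.det h1
    rw [Matrix.det_diagonal, Matrix.det_mul, Matrix.det_mul, Matrix.det_transpose] at h4
    refine ⟨M.det, fun h0 => ?_, ?_⟩
    · rw [h0, mul_zero, Finset.prod_eq_zero_iff] at h4
      obtain ⟨c, -, hc⟩ := h4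
      exact mul_ne_zero h2 (hbQ _) hc
    · rw [Finset.prod_mul_distrib, Finset.prod_const, Finset.card_univ] at h4
      rw [← e.symm.prod_comp fun i => Q (b i)]
      linear_combination -h4
  have hiff : IsSquare (LinearMap.toMatrix₂' F Q.polarBilin).det ↔ IsSquare (∏ i, Q (b i)) := by
    obtain ⟨k, hk⟩ := heven
    rw [hk, pow_add] at hs
    constructor
    · rintro ⟨r, hr⟩
      refine ⟨r * s / 2 ^ k, ?_⟩
      rw [hr] at hs
      field_simp
      linear_combination -hs
    · rintro ⟨r, hr⟩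
      refine ⟨2 ^ k * r / s, ?_⟩
      rw [hr] at hs
      field_simp
      linear_combination hs
  rw [hiff]
  have hval : ∀ g : Cfsg.isometryGroup F (⇑Q),
      ((g : Matrix.GeneralLinearGroup ι F) : Matrix ι ι F) = -1 →
      (g ∈ Cfsg.Omega F (⇑Q) ↔ IsSquare (∏ i, Q (b i))) := by
    intro g hg
    rw [omega_eq_ker_spinorHom Q hsep hex, MonoidHom.mem_ker,
      spinorHom_prod_list Q hsep hex L g (fun z => by rw [hg, hneg]; simp [Matrix.neg_mulVec])]
    have hp : (L.map fun v => Q v.1).prod ≠ 0 := by rw [hprod]; exact hpne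
    have hval' : ∀ M : List {v : ι → F // Q v ≠ 0}, ∀ hp : (M.map fun v => Q v.1).prod ≠ 0,
        wordVal Q M = (Multiplicative.ofAdd (M.length : ZMod 2), sqClass hp) := by
      intro M
      induction M with
      | nil => intro hp; exact Prod.ext rfl ((sqClass_eq_one_iff hp).2 ⟨1, by simp⟩).symm
      | cons v M ih =>
        intro hp
        have hp' : (M.map fun v => Q v.1).prod ≠ 0 := fun h => hp (by
          rw [List.map_cons, List.prod_cons, h, mul_zero])
        rw [wordVal, List.map_cons, List.prod_cons, ← wordVal, ih hp']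
        refine Prod.ext ?_ ?_
        · show Multiplicative.ofAdd (1 : ZMod 2) * Multiplicative.ofAdd (M.length : ZMod 2) = _
          rw [← ofAdd_add, List.length_cons, Nat.cast_succ, add_comm]
        · show sqClass v.2 * sqClass hp' = _
          rw [← sqClass_mul]
          rfl
    rw [hval' L hp, hlen, ZMod.natCast_eq_zero_iff_even.2 heven, Prod.mk_eq_one, sqClass_eq_one_iff,
      hprod]
    exact and_iff_right rfl
  constructor
  · rintro ⟨g, hg, hgm⟩
    exact (hval g hgm).1 hg
  · intro hsq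
    refine ⟨⟨-1, fun u _ => ?_⟩, (hval _ ?_).2 hsq, ?_⟩
    · show Q (((-1 : Matrix.GeneralLinearGroup ι F) : Matrix ι ι F).mulVec u) = Q u
      simp [Matrix.neg_mulVec]
    · simp
    · simp

theorem even_pow_mod_four {q m : ℕ} (hodd : Odd q) :
    (q ^ m % 4 = 1 ↔ (q % 4 = 1 ∨ Even m)) ∧ (q ^ m % 4 = 3 ↔ (q % 4 = 3 ∧ Odd m)) := by
  have h : q % 4 = 1 ∨ q % 4 = 3 := by rcases hodd with ⟨k, rfl⟩; omega
  rcases h with h | h
  · rw [Nat.pow_mod, h]; simp
  · rcases Nat.even_or_odd m with ⟨k, rfl⟩ | ⟨k, rfl⟩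
    · rw [Nat.pow_mod, h, ← two_mul, pow_mul, Nat.pow_mod]
      simp
    · rw [Nat.pow_mod, h, pow_succ, pow_mul, Nat.mul_mod, Nat.pow_mod]
      simp

theorem isSquare_neg_one_pow_iff [Fintype F] (h2 : (2 : F) ≠ 0) (m : ℕ) :
    IsSquare ((-1 : F) ^ m) ↔ Fintype.card F ^ m % 4 = 1 := by
  have hodd : Odd (Fintype.card F) :=
    Nat.odd_iff.2 (FiniteField.odd_card_of_char_ne_two (ringChar_ne_two_of_ne h2))
  rw [(even_pow_mod_four (m := m) hodd).1]
  rcases Nat.even_or_odd m with hm | hm
  · simp [hm, hm.neg_one_pow]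
  · rw [hm.neg_one_pow, FiniteField.isSquare_neg_one_iff]
    have := Nat.odd_iff.1 hodd
    constructor
    · intro h; exact Or.inl (by omega)
    · rintro (h | h)
      · omega
      · exact absurd h (Nat.not_even_iff_odd.2 hm)

end CfsgLib.Geom
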