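import Mathlib
import Cfsg.Prelude.Def_ClassicalGeometry

set_option autoImplicit false

/-!
The standard forms of `Def_Classical` as quadratic forms, with their polar forms and discriminants.
-/

namespace CfsgLib.Geom

open QuadraticMap (polar)
open Matrix

variable {F : Type*} [Field F]

/-- `quadFormPlus` as a quadratic form. -/
def plusForm (m : ℕ) (F : Type*) [Field F] : QuadraticForm F (Fin m ⊕ Fin m → F) :=
  ∑ i : Fin m, QuadraticMap.linMulLin (LinearMap.proj (Sum.inl i)) (LinearMap.proj (Sum.inr i))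

theorem plusForm_coe (m : ℕ) : ⇑(plusForm m F) = Cfsg.quadFormPlus m F := by
  funext v
  simp [plusForm, Cfsg.quadFormPlus]

theorem plusForm_apply (m : ℕ) (v : Fin m ⊕ Fin m → F) :
    plusForm m F v = ∑ i : Fin m, v (Sum.inl i) * v (Sum.inr i) := by
  simp [plusForm]

theorem plusForm_polar (m : ℕ) (u v : Fin m ⊕ Fin m → F) :
    polar (plusForm m F) u v =
      ∑ i : Fin m, (u (Sum.inl i) * v (Sum.inr i) + u (Sum.inr i) * v (Sum.inl i)) := by
  simp only [QuadraticMap.polar, plusForm_apply, ← Finset.sum_sub_distrib, Pi.add_apply]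
  exact Finset.sum_congr rfl fun i _ => by ring

/-- The binary form `z₁² + a z₁ z₂ + b z₂²` on two coordinates. -/
def binForm (a b : F) : QuadraticForm F (Fin 2 → F) :=
  QuadraticMap.linMulLin (LinearMap.proj 0) (LinearMap.proj 0) +
    a • QuadraticMap.linMulLin (LinearMap.proj 0) (LinearMap.proj 1) +
    b • QuadraticMap.linMulLin (LinearMap.proj 1) (LinearMap.proj 1)

theorem binForm_apply (a b : F) (z : Fin 2 → F) :
    binForm a b z = z 0 ^ 2 + a * z 0 * z 1 + b * z 1 ^ 2 := by
  simp [binForm]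
  ring

theorem binForm_polar (a b : F) (u v : Fin 2 → F) :
    polar (binForm a b) u v =
      2 * (u 0 * v 0) + a * (u 0 * v 1 + u 1 * v 0) + 2 * (b * (u 1 * v 1)) := by
  simp only [QuadraticMap.polar, binForm_apply, Pi.add_apply]
  ring

/-- `quadFormMinus` as a quadratic form. -/
def minusForm (m : ℕ) (F : Type*) [Field F] (a b : F) :
    QuadraticForm F ((Fin m ⊕ Fin m) ⊕ Fin 2 → F) :=
  (plusForm m F).comp (LinearMap.funLeft F F Sum.inl) + (binForm a b).comp (LinearMap.funLeft F F Sum.inr)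

theorem minusForm_apply (m : ℕ) (a b : F) (v : (Fin m ⊕ Fin m) ⊕ Fin 2 → F) :
    minusForm m F a b v =
      plusForm m F (fun i => v (Sum.inl i)) + binForm a b (fun i => v (Sum.inr i)) := rfl

theorem minusForm_coe (m : ℕ) (a b : F) : ⇑(minusForm m F a b) = Cfsg.quadFormMinus m F a b := by
  funext v
  rw [minusForm_apply, plusForm_apply, binForm_apply]
  rfl

theorem minusForm_polar (m : ℕ) (a b : F) (u v : (Fin m ⊕ Fin m) ⊕ Fin 2 → F) :
    polar (minusForm m F a b) u v =
      polar (plusForm m F) (fun i => u (Sum.inl i)) (fun i => v (Sum.inl i)) +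
        polar (binForm a b) (fun i => u (Sum.inr i)) (fun i => v (Sum.inr i)) := by
  simp only [QuadraticMap.polar, minusForm_apply]
  rw [show (fun i => (u + v) (Sum.inl i)) = (fun i => u (Sum.inl i)) + fun i => v (Sum.inl i) from rfl,
    show (fun i => (u + v) (Sum.inr i)) = (fun i => u (Sum.inr i)) + fun i => v (Sum.inr i) from rfl]
  ring

/-- The Gram matrix of the polar form of `plusForm`. -/
theorem plusForm_gram (m : ℕ) :
    LinearMap.toMatrix₂' F (plusForm m F).polarBilin =
      Matrix.fromBlocks (0 : Matrix (Fin m) (Fin m) F) 1 1 0 := by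
  ext i j
  rw [LinearMap.toMatrix₂'_apply, QuadraticMap.polarBilin_apply_apply, plusForm_polar]
  rcases i with i | i <;> rcases j with j | j <;>
    simp [Pi.single_apply, Matrix.one_apply, eq_comm]

theorem det_fromBlocks_swap (m : ℕ) :
    (Matrix.fromBlocks (0 : Matrix (Fin m) (Fin m) F) (1 : Matrix (Fin m) (Fin m) F)
      (1 : Matrix (Fin m) (Fin m) F) 0).det = (-1) ^ m := by
  have h : Matrix.fromBlocks (0 : Matrix (Fin m) (Fin m) F) (1 : Matrix (Fin m) (Fin m) F)
      (1 : Matrix (Fin m) (Fin m) F) 0 =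
      Matrix.J (Fin m) F * Matrix.fromBlocks 1 0 0 (-1) := by
    rw [Matrix.J, Matrix.fromBlocks_multiply]; simp
  rw [h, Matrix.det_mul, SymplecticGroup.det_eq_one (SymplecticGroup.J_mem (Fin m) F), one_mul,
    Matrix.det_fromBlocks_zero₁₂, Matrix.det_one, one_mul, Matrix.det_neg, Matrix.det_one, mul_one,
    Fintype.card_fin]

theorem plusForm_disc (m : ℕ) :
    (LinearMap.toMatrix₂' F (plusForm m F).polarBilin).det = (-1) ^ m := by
  rw [plusForm_gram, det_fromBlocks_swap]

theorem minusForm_disc (m : ℕ) (a b : F) :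
    (LinearMap.toMatrix₂' F (minusForm m F a b).polarBilin).det = (-1) ^ m * (4 * b - a * a) := by
  have h : LinearMap.toMatrix₂' F (minusForm m F a b).polarBilin =
      Matrix.fromBlocks (LinearMap.toMatrix₂' F (plusForm m F).polarBilin) 0 0
        (LinearMap.toMatrix₂' F (binForm a b).polarBilin) := by
    ext i j
    simp only [LinearMap.toMatrix₂'_apply, QuadraticMap.polarBilin_apply_apply, minusForm_polar]
    rcases i with i | i <;> rcases j with j | j <;>
      simp [LinearMap.toMatrix₂'_apply, Pi.single_apply, ← Pi.zero_def] <;>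
      congr 1 <;> ext k <;> simp [Pi.single_apply, eq_comm]
  rw [h, Matrix.det_fromBlocks_zero₁₂, plusForm_disc, Matrix.det_fin_two]
  simp only [LinearMap.toMatrix₂'_apply, QuadraticMap.polarBilin_apply_apply, binForm_polar]
  simp
  ring

theorem plusForm_nondeg (m : ℕ) :
    (QuadraticMap.polarBilin (plusForm m F)).Nondegenerate :=
  LinearMap.nondegenerate_toMatrix₂'_iff.1 (Matrix.nondegenerate_iff_det_ne_zero.2
    (by rw [plusForm_disc]; exact pow_ne_zero _ (neg_ne_zero.2 one_ne_zero)))

/-- In odd characteristic an anisotropic binary form has `a² - 4b` a non-square. -/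
theorem not_isSquare_disc (h2 : (2 : F) ≠ 0) (a b : F)
    (hab : ∀ z₁ z₂ : F, z₁ ^ 2 + a * z₁ * z₂ + b * z₂ ^ 2 = 0 → z₁ = 0 ∧ z₂ = 0) :
    ¬ IsSquare (a * a - 4 * b) := by
  rintro ⟨r, hr⟩
  have := (hab (r - a) 2 (by linear_combination -hr)).2
  exact h2 this

theorem minusForm_nondeg (h2 : (2 : F) ≠ 0) (m : ℕ) (a b : F)
    (hab : ∀ z₁ z₂ : F, z₁ ^ 2 + a * z₁ * z₂ + b * z₂ ^ 2 = 0 → z₁ = 0 ∧ z₂ = 0) :
    (QuadraticMap.polarBilin (minusForm m F a b)).Nondegenerate :=
  LinearMap.nondegenerate_toMatrix₂'_iff.1 (Matrix.nondegenerate_iff_det_ne_zero.2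
    (by
      rw [minusForm_disc]
      refine mul_ne_zero (pow_ne_zero _ (neg_ne_zero.2 one_ne_zero)) fun h => not_isSquare_disc h2 a b hab ?_
      exact ⟨0, by linear_combination -h⟩))

end CfsgLib.Geom
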