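import Mathlib
import Cfsg.Prelude.Def_ClassicalGeometry
import Cfsg.Agent.Lib.Geom.WittSesq

set_option autoImplicit false

/-!
The symplectic group of Mathlib as the isometry group of `sympForm`.
-/

namespace CfsgLib.Geom

open Matrix

variable {F : Type*} [Field F] {m : ℕ}

/-- `sympForm` as a bilinear map. -/
noncomputable def sympBilin (m : ℕ) (F : Type*) [Field F] :
    (Fin m ⊕ Fin m → F) →ₗ[F] (Fin m ⊕ Fin m → F) →ₗ[F] F :=
  Matrix.toBilin' (Matrix.J (Fin m) F)

theorem sympBilin_apply (u v : Fin m ⊕ Fin m → F) :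
    sympBilin m F u v = Cfsg.sympForm m F u v :=
  Matrix.toBilin'_apply' _ _ _

theorem J_mulVec_inl (v : Fin m ⊕ Fin m → F) (i : Fin m) :
    (Matrix.J (Fin m) F *ᵥ v) (Sum.inl i) = -v (Sum.inr i) := by
  simp [Matrix.J, Matrix.fromBlocks_mulVec, Matrix.neg_mulVec]

theorem J_mulVec_inr (v : Fin m ⊕ Fin m → F) (i : Fin m) :
    (Matrix.J (Fin m) F *ᵥ v) (Sum.inr i) = v (Sum.inl i) := by
  simp [Matrix.J, Matrix.fromBlocks_mulVec]

theorem sympForm_eq_sum (u v : Fin m ⊕ Fin m → F) :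
    Cfsg.sympForm m F u v =
      ∑ i : Fin m, (u (Sum.inr i) * v (Sum.inl i) - u (Sum.inl i) * v (Sum.inr i)) := by
  simp only [Cfsg.sympForm, dotProduct, Fintype.sum_sum_type, J_mulVec_inl, J_mulVec_inr,
    ← Finset.sum_add_distrib]
  exact Finset.sum_congr rfl fun i _ => by ring

theorem sympBilin_self (v : Fin m ⊕ Fin m → F) : sympBilin m F v v = 0 := by
  rw [sympBilin_apply, sympForm_eq_sum]
  exact Finset.sum_eq_zero fun i _ => by ring

theorem sympBilin_swap (u v : Fin m ⊕ Fin m → F) : sympBilin m F v u = -sympBilin m F u v :=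
  alt_swap _ sympBilin_self u v

theorem sympBilin_sep (x : Fin m ⊕ Fin m → F) (hx : ∀ y, sympBilin m F x y = 0) : x = 0 := by
  funext i
  rcases i with i | i
  · have h := hx (Pi.single (Sum.inr i) 1)
    rw [sympBilin_apply, sympForm_eq_sum] at h
    simpa [Pi.single_apply] using h
  · have h := hx (Pi.single (Sum.inl i) 1)
    rw [sympBilin_apply, sympForm_eq_sum] at h
    simpa [Pi.single_apply] using h

/-- Membership in the symplectic group is preservation of `sympForm`. -/
theorem mem_symplecticGroup_iff_form (A : Matrix (Fin m ⊕ Fin m) (Fin m ⊕ Fin m) F) :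
    A ∈ Matrix.symplecticGroup (Fin m) F ↔
      ∀ u v, Cfsg.sympForm m F (A *ᵥ u) (A *ᵥ v) = Cfsg.sympForm m F u v := by
  have h1 : ∀ u v, Cfsg.sympForm m F (A *ᵥ u) (A *ᵥ v) =
      u ⬝ᵥ ((Aᵀ * Matrix.J (Fin m) F * A) *ᵥ v) := fun u v => by
    rw [Cfsg.sympForm, Matrix.mulVec_mulVec, ← Matrix.vecMul_transpose,
      ← Matrix.dotProduct_mulVec, Matrix.mulVec_mulVec, Matrix.mul_assoc]
  rw [SymplecticGroup.mem_iff']
  constructor
  · intro hA u v
    rw [h1, hA]
    rfl
  · intro h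
    ext i j
    have := (h1 (Pi.single i 1) (Pi.single j 1)).symm.trans (h _ _)
    simpa [Cfsg.sympForm] using this

theorem spToLin_mem (A : Matrix.symplecticGroup (Fin m) F) (u v : Fin m ⊕ Fin m → F) :
    sympBilin m F ((A : Matrix (Fin m ⊕ Fin m) (Fin m ⊕ Fin m) F) *ᵥ u)
      ((A : Matrix (Fin m ⊕ Fin m) (Fin m ⊕ Fin m) F) *ᵥ v) = sympBilin m F u v := by
  simp only [sympBilin_apply]
  exact (mem_symplecticGroup_iff_form _).1 A.2 u v

theorem toMatrix'_mem_sp {g : (Fin m ⊕ Fin m → F) ≃ₗ[F] (Fin m ⊕ Fin m → F)}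
    (hg : g ∈ formIsoms (sympBilin m F)) :
    LinearMap.toMatrix' (g : (Fin m ⊕ Fin m → F) →ₗ[F] (Fin m ⊕ Fin m → F)) ∈
      Matrix.symplecticGroup (Fin m) F := by
  rw [mem_symplecticGroup_iff_form]
  intro u v
  rw [LinearMap.toMatrix'_mulVec, LinearMap.toMatrix'_mulVec]
  simpa [sympBilin_apply] using hg u v

/-- From isometries of `sympForm` to symplectic matrices. -/
noncomputable def spHom (m : ℕ) (F : Type*) [Field F] :
    formIsoms (sympBilin m F) →* Matrix.symplecticGroup (Fin m) F where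
  toFun g := ⟨_, toMatrix'_mem_sp g.2⟩
  map_one' := Subtype.ext (by
    show LinearMap.toMatrix' (LinearMap.id : (Fin m ⊕ Fin m → F) →ₗ[F] _) = 1
    exact LinearMap.toMatrix'_id)
  map_mul' g h := Subtype.ext (LinearMap.toMatrix'_comp _ _)

theorem spHom_mulVec (g : formIsoms (sympBilin m F)) (v : Fin m ⊕ Fin m → F) :
    ((spHom m F g : Matrix.symplecticGroup (Fin m) F) :
      Matrix (Fin m ⊕ Fin m) (Fin m ⊕ Fin m) F) *ᵥ v =
      (g : (Fin m ⊕ Fin m → F) ≃ₗ[F] (Fin m ⊕ Fin m → F)) v :=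
  LinearMap.toMatrix'_mulVec
    ((g : (Fin m ⊕ Fin m → F) ≃ₗ[F] (Fin m ⊕ Fin m → F)).toLinearMap) v

theorem spHom_bijective : Function.Bijective (spHom m F) := by
  refine ⟨fun g h e => Subtype.ext (LinearEquiv.ext fun v => ?_), fun A => ?_⟩
  · rw [← spHom_mulVec, ← spHom_mulVec, e]
  · obtain ⟨g, hg, hgA⟩ := exists_mem_formIsoms (sympBilin m F) sympBilin_sep
      (Matrix.toLin' (A : Matrix (Fin m ⊕ Fin m) (Fin m ⊕ Fin m) F))
      (fun u v => by simpa using spToLin_mem A u v)
    refine ⟨⟨g, hg⟩, Subtype.ext (Matrix.toLin'.injective (LinearMap.ext fun v => ?_))⟩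
    simp only [Matrix.toLin'_apply]
    rw [spHom_mulVec]
    simpa using hgA v

/-- The isometry group of `sympForm` is the symplectic group. -/
noncomputable def spEquiv (m : ℕ) (F : Type*) [Field F] :
    formIsoms (sympBilin m F) ≃* Matrix.symplecticGroup (Fin m) F :=
  MulEquiv.ofBijective (spHom m F) spHom_bijective

theorem spEquiv_mulVec (g : formIsoms (sympBilin m F)) (v : Fin m ⊕ Fin m → F) :
    ((spEquiv m F g : Matrix.symplecticGroup (Fin m) F) :
      Matrix (Fin m ⊕ Fin m) (Fin m ⊕ Fin m) F) *ᵥ v =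
      (g : (Fin m ⊕ Fin m → F) ≃ₗ[F] (Fin m ⊕ Fin m → F)) v :=
  spHom_mulVec g v

theorem sympTransvection_mulVec (v x : Fin m ⊕ Fin m → F) (c : F) :
    Cfsg.sympTransvection m v c *ᵥ x = x + (c * sympBilin m F x v) • v := by
  rw [Cfsg.sympTransvection, Matrix.add_mulVec, Matrix.one_mulVec, Matrix.smul_mulVec,
    Matrix.vecMulVec_mulVec, sympBilin_apply, Cfsg.sympForm, dotProduct_comm x]
  ext i
  simp [mul_assoc]

theorem sympTransvection_mem (v : Fin m ⊕ Fin m → F) (c : F) :
    Cfsg.sympTransvection m v c ∈ Matrix.symplecticGroup (Fin m) F := by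
  rw [mem_symplecticGroup_iff_form]
  intro x y
  simp only [← sympBilin_apply, sympTransvection_mulVec, ← altTransvection_apply]
  exact altTransvection_preserves _ sympBilin_self v c x y

/-- The symplectic group is generated by transvections. -/
theorem closure_sympTransvection (m : ℕ) :
    Subgroup.closure {A : Matrix.symplecticGroup (Fin m) F | ∃ (w : Fin m ⊕ Fin m → F) (c : F),
      (A : Matrix (Fin m ⊕ Fin m) (Fin m ⊕ Fin m) F) = Cfsg.sympTransvection m w c} = ⊤ := by
  set S := {A : Matrix.symplecticGroup (Fin m) F | ∃ (w : Fin m ⊕ Fin m → F) (c : F),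
      (A : Matrix (Fin m ⊕ Fin m) (Fin m ⊕ Fin m) F) = Cfsg.sympTransvection m w c}
  rw [eq_top_iff]
  intro A _
  obtain ⟨⟨g, hg⟩, rfl⟩ := (spEquiv m F).surjective A
  have hle := altTransvectionSet_closure_le (sympBilin m F) sympBilin_self
  have key : ∀ t ∈ Subgroup.closure (altTransvectionSet (sympBilin m F)),
      ∀ (ht : t ∈ formIsoms (sympBilin m F)), spEquiv m F ⟨t, ht⟩ ∈ Subgroup.closure S := by
    intro t ht
    induction ht using Subgroup.closure_induction with
    | mem t ht =>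
      intro ht'
      obtain ⟨p, c, hpc⟩ := ht
      refine Subgroup.subset_closure ⟨p, c, ?_⟩
      refine Matrix.toLin'.injective (LinearMap.ext fun x => ?_)
      simp only [Matrix.toLin'_apply]
      rw [spEquiv_mulVec, sympTransvection_mulVec]
      exact hpc x
    | one =>
      intro h1
      rw [show (⟨1, h1⟩ : formIsoms (sympBilin m F)) = 1 from rfl, map_one]
      exact one_mem _
    | mul a b ha hb iha ihb =>
      intro hab
      rw [show (⟨a * b, hab⟩ : formIsoms (sympBilin m F)) = ⟨a, hle ha⟩ * ⟨b, hle hb⟩ from rfl,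
        map_mul]
      exact mul_mem (iha _) (ihb _)
    | inv a ha iha =>
      intro hab
      rw [show (⟨a⁻¹, hab⟩ : formIsoms (sympBilin m F)) = (⟨a, hle ha⟩)⁻¹ from rfl, map_inv]
      exact inv_mem (iha _)
  exact key g (by rw [← formIsoms_eq_closure_alt _ sympBilin_self sympBilin_sep]; exact hg) hg

end CfsgLib.Geom
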