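import Mathlib
import Cfsg.Agent.Lib.Geom.Perp

set_option autoImplicit false

/-!
Symplectic spaces: hyperbolic-plane decomposition, uniqueness, and uniqueness with a complex structure over a
finite field of odd characteristic.
-/

namespace CfsgLib.Geom

variable {F V : Type*} [Field F] [AddCommGroup V] [Module F V]

/-- Orthogonal complement of the pair `u, v`. -/
def pairPerp (B : V →ₗ[F] V →ₗ[F] F) (u v : V) : Submodule F V :=
  LinearMap.ker (B u) ⊓ LinearMap.ker (B v)

theorem mem_pairPerp {B : V →ₗ[F] V →ₗ[F] F} {u v w : V} :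
    w ∈ pairPerp B u v ↔ B u w = 0 ∧ B v w = 0 := Iff.rfl

theorem alt_neg_swap (B : V →ₗ[F] V →ₗ[F] F) (hA : ∀ v, B v v = 0) (u v : V) :
    B v u = -B u v := by
  have h := hA (u + v)
  simp only [map_add, LinearMap.add_apply, hA] at h
  linear_combination h

/-- A vector is a combination of a hyperbolic pair and an orthogonal vector. -/
theorem exists_pair_decomp (B : V →ₗ[F] V →ₗ[F] F) (hA : ∀ v, B v v = 0) {u v : V} (huv : B u v = 1)
    (z : V) : z - (-B v z) • u - B u z • v ∈ pairPerp B u v := by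
  have hvu : B v u = -1 := by rw [alt_neg_swap B hA u v, huv]
  constructor <;>
    simp only [SetLike.mem_coe, LinearMap.mem_ker, map_sub, map_smul, hA, huv, hvu, smul_eq_mul] <;> ring

/-- The decomposition along a hyperbolic pair. -/
noncomputable def pairEquiv (B : V →ₗ[F] V →ₗ[F] F) (hA : ∀ v, B v v = 0) {u v : V}
    (huv : B u v = 1) : ((F × F) × pairPerp B u v) ≃ₗ[F] V :=
  LinearEquiv.ofBijective
    (((LinearMap.toSpanSingleton F V u).coprod (LinearMap.toSpanSingleton F V v)).coprod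
      (pairPerp B u v).subtype)
    (by
      have hvu : B v u = -1 := by rw [alt_neg_swap B hA u v, huv]
      constructor
      · rw [← LinearMap.ker_eq_bot, Submodule.eq_bot_iff]
        rintro ⟨⟨a, b⟩, w⟩ h
        simp only [LinearMap.mem_ker, LinearMap.coprod_apply, LinearMap.toSpanSingleton_apply,
          Submodule.subtype_apply] at h
        have h1 := congrArg (B u) h
        have h2 := congrArg (B v) h
        simp [hA, huv, hvu, (mem_pairPerp.1 w.2).1, (mem_pairPerp.1 w.2).2] at h1 h2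
        subst h1; subst h2
        simpa using h
      · intro z
        exact ⟨((-B v z, B u z), ⟨_, exists_pair_decomp B hA huv z⟩), by simp⟩)

theorem pairEquiv_apply (B : V →ₗ[F] V →ₗ[F] F) (hA : ∀ v, B v v = 0) {u v : V} (huv : B u v = 1)
    (a b : F) (w : pairPerp B u v) :
    pairEquiv B hA huv ((a, b), w) = a • u + b • v + (w : V) := by
  rfl

theorem form_pairEquiv (B : V →ₗ[F] V →ₗ[F] F) (hA : ∀ v, B v v = 0) {u v : V} (huv : B u v = 1)
    (x y : (F × F) × pairPerp B u v) :
    B (pairEquiv B hA huv x) (pairEquiv B hA huv y) =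
      x.1.1 * y.1.2 - x.1.2 * y.1.1 + B x.2 y.2 := by
  obtain ⟨⟨a, b⟩, w⟩ := x
  obtain ⟨⟨a', b'⟩, w'⟩ := y
  have hvu : B v u = -1 := by rw [alt_neg_swap B hA u v, huv]
  have h1 := mem_pairPerp.1 w.2
  have h2 := mem_pairPerp.1 w'.2
  have h3 : B (w : V) u = 0 ∧ B (w : V) v = 0 :=
    ⟨by rw [alt_neg_swap B hA u, h1.1, neg_zero], by rw [alt_neg_swap B hA v, h1.2, neg_zero]⟩
  simp only [pairEquiv_apply, map_add, map_smul, LinearMap.add_apply, LinearMap.smul_apply, smul_eq_mul,
    hA u, hA v, huv, hvu, h2.1, h2.2, h3.1, h3.2]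
  ring

theorem sep_pairPerp (B : V →ₗ[F] V →ₗ[F] F) (hA : ∀ v, B v v = 0)
    (hB : ∀ x, (∀ y, B x y = 0) → x = 0) {u v : V} (huv : B u v = 1) (x : pairPerp B u v)
    (hx : ∀ y : pairPerp B u v, B (x : V) (y : V) = 0) : x = 0 := by
  refine Subtype.ext (hB _ fun z => ?_)
  obtain ⟨⟨⟨a, b⟩, w⟩, rfl⟩ := (pairEquiv B hA huv).surjective z
  have h := form_pairEquiv B hA huv ((0, 0), x) ((a, b), w)
  rw [pairEquiv_apply] at h
  simp [hx w] at h
  exact h

theorem finrank_pairPerp [FiniteDimensional F V] (B : V →ₗ[F] V →ₗ[F] F) (hA : ∀ v, B v v = 0)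
    {u v : V} (huv : B u v = 1) :
    Module.finrank F (pairPerp B u v) + 2 = Module.finrank F V := by
  rw [← (pairEquiv B hA huv).finrank_eq, Module.finrank_prod, Module.finrank_prod,
    Module.finrank_self]
  ring

theorem exists_hyperbolic [Nontrivial V] (B : V →ₗ[F] V →ₗ[F] F)
    (hB : ∀ x, (∀ y, B x y = 0) → x = 0) : ∃ u v, B u v = 1 := by
  obtain ⟨u, hu⟩ := exists_ne (0 : V)
  obtain ⟨v, hv⟩ : ∃ v, B u v ≠ 0 := by
    by_contra h
    push Not at h
    exact hu (hB u h)
  exact ⟨u, (B u v)⁻¹ • v, by simp [hv]⟩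

/-- Symplectic spaces of equal dimension are isometric. -/
theorem exists_symp_isometry (n : ℕ) : ∀ {V V' : Type*} [AddCommGroup V] [Module F V]
    [FiniteDimensional F V] [AddCommGroup V'] [Module F V'] [FiniteDimensional F V']
    (B : V →ₗ[F] V →ₗ[F] F) (B' : V' →ₗ[F] V' →ₗ[F] F), (∀ v, B v v = 0) →
    (∀ x, (∀ y, B x y = 0) → x = 0) → (∀ v, B' v v = 0) → (∀ x, (∀ y, B' x y = 0) → x = 0) →
    Module.finrank F V = n → Module.finrank F V' = n →
    ∃ e : V ≃ₗ[F] V', ∀ x y, B' (e x) (e y) = B x y := by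
  induction n using Nat.strong_induction_on with
  | _ n ih =>
    intro V V' _ _ _ _ _ _ B B' hA hB hA' hB' hn hn'
    rcases Nat.eq_zero_or_pos n with rfl | hpos
    · have := Module.finrank_zero_iff.1 hn
      refine ⟨LinearEquiv.ofFinrankEq V V' (hn.trans hn'.symm), fun x y => ?_⟩
      rw [Subsingleton.elim x 0]; simp
    have : Nontrivial V := Module.nontrivial_of_finrank_pos (R := F) (by omega)
    have : Nontrivial V' := Module.nontrivial_of_finrank_pos (R := F) (by omega)
    obtain ⟨u, v, huv⟩ := exists_hyperbolic B hB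
    obtain ⟨u', v', huv'⟩ := exists_hyperbolic B' hB'
    have hd := finrank_pairPerp B hA huv
    have hd' := finrank_pairPerp B' hA' huv'
    obtain ⟨e, he⟩ := ih (n - 2) (by omega)
      (B.compl₁₂ (pairPerp B u v).subtype (pairPerp B u v).subtype)
      (B'.compl₁₂ (pairPerp B' u' v').subtype (pairPerp B' u' v').subtype)
      (fun w => hA w) (sep_pairPerp B hA hB huv) (fun w => hA' w) (sep_pairPerp B' hA' hB' huv')
      (by omega) (by omega)
    refine ⟨(pairEquiv B hA huv).symm.trans
      (((LinearEquiv.refl F (F × F)).prodCongr e).trans (pairEquiv B' hA' huv')), fun x y => ?_⟩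
    obtain ⟨p, rfl⟩ := (pairEquiv B hA huv).surjective x
    obtain ⟨r, rfl⟩ := (pairEquiv B hA huv).surjective y
    have := he p.2 r.2
    simp only [LinearMap.compl₁₂_apply, Submodule.subtype_apply] at this
    simp only [LinearEquiv.trans_apply, LinearEquiv.symm_apply_apply, form_pairEquiv,
      LinearEquiv.prodCongr_apply, LinearEquiv.refl_apply, this]

/-- Over a finite field of odd characteristic a symplectic space with `t² = -1` has a pair `u, t u` of value one. -/
theorem exists_hyperbolic_complex [Finite F] [FiniteDimensional F V] (h2 : (2 : F) ≠ 0)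
    (B : V →ₗ[F] V →ₗ[F] F) (hA : ∀ v, B v v = 0) (hB : ∀ x, (∀ y, B x y = 0) → x = 0)
    (t : V →ₗ[F] V) (ht : ∀ x, t (t x) = -x) (htB : ∀ x y, B (t x) (t y) = B x y)
    (hbin : ∀ a b : F, a ≠ 0 → b ≠ 0 → ∃ r s : F, a * (r * r) + b * (s * s) = 1)
    (hn : 2 ≤ Module.finrank F V) : ∃ u, B u (t u) = 1 := by
  have : Invertible (2 : F) := invertibleOfNonzero h2
  set g : V →ₗ[F] V →ₗ[F] F := B.compl₂ t with hg
  have hsym : ∀ x y, g x y = g y x := fun x y => by
    show B x (t y) = B y (t x)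
    rw [← htB x (t y), ht, map_neg, ← alt_neg_swap B hA]
  obtain ⟨b, hb⟩ := LinearMap.BilinForm.exists_orthogonal_basis (B := g) ⟨fun x y => hsym x y⟩
  have hbg : ∀ i, g (b i) (b i) ≠ 0 := by
    intro i hi
    refine b.ne_zero i (hB (b i) ?_)
    have : g (b i) = 0 := b.ext fun j => by
      by_cases hij : i = j
      · subst hij; simpa using hi
      · simpa using hb hij
    intro y
    have h1 := LinearMap.congr_fun this (-t y)
    simpa [hg, ht] using h1
  let i : Fin (Module.finrank F V) := ⟨0, by omega⟩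
  let j : Fin (Module.finrank F V) := ⟨1, by omega⟩
  have hij : g (b i) (b j) = 0 := hb (show i ≠ j by simp [i, j])
  obtain ⟨r, s, hrs⟩ := hbin _ _ (hbg i) (hbg j)
  refine ⟨r • b i + s • b j, ?_⟩
  show g (r • b i + s • b j) (r • b i + s • b j) = 1
  simp only [map_add, map_smul, LinearMap.add_apply, LinearMap.smul_apply, smul_eq_mul, hij,
    hsym (b j) (b i)]
  linear_combination hrs

/-- Uniqueness of symplectic spaces with a compatible complex structure, finite field, odd characteristic. -/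
theorem exists_complex_isometry [Finite F] (h2 : (2 : F) ≠ 0)
    (hbin : ∀ a b : F, a ≠ 0 → b ≠ 0 → ∃ r s : F, a * (r * r) + b * (s * s) = 1) (n : ℕ) :
    ∀ {V V' : Type*} [AddCommGroup V] [Module F V]
    [FiniteDimensional F V] [AddCommGroup V'] [Module F V'] [FiniteDimensional F V']
    (B : V →ₗ[F] V →ₗ[F] F) (B' : V' →ₗ[F] V' →ₗ[F] F) (t : V →ₗ[F] V) (t' : V' →ₗ[F] V'),
    (∀ v, B v v = 0) → (∀ x, (∀ y, B x y = 0) → x = 0) → (∀ v, B' v v = 0) →
    (∀ x, (∀ y, B' x y = 0) → x = 0) → (∀ x, t (t x) = -x) → (∀ x y, B (t x) (t y) = B x y) →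
    (∀ x, t' (t' x) = -x) → (∀ x y, B' (t' x) (t' y) = B' x y) →
    Module.finrank F V = 2 * n → Module.finrank F V' = 2 * n →
    ∃ e : V ≃ₗ[F] V', (∀ x y, B' (e x) (e y) = B x y) ∧ ∀ x, e (t x) = t' (e x) := by
  induction n with
  | zero =>
    intro V V' _ _ _ _ _ _ B B' t t' _ _ _ _ _ _ _ _ hn hn'
    have := Module.finrank_zero_iff.1 hn
    have := Module.finrank_zero_iff.1 hn'
    refine ⟨LinearEquiv.ofFinrankEq V V' (hn.trans hn'.symm), fun x y => ?_, fun x => Subsingleton.elim _ _⟩
    rw [Subsingleton.elim x 0]; simp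
  | succ n ih =>
    intro V V' _ _ _ _ _ _ B B' t t' hA hB hA' hB' ht htB ht' htB' hn hn'
    obtain ⟨u, hu⟩ := exists_hyperbolic_complex h2 B hA hB t ht htB hbin (by omega)
    obtain ⟨u', hu'⟩ := exists_hyperbolic_complex h2 B' hA' hB' t' ht' htB' hbin (by omega)
    have hd := finrank_pairPerp B hA hu
    have hd' := finrank_pairPerp B' hA' hu'
    have hstab : ∀ w ∈ pairPerp B u (t u), t w ∈ pairPerp B u (t u) := fun w hw => by
      obtain ⟨h1, h2⟩ := mem_pairPerp.1 hw
      refine mem_pairPerp.2 ⟨?_, by rw [htB, h1]⟩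
      rw [← htB u (t w), ht, map_neg, h2, neg_zero]
    have hstab' : ∀ w ∈ pairPerp B' u' (t' u'), t' w ∈ pairPerp B' u' (t' u') := fun w hw => by
      obtain ⟨h1, h2⟩ := mem_pairPerp.1 hw
      refine mem_pairPerp.2 ⟨?_, by rw [htB', h1]⟩
      rw [← htB' u' (t' w), ht', map_neg, h2, neg_zero]
    obtain ⟨e, he, het⟩ := ih
      (B.compl₁₂ (pairPerp B u (t u)).subtype (pairPerp B u (t u)).subtype)
      (B'.compl₁₂ (pairPerp B' u' (t' u')).subtype (pairPerp B' u' (t' u')).subtype)
      (t.restrict hstab) (t'.restrict hstab')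
      (fun w => hA w) (sep_pairPerp B hA hB hu) (fun w => hA' w) (sep_pairPerp B' hA' hB' hu')
      (fun x => Subtype.ext (ht x)) (fun x y => htB x y)
      (fun x => Subtype.ext (ht' x)) (fun x y => htB' x y) (by omega) (by omega)
    refine ⟨(pairEquiv B hA hu).symm.trans
      (((LinearEquiv.refl F (F × F)).prodCongr e).trans (pairEquiv B' hA' hu')), fun x y => ?_,
      fun x => ?_⟩
    · obtain ⟨p, rfl⟩ := (pairEquiv B hA hu).surjective x
      obtain ⟨r, rfl⟩ := (pairEquiv B hA hu).surjective y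
      have := he p.2 r.2
      simp only [LinearMap.compl₁₂_apply, Submodule.subtype_apply] at this
      simp only [LinearEquiv.trans_apply, LinearEquiv.symm_apply_apply, form_pairEquiv,
        LinearEquiv.prodCongr_apply, LinearEquiv.refl_apply, this]
    · obtain ⟨⟨⟨a, b⟩, w⟩, rfl⟩ := (pairEquiv B hA hu).surjective x
      have hx : t (pairEquiv B hA hu ((a, b), w)) =
          pairEquiv B hA hu ((-b, a), ⟨t w, hstab _ w.2⟩) := by
        rw [pairEquiv_apply, pairEquiv_apply, map_add, map_add, map_smul, map_smul, ht]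
        module
      have hw : (e ⟨t w, hstab _ w.2⟩ : V') = t' (e w) := congrArg Subtype.val (het w)
      rw [hx]
      simp only [LinearEquiv.trans_apply, LinearEquiv.symm_apply_apply]
      simp only [LinearEquiv.prodCongr_apply, LinearEquiv.refl_apply, pairEquiv_apply, map_add, map_smul,
        ht', hw]
      module

end CfsgLib.Geom
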