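import Mathlib
import Cfsg.Agent.Lib.Geom.FiniteField

set_option autoImplicit false

/-!
Classification of non-degenerate quadratic forms over a finite field of odd characteristic by dimension and
discriminant.
-/

namespace CfsgLib.Geom

open QuadraticMap (polar)

variable {F V : Type*} [Field F] [AddCommGroup V] [Module F V]

/-- The restriction to the orthogonal of an anisotropic vector is non-degenerate. -/
theorem sep_comp_ker (Q : QuadraticForm F V) (h2 : (2 : F) ≠ 0)
    (hQ : ∀ x, (∀ y, polar Q x y = 0) → x = 0) {v : V} (hv : Q v ≠ 0)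
    (x : LinearMap.ker (Q.polarBilin v))
    (hx : ∀ y, polar (Q.comp (LinearMap.ker (Q.polarBilin v)).subtype) x y = 0) : x = 0 := by
  refine Subtype.ext (hQ _ fun y => ?_)
  have hvv : polar Q v v ≠ 0 := by rw [polar_self_two]; exact mul_ne_zero h2 hv
  have hw : y - (polar Q v y / polar Q v v) • v ∈ LinearMap.ker (Q.polarBilin v) := by
    simp only [LinearMap.mem_ker, map_sub, map_smul, QuadraticMap.polarBilin_apply_apply, smul_eq_mul]
    field_simp
    ring
  have h1 : polar Q (x : V) (y - (polar Q v y / polar Q v v) • v) = 0 := by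
    simpa [QuadraticMap.polar] using hx ⟨_, hw⟩
  have h0 : polar Q v (x : V) = 0 := x.2
  rw [QuadraticMap.polar_sub_right, QuadraticMap.polar_smul_right, QuadraticMap.polar_comm Q (x : V) v,
    h0] at h1
  simpa using h1

theorem finrank_ker_polar_add_one [FiniteDimensional F V] (Q : QuadraticForm F V)
    (h2 : (2 : F) ≠ 0) {v : V} (hv : Q v ≠ 0) :
    Module.finrank F (LinearMap.ker (Q.polarBilin v)) + 1 = Module.finrank F V := by
  refine Module.Dual.finrank_ker_add_one_of_ne_zero fun h => ?_
  have := LinearMap.congr_fun h v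
  simp [QuadraticMap.polarBilin_apply_apply, h2, hv] at this

/-- An orthogonal basis with all values but the last equal to one. -/
theorem exists_normal_basis [Finite F] [FiniteDimensional F V] (Q : QuadraticForm F V) (h2 : (2 : F) ≠ 0)
    (hQ : ∀ x, (∀ y, polar Q x y = 0) → x = 0) {n : ℕ} (hn : Module.finrank F V = n + 1) :
    ∃ (b : Module.Basis (Fin (n + 1)) F V) (d : F), d ≠ 0 ∧ (∀ i j, i ≠ j → polar Q (b i) (b j) = 0) ∧
      ∀ i, Q (b i) = if i = Fin.last n then d else 1 := by
  induction n generalizing V with
  | zero =>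
    have : Nontrivial V := Module.nontrivial_of_finrank_pos (R := F) (by omega)
    obtain ⟨v, hv⟩ := exists_anisotropic Q hQ
    have hv0 : v ≠ 0 := fun h => hv (by simp [h])
    haveI : Unique (Fin (0 + 1)) := inferInstanceAs (Unique (Fin 1))
    exact ⟨FiniteDimensional.basisSingleton (Fin (0 + 1)) hn v hv0, Q v, hv,
      fun i j hij => absurd (Subsingleton.elim i j) hij,
      fun i => by rw [FiniteDimensional.basisSingleton_apply, if_pos (Subsingleton.elim _ _)]⟩
  | succ n ih =>
    obtain ⟨v, hv⟩ := exists_value Q h2 hQ (by omega) 1 one_ne_zero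
    have hv' : Q v ≠ 0 := by rw [hv]; exact one_ne_zero
    set W := LinearMap.ker (Q.polarBilin v) with hW
    have hdim : Module.finrank F W = n + 1 := by
      have := finrank_ker_polar_add_one Q h2 hv'
      rw [← hW] at this
      omega
    obtain ⟨b, d, hd, hb, hbv⟩ := ih (Q.comp W.subtype) (sep_comp_ker Q h2 hQ hv') hdim
    have hker : ∀ i, polar Q v (b i : V) = 0 := fun i => (b i).2
    have hvv : polar Q v v ≠ 0 := by rw [polar_self_two, hv]; simpa using h2
    have hli : ∀ (c : F), ∀ x ∈ W, c • v + x = 0 → c = 0 := by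
      intro c x hx h
      have h' := congrArg (Q.polarBilin v) h
      simp only [map_add, map_smul, map_zero, LinearMap.mem_ker.1 hx, add_zero,
        QuadraticMap.polarBilin_apply_apply, smul_eq_mul, mul_eq_zero] at h'
      exact h'.resolve_right hvv
    refine ⟨Module.Basis.mkFinCons v b hli fun z => ⟨-(polar Q v z / polar Q v v), ?_⟩, d, hd, ?_, ?_⟩
    · simp only [W, LinearMap.mem_ker, map_add, map_smul, QuadraticMap.polarBilin_apply_apply,
        smul_eq_mul]
      field_simp
      ring
    · intro i j hij
      rw [Module.Basis.coe_mkFinCons]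
      induction i using Fin.cases with
      | zero =>
        induction j using Fin.cases with
        | zero => exact absurd rfl hij
        | succ j => simpa using hker j
      | succ i =>
        induction j using Fin.cases with
        | zero => rw [QuadraticMap.polar_comm]; simpa using hker i
        | succ j =>
          have := hb i j (fun h => hij (h ▸ rfl))
          simpa [QuadraticMap.polar] using this
    · intro i
      rw [Module.Basis.coe_mkFinCons]
      induction i using Fin.cases with
      | zero => simp [hv, Fin.ext_iff]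
      | succ i =>
        have := hbv i
        simpa [← Fin.succ_last, Fin.succ_inj] using this

theorem toMatrix₂_orth {ι : Type*} [Fintype ι] [DecidableEq ι] (Q : QuadraticForm F V)
    (b : Module.Basis ι F V) (hb : ∀ i j, i ≠ j → polar Q (b i) (b j) = 0) :
    (LinearMap.toMatrix₂ b b Q.polarBilin).det = ∏ i, 2 * Q (b i) := by
  rw [← Matrix.det_diagonal]
  congr 1
  ext i j
  rw [LinearMap.toMatrix₂_apply, QuadraticMap.polarBilin_apply_apply]
  by_cases hij : i = j
  · subst hij; rw [polar_self_two, Matrix.diagonal_apply_eq]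
  · rw [hb i j hij, Matrix.diagonal_apply_ne _ hij]

/-- Gram determinants in two bases differ by a non-zero square. -/
theorem disc_change {ι : Type*} [Fintype ι] [DecidableEq ι] (Q : QuadraticForm F V)
    (b c : Module.Basis ι F V) :
    ∃ t : F, t ≠ 0 ∧ (LinearMap.toMatrix₂ c c Q.polarBilin).det =
      t * t * (LinearMap.toMatrix₂ b b Q.polarBilin).det := by
  refine ⟨(b.toMatrix c).det, ?_, ?_⟩
  · intro h
    have h1 := congrArg Matrix.det (b.toMatrix_mul_toMatrix_flip c)
    rw [Matrix.det_mul, h, zero_mul, Matrix.det_one] at h1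
    exact zero_ne_one h1
  · rw [← LinearMap.toMatrix₂_mul_basis_toMatrix b b c c, Matrix.det_mul, Matrix.det_mul,
      Matrix.det_transpose]
    ring

/-- Two forms of equal dimension whose discriminants differ by a square are isometric. -/
theorem exists_isometry_of_disc [Finite F] [FiniteDimensional F V] {V' : Type*} [AddCommGroup V']
    [Module F V'] [FiniteDimensional F V'] {ι : Type*} [Fintype ι] [DecidableEq ι]
    (Q : QuadraticForm F V) (Q' : QuadraticForm F V') (h2 : (2 : F) ≠ 0)
    (hQ : ∀ x, (∀ y, polar Q x y = 0) → x = 0) (hQ' : ∀ x, (∀ y, polar Q' x y = 0) → x = 0)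
    (b : Module.Basis ι F V) (b' : Module.Basis ι F V')
    (hsq : IsSquare ((LinearMap.toMatrix₂ b b Q.polarBilin).det *
      (LinearMap.toMatrix₂ b' b' Q'.polarBilin).det)) :
    ∃ e : V ≃ₗ[F] V', ∀ v, Q' (e v) = Q v := by
  classical
  have hV : Module.finrank F V = Fintype.card ι := Module.finrank_eq_card_basis b
  have hV' : Module.finrank F V' = Fintype.card ι := Module.finrank_eq_card_basis b'
  rcases Nat.eq_zero_or_pos (Fintype.card ι) with h0 | hpos
  · refine ⟨b.equiv b' (Equiv.refl ι), fun v => ?_⟩
    have : Subsingleton V := Module.finrank_zero_iff.1 (hV.trans h0)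
    rw [Subsingleton.elim v 0, map_zero, map_zero, map_zero]
  obtain ⟨n, hn⟩ : ∃ n, Fintype.card ι = n + 1 := ⟨_, (Nat.succ_pred_eq_of_pos hpos).symm⟩
  obtain ⟨c, d, hd, hc, hcv⟩ := exists_normal_basis Q h2 hQ (hV.trans hn)
  obtain ⟨c', d', hd', hc', hcv'⟩ := exists_normal_basis Q' h2 hQ' (hV'.trans hn)
  have hval : ∀ (f : Fin (n + 1) → F) (e : F), (∀ i, f i = if i = Fin.last n then e else 1) →
      ∏ i, 2 * f i = 2 ^ (n + 1) * e := by
    intro f e hf
    rw [Finset.prod_mul_distrib, Finset.prod_const, Finset.card_univ, Fintype.card_fin]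
    congr 1
    rw [Finset.prod_eq_single (Fin.last n)]
    · simp [hf]
    · intro i _ hi; simp [hf, hi]
    · simp
  let σ : ι ≃ Fin (n + 1) := Fintype.equivFinOfCardEq hn
  have hre : ∀ {W : Type _} [AddCommGroup W] [Module F W] (P : QuadraticForm F W)
      (k : Module.Basis ι F W),
      (LinearMap.toMatrix₂ (k.reindex σ) (k.reindex σ) P.polarBilin).det =
        (LinearMap.toMatrix₂ k k P.polarBilin).det := by
    intro W _ _ P k
    rw [show LinearMap.toMatrix₂ (k.reindex σ) (k.reindex σ) P.polarBilin =
      (LinearMap.toMatrix₂ k k P.polarBilin).submatrix σ.symm σ.symm by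
        ext i j; simp [LinearMap.toMatrix₂_apply]]
    exact Matrix.det_submatrix_equiv_self _ _
  obtain ⟨t, ht, hdet⟩ := disc_change Q c (b.reindex σ)
  obtain ⟨t', ht', hdet'⟩ := disc_change Q' c' (b'.reindex σ)
  rw [hre, toMatrix₂_orth Q c hc, hval _ d hcv] at hdet
  rw [show (LinearMap.toMatrix₂ (b'.reindex σ) (b'.reindex σ) Q'.polarBilin).det =
      (LinearMap.toMatrix₂ b' b' Q'.polarBilin).det by
    rw [show LinearMap.toMatrix₂ (b'.reindex σ) (b'.reindex σ) Q'.polarBilin =
      (LinearMap.toMatrix₂ b' b' Q'.polarBilin).submatrix σ.symm σ.symm by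
        ext i j; simp [LinearMap.toMatrix₂_apply]]
    exact Matrix.det_submatrix_equiv_self _ _,
    toMatrix₂_orth Q' c' hc', hval _ d' hcv'] at hdet'
  obtain ⟨s, hs⟩ : IsSquare (d * d') := by
    obtain ⟨r, hr⟩ := hsq
    refine ⟨r / (t * t' * 2 ^ (n + 1)), ?_⟩
    rw [hdet, hdet'] at hr
    field_simp
    linear_combination hr
  have hs0 : s ≠ 0 := fun h => mul_ne_zero hd hd' (by rw [hs, h, mul_zero])
  -- rescale the last vector
  let u : Fin (n + 1) → Fˣ := fun i =>
    if i = Fin.last n then Units.mk0 (s / d') (div_ne_zero hs0 hd') else 1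
  let c'' := c'.unitsSMul u
  have hval'' : ∀ i, Q' (c'' i) = Q (c i) := fun i => by
    simp only [c'', Module.Basis.unitsSMul_apply, Units.smul_def, quad_smul, hcv, hcv', u]
    split
    · simp only [Units.val_mk0]
      field_simp
      linear_combination -hs
    · simp
  have hperp : ∀ i j, i ≠ j → polar Q' (c'' i) (c'' j) = 0 := fun i j hij => by
    simp [c'', Module.Basis.unitsSMul_apply, Units.smul_def, hc' i j hij]
  refine ⟨c.equiv c'' (Equiv.refl _), fun v => ?_⟩
  have hcomp : (Q'.comp (c.equiv c'' (Equiv.refl _) : V →ₗ[F] V')).polarBilin = Q.polarBilin := by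
    refine c.ext fun i => c.ext fun j => ?_
    simp only [QuadraticMap.polarBilin_apply_apply, QuadraticMap.polar, QuadraticMap.comp_apply,
      LinearEquiv.coe_coe, map_add, Module.Basis.equiv_apply, Equiv.refl_apply]
    show polar Q' (c'' i) (c'' j) = polar Q (c i) (c j)
    by_cases hij : i = j
    · subst hij; rw [polar_self_two, polar_self_two, hval'']
    · rw [hperp i j hij, hc i j hij]
  have h := LinearMap.congr_fun (LinearMap.congr_fun hcomp v) v
  simp only [QuadraticMap.polarBilin_apply_apply, polar_self_two, QuadraticMap.comp_apply] at h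
  exact mul_left_cancel₀ h2 h

end CfsgLib.Geom
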