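import Mathlib
import Cfsg.Prelude.Def_ClassicalGeometry
import Cfsg.Agent.Lib.Geom.Symp
import Cfsg.Agent.Lib.Geom.SympSpace
import Cfsg.Agent.Lib.Geom.FiniteField

set_option autoImplicit false

/-!
Conjugacy classes of involutions of `PSp_2m(q)`, `q` odd: there are at most `⌊m/2⌋ + 1` of them.
-/

namespace CfsgLib.Geom

open Matrix

/-- A symplectic space has even dimension. -/
theorem even_finrank_symp {F : Type*} [Field F] (n : ℕ) : ∀ {V : Type*} [AddCommGroup V] [Module F V]
    [FiniteDimensional F V] (B : V →ₗ[F] V →ₗ[F] F), (∀ v, B v v = 0) →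
    (∀ x, (∀ y, B x y = 0) → x = 0) → Module.finrank F V = n → Even n := by
  induction n using Nat.strong_induction_on with
  | _ n ih =>
    intro V _ _ _ B hA hB hn
    rcases Nat.eq_zero_or_pos n with rfl | hpos
    · exact Even.zero
    have : Nontrivial V := Module.nontrivial_of_finrank_pos (R := F) (by omega)
    obtain ⟨u, v, huv⟩ := exists_hyperbolic B hB
    have hd := finrank_pairPerp B hA huv
    obtain ⟨k, hk⟩ := ih (n - 2) (by omega)
      (B.compl₁₂ (pairPerp B u v).subtype (pairPerp B u v).subtype) (fun w => hA w)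
      (sep_pairPerp B hA hB huv) (by omega)
    exact ⟨k + 1, by omega⟩

variable {F : Type*} [Field F] {m : ℕ}

/-- The linear map of a symplectic matrix. -/
noncomputable def spLin (A : Matrix.symplecticGroup (Fin m) F) :
    (Fin m ⊕ Fin m → F) →ₗ[F] (Fin m ⊕ Fin m → F) :=
  Matrix.toLin' (A : Matrix (Fin m ⊕ Fin m) (Fin m ⊕ Fin m) F)

theorem spLin_apply (A : Matrix.symplecticGroup (Fin m) F) (v : Fin m ⊕ Fin m → F) :
    spLin A v = (A : Matrix (Fin m ⊕ Fin m) (Fin m ⊕ Fin m) F) *ᵥ v :=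
  Matrix.toLin'_apply _ v

theorem spLin_mul (A B : Matrix.symplecticGroup (Fin m) F) (v : Fin m ⊕ Fin m → F) :
    spLin (A * B) v = spLin A (spLin B v) := by
  simp [spLin_apply, Matrix.mulVec_mulVec]

theorem spLin_form (A : Matrix.symplecticGroup (Fin m) F) (u v : Fin m ⊕ Fin m → F) :
    sympBilin m F (spLin A u) (spLin A v) = sympBilin m F u v := by
  simp only [spLin_apply]; exact spToLin_mem A u v

theorem spLin_ext {A B : Matrix.symplecticGroup (Fin m) F} (h : ∀ v, spLin A v = spLin B v) :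
    A = B :=
  Subtype.ext (Matrix.toLin'.injective (LinearMap.ext h))

theorem spLin_one (v : Fin m ⊕ Fin m → F) : spLin (1 : Matrix.symplecticGroup (Fin m) F) v = v := by
  simp [spLin_apply]

/-- The element `-1`. -/
def spNeg (m : ℕ) (F : Type*) [Field F] : Matrix.symplecticGroup (Fin m) F :=
  ⟨-1, SymplecticGroup.neg_mem (one_mem _)⟩

theorem spLin_spNeg (v : Fin m ⊕ Fin m → F) : spLin (spNeg m F) v = -v := by
  simp [spLin_apply, spNeg, Matrix.neg_mulVec]

theorem spNeg_mem_center : spNeg m F ∈ Subgroup.center (Matrix.symplecticGroup (Fin m) F) :=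
  Subgroup.mem_center_iff.2 fun B => Subtype.ext (by simp [spNeg])

/-- Central elements act as a sign. -/
theorem spLin_center (hm : 1 ≤ m) {A : Matrix.symplecticGroup (Fin m) F}
    (hA : A ∈ Subgroup.center (Matrix.symplecticGroup (Fin m) F)) :
    (∀ v, spLin A v = v) ∨ (∀ v, spLin A v = -v) := by
  have heig : ∀ v, ¬ LinearIndependent F ![v, spLin A v] := by
    intro v
    by_cases hv : v = 0
    · simp [hv, linearIndependent_fin2]
    rw [LinearIndependent.pair_iff' hv]
    push Not
    obtain ⟨x, hx⟩ : ∃ x, sympBilin m F x v ≠ 0 := by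
      by_contra h
      push Not at h
      refine hv (sympBilin_sep v fun y => ?_)
      rw [sympBilin_swap, h y, neg_zero]
    let T : Matrix.symplecticGroup (Fin m) F := ⟨_, sympTransvection_mem v 1⟩
    have hT : ∀ z, spLin T z = z + sympBilin m F z v • v := fun z => by
      simp [spLin_apply, T, sympTransvection_mulVec]
    have hc : spLin (T * A) x = spLin (A * T) x := by rw [Subgroup.mem_center_iff.1 hA T]
    rw [spLin_mul, spLin_mul, hT, hT, map_add, map_smul] at hc
    refine ⟨(sympBilin m F x v)⁻¹ * sympBilin m F (spLin A x) v, ?_⟩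
    rw [mul_smul, add_left_cancel hc, smul_smul, inv_mul_cancel₀ hx, one_smul]
  obtain ⟨r, hr⟩ := LinearMap.exists_eq_smul_id_of_forall_notLinearIndependent heig
  have hA' : ∀ v, spLin A v = r • v := fun v => by rw [hr]; rfl
  have : Nontrivial (Fin m ⊕ Fin m → F) := by
    have : Nonempty (Fin m) := ⟨⟨0, by omega⟩⟩
    infer_instance
  obtain ⟨u, v, huv⟩ := exists_hyperbolic (sympBilin m F) sympBilin_sep
  have h := spLin_form A u v
  simp only [hA', map_smul, LinearMap.smul_apply, smul_eq_mul, huv, mul_one] at h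
  rcases mul_self_eq_one_iff.1 h with h1 | h1
  · exact Or.inl fun v => by rw [hA', h1, one_smul]
  · exact Or.inr fun v => by rw [hA', h1, neg_one_smul]

/-- An isometry intertwining two symplectic matrices gives conjugacy. -/
theorem isConj_of_intertwine {A B : Matrix.symplecticGroup (Fin m) F}
    (e : (Fin m ⊕ Fin m → F) ≃ₗ[F] (Fin m ⊕ Fin m → F))
    (he : ∀ u v, sympBilin m F (e u) (e v) = sympBilin m F u v)
    (hc : ∀ v, e (spLin A v) = spLin B (e v)) : IsConj A B := by
  refine isConj_iff.2 ⟨spEquiv m F ⟨e, he⟩, ?_⟩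
  rw [mul_inv_eq_iff_eq_mul]
  refine spLin_ext fun v => ?_
  rw [spLin_mul, spLin_mul]
  simp only [spLin_apply, spEquiv_mulVec]
  simpa [spLin_apply] using hc v

/-- Two symplectic elements with square `-1` are conjugate. -/
theorem isConj_of_sq_neg [Finite F] (h2 : (2 : F) ≠ 0) {A B : Matrix.symplecticGroup (Fin m) F}
    (hA : ∀ v, spLin A (spLin A v) = -v) (hB : ∀ v, spLin B (spLin B v) = -v) : IsConj A B := by
  obtain ⟨e, he, hc⟩ := exists_complex_isometry h2 (fun a b ha hb => exists_binary_eq h2 ha hb 1) m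
    (sympBilin m F) (sympBilin m F) (spLin A) (spLin B) sympBilin_self sympBilin_sep sympBilin_self
    sympBilin_sep hA (spLin_form A) hB (spLin_form B) (by simp; ring) (by simp; ring)
  exact isConj_of_intertwine e he hc

/-- The `ε`-eigenspace. -/
noncomputable def spEigen (A : Matrix.symplecticGroup (Fin m) F) (ε : F) :
    Submodule F (Fin m ⊕ Fin m → F) :=
  LinearMap.ker (spLin A - ε • LinearMap.id)

theorem mem_spEigen {A : Matrix.symplecticGroup (Fin m) F} {ε : F} {v : Fin m ⊕ Fin m → F} :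
    v ∈ spEigen A ε ↔ spLin A v = ε • v := by
  simp [spEigen, sub_eq_zero]

theorem spEigen_isCompl (h2 : (2 : F) ≠ 0) {A : Matrix.symplecticGroup (Fin m) F}
    (hA : ∀ v, spLin A (spLin A v) = v) : IsCompl (spEigen A 1) (spEigen A (-1)) := by
  refine ⟨Submodule.disjoint_def.2 fun x h1 h1' => ?_, codisjoint_iff.2 (eq_top_iff.2 fun x _ => ?_)⟩
  · rw [mem_spEigen, one_smul] at h1
    rw [mem_spEigen, neg_one_smul, h1] at h1'
    have : (2 : F) • x = 0 := by rw [two_smul]; nth_rw 2 [h1']; exact add_neg_cancel x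
    exact (smul_eq_zero.1 this).resolve_left h2
  · refine Submodule.mem_sup.2 ⟨(2 : F)⁻¹ • (x + spLin A x), ?_, (2 : F)⁻¹ • (x - spLin A x), ?_, ?_⟩
    · rw [mem_spEigen, map_smul, map_add, hA, one_smul, add_comm]
    · rw [mem_spEigen, map_smul, map_sub, hA]; module
    · rw [← smul_add, add_add_sub_cancel, ← two_smul F x, smul_smul, inv_mul_cancel₀ h2, one_smul]

theorem spEigen_orth (h2 : (2 : F) ≠ 0) {A : Matrix.symplecticGroup (Fin m) F}
    {x y : Fin m ⊕ Fin m → F} (hx : x ∈ spEigen A 1) (hy : y ∈ spEigen A (-1)) :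
    sympBilin m F x y = 0 ∧ sympBilin m F y x = 0 := by
  have h := spLin_form A x y
  rw [mem_spEigen.1 hx, mem_spEigen.1 hy, one_smul, map_smul, smul_eq_mul] at h
  have h0 : sympBilin m F x y = 0 := by
    have : 2 * sympBilin m F x y = 0 := by linear_combination -h
    simpa [h2] using this
  exact ⟨h0, by rw [sympBilin_swap, h0, neg_zero]⟩

theorem spEigen_sep (h2 : (2 : F) ≠ 0) {A : Matrix.symplecticGroup (Fin m) F}
    (hA : ∀ v, spLin A (spLin A v) = v) (ε : F) (hε : ε = 1 ∨ ε = -1) (x : spEigen A ε)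
    (hx : ∀ y : spEigen A ε, sympBilin m F (x : Fin m ⊕ Fin m → F) (y : Fin m ⊕ Fin m → F) = 0) :
    x = 0 := by
  refine Subtype.ext (sympBilin_sep _ fun z => ?_)
  obtain ⟨p, hp, q, hq, rfl⟩ : ∃ p ∈ spEigen A 1, ∃ q ∈ spEigen A (-1), p + q = z :=
    Submodule.mem_sup.1 (by rw [(spEigen_isCompl h2 hA).sup_eq_top]; trivial)
  rw [map_add]
  rcases hε with rfl | rfl
  · rw [hx ⟨p, hp⟩, (spEigen_orth h2 x.2 hq).1, zero_add]
  · rw [hx ⟨q, hq⟩, (spEigen_orth h2 hp x.2).2, zero_add]

theorem spEigen_finrank_add (h2 : (2 : F) ≠ 0) {A : Matrix.symplecticGroup (Fin m) F}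
    (hA : ∀ v, spLin A (spLin A v) = v) :
    Module.finrank F (spEigen A 1) + Module.finrank F (spEigen A (-1)) = 2 * m := by
  rw [Submodule.finrank_add_eq_of_isCompl (spEigen_isCompl h2 hA)]
  simp; ring

theorem spEigen_even (h2 : (2 : F) ≠ 0) {A : Matrix.symplecticGroup (Fin m) F}
    (hA : ∀ v, spLin A (spLin A v) = v) :
    Even (Module.finrank F (spEigen A (-1))) :=
  even_finrank_symp _ ((sympBilin m F).compl₁₂ (spEigen A (-1)).subtype (spEigen A (-1)).subtype)
    (fun w => sympBilin_self (w : Fin m ⊕ Fin m → F)) (spEigen_sep h2 hA (-1) (Or.inr rfl)) rfl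

/-- Two symplectic involutions with equally large `-1`-eigenspaces are conjugate. -/
theorem isConj_of_sq_one (h2 : (2 : F) ≠ 0) {A B : Matrix.symplecticGroup (Fin m) F}
    (hA : ∀ v, spLin A (spLin A v) = v) (hB : ∀ v, spLin B (spLin B v) = v)
    (hd : Module.finrank F (spEigen A (-1)) = Module.finrank F (spEigen B (-1))) : IsConj A B := by
  have hd1 : Module.finrank F (spEigen A 1) = Module.finrank F (spEigen B 1) := by
    have := spEigen_finrank_add h2 hA
    have := spEigen_finrank_add h2 hB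
    omega
  have mk : ∀ ε : F, (ε = 1 ∨ ε = -1) →
      Module.finrank F (spEigen A ε) = Module.finrank F (spEigen B ε) →
      ∃ e : spEigen A ε ≃ₗ[F] spEigen B ε, ∀ x y : spEigen A ε,
        sympBilin m F (e x : Fin m ⊕ Fin m → F) (e y : Fin m ⊕ Fin m → F) =
          sympBilin m F (x : Fin m ⊕ Fin m → F) (y : Fin m ⊕ Fin m → F) := fun ε hε h =>
    exists_symp_isometry _ ((sympBilin m F).compl₁₂ (spEigen A ε).subtype (spEigen A ε).subtype)
      ((sympBilin m F).compl₁₂ (spEigen B ε).subtype (spEigen B ε).subtype)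
      (fun w => sympBilin_self (w : Fin m ⊕ Fin m → F)) (spEigen_sep h2 hA ε hε)
      (fun w => sympBilin_self (w : Fin m ⊕ Fin m → F)) (spEigen_sep h2 hB ε hε) h rfl
  obtain ⟨e₁, he₁⟩ := mk 1 (Or.inl rfl) hd1
  obtain ⟨e₂, he₂⟩ := mk (-1) (Or.inr rfl) hd
  let P := Submodule.prodEquivOfIsCompl _ _ (spEigen_isCompl h2 hA)
  let R := Submodule.prodEquivOfIsCompl _ _ (spEigen_isCompl h2 hB)
  refine isConj_of_intertwine (P.symm.trans ((e₁.prodCongr e₂).trans R)) (fun x y => ?_) (fun x => ?_)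
  · obtain ⟨⟨p, q⟩, rfl⟩ := P.surjective x
    obtain ⟨⟨p', q'⟩, rfl⟩ := P.surjective y
    simp only [LinearEquiv.trans_apply, LinearEquiv.symm_apply_apply, LinearEquiv.prodCongr_apply]
    simp only [P, R, Submodule.coe_prodEquivOfIsCompl', map_add, LinearMap.add_apply, he₁, he₂,
      (spEigen_orth h2 (e₁ p).2 (e₂ q').2).1, (spEigen_orth h2 (e₁ p').2 (e₂ q).2).2,
      (spEigen_orth h2 p.2 q'.2).1, (spEigen_orth h2 p'.2 q.2).2]
  · obtain ⟨⟨p, q⟩, rfl⟩ := P.surjective x
    have hx : spLin A (P (p, q)) = P (p, -q) := by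
      simp only [P, Submodule.coe_prodEquivOfIsCompl', map_add, mem_spEigen.1 p.2, mem_spEigen.1 q.2,
        Submodule.coe_neg, one_smul, neg_one_smul]
    rw [hx]
    simp only [LinearEquiv.trans_apply, LinearEquiv.symm_apply_apply, LinearEquiv.prodCongr_apply]
    simp only [R, Submodule.coe_prodEquivOfIsCompl', map_add, mem_spEigen.1 (e₁ p).2,
      mem_spEigen.1 (e₂ q).2, map_neg, Submodule.coe_neg, one_smul, neg_one_smul]

theorem spLin_spNeg_mul (A : Matrix.symplecticGroup (Fin m) F) (v : Fin m ⊕ Fin m → F) :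
    spLin (spNeg m F * A) v = -spLin A v := by rw [spLin_mul, spLin_spNeg]

theorem spEigen_spNeg_mul (A : Matrix.symplecticGroup (Fin m) F) :
    spEigen (spNeg m F * A) (-1) = spEigen A 1 := by
  ext v; simp [mem_spEigen, spLin_spNeg_mul]

/-- Among `k > ⌊m/2⌋ + 1` involutions of `PSp_2m(q)`, `q` odd, two are conjugate. -/
theorem psp_involutions_pigeonhole [Finite F] (h2 : (2 : F) ≠ 0) (hm : 1 ≤ m) {k : ℕ}
    (hk : m / 2 + 1 < k) (x : Fin k → Cfsg.PSp m F) (hx : ∀ i, orderOf (x i) = 2) :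
    ∃ i j, i ≠ j ∧ IsConj (x i) (x j) := by
  classical
  let π := QuotientGroup.mk' (Subgroup.center (Matrix.symplecticGroup (Fin m) F))
  have hneg : ∀ A, π (spNeg m F * A) = π A := fun A => by
    rw [map_mul, show π (spNeg m F) = 1 from (QuotientGroup.eq_one_iff _).2 spNeg_mem_center, one_mul]
  -- each involution gets a normalised lift
  have hlift : ∀ i, ∃ A, π A = x i ∧ ((∀ v, spLin A (spLin A v) = -v) ∨
      ((∀ v, spLin A (spLin A v) = v) ∧ 0 < Module.finrank F (spEigen A (-1)) ∧
        Module.finrank F (spEigen A (-1)) ≤ m)) := by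
    intro i
    obtain ⟨A, hA⟩ := QuotientGroup.mk'_surjective _ (x i)
    have hA2 : A * A ∈ Subgroup.center (Matrix.symplecticGroup (Fin m) F) := by
      have h := pow_orderOf_eq_one (x i)
      rw [hx i, pow_two, ← hA, ← map_mul] at h
      exact (QuotientGroup.eq_one_iff _).1 h
    rcases spLin_center hm hA2 with h1 | h1
    swap
    · exact ⟨A, hA, Or.inl fun v => by rw [← spLin_mul]; exact h1 v⟩
    have hsq : ∀ v, spLin A (spLin A v) = v := fun v => by rw [← spLin_mul]; exact h1 v
    have hne : ∀ B, π B = x i → (∀ v, spLin B (spLin B v) = v) →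
        0 < Module.finrank F (spEigen B (-1)) := by
      intro B hB hBsq
      by_contra h0
      have hbot : spEigen B (-1) = ⊥ := Submodule.finrank_eq_zero.1 (by omega)
      have h3 := spEigen_isCompl h2 hBsq
      rw [hbot] at h3
      have : B = 1 := spLin_ext fun v => by
        have : v ∈ spEigen B 1 := by rw [eq_top_of_isCompl_bot h3]; trivial
        rw [mem_spEigen, one_smul] at this
        rw [this, spLin_one]
      rw [this, map_one] at hB
      have := hx i
      rw [← hB, orderOf_one] at this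
      omega
    by_cases hle : Module.finrank F (spEigen A (-1)) ≤ m
    · exact ⟨A, hA, Or.inr ⟨hsq, hne A hA hsq, hle⟩⟩
    · have hsq' : ∀ v, spLin (spNeg m F * A) (spLin (spNeg m F * A) v) = v := fun v => by
        simp [spLin_spNeg_mul, hsq]
      refine ⟨spNeg m F * A, (hneg A).trans hA, Or.inr ⟨hsq', hne _ ((hneg A).trans hA) hsq', ?_⟩⟩
      rw [spEigen_spNeg_mul]
      have := spEigen_finrank_add h2 hsq
      omega
  choose A hA hAc using hlift
  let cls : Fin k → Fin (m / 2 + 1) := fun i =>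
    if h : (∀ v, spLin (A i) (spLin (A i) v) = -v) then 0
    else ⟨Module.finrank F (spEigen (A i) (-1)) / 2, by
      rcases hAc i with h' | ⟨-, -, h'⟩
      · exact absurd h' h
      · omega⟩
  obtain ⟨i, j, hij, heq⟩ := Fintype.exists_ne_map_eq_of_card_lt cls (by simpa using hk)
  refine ⟨i, j, hij, ?_⟩
  rw [← hA i, ← hA j]
  refine MonoidHom.map_isConj π ?_
  have hval : ∀ l, (∀ v, spLin (A l) (spLin (A l) v) = -v) ∧ (cls l : ℕ) = 0 ∨
      (∀ v, spLin (A l) (spLin (A l) v) = v) ∧
        2 * (cls l : ℕ) = Module.finrank F (spEigen (A l) (-1)) ∧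
        0 < Module.finrank F (spEigen (A l) (-1)) := by
    intro l
    by_cases h : (∀ v, spLin (A l) (spLin (A l) v) = -v)
    · left
      refine ⟨h, ?_⟩
      simp only [cls, dif_pos h]
      rfl
    · rcases hAc l with h' | ⟨hsq, hpos, hle⟩
      · exact absurd h' h
      · right
        obtain ⟨r, hr⟩ := spEigen_even h2 hsq
        simp only [cls, dif_neg h]
        exact ⟨hsq, by omega, hpos⟩
  rw [Fin.ext_iff] at heq
  rcases hval i with ⟨hi, hi0⟩ | ⟨hi, hi0, hip⟩ <;> rcases hval j with ⟨hj, hj0⟩ | ⟨hj, hj0, hjp⟩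
  · exact isConj_of_sq_neg h2 hi hj
  · omega
  · omega
  · exact isConj_of_sq_one h2 hi hj (by omega)

end CfsgLib.Geom
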