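import Mathlib
import Cfsg.Agent.Lib.Geom.Perp
import Cfsg.Agent.Lib.Geom.WittSesq

set_option autoImplicit false

/-!
Norms of a finite field with an involution, and orthonormal bases of Hermitian forms.
-/

namespace CfsgLib.Geom

variable {F : Type*} [Field F]

/-- Hilbert's Theorem 90 for an involution. -/
theorem exists_div_conj {σ : F →+* F} (hσ : σ ≠ RingHom.id F) (hσ2 : ∀ a, σ (σ a) = a) {u : F}
    (hu : u * σ u = 1) : ∃ y : F, y ≠ 0 ∧ u * σ y = y := by
  obtain ⟨t, ht⟩ : ∃ t, t + u * σ t ≠ 0 := by
    by_contra h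
    push Not at h
    apply hσ
    have h1 : u = -1 := by
      have := h 1
      rw [map_one, mul_one] at this
      linear_combination this
    refine RingHom.ext fun t => ?_
    have := h t
    rw [h1] at this
    simp only [RingHom.id_apply]
    linear_combination -this
  refine ⟨_, ht, ?_⟩
  rw [map_add, map_mul, hσ2, mul_add, ← mul_assoc, hu, one_mul, add_comm]

/-- The norm map of a finite field onto the fixed field of an involution is surjective. -/
theorem exists_norm_eq [Finite F] {σ : F →+* F} (hσ : σ ≠ RingHom.id F) (hσ2 : ∀ a, σ (σ a) = a)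
    {c : F} (hc : σ c = c) : ∃ x : F, x * σ x = c := by
  by_cases hc0 : c = 0
  · exact ⟨0, by simp [hc0]⟩
  classical
  let s : Fˣ →* Fˣ := Units.map σ.toMonoidHom
  let N : Fˣ →* Fˣ := MonoidHom.id Fˣ * s
  let P : Fˣ →* Fˣ := MonoidHom.id Fˣ / s
  have hN : ∀ x : Fˣ, (N x : F) = (x : F) * σ x := fun x => rfl
  have hP : ∀ x : Fˣ, P x = x / s x := fun x => rfl
  have hkP : P.range = N.ker := by
    ext u
    constructor
    · rintro ⟨x, rfl⟩
      rw [MonoidHom.mem_ker]
      refine Units.ext ?_
      have hne : (σ x : F) ≠ 0 := by simp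
      rw [hN, hP, Units.val_div_eq_div_val, Units.val_one]
      show (x : F) / σ x * σ ((x : F) / σ x) = 1
      rw [map_div₀, hσ2]
      field_simp
    · intro hu
      have h1 : (u : F) * σ u = 1 := by rw [← hN, MonoidHom.mem_ker.1 hu]; rfl
      obtain ⟨y, hy, hyu⟩ := exists_div_conj hσ hσ2 h1
      refine ⟨Units.mk0 y hy, Units.ext ?_⟩
      have hne : σ y ≠ 0 := by simpa using hy
      rw [hP, Units.val_div_eq_div_val]
      show y / σ y = (u : F)
      field_simp
      rw [mul_comm]; exact hyu.symm
  have hle : N.range ≤ P.ker := by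
    rintro _ ⟨x, rfl⟩
    rw [MonoidHom.mem_ker, hP, div_eq_one]
    refine Units.ext ?_
    show (x : F) * σ x = σ ((x : F) * σ x)
    rw [map_mul, hσ2, mul_comm]
  have hcardeq : Nat.card N.range = Nat.card P.ker := by
    have e1 := Subgroup.card_mul_index N.ker
    have e2 := Subgroup.card_mul_index P.ker
    rw [Subgroup.index_ker] at e1 e2
    rw [← hkP] at e1
    have hpos : 0 < Nat.card P.range := Nat.card_pos
    rw [mul_comm (Nat.card P.ker)] at e2
    exact Nat.eq_of_mul_eq_mul_left hpos (e1.trans e2.symm)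
  have heq : N.range = P.ker := Subgroup.eq_of_le_of_card_ge hle (le_of_eq hcardeq.symm)
  have hmem : Units.mk0 c hc0 ∈ P.ker := by
    rw [MonoidHom.mem_ker, hP, div_eq_one]
    exact Units.ext hc.symm
  rw [← heq] at hmem
  obtain ⟨x, hx⟩ := hmem
  exact ⟨x, by rw [← hN, hx]; rfl⟩

variable {V : Type*} [AddCommGroup V] [Module F V]

theorem herm_exists_nonzero {σ : F →+* F} (hσ : σ ≠ RingHom.id F) (B : V →ₛₗ[σ] V →ₗ[F] F)
    (hS : ∀ u v, σ (B u v) = B v u) {u v : V} (huv : B u v ≠ 0) : ∃ w, B w w ≠ 0 := by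
  by_contra hall
  push Not at hall
  have hadd : ∀ v w, B v w + B w v = 0 := fun v w => by
    have h := hall (v + w)
    simp only [map_add, LinearMap.add_apply, hall] at h
    linear_combination h
  apply hσ
  have hneg : ∀ v w, σ (B v w) = -(B v w) := fun v w => by
    rw [hS v w]
    linear_combination hadd v w
  refine RingHom.ext fun a => ?_
  have h1 := hneg u (a • v)
  rw [map_smul, smul_eq_mul, map_mul, hneg u v] at h1
  simp only [RingHom.id_apply]
  refine mul_right_cancel₀ huv ?_
  linear_combination -h1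

/-- Orthonormal bases of non-degenerate Hermitian forms over finite fields. -/
theorem exists_orthonormal_basis [Finite F] {σ : F →+* F} (hσ : σ ≠ RingHom.id F) (hσ2 : ∀ a, σ (σ a) = a)
    (n : ℕ) : ∀ {V : Type*} [AddCommGroup V] [Module F V] [FiniteDimensional F V]
    (B : V →ₛₗ[σ] V →ₗ[F] F), (∀ u v, σ (B u v) = B v u) → (∀ x, (∀ y, B x y = 0) → x = 0) →
    Module.finrank F V = n → ∃ b : Module.Basis (Fin n) F V, ∀ i j, B (b i) (b j) = if i = j then 1 else 0 := by
  induction n with
  | zero =>
    intro V _ _ _ B _ _ hn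
    exact ⟨Module.finBasisOfFinrankEq F V hn, fun i => i.elim0⟩
  | succ n ih =>
    intro V _ _ _ B hS hB hn
    have : Nontrivial V := Module.nontrivial_of_finrank_pos (R := F) (by omega)
    obtain ⟨u, hu⟩ := exists_ne (0 : V)
    obtain ⟨v, hv⟩ : ∃ v, B u v ≠ 0 := by
      by_contra h; push Not at h; exact hu (hB u h)
    obtain ⟨w, hw⟩ := herm_exists_nonzero hσ B hS hv
    obtain ⟨x, hx⟩ := exists_norm_eq hσ hσ2 (c := (B w w)⁻¹) (by rw [map_inv₀, hS])
    obtain ⟨e, he⟩ : ∃ e, e = x • w := ⟨_, rfl⟩
    have hee : B e e = 1 := by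
      simp only [he, LinearMap.map_smulₛₗ, LinearMap.smul_apply, map_smul, smul_eq_mul]
      linear_combination (B w w) * hx + mul_inv_cancel₀ hw
    set W := LinearMap.ker (B e) with hW
    have hdim : Module.finrank F W = n := by
      have := Module.Dual.finrank_ker_add_one_of_ne_zero (f := B e) (fun h => by
        have := LinearMap.congr_fun h e
        rw [hee] at this
        exact one_ne_zero this)
      rw [← hW] at this
      omega
    have hdec : ∀ z, z - B e z • e ∈ W := fun z => by simp [W, hee]
    have hperp : ∀ z : W, B e (z : V) = 0 ∧ B (z : V) e = 0 := fun z =>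
      ⟨z.2, by rw [← hS e (z : V), show B e (z : V) = 0 from z.2, map_zero]⟩
    obtain ⟨b, hb⟩ := ih
      ((LinearMap.mk₂'ₛₗ σ (RingHom.id F) (fun p r : W => B (p : V) (r : V))
        (fun _ _ _ => by simp) (fun _ _ _ => by simp) (fun _ _ _ => by simp) (fun _ _ _ => by simp) :
          W →ₛₗ[σ] W →ₗ[F] F))
      (fun p r => hS _ _) (fun p hp => Subtype.ext (hB _ fun z => by
        have h1 : B (p : V) (z - B e z • e) = 0 := hp ⟨_, hdec z⟩
        rw [map_sub, map_smul, (hperp p).2, smul_zero, sub_zero] at h1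
        exact h1)) hdim
    have hli : ∀ (c : F), ∀ z ∈ W, c • e + z = 0 → c = 0 := by
      intro c z hz h
      have h' := congrArg (B e) h
      simpa [hee, show B e z = 0 from hz] using h'
    refine ⟨Module.Basis.mkFinCons e b hli fun z => ⟨-(B e z), by simp [W, hee]⟩, fun i j => ?_⟩
    rw [Module.Basis.coe_mkFinCons]
    induction i using Fin.cases with
    | zero =>
      induction j using Fin.cases with
      | zero => simp [hee]
      | succ j => simp [(hperp (b j)).1, (Fin.succ_ne_zero j).symm]
    | succ i =>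
      induction j using Fin.cases with
      | zero => simp [(hperp (b i)).2, Fin.succ_ne_zero i]
      | succ j => simpa [Fin.succ_inj] using hb i j

end CfsgLib.Geom
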