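import Mathlib
import Cfsg.Prelude.Def_LieClassical
import Cfsg.Agent.Lib.Geom.WittSesq
import Cfsg.Agent.Lib.Classical.Preserving
import Cfsg.Agent.Lib.Classical.HermOrder
import Cfsg.Agent.Lib.Geom.HermNorm

set_option autoImplicit false

/-!
The general unitary group as the isometry group of the standard Hermitian form.
-/

namespace CfsgLib.Geom

open CfsgLib.Classical (glLin glLin_apply hermB hermB_apply qFrob)

variable {F : Type*} [Field F] [Fintype F] {q : ℕ}

theorem map_gu (hF : Fintype.card F = q ^ 2) (n : ℕ) :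
    (Cfsg.GU n F q).map (glLin (ι := Fin n) (F := F)).toMonoidHom = formIsoms (hermB hF n) := by
  ext g
  obtain ⟨h, rfl⟩ := (glLin (ι := Fin n) (F := F)).surjective g
  rw [Subgroup.mem_map_equiv, MulEquiv.symm_apply_apply]
  simp only [mem_formIsoms, hermB_apply, glLin_apply]
  exact ⟨fun hh u v => hh v u, fun hh u v => hh v u⟩

/-- `GU` as the isometry group of `hermB`. -/
noncomputable def guEquiv (hF : Fintype.card F = q ^ 2) (n : ℕ) :
    Cfsg.GU n F q ≃* formIsoms (hermB hF n) :=
  ((glLin (ι := Fin n) (F := F)).subgroupMap _).trans (MulEquiv.subgroupCongr (map_gu hF n))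

theorem guEquiv_apply (hF : Fintype.card F = q ^ 2) {n : ℕ} (g : Cfsg.GU n F q) (v : Fin n → F) :
    (guEquiv hF n g : (Fin n → F) ≃ₗ[F] (Fin n → F)) v =
      ((g : Matrix.GeneralLinearGroup (Fin n) F) : Matrix (Fin n) (Fin n) F).mulVec v := by
  rfl

/-- A non-degenerate Hermitian space is isometric to the standard one. -/
theorem exists_isometry_hermB (hF : Fintype.card F = q ^ 2) (k : ℕ) {V : Type*} [AddCommGroup V]
    [Module F V] [FiniteDimensional F V] (B : V →ₛₗ[qFrob hF] V →ₗ[F] F)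
    (hS : ∀ u v, qFrob hF (B u v) = B v u) (hB : ∀ x, (∀ y, B x y = 0) → x = 0)
    (hk : Module.finrank F V = k) :
    ∃ e : V ≃ₗ[F] (Fin k → F), ∀ x y, hermB hF k (e x) (e y) = B x y := by
  obtain ⟨b, hb⟩ := exists_orthonormal_basis (CfsgLib.Classical.qFrob_ne_id hF)
    (CfsgLib.Classical.qFrob_qFrob hF) k B hS hB hk
  refine ⟨b.equivFun, fun x y => ?_⟩
  obtain ⟨a, rfl⟩ := b.equivFun.symm.surjective x
  obtain ⟨c, rfl⟩ := b.equivFun.symm.surjective y
  rw [LinearEquiv.apply_symm_apply, LinearEquiv.apply_symm_apply, hermB_apply, Cfsg.hermForm,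
    Module.Basis.equivFun_symm_apply, Module.Basis.equivFun_symm_apply]
  simp only [map_sum, LinearMap.sum_apply, LinearMap.map_smulₛₗ, LinearMap.smul_apply, map_smul,
    smul_eq_mul, hb, mul_ite, mul_one, mul_zero, Finset.sum_ite_eq, Finset.sum_ite_eq',
    Finset.mem_univ, if_true, CfsgLib.Classical.qFrob_apply, RingHom.id_apply]

end CfsgLib.Geom
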