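import Mathlib
import Cfsg.Agent.Lib.Classical.PGLTwo

set_option autoImplicit false

/-!
Elements of `PGL_2` as transformations of the projective line: the affine group fixing the point at infinity, the
lower unipotent elements, and fixed points.
-/

namespace CfsgLib.Geom.Moebius

open Matrix Projectivization
open scoped MatrixGroups LinearAlgebra.Projectivization

variable {E : Type*} [Field E]

/-- The projective line. -/
abbrev Line (E : Type*) [Field E] := ℙ E (Fin 2 → E)

/-- The point at infinity. -/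
def inf : Line E := Projectivization.mk E (![1, 0] : Fin 2 → E) CfsgLib.Classical.stdVec_zero_ne

/-- A finite point. -/
def pt (x : E) : Line E := Projectivization.mk E (![x, 1] : Fin 2 → E) fun h => one_ne_zero (congrFun h 1)

theorem pt_injective : Function.Injective (pt (E := E)) := by
  intro x y h
  obtain ⟨a, ha⟩ := (mk_eq_mk_iff' E _ _ _ _).1 h
  have h0 := congrFun ha 0
  have h1 := congrFun ha 1
  simp at h0 h1
  rw [← h0, h1, one_mul]

theorem pt_ne_inf (x : E) : pt x ≠ inf := by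
  intro h
  obtain ⟨a, ha⟩ := (mk_eq_mk_iff' E _ _ _ _).1 h
  simpa using congrFun ha 1

theorem point_cases (P : Line E) : P = inf ∨ ∃ x, P = pt x := by
  induction P using Projectivization.ind with | _ v hv =>
  by_cases h1 : v 1 = 0
  · refine Or.inl ((mk_eq_mk_iff' E _ _ _ _).2 ⟨v 0, funext fun i => ?_⟩)
    fin_cases i <;> simp [h1]
  · refine Or.inr ⟨v 0 / v 1, (mk_eq_mk_iff' E _ _ _ _).2 ⟨v 1, funext fun i => ?_⟩⟩
    fin_cases i <;> simp [mul_div_cancel₀ _ h1]

theorem gl_smul_mk_eq (g : GL (Fin 2) E) {v w : Fin 2 → E} (hv : v ≠ 0) (hw : w ≠ 0)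
    (h : ∃ t : E, (g : Matrix (Fin 2) (Fin 2) E) *ᵥ v = t • w) :
    ProjGenLinGroup.mk g • Projectivization.mk E v hv = Projectivization.mk E w hw := by
  rw [PGL.mk_smul_mk, mk_eq_mk_iff']
  obtain ⟨t, ht⟩ := h
  exact ⟨t, by rw [← ht]; simp [Units.smul_def, smul_eq_mulVec]⟩

/-- The matrix of `x ↦ a x + b`. -/
noncomputable def affGL (a : Eˣ) (b : E) : GL (Fin 2) E :=
  GeneralLinearGroup.mk'' !![(a : E), b; 0, 1] (by rw [det_fin_two_of]; simp)

/-- The transformation `x ↦ a x + b`. -/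
noncomputable def aff (a : Eˣ) (b : E) : PGL(2, E) := ProjGenLinGroup.mk (affGL a b)

theorem aff_smul_inf (a : Eˣ) (b : E) : aff a b • (inf : Line E) = inf :=
  gl_smul_mk_eq _ _ _ ⟨a, by ext i; fin_cases i <;> simp [affGL, mulVec, dotProduct]⟩

theorem aff_smul_pt (a : Eˣ) (b x : E) : aff a b • pt x = pt (a * x + b) :=
  gl_smul_mk_eq _ _ _ ⟨1, by ext i; fin_cases i <;> simp [affGL, mulVec, dotProduct]⟩

/-- Transformations agreeing at three points are equal. -/
theorem eq_of_agree {g h : PGL(2, E)} (h0 : g • (inf : Line E) = h • inf)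
    (h1 : g • pt (0 : E) = h • pt 0) (h2 : g • pt (1 : E) = h • pt 1) : g = h := by
  have : h⁻¹ * g = 1 := CfsgLib.Classical.pgl_two_eq_one_of_fix _ inf (pt 0) (pt 1)
    (pt_ne_inf _).symm (pt_ne_inf _).symm (pt_injective.ne zero_ne_one)
    (by rw [mul_smul, h0, inv_smul_smul]) (by rw [mul_smul, h1, inv_smul_smul])
    (by rw [mul_smul, h2, inv_smul_smul])
  exact (inv_mul_eq_one.1 this).symm

theorem aff_mul (a c : Eˣ) (b d : E) : aff a b * aff c d = aff (a * c) (a * d + b) := by
  refine eq_of_agree ?_ ?_ ?_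
  · rw [mul_smul, aff_smul_inf, aff_smul_inf, aff_smul_inf]
  · rw [mul_smul, aff_smul_pt, aff_smul_pt, aff_smul_pt]
    congr 1; push_cast; ring
  · rw [mul_smul, aff_smul_pt, aff_smul_pt, aff_smul_pt]
    congr 1; push_cast; ring

theorem aff_one : aff (1 : Eˣ) 0 = 1 := by
  refine eq_of_agree ?_ ?_ ?_ <;> simp [aff_smul_inf, aff_smul_pt]

theorem aff_inj {a c : Eˣ} {b d : E} (h : aff a b = aff c d) : a = c ∧ b = d := by
  have h0 := congrArg (· • pt (0 : E)) h
  have h1 := congrArg (· • pt (1 : E)) h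
  simp only [aff_smul_pt] at h0 h1
  have e0 := pt_injective h0
  have e1 := pt_injective h1
  simp at e0 e1
  subst e0
  exact ⟨Units.ext (add_right_cancel e1), rfl⟩

theorem exists_aff_of_fix {g : PGL(2, E)} (h : g • (inf : Line E) = inf) : ∃ a b, g = aff a b := by
  rcases point_cases (g • pt (0 : E)) with h0 | ⟨b, hb⟩
  · exact absurd (smul_left_cancel g (h0.trans h.symm)) (pt_ne_inf 0)
  rcases point_cases (g • pt (1 : E)) with h1 | ⟨c, hc⟩
  · exact absurd (smul_left_cancel g (h1.trans h.symm)) (pt_ne_inf 1)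
  have hcb : c - b ≠ 0 := fun e => one_ne_zero
    (pt_injective (smul_left_cancel g (hc.trans (by rw [sub_eq_zero.1 e, ← hb]))))
  refine ⟨Units.mk0 (c - b) hcb, b, eq_of_agree ?_ ?_ ?_⟩
  · rw [h, aff_smul_inf]
  · rw [hb, aff_smul_pt]; simp
  · rw [hc, aff_smul_pt]; simp

/-- The inversion `x ↦ 1/x`. -/
noncomputable def swapElem : PGL(2, E) := ProjGenLinGroup.mk (GeneralLinearGroup.mk'' !![0, 1; 1, 0] (by
  rw [det_fin_two_of]; simp))

theorem swap_smul_inf : (swapElem : PGL(2, E)) • (inf : Line E) = pt 0 :=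
  gl_smul_mk_eq _ _ _ ⟨1, by ext i; fin_cases i <;> simp [mulVec, dotProduct]⟩

theorem swap_smul_zero : (swapElem : PGL(2, E)) • pt (0 : E) = inf :=
  gl_smul_mk_eq _ _ _ ⟨1, by ext i; fin_cases i <;> simp [mulVec, dotProduct]⟩

theorem swap_smul_pt {x : E} (hx : x ≠ 0) : (swapElem : PGL(2, E)) • pt x = pt x⁻¹ :=
  gl_smul_mk_eq _ _ _ ⟨x, by ext i; fin_cases i <;> simp [mulVec, dotProduct, hx]⟩

theorem swap_mul_swap : (swapElem : PGL(2, E)) * swapElem = 1 := by
  refine eq_of_agree ?_ ?_ ?_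
  · rw [mul_smul, swap_smul_inf, swap_smul_zero, one_smul]
  · rw [mul_smul, swap_smul_zero, swap_smul_inf, one_smul]
  · rw [mul_smul, swap_smul_pt one_ne_zero, inv_one, swap_smul_pt one_ne_zero, inv_one, one_smul]

theorem swap_inv : (swapElem : PGL(2, E))⁻¹ = swapElem := inv_eq_of_mul_eq_one_right swap_mul_swap

/-- The transformation `x ↦ x / (b x + 1)`. -/
noncomputable def low (b : E) : PGL(2, E) := swapElem * aff 1 b * swapElem

theorem low_smul_zero (b : E) : low b • pt (0 : E) = pt 0 := by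
  rw [low, mul_smul, mul_smul, swap_smul_zero, aff_smul_inf, swap_smul_inf]

theorem low_smul_inf {b : E} (hb : b ≠ 0) : low b • (inf : Line E) = pt b⁻¹ := by
  rw [low, mul_smul, mul_smul, swap_smul_inf, aff_smul_pt]
  simp [swap_smul_pt hb]

theorem low_smul_pt {b x : E} (hx : x ≠ 0) (h : b * x + 1 ≠ 0) : low b • pt x = pt (x / (b * x + 1)) := by
  rw [low, mul_smul, mul_smul, swap_smul_pt hx, aff_smul_pt]
  have h1 : ((1 : Eˣ) : E) * x⁻¹ + b = (b * x + 1) / x := by
    rw [Units.val_one]; field_simp; ring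
  rw [h1, swap_smul_pt (div_ne_zero h hx), inv_div]

theorem low_mul (b c : E) : low b * low c = low (b + c) := by
  rw [low, low, low, show swapElem * aff 1 b * swapElem * (swapElem * aff 1 c * swapElem) =
    swapElem * aff 1 b * (swapElem * swapElem) * aff 1 c * swapElem by group, swap_mul_swap, mul_one,
    mul_assoc swapElem (aff 1 b) (aff 1 c), aff_mul]
  congr 3
  · simp
  · rw [Units.val_one]; ring

theorem exists_low_or_second {g : PGL(2, E)} (h : g • pt (0 : E) = pt 0)
    (huniq : ∀ P : Line E, g • P = P → P = pt 0) : ∃ b, g = low b := by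
  have h' : (swapElem * g * swapElem) • (inf : Line E) = inf := by
    rw [mul_smul, mul_smul, swap_smul_inf, h, swap_smul_zero]
  obtain ⟨a, b, hab⟩ := exists_aff_of_fix h'
  have hg : g = swapElem * aff a b * swapElem := by
    rw [← hab, show swapElem * (swapElem * g * swapElem) * swapElem =
      (swapElem * swapElem) * g * (swapElem * swapElem) by group, swap_mul_swap, one_mul, mul_one]
  by_cases ha : a = 1
  · exact ⟨b, by rw [hg, ha]; rfl⟩
  · exfalso
    have ha' : (a : E) - 1 ≠ 0 := sub_ne_zero.2 fun e => ha (Units.ext e)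
    have := huniq (swapElem • pt (-b / (a - 1))) (by
      rw [hg, mul_smul, mul_smul, ← mul_smul swapElem swapElem, swap_mul_swap, one_smul, aff_smul_pt]
      congr 2
      field_simp
      ring)
    have h2 := congrArg (fun P => (swapElem : PGL(2, E)) • P) this
    rw [← mul_smul, swap_mul_swap, one_smul, swap_smul_zero] at h2
    exact pt_ne_inf _ h2

theorem fixed_aff_cases {a : Eˣ} {b : E} {P : Line E} (h : aff a b • P = P) :
    P = inf ∨ (a ≠ 1 ∧ P = pt (b / (1 - a))) ∨ (a = 1 ∧ b = 0) := by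
  rcases point_cases P with rfl | ⟨x, rfl⟩
  · exact Or.inl rfl
  · rw [aff_smul_pt] at h
    have e := pt_injective h
    by_cases ha : a = 1
    · subst ha
      exact Or.inr (Or.inr ⟨rfl, by simpa using e⟩)
    · refine Or.inr (Or.inl ⟨ha, congrArg pt ?_⟩)
      have ha' : (1 : E) - a ≠ 0 := sub_ne_zero.2 fun e => ha (Units.ext e.symm)
      rw [eq_div_iff ha']
      linear_combination -e

theorem aff_smul_fixed {a : Eˣ} (b : E) (ha : a ≠ 1) : aff a b • pt (b / (1 - a)) = pt (b / (1 - (a : E))) := by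
  have ha' : (1 : E) - a ≠ 0 := sub_ne_zero.2 fun e => ha (Units.ext e.symm)
  rw [aff_smul_pt]
  congr 1
  field_simp
  ring

theorem exists_map3 {P Q R : Line E} (hPQ : P ≠ Q) (hPR : P ≠ R) (hQR : Q ≠ R) :
    ∃ g : PGL(2, E), g • (inf : Line E) = P ∧ g • pt (0 : E) = Q ∧ g • pt (1 : E) = R := by
  obtain ⟨g, h1, h2, h3⟩ := CfsgLib.Classical.exists_gl_smul_std P Q R hPQ hPR hQR
  exact ⟨_, h1, h2, h3⟩

theorem exists_third (P Q : Line E) : ∃ R, P ≠ R ∧ Q ≠ R := by
  by_contra h
  push Not at h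
  have c0 : (pt (0 : E) = P ∨ pt (0 : E) = Q) := by
    by_cases e : P = pt 0
    · exact Or.inl e.symm
    · exact Or.inr (h _ e).symm
  have c1 : (pt (1 : E) = P ∨ pt (1 : E) = Q) := by
    by_cases e : P = pt 1
    · exact Or.inl e.symm
    · exact Or.inr (h _ e).symm
  have c2 : ((inf : Line E) = P ∨ (inf : Line E) = Q) := by
    by_cases e : P = inf
    · exact Or.inl e.symm
    · exact Or.inr (h _ e).symm
  have n01 : pt (0 : E) ≠ pt 1 := pt_injective.ne zero_ne_one
  rcases c0 with a | a <;> rcases c1 with b | b <;> rcases c2 with c | c <;>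
    first
      | exact n01 (a.trans b.symm)
      | exact pt_ne_inf 0 (a.trans c.symm)
      | exact pt_ne_inf 1 (b.trans c.symm)

theorem exists_map2 {P Q : Line E} (hPQ : P ≠ Q) :
    ∃ g : PGL(2, E), g • (inf : Line E) = P ∧ g • pt (0 : E) = Q := by
  obtain ⟨R, h1, h2⟩ := exists_third P Q
  obtain ⟨g, a, b, -⟩ := exists_map3 hPQ h1 h2
  exact ⟨g, a, b⟩

theorem exists_map1 (P : Line E) : ∃ g : PGL(2, E), g • (inf : Line E) = P := by
  obtain ⟨R, h1, -⟩ := exists_third P P
  obtain ⟨g, a, -⟩ := exists_map2 h1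
  exact ⟨g, a⟩

end CfsgLib.Geom.Moebius
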