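import Mathlib
import Cfsg.Agent.Lib.Geom.MoebiusBasic

set_option autoImplicit false

/-!
The stabiliser of the point at infinity in a finite subgroup of `PGL_2`: translations and multipliers.
-/

namespace CfsgLib.Geom.Moebius

open scoped MatrixGroups

variable {E : Type*} [Field E]

theorem aff_inv (a : Eˣ) (b : E) : (aff a b)⁻¹ = aff a⁻¹ (-(↑a⁻¹ * b)) := by
  refine inv_eq_of_mul_eq_one_right ?_
  rw [aff_mul, mul_inv_cancel, mul_neg, ← mul_assoc, Units.mul_inv, one_mul, neg_add_cancel, aff_one]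

theorem aff_conj_trans (a : Eˣ) (b t : E) : aff a b * aff 1 t * (aff a b)⁻¹ = aff 1 (a * t) := by
  rw [aff_inv, aff_mul, aff_mul]
  congr 1
  · rw [mul_one, mul_inv_cancel]
  · rw [mul_one, mul_neg, ← mul_assoc, Units.mul_inv, one_mul]; ring

/-- The translations in `G`. -/
def transSet (G : Subgroup PGL(2, E)) : AddSubgroup E where
  carrier := {t | aff 1 t ∈ G}
  zero_mem' := by
    show aff 1 0 ∈ G
    rw [aff_one]; exact one_mem G
  add_mem' := fun {s t} hs ht => by
    show aff 1 (s + t) ∈ G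
    have := mul_mem (show aff 1 s ∈ G from hs) (show aff 1 t ∈ G from ht)
    rwa [aff_mul, one_mul, Units.val_one, one_mul, add_comm] at this
  neg_mem' := fun {t} ht => by
    show aff 1 (-t) ∈ G
    have := inv_mem (show aff 1 t ∈ G from ht)
    rwa [aff_inv, inv_one, Units.val_one, one_mul] at this

theorem mem_transSet {G : Subgroup PGL(2, E)} {t : E} : t ∈ transSet G ↔ aff 1 t ∈ G := Iff.rfl

/-- The multipliers in `G`. -/
def multSet (G : Subgroup PGL(2, E)) : Subgroup Eˣ where
  carrier := {a | ∃ b, aff a b ∈ G}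
  one_mem' := ⟨0, by rw [aff_one]; exact one_mem G⟩
  mul_mem' := fun {a c} ⟨b, hb⟩ ⟨d, hd⟩ => ⟨_, aff_mul a c b d ▸ mul_mem hb hd⟩
  inv_mem' := fun {a} ⟨b, hb⟩ => ⟨_, aff_inv a b ▸ inv_mem hb⟩

theorem mem_multSet {G : Subgroup PGL(2, E)} {a : Eˣ} : a ∈ multSet G ↔ ∃ b, aff a b ∈ G := Iff.rfl

variable (G : Subgroup PGL(2, E))

/-- The stabiliser of infinity in `G`. -/
noncomputable def stabInf : Subgroup PGL(2, E) := G ⊓ MulAction.stabilizer PGL(2, E) (inf : Line E)

theorem mem_stabInf {g : PGL(2, E)} :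
    g ∈ stabInf G ↔ ∃ a b, g = aff a b ∧ aff a b ∈ G := by
  rw [stabInf, Subgroup.mem_inf, MulAction.mem_stabilizer_iff]
  constructor
  · rintro ⟨hg, hinf⟩
    obtain ⟨a, b, rfl⟩ := exists_aff_of_fix hinf
    exact ⟨a, b, rfl, hg⟩
  · rintro ⟨a, b, rfl, hg⟩
    exact ⟨hg, aff_smul_inf a b⟩

theorem smul_transSet {a : Eˣ} (ha : a ∈ multSet G) {t : E} (ht : t ∈ transSet G) :
    (a : E) * t ∈ transSet G := by
  obtain ⟨b, hb⟩ := ha
  rw [mem_transSet, ← aff_conj_trans a b t]
  exact mul_mem (mul_mem hb ht) (inv_mem hb)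

theorem card_stabInf :
    Nat.card (stabInf G) = Nat.card (multSet G) * Nat.card (transSet G) := by
  choose β hβ using fun a : multSet G => a.2
  rw [← Nat.card_prod]
  refine (Nat.card_congr (Equiv.ofBijective
    (fun p : multSet G × transSet G => (⟨aff p.1.1 ((p.2 : E) + β p.1), (mem_stabInf G).2
      ⟨_, _, rfl, by
        have := mul_mem (mem_transSet.1 p.2.2) (hβ p.1)
        rwa [aff_mul, one_mul, Units.val_one, one_mul, add_comm] at this⟩⟩ : stabInf G)) ⟨?_, ?_⟩)).symm
  · rintro ⟨a, t⟩ ⟨c, s⟩ h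
    obtain ⟨h1, h2⟩ := aff_inj (congrArg Subtype.val h)
    obtain rfl : a = c := Subtype.ext h1
    exact Prod.ext rfl (Subtype.ext (add_right_cancel h2))
  · rintro ⟨g, hg⟩
    obtain ⟨a, b, rfl, hab⟩ := (mem_stabInf G).1 hg
    refine ⟨(⟨a, b, hab⟩, ⟨b - β ⟨a, b, hab⟩, ?_⟩), Subtype.ext ?_⟩
    · have := mul_mem hab (inv_mem (hβ ⟨a, b, hab⟩))
      rw [aff_inv, aff_mul, mul_inv_cancel, mul_neg, ← mul_assoc, Units.mul_inv, one_mul] at this
      rwa [mem_transSet, sub_eq_add_neg, add_comm]
    · show aff a _ = aff a b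
      rw [sub_add_cancel]

variable [Finite G]

theorem finite_stabInf : Finite (stabInf G) :=
  Finite.of_injective (Subgroup.inclusion (show stabInf G ≤ G from inf_le_left))
    (Subgroup.inclusion_injective _)

theorem finite_transSet : Finite (transSet G) :=
  Finite.of_injective (fun t => (⟨aff 1 t.1, t.2⟩ : G)) fun s t h =>
    Subtype.ext (aff_inj (congrArg Subtype.val h)).2

theorem finite_multSet : Finite (multSet G) := by
  choose β hβ using fun a : multSet G => a.2
  exact Finite.of_injective (fun a => (⟨aff a.1 (β a), hβ a⟩ : G)) fun a c h =>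
    Subtype.ext (aff_inj (congrArg Subtype.val h)).1

theorem isCyclic_multSet : IsCyclic (multSet G) := by
  have := finite_multSet G
  exact subgroup_units_cyclic (multSet G)

theorem multSet_dvd : Nat.card (multSet G) ∣ Nat.card (transSet G) - 1 := by
  classical
  have := finite_multSet G
  have := finite_transSet G
  let X := {t : transSet G // t ≠ 0}
  let _ : MulAction (multSet G) X :=
    { smul := fun a t => ⟨⟨(a.1 : E) * t.1.1, smul_transSet G a.2 t.1.2⟩, fun h => t.2
        (Subtype.ext ((mul_eq_zero.1 (congrArg Subtype.val h)).resolve_left a.1.ne_zero))⟩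
      one_smul := fun t => Subtype.ext (Subtype.ext (show ((1 : Eˣ) : E) * _ = _ by simp))
      mul_smul := fun a c t => Subtype.ext (Subtype.ext (show ((a.1 * c.1 : Eˣ) : E) * _ = _ from by
        rw [Units.val_mul, mul_assoc]; rfl)) }
  have hfree : ∀ t : X, MulAction.stabilizer (multSet G) t = ⊥ := fun t => by
    rw [eq_bot_iff]
    intro a ha
    have h : (a.1 : E) * t.1.1 = t.1.1 :=
      congrArg (fun s : X => (s.1.1 : E)) (MulAction.mem_stabilizer_iff.1 ha)
    rw [Subgroup.mem_bot]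
    refine Subtype.ext (Units.ext ?_)
    exact mul_right_cancel₀ (fun e => t.2 (Subtype.ext e)) (h.trans (one_mul _).symm)
  have hX : Nat.card X = Nat.card (transSet G) - 1 := by
    have : Fintype (transSet G) := Fintype.ofFinite _
    rw [Nat.card_eq_fintype_card, Fintype.card_subtype_compl, Fintype.card_subtype_eq,
      Nat.card_eq_fintype_card]
  rw [← hX, Nat.card_congr (MulAction.selfEquivOrbitsQuotientProd' (φ := Quotient.out)
    Quotient.out_eq' hfree), Nat.card_prod]
  exact dvd_mul_left _ _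

theorem card_transSet_pow (p : ℕ) [Fact p.Prime] [CharP E p] :
    ∃ r : ℕ, Nat.card (transSet G) = p ^ r := by
  have := finite_transSet G
  have h : IsPGroup p (Multiplicative (transSet G)) := fun t => ⟨1, show t ^ p ^ 1 = 1 by
    rw [pow_one, ← ofAdd_toAdd t, ← ofAdd_nsmul, ← ofAdd_zero]
    refine congrArg _ (Subtype.ext ?_)
    simp [AddSubgroup.coe_nsmul, nsmul_eq_mul, CharP.cast_eq_zero E p]⟩
  obtain ⟨r, hr⟩ := IsPGroup.iff_card.1 h
  exact ⟨r, (Nat.card_congr Multiplicative.ofAdd).trans hr⟩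

theorem not_dvd_multSet (p : ℕ) [Fact p.Prime] [CharP E p] : ¬ p ∣ Nat.card (multSet G) := by
  have := finite_multSet G
  intro h
  obtain ⟨a, ha⟩ := exists_prime_orderOf_dvd_card' p h
  have h1 : ((a.1 : E) ^ p) = 1 := by
    have := congrArg (fun x : multSet G => ((x.1 : Eˣ) : E)) (ha ▸ pow_orderOf_eq_one a)
    simpa using this
  have h2 : ((a.1 : E) - 1) ^ p = 0 := by
    rw [sub_pow_char, h1, one_pow, sub_self]
  have h3 : a = 1 := Subtype.ext (Units.ext (sub_eq_zero.1 (pow_eq_zero_iff (Fact.out : p.Prime).ne_zero |>.1 h2)))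
  rw [h3, orderOf_one] at ha
  exact (Fact.out : p.Prime).one_lt.ne ha

omit [Finite G] in
theorem isCyclic_of_transSet_bot (h : transSet G = ⊥) [Finite (stabInf G)] : IsCyclic (stabInf G) := by
  have hex : ∀ g : stabInf G, ∃ a : Eˣ, ∃ b, g.1 = aff a b := fun g => by
    obtain ⟨a, b, e, -⟩ := (mem_stabInf G).1 g.2; exact ⟨a, b, e⟩
  choose f b hfb using hex
  have huniq : ∀ (g : stabInf G) a c, g.1 = aff a c → f g = a := fun g a c e =>
    (aff_inj ((hfb g).symm.trans e)).1
  let φ : stabInf G →* E :=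
    { toFun := fun g => (f g : E)
      map_one' := by rw [huniq 1 1 0 aff_one.symm, Units.val_one]
      map_mul' := fun g k => by
        rw [huniq (g * k) (f g * f k) _ (by rw [Subgroup.coe_mul, hfb g, hfb k, aff_mul]), Units.val_mul] }
  refine isCyclic_of_subgroup_isDomain φ fun g k hgk => ?_
  have hfk : f g = f k := Units.ext hgk
  have hmem : b g - b k ∈ transSet G := by
    have := mul_mem g.2 (inv_mem k.2)
    rw [hfb g, hfb k, hfk, aff_inv, aff_mul, mul_inv_cancel, mul_neg, ← mul_assoc, Units.mul_inv,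
      one_mul, neg_add_eq_sub, mem_stabInf] at this
    obtain ⟨a, c, e, hac⟩ := this
    rw [mem_transSet, e]
    exact hac
  rw [h, AddSubgroup.mem_bot, sub_eq_zero] at hmem
  exact Subtype.ext (by rw [hfb g, hfb k, hfk, hmem])

omit [Finite G] in
/-- Without translations the stabiliser of infinity has a second fixed point. -/
theorem exists_second_fixed (h : transSet G = ⊥) [Finite (stabInf G)] :
    ∃ x : E, ∀ g ∈ stabInf G, g • pt x = pt x := by
  by_cases hone : ∀ g ∈ stabInf G, g = 1
  · exact ⟨0, fun g hg => by rw [hone g hg, one_smul]⟩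
  push Not at hone
  obtain ⟨s, hs, hs1⟩ := hone
  obtain ⟨a, b, rfl, hab⟩ := (mem_stabInf G).1 hs
  have ha : a ≠ 1 := by
    rintro rfl
    have : b ∈ transSet G := hab
    rw [h, AddSubgroup.mem_bot] at this
    exact hs1 (by rw [this, aff_one])
  refine ⟨b / (1 - a), fun g hg => ?_⟩
  have hcomm : g * aff a b = aff a b * g := by
    have := (isCyclic_of_transSet_bot G h).isMulCommutative
    exact congrArg Subtype.val (this.is_comm.comm (⟨g, hg⟩ : stabInf G) ⟨aff a b, hs⟩)
  have hfix : aff a b • g • pt (b / (1 - (a : E))) = g • pt (b / (1 - (a : E))) := by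
    rw [← mul_smul, ← hcomm, mul_smul, aff_smul_fixed b ha]
  rcases fixed_aff_cases hfix with e | ⟨-, e⟩ | ⟨e, -⟩
  · have hg' : g • (inf : Line E) = inf := (Subgroup.mem_inf.1 hg).2
    exact absurd (smul_left_cancel g (e.trans hg'.symm)) (pt_ne_inf _)
  · exact e
  · exact absurd e ha

end CfsgLib.Geom.Moebius
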