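import Mathlib
import Cfsg.Agent.Lib.Geom.MoebiusStab

set_option autoImplicit false

/-!
Counting fixed points of a finite subgroup of `PGL_2` on the projective line.
-/

namespace CfsgLib.Geom.Moebius

open scoped MatrixGroups

variable {E : Type*} [Field E] (G : Subgroup PGL(2, E))

/-- The stabiliser of a point in `G`. -/
noncomputable def stabAt (P : Line E) : Subgroup PGL(2, E) := G ⊓ MulAction.stabilizer PGL(2, E) P

/-- The elements of `G` with `P` as the only fixed point. -/
def paraAt (P : Line E) : Set PGL(2, E) :=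
  {g | g ∈ G ∧ g • P = P ∧ ∀ Q : Line E, g • Q = Q → Q = P}

theorem mem_stabAt {g : PGL(2, E)} {P : Line E} : g ∈ stabAt G P ↔ g ∈ G ∧ g • P = P := by
  rw [stabAt, Subgroup.mem_inf, MulAction.mem_stabilizer_iff]

theorem stabAt_inf : stabAt G inf = stabInf G := rfl

/-- `G` moved by `m`. -/
noncomputable def conjBy (m : PGL(2, E)) : Subgroup PGL(2, E) := G.map (MulAut.conj m).toMonoidHom

theorem mem_conjBy {m g : PGL(2, E)} : g ∈ conjBy G m ↔ m⁻¹ * g * m ∈ G := by
  rw [conjBy, Subgroup.mem_map_equiv]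
  simp

instance finite_conjBy [Finite G] (m : PGL(2, E)) : Finite (conjBy G m) :=
  Finite.of_equiv _ (G.equivMapOfInjective _ (MulAut.conj m).injective).toEquiv

theorem card_conjBy (m : PGL(2, E)) : Nat.card (conjBy G m) = Nat.card G :=
  (Nat.card_congr (G.equivMapOfInjective _ (MulAut.conj m).injective).toEquiv).symm

theorem stabAt_conjBy (m : PGL(2, E)) (P : Line E) :
    stabAt (conjBy G m) (m • P) = conjBy (stabAt G P) m := by
  ext g
  rw [mem_conjBy, mem_stabAt, mem_stabAt, mem_conjBy, mul_smul, mul_smul, inv_smul_eq_iff]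

theorem card_stabAt_conjBy (m : PGL(2, E)) (P : Line E) :
    Nat.card (stabAt (conjBy G m) (m • P)) = Nat.card (stabAt G P) := by
  rw [stabAt_conjBy, card_conjBy]

theorem paraAt_conjBy (m : PGL(2, E)) (P : Line E) :
    paraAt (conjBy G m) (m • P) = (fun g => m * g * m⁻¹) '' paraAt G P := by
  ext g
  constructor
  · rintro ⟨hg, hP, hu⟩
    refine ⟨m⁻¹ * g * m, ⟨(mem_conjBy G).1 hg, ?_, fun Q hQ => ?_⟩, by group⟩
    · rw [mul_smul, mul_smul, hP, inv_smul_smul]
    · rw [mul_smul, mul_smul, inv_smul_eq_iff] at hQ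
      exact smul_left_cancel m (hu _ hQ)
  · rintro ⟨h, ⟨hh, hP, hu⟩, rfl⟩
    refine ⟨(mem_conjBy G).2 (by rw [show m⁻¹ * (m * h * m⁻¹) * m = h by group]; exact hh), ?_, fun Q hQ => ?_⟩
    · rw [mul_smul, mul_smul, inv_smul_smul, hP]
    · rw [mul_smul, mul_smul, smul_eq_iff_eq_inv_smul] at hQ
      rw [← hu _ hQ, smul_inv_smul]

theorem ncard_paraAt_conjBy (m : PGL(2, E)) (P : Line E) :
    (paraAt (conjBy G m) (m • P)).ncard = (paraAt G P).ncard := by
  rw [paraAt_conjBy, Set.ncard_image_of_injective]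
  exact fun a b h => mul_left_cancel (mul_right_cancel h)

theorem conjBy_self {m : PGL(2, E)} (hm : m ∈ G) : conjBy G m = G := by
  ext g
  rw [mem_conjBy]
  refine ⟨fun h => ?_, fun h => mul_mem (mul_mem (inv_mem hm) h) hm⟩
  have := mul_mem (mul_mem hm h) (inv_mem hm)
  rwa [show m * (m⁻¹ * g * m) * m⁻¹ = g by group] at this

theorem card_stabAt_smul {g : PGL(2, E)} (hg : g ∈ G) (P : Line E) :
    Nat.card (stabAt G (g • P)) = Nat.card (stabAt G P) := by
  have := card_stabAt_conjBy G g P
  rwa [conjBy_self G hg] at this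

theorem ncard_paraAt_smul {g : PGL(2, E)} (hg : g ∈ G) (P : Line E) :
    (paraAt G (g • P)).ncard = (paraAt G P).ncard := by
  have := ncard_paraAt_conjBy G g P
  rwa [conjBy_self G hg] at this

theorem paraAt_inf : paraAt G inf = aff (1 : Eˣ) '' ((transSet G : Set E) \ {0}) := by
  ext g
  constructor
  · rintro ⟨hg, hinf, hu⟩
    obtain ⟨a, b, rfl⟩ := exists_aff_of_fix hinf
    by_cases ha : a = 1
    · subst ha
      refine ⟨b, ⟨hg, fun h0 => ?_⟩, rfl⟩
      rw [Set.mem_singleton_iff] at h0
      subst h0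
      exact pt_ne_inf 0 (hu (pt 0) (by rw [aff_one, one_smul]))
    · exact absurd (hu _ (aff_smul_fixed b ha)) (pt_ne_inf _)
  · rintro ⟨t, ⟨ht, ht0⟩, rfl⟩
    refine ⟨ht, aff_smul_inf _ _, fun Q hQ => ?_⟩
    rcases fixed_aff_cases hQ with e | ⟨e, -⟩ | ⟨-, e⟩
    · exact e
    · exact absurd rfl e
    · exact absurd e ht0

theorem ncard_paraAt_inf [Finite G] : (paraAt G inf).ncard + 1 = Nat.card (transSet G) := by
  have := finite_transSet G
  rw [paraAt_inf, Set.ncard_image_of_injective _ (fun s t h => (aff_inj h).2),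
    Set.ncard_diff_singleton_add_one (s := (transSet G : Set E)) (a := (0 : E)) (zero_mem _)
      (Set.toFinite _), ← Nat.card_coe_set_eq]
  rfl

/-- Structure of a point stabiliser. -/
theorem stabAt_data [Finite G] (p : ℕ) [Fact p.Prime] [CharP E p] (P : Line E) :
    ∃ u k r : ℕ, Nat.card (stabAt G P) = u * k ∧ (paraAt G P).ncard + 1 = u ∧ u = p ^ r ∧
      ¬ p ∣ k ∧ k ∣ u - 1 ∧ 0 < k := by
  obtain ⟨m, rfl⟩ := exists_map1 P
  have e1 := card_stabAt_conjBy G m⁻¹ (m • inf)
  have e2 := ncard_paraAt_conjBy G m⁻¹ (m • inf)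
  rw [inv_smul_smul] at e1 e2
  obtain ⟨r, hr⟩ := card_transSet_pow (conjBy G m⁻¹) p
  have := finite_multSet (conjBy G m⁻¹)
  exact ⟨Nat.card (transSet (conjBy G m⁻¹)), Nat.card (multSet (conjBy G m⁻¹)), r,
    by rw [← e1, stabAt_inf, card_stabInf, mul_comm], by rw [← e2, ncard_paraAt_inf], hr,
    not_dvd_multSet _ p, multSet_dvd _, Nat.card_pos⟩

/-- A stabiliser without parabolic elements is cyclic, with a second common fixed point. -/
theorem stabAt_cyclic [Finite G] (P : Line E) (h : paraAt G P = ∅) :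
    IsCyclic (stabAt G P) ∧ ∃ Q, Q ≠ P ∧ ∀ g ∈ stabAt G P, g • Q = Q := by
  obtain ⟨m, rfl⟩ := exists_map1 P
  set G' := conjBy G m⁻¹ with hG'
  have e1 : stabInf G' = conjBy (stabAt G (m • inf)) m⁻¹ := by
    rw [← stabAt_inf, ← stabAt_conjBy, inv_smul_smul]
  have hA : transSet G' = ⊥ := by
    have e2 := ncard_paraAt_conjBy G m⁻¹ (m • inf)
    rw [inv_smul_smul, h, Set.ncard_empty] at e2
    have e3 := ncard_paraAt_inf G'
    rw [e2] at e3
    have := finite_transSet G'
    exact AddSubgroup.eq_bot_of_card_eq _ e3.symm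
  have := finite_stabInf G'
  have hc := isCyclic_of_transSet_bot G' hA
  obtain ⟨x, hx⟩ := exists_second_fixed G' hA
  rw [e1] at hc hx
  refine ⟨?_, m • pt x, fun e => pt_ne_inf x (smul_left_cancel m e), fun g hg => ?_⟩
  · exact (((stabAt G (m • inf)).equivMapOfInjective _ (MulAut.conj m⁻¹).injective).isCyclic).2 hc
  · have := hx (m⁻¹ * g * m) ((mem_conjBy _).2 (by
      rw [show m⁻¹⁻¹ * (m⁻¹ * g * m) * m⁻¹ = g by group]; exact hg))
    rw [mul_smul, mul_smul, inv_smul_eq_iff] at this
    exact this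

/-- Distinct points share at most a torus; three fixed points force the identity. -/
theorem eq_one_of_three {g : PGL(2, E)} {P Q R : Line E} (hPQ : P ≠ Q) (hPR : P ≠ R) (hQR : Q ≠ R)
    (hP : g • P = P) (hQ : g • Q = Q) (hR : g • R = R) : g = 1 :=
  CfsgLib.Classical.pgl_two_eq_one_of_fix g P Q R hPQ hPR hQR hP hQ hR

variable [Fintype (Line E)]

/-- The weight of a point. -/
noncomputable def wt (P : Line E) : ℕ := Nat.card (stabAt G P) - 1 + (paraAt G P).ncard

theorem sum_wt [Finite G] (hfix : ∀ g ∈ G, ∃ P : Line E, g • P = P) :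
    ∑ P : Line E, wt G P = 2 * (Nat.card G - 1) := by
  classical
  have : Fintype G := Fintype.ofFinite _
  let N : Finset G := Finset.univ.erase 1
  have hw : ∀ P : Line E, wt G P =
      ∑ g ∈ N, ((if g.1 • P = P then 1 else 0) + (if g.1 ∈ paraAt G P then 1 else 0)) := by
    intro P
    rw [wt, Finset.sum_add_distrib, ← Finset.card_filter, ← Finset.card_filter]
    congr 1
    · have e : Nat.card (stabAt G P) = ((Finset.univ : Finset G).filter fun g => g.1 • P = P).card := by
        rw [← Fintype.card_subtype, ← Nat.card_eq_fintype_card]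
        exact Nat.card_congr
          { toFun := fun g => ⟨⟨g.1, ((mem_stabAt G).1 g.2).1⟩, ((mem_stabAt G).1 g.2).2⟩
            invFun := fun g => ⟨g.1.1, (mem_stabAt G).2 ⟨g.1.2, g.2⟩⟩
            left_inv := fun g => rfl
            right_inv := fun g => rfl }
      rw [e, Finset.filter_erase, Finset.card_erase_of_mem (by simp)]
    · rw [Finset.filter_erase, Finset.erase_eq_of_notMem]
      · rw [← Fintype.card_subtype, ← Nat.card_eq_fintype_card, ← Nat.card_coe_set_eq]
        exact Nat.card_congr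
          { toFun := fun g => ⟨⟨g.1, g.2.1⟩, g.2⟩
            invFun := fun g => ⟨g.1.1, g.2⟩
            left_inv := fun g => rfl
            right_inv := fun g => rfl }
      · simp only [Finset.mem_filter, Finset.mem_univ, true_and]
        rintro ⟨-, -, hu⟩
        obtain ⟨Q, hQ, -⟩ := exists_third P P
        exact hQ (hu Q (by simp)).symm
  have hone : ∀ g ∈ N, ∑ P : Line E, ((if g.1 • P = P then 1 else 0) +
      (if g.1 ∈ paraAt G P then 1 else 0)) = 2 := by
    intro g hg
    have hg1 : g.1 ≠ 1 := fun e => Finset.ne_of_mem_erase hg (Subtype.ext e)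
    rw [Finset.sum_add_distrib, ← Finset.card_filter, ← Finset.card_filter]
    obtain ⟨P, hP⟩ := hfix g.1 g.2
    by_cases hpara : ∀ Q : Line E, g.1 • Q = Q → Q = P
    · have a : (Finset.univ : Finset (Line E)).filter (fun Q => g.1 • Q = Q) = {P} := by
        ext Q
        simp only [Finset.mem_filter, Finset.mem_univ, true_and, Finset.mem_singleton]
        exact ⟨hpara Q, fun e => e ▸ hP⟩
      have b : (Finset.univ : Finset (Line E)).filter (fun Q => g.1 ∈ paraAt G Q) = {P} := by
        ext Q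
        simp only [Finset.mem_filter, Finset.mem_univ, true_and, Finset.mem_singleton]
        exact ⟨fun h => (h.2.2 P hP).symm, fun e => e ▸ ⟨g.2, hP, hpara⟩⟩
      rw [a, b]; rfl
    · push Not at hpara
      obtain ⟨R, hR, hRP⟩ := hpara
      have a : (Finset.univ : Finset (Line E)).filter (fun Q => g.1 • Q = Q) = {P, R} := by
        ext Q
        simp only [Finset.mem_filter, Finset.mem_univ, true_and, Finset.mem_insert, Finset.mem_singleton]
        refine ⟨fun h => ?_, fun e => by rcases e with rfl | rfl <;> assumption⟩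
        by_contra hne
        push Not at hne
        exact hg1 (eq_one_of_three hne.1 hne.2 hRP.symm h hP hR)
      have b : (Finset.univ : Finset (Line E)).filter (fun Q => g.1 ∈ paraAt G Q) = ∅ := by
        rw [Finset.filter_eq_empty_iff]
        intro Q _ h
        exact hRP ((h.2.2 R hR).trans (h.2.2 P hP).symm)
      rw [a, b, Finset.card_pair hRP.symm]; rfl
  simp only [hw]
  rw [Finset.sum_comm, Finset.sum_congr rfl hone, Finset.sum_const, smul_eq_mul,
    Finset.card_erase_of_mem (Finset.mem_univ _), Finset.card_univ, Nat.card_eq_fintype_card, mul_comm]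

theorem card_orbit_mul [Finite G] (P : Line E) :
    (MulAction.orbit G P).ncard * Nat.card (stabAt G P) = Nat.card G := by
  have e : Nat.card (stabAt G P) = Nat.card (MulAction.stabilizer G P) :=
    Nat.card_congr
      { toFun := fun g => ⟨⟨g.1, ((mem_stabAt G).1 g.2).1⟩, ((mem_stabAt G).1 g.2).2⟩
        invFun := fun g => ⟨g.1.1, (mem_stabAt G).2 ⟨g.1.2, g.2⟩⟩
        left_inv := fun g => rfl
        right_inv := fun g => rfl }
  rw [e, ← Nat.card_coe_set_eq, ← Nat.card_prod]
  exact Nat.card_congr (MulAction.orbitProdStabilizerEquivGroup G P)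

omit [Fintype (Line E)] in
theorem wt_const {P Q : Line E} (h : Q ∈ MulAction.orbit G P) : wt G Q = wt G P := by
  obtain ⟨⟨g, hg⟩, rfl⟩ := h
  show wt G (g • P) = wt G P
  rw [wt, wt, card_stabAt_smul G hg, ncard_paraAt_smul G hg]

end CfsgLib.Geom.Moebius
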