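import Mathlib
import Cfsg.Agent.Lib.Geom.MoebiusCount

set_option autoImplicit false

/-!
The possible orbit patterns of a finite subgroup of `PGL_2` in which every element has a fixed point.
-/

namespace CfsgLib.Geom.Moebius

open scoped MatrixGroups
open MulAction (orbit)
attribute [local instance] Classical.propDecidable

variable {E : Type*} [Field E] [Fintype (Line E)] (G : Subgroup PGL(2, E))

omit [Fintype (Line E)] in
theorem orbit_conjBy (m : PGL(2, E)) (P : Line E) :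
    orbit (conjBy G m) (m • P) = (fun Q => m • Q) '' orbit G P := by
  ext Q
  constructor
  · rintro ⟨⟨g, hg⟩, rfl⟩
    refine ⟨(m⁻¹ * g * m) • P, ⟨⟨_, (mem_conjBy G).1 hg⟩, rfl⟩, ?_⟩
    show m • (m⁻¹ * g * m) • P = g • m • P
    rw [← mul_smul, ← mul_smul]
    congr 1
    group
  · rintro ⟨R, ⟨⟨g, hg⟩, rfl⟩, rfl⟩
    refine ⟨⟨m * g * m⁻¹, (mem_conjBy G).2 (by rwa [show m⁻¹ * (m * g * m⁻¹) * m = g by group])⟩, ?_⟩
    show (m * g * m⁻¹) • m • P = m • g • P
    rw [← mul_smul, ← mul_smul]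
    congr 1
    group

/-- The elements with only `P` fixed act freely on the rest of the orbit of `P`. -/
theorem orbit_mod [Finite G] (P : Line E) :
    ∃ j, (orbit G P).ncard = 1 + ((paraAt G P).ncard + 1) * j := by
  obtain ⟨m, rfl⟩ := exists_map1 P
  have e1 : (orbit (conjBy G m⁻¹) (m⁻¹ • m • (inf : Line E))).ncard = (orbit G (m • (inf : Line E))).ncard := by
    rw [orbit_conjBy, Set.ncard_image_of_injective _ (fun a b h => smul_left_cancel _ h)]
  have e2 := ncard_paraAt_conjBy G m⁻¹ (m • inf)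
  rw [inv_smul_smul] at e1 e2
  rw [← e1, ← e2, ncard_paraAt_inf (conjBy G m⁻¹)]
  set G' := conjBy G m⁻¹
  set A := transSet G'
  let S : Set E := {x | pt x ∈ orbit G' inf}
  have hS : orbit G' (inf : Line E) = insert inf (pt '' S) := by
    ext Q
    rcases point_cases Q with rfl | ⟨x, rfl⟩
    · exact ⟨fun _ => Set.mem_insert _ _, fun _ => MulAction.mem_orbit_self _⟩
    · simp only [Set.mem_insert_iff, pt_ne_inf, false_or, pt_injective.mem_set_image]
      rfl
  have hsat : (QuotientAddGroup.mk : E → E ⧸ A) ⁻¹' (QuotientAddGroup.mk '' S) = S := by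
    refine Set.Subset.antisymm ?_ fun x hx => ⟨x, hx, rfl⟩
    rintro x ⟨y, hy, e⟩
    rw [QuotientAddGroup.eq] at e
    obtain ⟨g, hg⟩ := hy
    refine ⟨⟨aff 1 (-y + x), e⟩ * g, ?_⟩
    show (aff 1 (-y + x) * g.1) • inf = pt x
    rw [mul_smul, show g.1 • inf = pt y from hg, aff_smul_pt]
    congr 1
    simp
  have hni : (inf : Line E) ∉ pt '' S := fun ⟨x, _, hx⟩ => pt_ne_inf x hx
  refine ⟨Nat.card ↥((QuotientAddGroup.mk : E → E ⧸ A) '' S), ?_⟩
  rw [hS, Set.ncard_insert_of_notMem hni (Set.toFinite _), Set.ncard_image_of_injective _ pt_injective,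
    ← Nat.card_coe_set_eq, add_comm, ← Nat.card_prod]
  conv_lhs => rw [← hsat]
  rw [Nat.card_congr (QuotientAddGroup.preimageMkEquivAddSubgroupProdSet A _)]

/-- The orbit as a finite set. -/
noncomputable def orb (P : Line E) : Finset (Line E) := (Set.toFinite (orbit G P)).toFinset

theorem mem_orb {P Q : Line E} : Q ∈ orb G P ↔ Q ∈ orbit G P := Set.Finite.mem_toFinset _

theorem card_orb (P : Line E) : (orb G P).card = (orbit G P).ncard :=
  (Set.ncard_eq_toFinset_card _ _).symm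

/-- Extracting one orbit from an invariant set. -/
theorem sum_split [Finite G] {T : Finset (Line E)} (hT : ∀ g ∈ G, ∀ Q ∈ T, g • Q ∈ T) {P : Line E}
    (hP : P ∈ T) :
    ∑ Q ∈ T, wt G Q = (orbit G P).ncard * wt G P + ∑ Q ∈ T.filter (· ∉ orbit G P), wt G Q := by
  classical
  rw [← Finset.sum_filter_add_sum_filter_not T (· ∈ orbit G P)]
  congr 1
  have he : T.filter (· ∈ orbit G P) = orb G P := by
    ext Q
    rw [Finset.mem_filter, mem_orb]
    refine ⟨fun h => h.2, fun h => ⟨?_, h⟩⟩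
    obtain ⟨⟨g, hg⟩, rfl⟩ := h
    exact hT g hg P hP
  rw [he, Finset.sum_congr rfl (fun Q hQ => wt_const G ((mem_orb G).1 hQ)), Finset.sum_const,
    smul_eq_mul, card_orb]

omit [Fintype (Line E)] in
theorem invariant_filter {T : Finset (Line E)} (hT : ∀ g ∈ G, ∀ Q ∈ T, g • Q ∈ T) (P : Line E) : ∀ g ∈ G, ∀ Q ∈ T.filter (· ∉ orbit G P),
      g • Q ∈ T.filter (· ∉ orbit G P) := by
  intro g hg Q hQ
  rw [Finset.mem_filter] at hQ ⊢
  refine ⟨hT g hg Q hQ.1, fun h => hQ.2 ?_⟩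
  have := MulAction.mem_orbit_of_mem_orbit (⟨g, hg⟩⁻¹ : G) h
  rwa [show ((⟨g, hg⟩⁻¹ : G) • g • Q) = Q from inv_smul_smul (⟨g, hg⟩ : G) Q] at this

/-- Numerical data of a point with non-trivial stabiliser. -/
structure PointData (P : Line E) (o u k : ℕ) : Prop where
  orb_eq : (orbit G P).ncard = o
  para_eq : (paraAt G P).ncard + 1 = u
  stab_eq : Nat.card (stabAt G P) = u * k
  wt_eq : wt G P = u * k + u - 2
  mul_eq : o * (u * k) = Nat.card G
  nontriv : 2 ≤ u * k
  kpos : 0 < k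
  kdvd : k ∣ u - 1
  omod : ∃ j, o = 1 + u * j

theorem exists_pointData [Finite G] (p : ℕ) [Fact p.Prime] [CharP E p] {P : Line E}
    (hP : wt G P ≠ 0) : ∃ o u k, PointData G P o u k := by
  obtain ⟨u, k, r, h1, h2, -, -, h5, h6⟩ := stabAt_data G p P
  obtain ⟨j, hj⟩ := orbit_mod G P
  have hw : wt G P = u * k + u - 2 := by
    have : 0 < u * k := Nat.mul_pos (by omega) h6
    unfold wt
    omega
  refine ⟨_, u, k, rfl, h2, h1, hw, ?_, ?_, h6, h5, j, by rw [hj, h2]⟩
  · rw [← h1, card_orbit_mul]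
  · by_contra hlt
    have h7 : u * k ≤ 1 := by omega
    have : u ≤ 1 := le_trans (Nat.le_mul_of_pos_right u h6) h7
    omega

theorem PointData.bound {G : Subgroup PGL(2, E)} {P : Line E} {o u k : ℕ} (h : PointData G P o u k) :
    (u = 1 → Nat.card G ≤ 2 * (o * wt G P) ∧ o * wt G P + o = Nat.card G) ∧
      (2 ≤ u → Nat.card G ≤ o * wt G P) := by
  constructor
  · rintro rfl
    have hk := h.nontriv
    have he := h.mul_eq
    rw [one_mul] at hk he
    have e : o * wt G P + o = Nat.card G := by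
      rw [h.wt_eq, one_mul, ← he, ← Nat.mul_succ]
      congr 1
      omega
    refine ⟨?_, e⟩
    have : o * 2 ≤ Nat.card G := he ▸ Nat.mul_le_mul_left o hk
    omega
  · intro hu
    rw [← h.mul_eq, h.wt_eq]
    exact Nat.mul_le_mul_left o (by omega)

/-- The orbit patterns. -/
inductive OrbitCase : Prop
  | fixedPoint (P : Line E) (h : ∀ g ∈ G, g • P = P)
  | dihedral (P : Line E) (h1 : paraAt G P = ∅) (h2 : (orbit G P).ncard = 2)
      (h3 : 2 ≤ Nat.card (stabAt G P))
  | tetrahedral (P : Line E) (h : Nat.card G = 12) (hP : PointData G P 4 1 3)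
  | octahedral (P : Line E) (h : Nat.card G = 24) (hP : PointData G P 8 1 3)
  | icosahedral (P Q R : Line E) (h : Nat.card G = 60) (hP : PointData G P 30 1 2)
      (hQ : PointData G Q 20 1 3) (hR : PointData G R 12 1 5)
      (hcov : ∀ S, wt G S ≠ 0 → S ∈ orbit G P ∨ S ∈ orbit G Q ∨ S ∈ orbit G R)
  | icosahedralThree (P Q : Line E) (h : Nat.card G = 60) (hP : PointData G P 10 3 2)
      (hQ : PointData G Q 12 1 5)
      (hcov : ∀ S, wt G S ≠ 0 → S ∈ orbit G P ∨ S ∈ orbit G Q)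
  | subline (P : Line E) (u k : ℕ) (hu : 3 ≤ u) (hP : PointData G P (u + 1) u k)
      (hk : k = u - 1 ∨ 2 * k = u - 1)

omit [Fintype (Line E)] in
theorem fixed_of_orbit_one {P : Line E} (h : (orbit G P).ncard = 1) : ∀ g ∈ G, g • P = P := by
  intro g hg
  obtain ⟨Q, hQ⟩ := Set.ncard_eq_one.1 h
  have a : g • P ∈ orbit G P := ⟨⟨g, hg⟩, rfl⟩
  have b : P ∈ orbit G P := MulAction.mem_orbit_self P
  rw [hQ, Set.mem_singleton_iff] at a b
  rw [a, b]

theorem finite_paraAt [Finite G] (P : Line E) : (paraAt G P).Finite :=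
  (Set.toFinite (G : Set PGL(2, E))).subset fun _ h => h.1

theorem three_sorted {g o₁ o₂ o₃ s₁ s₂ s₃ : ℕ} (hg : 0 < g) (e1 : o₁ * s₁ = g) (e2 : o₂ * s₂ = g)
    (e3 : o₃ * s₃ = g) (h1 : 2 ≤ s₁) (h12 : s₁ ≤ s₂) (h23 : s₂ ≤ s₃) (hsum : o₁ + o₂ + o₃ = g + 2) :
    o₃ = 2 ∨ (g = 12 ∧ s₂ = 3 ∧ o₂ = 4) ∨ (g = 24 ∧ s₂ = 3 ∧ o₂ = 8) ∨
      (g = 60 ∧ s₁ = 2 ∧ s₂ = 3 ∧ s₃ = 5 ∧ o₁ = 30 ∧ o₂ = 20 ∧ o₃ = 12) := by
  have hs1 : s₁ = 2 := by
    by_contra hne
    have a := Nat.mul_le_mul_left o₁ (show 3 ≤ s₁ by omega)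
    have b := Nat.mul_le_mul_left o₂ (show 3 ≤ s₂ by omega)
    have c := Nat.mul_le_mul_left o₃ (show 3 ≤ s₃ by omega)
    rw [e1] at a; rw [e2] at b; rw [e3] at c
    omega
  subst hs1
  have hs2 : s₂ = 2 ∨ s₂ = 3 := by
    by_contra hne
    have b := Nat.mul_le_mul_left o₂ (show 4 ≤ s₂ by omega)
    have c := Nat.mul_le_mul_left o₃ (show 4 ≤ s₃ by omega)
    rw [e2] at b; rw [e3] at c
    omega
  rcases hs2 with rfl | rfl
  · exact Or.inl (by omega)
  right
  have hs3 : s₃ < 6 := by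
    by_contra hne
    have c := Nat.mul_le_mul_left o₃ (show 6 ≤ s₃ by omega)
    rw [e3] at c
    omega
  interval_cases s₃ <;> omega

theorem exists_nonzero {T : Finset (Line E)} {c : ℕ} (h : ∑ Q ∈ T, wt G Q = c) (hc : c ≠ 0) :
    ∃ Q ∈ T, wt G Q ≠ 0 :=
  Finset.exists_ne_zero_of_sum_ne_zero (h ▸ hc)

theorem orbit_cases [Finite G] (p : ℕ) [Fact p.Prime] [CharP E p]
    (hfix : ∀ g ∈ G, ∃ P : Line E, g • P = P) : OrbitCase G := by
  classical
  have hg : 0 < Nat.card G := Nat.card_pos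
  by_cases hg1 : Nat.card G = 1
  · refine .fixedPoint inf fun g hg' => ?_
    have := (Nat.card_eq_one_iff_unique.1 hg1).1
    rw [show g = 1 from congrArg Subtype.val (Subsingleton.elim (⟨g, hg'⟩ : G) 1), one_smul]
  set T₀ : Finset (Line E) := Finset.univ
  have hT₀ : ∀ g ∈ G, ∀ Q ∈ T₀, g • Q ∈ T₀ := fun _ _ _ _ => Finset.mem_univ _
  have hsum : ∑ Q ∈ T₀, wt G Q = 2 * (Nat.card G - 1) := sum_wt G hfix
  obtain ⟨P₁, hP₁, hw₁⟩ := exists_nonzero G hsum (by omega)
  obtain ⟨o₁, u₁, k₁, d₁⟩ := exists_pointData G p hw₁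
  rw [sum_split G hT₀ hP₁, d₁.orb_eq] at hsum
  set T₁ := T₀.filter (· ∉ orbit G P₁) with hT₁def
  have hT₁ := invariant_filter G hT₀ P₁
  -- one orbit
  by_cases hr₁ : ∑ Q ∈ T₁, wt G Q = 0
  · rw [hr₁, add_zero] at hsum
    rcases Nat.lt_or_ge u₁ 2 with hu | hu
    · obtain rfl : u₁ = 1 := by have := d₁.para_eq; omega
      have := (d₁.bound.1 rfl).2
      have e := d₁.mul_eq
      have ho : o₁ = 0 := by omega
      rw [ho, Nat.zero_mul] at e
      omega
    · rw [d₁.wt_eq] at hsum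
      have he := d₁.mul_eq
      have hk := d₁.nontriv
      have hle : k₁ ≤ u₁ - 1 := Nat.le_of_dvd (by omega) d₁.kdvd
      have hle' : u₁ ≤ u₁ * k₁ := Nat.le_mul_of_pos_right u₁ d₁.kpos
      obtain ⟨d, hd⟩ : ∃ d, u₁ * k₁ = u₁ + d := Nat.exists_eq_add_of_le hle'
      rw [hd] at he hsum
      have e : o₁ * (u₁ + d + u₁ - 2) + 2 = 2 * (o₁ * (u₁ + d)) := by omega
      have e' : o₁ * (u₁ + d + u₁ - 2) + o₁ * (d + 2) = 2 * (o₁ * (u₁ + d)) := by
        rw [← Nat.mul_add, show u₁ + d + u₁ - 2 + (d + 2) = 2 * (u₁ + d) by omega]; ring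
      have h2 : o₁ * (d + 2) = 2 := by omega
      have ho : o₁ = 1 := by
        have : o₁ * 2 ≤ o₁ * (d + 2) := Nat.mul_le_mul_left _ (by omega)
        rcases Nat.eq_zero_or_pos o₁ with h0 | h0
        · rw [h0] at h2; omega
        · omega
      exact .fixedPoint P₁ (fixed_of_orbit_one G (d₁.orb_eq.trans ho))
  obtain ⟨P₂, hP₂, hw₂⟩ := exists_nonzero G rfl hr₁
  obtain ⟨o₂, u₂, k₂, d₂⟩ := exists_pointData G p hw₂
  rw [sum_split G hT₁ hP₂, d₂.orb_eq] at hsum
  set T₂ := T₁.filter (· ∉ orbit G P₂) with hT₂def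
  have hT₂ := invariant_filter G hT₁ P₂
  -- the arithmetic for one orbit with parabolic elements and one without
  have pair : ∀ (P Q : Line E) (o u k o' k' : ℕ), PointData G P o u k → PointData G Q o' 1 k' →
      2 ≤ u → o * wt G P + o' * wt G Q = 2 * (Nat.card G - 1) →
      (∀ S, wt G S ≠ 0 → S ∈ orbit G P ∨ S ∈ orbit G Q) → OrbitCase G := by
    intro P Q o u k o' k' dP dQ hu he hcov
    have e1 := (dQ.bound.1 rfl).2
    rw [dP.wt_eq] at he
    have hmul := dP.mul_eq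
    have hle : u ≤ u * k := Nat.le_mul_of_pos_right u dP.kpos
    obtain ⟨u', rfl⟩ : ∃ u', u = u' + 2 := ⟨u - 2, by omega⟩
    rw [show (u' + 2) * k + (u' + 2) - 2 = (u' + 2) * k + u' by omega, Nat.mul_add, hmul] at he
    have ho' : o' = o * u' + 2 := by omega
    obtain ⟨j, hj⟩ := dP.omod
    rcases Nat.eq_zero_or_pos j with hj0 | hj0
    · subst hj0
      exact .fixedPoint P (fixed_of_orbit_one G (dP.orb_eq.trans (by simpa using hj)))
    have hmul' := dQ.mul_eq
    rw [one_mul, ← hmul, ho', hj] at hmul'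
    have hk2 : (1 + j * u') * k' = (1 + (u' + 2) * j) * k := by
      refine Nat.eq_of_mul_eq_mul_left (show 0 < u' + 2 by omega) ?_
      calc (u' + 2) * ((1 + j * u') * k') = ((1 + (u' + 2) * j) * u' + 2) * k' := by ring
        _ = (1 + (u' + 2) * j) * ((u' + 2) * k) := hmul'
        _ = _ := by ring
    rcases Nat.eq_zero_or_pos u' with h0 | h0
    · subst h0
      refine .dihedral Q ((Set.ncard_eq_zero (finite_paraAt G _)).1 ?_) (dQ.orb_eq.trans (by omega)) ?_
      · have := dQ.para_eq; omega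
      · rw [dQ.stab_eq]; exact dQ.nontriv
    have hklt : k < k' := by
      by_contra hle'
      push Not at hle'
      have h1 : (1 + j * u') * k' ≤ (1 + j * u') * k := Nat.mul_le_mul_left _ hle'
      have h2 : (1 + (u' + 2) * j) * k = (1 + j * u') * k + 2 * j * k := by ring
      have h3 : 0 < 2 * j * k := Nat.mul_pos (by omega) dP.kpos
      omega
    obtain ⟨e, rfl⟩ : ∃ e, k' = k + e := ⟨k' - k, by omega⟩
    have he2 : (1 + j * u') * e = 2 * j * k := by
      have h2 : (1 + (u' + 2) * j) * k = (1 + j * u') * k + 2 * j * k := by ring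
      rw [Nat.mul_add] at hk2
      omega
    have hdvd : 1 + j * u' ∣ 2 * k := by
      have hco : Nat.Coprime (1 + j * u') j := by
        rw [mul_comm]; exact (Nat.coprime_add_mul_right_left 1 j u').2 (Nat.coprime_one_left j)
      exact hco.dvd_of_dvd_mul_left ⟨e, by rw [he2]; ring⟩
    have hkle : k ≤ u' + 1 := Nat.le_of_dvd (by omega) (by simpa using dP.kdvd)
    have hb : 1 + j * u' ≤ 2 * k := Nat.le_of_dvd (by have := dP.kpos; omega) hdvd
    obtain ⟨c, hc⟩ := hdvd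
    rcases Nat.lt_or_ge j 3 with hj3 | hj3
    · interval_cases j
      · -- j = 1
        have hcle : c ≤ 2 := by
          by_contra hc3
          have := Nat.mul_le_mul_left (1 + 1 * u') (show 3 ≤ c by omega)
          omega
        have hor : o = (u' + 2) + 1 := by omega
        subst hor
        refine .subline P (u' + 2) k (by omega) dP ?_
        interval_cases c <;> omega
      · -- j = 2
        exfalso
        have hcle : c < 2 := by
          by_contra hc2
          have := Nat.mul_le_mul_left (1 + 2 * u') (show 2 ≤ c by omega)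
          omega
        interval_cases c <;> omega
    · have hju : 3 * u' ≤ j * u' := Nat.mul_le_mul_right u' hj3
      have hu1 : u' = 1 := by omega
      subst hu1
      have hk12 : k ≤ 2 := hkle
      have hj' : j = 3 := by omega
      subst hj'
      have hk : k = 2 := by omega
      subst hk
      have ho : o = 10 := by omega
      subst ho
      have he3 : e = 3 := by omega
      subst he3
      have ho2 : o' = 12 := by omega
      subst ho2
      exact .icosahedralThree P Q (by rw [← dP.mul_eq]) dP dQ hcov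
  by_cases hr₂ : ∑ Q ∈ T₂, wt G Q = 0
  · rw [hr₂, add_zero] at hsum
    have hcov : ∀ S, wt G S ≠ 0 → S ∈ orbit G P₁ ∨ S ∈ orbit G P₂ := by
      intro S hS
      by_contra hne
      push Not at hne
      exact hS (Finset.sum_eq_zero_iff.1 hr₂ S (by simp [hT₂def, hT₁def, hne.1, hne.2, T₀]))
    rcases Nat.lt_or_ge u₁ 2 with hu1 | hu1
    · obtain rfl : u₁ = 1 := by have := d₁.para_eq; omega
      rcases Nat.lt_or_ge u₂ 2 with hu2 | hu2
      · obtain rfl : u₂ = 1 := by have := d₂.para_eq; omega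
        have a := (d₁.bound.1 rfl).2
        have b := (d₂.bound.1 rfl).2
        have c : 0 < o₁ := by
          rcases Nat.eq_zero_or_pos o₁ with h | h
          · have := d₁.mul_eq; rw [h] at this; omega
          · exact h
        have c' : 0 < o₂ := by
          rcases Nat.eq_zero_or_pos o₂ with h | h
          · have := d₂.mul_eq; rw [h] at this; omega
          · exact h
        exact .fixedPoint P₁ (fixed_of_orbit_one G (d₁.orb_eq.trans (by omega)))
      · exact pair P₂ P₁ o₂ u₂ k₂ o₁ k₁ d₂ d₁ hu2 (by omega) fun S hS => (hcov S hS).symm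
    · rcases Nat.lt_or_ge u₂ 2 with hu2 | hu2
      · obtain rfl : u₂ = 1 := by have := d₂.para_eq; omega
        exact pair P₁ P₂ o₁ u₁ k₁ o₂ k₂ d₁ d₂ hu1 (by omega) hcov
      · have a := d₁.bound.2 hu1
        have b := d₂.bound.2 hu2
        omega
  obtain ⟨P₃, hP₃, hw₃⟩ := exists_nonzero G rfl hr₂
  obtain ⟨o₃, u₃, k₃, d₃⟩ := exists_pointData G p hw₃
  rw [sum_split G hT₂ hP₃, d₃.orb_eq] at hsum
  set T₃ := T₂.filter (· ∉ orbit G P₃) with hT₃def
  have hu : ∀ (P : Line E) (o u k : ℕ), PointData G P o u k →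
      Nat.card G ≤ 2 * (o * wt G P) ∧ (2 ≤ u → Nat.card G ≤ o * wt G P) := by
    intro P o u k d
    refine ⟨?_, d.bound.2⟩
    rcases Nat.lt_or_ge u 2 with h | h
    · exact (d.bound.1 (by have := d.para_eq; omega)).1
    · have := d.bound.2 h; omega
  have hone : u₁ = 1 ∧ u₂ = 1 ∧ u₃ = 1 := by
    have p1 := d₁.para_eq
    have p2 := d₂.para_eq
    have p3 := d₃.para_eq
    have a1 := hu _ _ _ _ d₁
    have a2 := hu _ _ _ _ d₂
    have a3 := hu _ _ _ _ d₃
    refine ⟨?_, ?_, ?_⟩ <;> by_contra hne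
    · have := a1.2 (by omega); omega
    · have := a2.2 (by omega); omega
    · have := a3.2 (by omega); omega
  obtain ⟨rfl, rfl, rfl⟩ := hone
  by_cases hr₃ : ∑ Q ∈ T₃, wt G Q = 0
  swap
  · exfalso
    obtain ⟨P₄, hP₄, hw₄⟩ := exists_nonzero G rfl hr₃
    obtain ⟨o₄, u₄, k₄, d₄⟩ := exists_pointData G p hw₄
    rw [sum_split G (invariant_filter G hT₂ P₃) hP₄, d₄.orb_eq] at hsum
    have := (hu _ _ _ _ d₁).1
    have := (hu _ _ _ _ d₂).1
    have := (hu _ _ _ _ d₃).1
    have := (hu _ _ _ _ d₄).1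
    omega
  rw [hr₃, add_zero] at hsum
  have b1 := (d₁.bound.1 rfl).2
  have b2 := (d₂.bound.1 rfl).2
  have b3 := (d₃.bound.1 rfl).2
  have e1 := d₁.mul_eq
  have e2 := d₂.mul_eq
  have e3 := d₃.mul_eq
  rw [one_mul] at e1 e2 e3
  have hcov : ∀ S, wt G S ≠ 0 → S ∈ orbit G P₁ ∨ S ∈ orbit G P₂ ∨ S ∈ orbit G P₃ := by
    intro S hS
    by_contra hne
    push Not at hne
    exact hS (Finset.sum_eq_zero_iff.1 hr₃ S
      (by simp [hT₃def, hT₂def, hT₁def, hne.1, hne.2.1, hne.2.2, T₀]))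
  have htot : o₁ + o₂ + o₃ = Nat.card G + 2 := by omega
  have key : ∀ (P Q R : Line E) (a b c s t v : ℕ), PointData G P a 1 s → PointData G Q b 1 t →
      PointData G R c 1 v → s ≤ t → t ≤ v → a + b + c = Nat.card G + 2 →
      (∀ S, wt G S ≠ 0 → S ∈ orbit G P ∨ S ∈ orbit G Q ∨ S ∈ orbit G R) → OrbitCase G := by
    intro P Q R a b c s t v dP dQ dR hst htv hs hcov'
    have ea := dP.mul_eq
    have eb := dQ.mul_eq
    have ec := dR.mul_eq
    have ns := dP.nontriv
    rw [one_mul] at ea eb ec ns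
    rcases three_sorted hg ea eb ec ns hst htv hs with h | ⟨h, rfl, rfl⟩ | ⟨h, rfl, rfl⟩ |
      ⟨h, rfl, rfl, rfl, rfl, rfl, rfl⟩
    · refine .dihedral R ((Set.ncard_eq_zero (finite_paraAt G _)).1 ?_) (dR.orb_eq.trans h) ?_
      · have := dR.para_eq; omega
      · rw [dR.stab_eq]; exact dR.nontriv
    · exact .tetrahedral Q h dQ
    · exact .octahedral Q h dQ
    · exact .icosahedral P Q R h dP dQ dR hcov'
  rcases le_total k₁ k₂ with h12 | h12 <;> rcases le_total k₂ k₃ with h23 | h23 <;>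
    rcases le_total k₁ k₃ with h13 | h13
  · exact key _ _ _ _ _ _ _ _ _ d₁ d₂ d₃ h12 h23 (by omega) fun S hS => by have := hcov S hS; tauto
  · exact key _ _ _ _ _ _ _ _ _ d₁ d₂ d₃ h12 h23 (by omega) fun S hS => by have := hcov S hS; tauto
  · exact key _ _ _ _ _ _ _ _ _ d₁ d₃ d₂ h13 h23 (by omega) fun S hS => by have := hcov S hS; tauto
  · exact key _ _ _ _ _ _ _ _ _ d₃ d₁ d₂ h13 h12 (by omega) fun S hS => by have := hcov S hS; tauto
  · exact key _ _ _ _ _ _ _ _ _ d₂ d₁ d₃ h12 h13 (by omega) fun S hS => by have := hcov S hS; tauto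
  · exact key _ _ _ _ _ _ _ _ _ d₂ d₃ d₁ h23 h13 (by omega) fun S hS => by have := hcov S hS; tauto
  · exact key _ _ _ _ _ _ _ _ _ d₃ d₂ d₁ h23 h12 (by omega) fun S hS => by have := hcov S hS; tauto
  · exact key _ _ _ _ _ _ _ _ _ d₃ d₂ d₁ h23 h12 (by omega) fun S hS => by have := hcov S hS; tauto

end CfsgLib.Geom.Moebius
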