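import Mathlib
import Cfsg.Agent.Lib.Classical.PSLTwoPerm

set_option autoImplicit false

/-!
A simple group of order sixty is the alternating group of degree five.
-/

namespace CfsgLib.Geom

variable {G : Type*} [Group G] [Finite G]

theorem equiv_altFive_of_simple_sixty [IsSimpleGroup G] (hG : Nat.card G = 60) :
    Nonempty (G ≃* alternatingGroup (Fin 5)) := by
  classical
  have : Fintype G := Fintype.ofFinite _
  have hnot : ∀ (r : ℕ) [Fact r.Prime] (P : Sylow r G), r ∣ 60 → ¬ (P : Subgroup G).Normal := by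
    intro r _ P hr h
    have hr' : r.Prime := Fact.out
    rcases h.eq_bot_or_eq_top with e | e
    · exact absurd (P.dvd_card_of_dvd_card (hG ▸ hr)) (by rw [e, Subgroup.card_bot]; exact hr'.not_dvd_one)
    · have hp : IsPGroup r G := by
        have := P.isPGroup'
        rw [e] at this
        exact this.of_equiv Subgroup.topEquiv
      obtain ⟨n, hn⟩ := IsPGroup.iff_card.1 hp
      have h2 : 2 ∣ r ^ n := by rw [← hn, hG]; norm_num
      have h3 : 3 ∣ r ^ n := by rw [← hn, hG]; norm_num
      have e2 := (Nat.prime_dvd_prime_iff_eq Nat.prime_two hr').1 (Nat.prime_two.dvd_of_dvd_pow h2)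
      have e3 := (Nat.prime_dvd_prime_iff_eq Nat.prime_three hr').1 (Nat.prime_three.dvd_of_dvd_pow h3)
      omega
  suffices h : ∃ H : Subgroup G, H ≠ ⊤ ∧ H.index ≤ 5 by
    obtain ⟨H, hH, hidx⟩ := h
    have hcore : H.normalCore = ⊥ := (Subgroup.normalCore_normal H).eq_bot_or_eq_top.resolve_right fun e =>
      hH (top_le_iff.1 (e ▸ H.normalCore_le))
    have hinj : Function.Injective (MulAction.toPermHom G (G ⧸ H)) :=
      (MonoidHom.ker_eq_bot_iff _).1 (by rw [← Subgroup.normalCore_eq_ker, hcore])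
    have hdvd := Subgroup.card_dvd_of_injective _ hinj
    rw [hG, Nat.card_perm, ← Subgroup.index_eq_card] at hdvd
    have h5 : H.index = 5 := by
      have hne : H.index ≠ 0 := Subgroup.index_ne_zero_of_finite
      interval_cases hi : H.index <;> first | rfl | exact absurd hdvd (by decide)
    have : Fintype (G ⧸ H) := Fintype.ofFinite _
    refine ⟨(Classical.choice (CfsgLib.Classical.equiv_alternating_of_embedding
      ((Fintype.equivFinOfCardEq (show Fintype.card (G ⧸ H) = 5 by
        rw [← Nat.card_eq_fintype_card, ← Subgroup.index_eq_card, h5])).permCongrHom.toMonoidHom.comp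
        (MulAction.toPermHom G (G ⧸ H)))
      ((Equiv.permCongrHom _).injective.comp hinj) (by rw [hG, Fintype.card_fin]; rfl)))⟩
  by_contra hno
  push Not at hno
  have hbig : ∀ H : Subgroup G, H ≠ ⊤ → Nat.card H < 12 := by
    intro H hH
    have := hno H hH
    have := H.card_mul_index
    rw [hG] at this
    by_contra h
    have := Nat.mul_le_mul (Nat.le_of_not_lt h) (show 6 ≤ H.index by omega)
    omega
  have : Fact (Nat.Prime 2) := ⟨Nat.prime_two⟩
  have : Fact (Nat.Prime 5) := ⟨Nat.prime_five⟩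
  have hP : ∀ P : Sylow 2 G, Nat.card (P : Subgroup G) = 4 := fun P => by
    rw [P.card_eq_multiplicity, hG, show 60 = 2 ^ 2 * 15 by norm_num,
      Nat.factorization_mul (by norm_num) (by norm_num)]
    rw [Finsupp.add_apply, Nat.Prime.factorization_pow Nat.prime_two, Finsupp.single_eq_same,
      Nat.factorization_eq_zero_of_not_dvd (show ¬ 2 ∣ 15 by norm_num)]; rfl
  have hQ : ∀ P : Sylow 5 G, Nat.card (P : Subgroup G) = 5 := fun P => by
    rw [P.card_eq_multiplicity, hG, show 60 = 5 ^ 1 * 12 by norm_num,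
      Nat.factorization_mul (by norm_num) (by norm_num)]
    rw [Finsupp.add_apply, Nat.Prime.factorization_pow Nat.prime_five, Finsupp.single_eq_same,
      Nat.factorization_eq_zero_of_not_dvd (show ¬ 5 ∣ 12 by norm_num)]; rfl
  have hn5 : Nat.card (Sylow 5 G) = 6 := by
    obtain ⟨Q⟩ : Nonempty (Sylow 5 G) := inferInstance
    have h1 := card_sylow_modEq_one 5 G
    have h2 := Q.card_dvd_index
    have h3 := (Q : Subgroup G).card_mul_index
    rw [hG, hQ Q] at h3
    rw [show (Q : Subgroup G).index = 12 by omega] at h2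
    have h4 : Nat.card (Sylow 5 G) ≠ 1 := fun e => hnot 5 Q (by norm_num) (by
      have : Subsingleton (Sylow 5 G) := (Nat.card_eq_one_iff_unique.1 e).1
      exact Q.normal_of_subsingleton)
    have h5 := Nat.le_of_dvd (by norm_num) h2
    unfold Nat.ModEq at h1
    interval_cases hk : Nat.card (Sylow 5 G) <;> omega
  have hn2 : Nat.card (Sylow 2 G) = 15 := by
    obtain ⟨P⟩ : Nonempty (Sylow 2 G) := inferInstance
    have hN : Subgroup.normalizer ((P : Subgroup G) : Set G) ≠ ⊤ := fun e => hnot 2 P (by norm_num)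
      (Subgroup.normalizer_eq_top_iff.1 e)
    have h1 := hbig _ hN
    have h2 := Subgroup.card_dvd_of_le (Subgroup.le_normalizer (H := (P : Subgroup G)))
    have h3 := (Subgroup.normalizer ((P : Subgroup G) : Set G)).card_mul_index
    rw [hP P] at h2
    rw [hG] at h3
    rw [P.card_eq_index_normalizer]
    obtain ⟨c, hc⟩ := h2
    have : c < 3 := by omega
    rw [hc] at h3
    interval_cases c <;> norm_num at h3 <;> omega
  have hTI : ∀ (P Q : Sylow 2 G) (z : G), z ∈ (P : Subgroup G) → z ∈ (Q : Subgroup G) → z ≠ 1 → P = Q := by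
    intro P Q z hzP hzQ hz
    by_contra hne
    have hC : ∀ R : Sylow 2 G, z ∈ (R : Subgroup G) → (R : Subgroup G) ≤ Subgroup.centralizer {z} := by
      intro R hzR x hx
      rw [Subgroup.mem_centralizer_singleton_iff]
      have hcomm : IsMulCommutative (R : Subgroup G) :=
        IsPGroup.isMulCommutative_of_card_eq_prime_sq (p := 2) (by rw [hP R]; rfl)
      exact congrArg Subtype.val (hcomm.is_comm.comm ⟨x, hx⟩ ⟨z, hzR⟩)
    have hlt : (P : Subgroup G) < Subgroup.centralizer {z} := by
      refine lt_of_le_of_ne (hC P hzP) fun e => hne (Sylow.ext ?_)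
      have := hC Q hzQ
      rw [← e] at this
      exact (Subgroup.eq_of_le_of_card_ge this (by rw [hP, hP])).symm
    have htop : Subgroup.centralizer {z} ≠ ⊤ := fun e => by
      have hz' : z ∈ Subgroup.center G := Subgroup.mem_center_iff.2 fun g =>
        (Subgroup.mem_centralizer_singleton_iff.1 (e ▸ Subgroup.mem_top g))
      rcases (inferInstance : (Subgroup.center G).Normal).eq_bot_or_eq_top with h | h
      · exact hz (by simpa [h] using hz')
      · exact hnot 2 P (by norm_num) ⟨fun x hx g => by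
          rw [Subgroup.mem_center_iff.1 (h ▸ Subgroup.mem_top x) g]; simpa using hx⟩
    have h1 := hbig _ htop
    have h2 := Subgroup.card_dvd_of_le hlt.le
    have h3 := (Subgroup.centralizer {z}).card_subgroup_dvd_card
    have h4 : Nat.card (P : Subgroup G) < Nat.card (Subgroup.centralizer {z}) :=
      Set.Finite.card_lt_card (Set.toFinite _) hlt
    rw [hP P] at h2 h4
    rw [hG] at h3
    obtain ⟨c, hc⟩ := h2
    have hc' : c = 2 := by omega
    rw [hc, hc'] at h3
    norm_num at h3
  have hTI5 : ∀ (P Q : Sylow 5 G) (z : G), z ∈ (P : Subgroup G) → z ∈ (Q : Subgroup G) → z ≠ 1 → P = Q := by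
    intro P Q z hzP hzQ hz
    have key : ∀ R : Sylow 5 G, z ∈ (R : Subgroup G) → Subgroup.zpowers z = R := fun R hR => by
      refine Subgroup.eq_of_le_of_card_ge (Subgroup.zpowers_le.2 hR) ?_
      have hd := Subgroup.card_dvd_of_le (Subgroup.zpowers_le.2 hR)
      rw [hQ R] at hd ⊢
      rcases (Nat.dvd_prime Nat.prime_five).1 hd with e | e
      · exact absurd (Subgroup.zpowers_eq_bot.1 (Subgroup.eq_bot_of_card_eq _ e)) hz
      · exact e.ge
    exact Sylow.ext ((key P hzP).symm.trans (key Q hzQ))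
  have : Fintype (Sylow 2 G) := Fintype.ofFinite _
  have : Fintype (Sylow 5 G) := Fintype.ofFinite _
  let f : ((P : Sylow 2 G) × {x : (P : Subgroup G) // x ≠ 1}) ⊕
      ((P : Sylow 5 G) × {x : (P : Subgroup G) // x ≠ 1}) → {x : G // x ≠ 1} :=
    Sum.elim (fun a => ⟨a.2.1.1, fun h => a.2.2 (Subtype.ext h)⟩)
      (fun a => ⟨a.2.1.1, fun h => a.2.2 (Subtype.ext h)⟩)
  have hf : Function.Injective f := by
    have hord : ∀ (P : Sylow 2 G) (Q : Sylow 5 G) (z : G), z ∈ (P : Subgroup G) → z ∈ (Q : Subgroup G) →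
        z = 1 := fun P Q z hzP hzQ => by
      have h4 := Subgroup.orderOf_dvd_natCard (P : Subgroup G) hzP
      have h5 := Subgroup.orderOf_dvd_natCard (Q : Subgroup G) hzQ
      rw [hP] at h4
      rw [hQ] at h5
      exact orderOf_eq_one_iff.1 (Nat.eq_one_of_dvd_coprimes (by norm_num : Nat.Coprime 4 5) h4 h5)
    rintro (⟨P, ⟨⟨x, hx⟩, hx1⟩⟩ | ⟨P, ⟨⟨x, hx⟩, hx1⟩⟩) (⟨Q, ⟨⟨y, hy⟩, hy1⟩⟩ | ⟨Q, ⟨⟨y, hy⟩, hy1⟩⟩) h
    all_goals
      have hxy : x = y := congrArg Subtype.val h
      subst hxy
      have hx' : x ≠ 1 := fun e => hx1 (Subtype.ext e)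
    · obtain rfl := hTI P Q x hx hy hx'; rfl
    · exact absurd (hord P Q x hx hy) hx'
    · exact absurd (hord Q P x hy hx) hx'
    · obtain rfl := hTI5 P Q x hx hy hx'; rfl
  have hne : ∀ H : Subgroup G, Nat.card {x : H // x ≠ 1} = Nat.card H - 1 := fun H => by
    have : Fintype H := Fintype.ofFinite _
    rw [Nat.card_eq_fintype_card, Fintype.card_subtype_compl, Fintype.card_subtype_eq,
      Nat.card_eq_fintype_card]
  have := Nat.card_le_card_of_injective f hf
  rw [Nat.card_sum, Nat.card_sigma, Nat.card_sigma] at this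
  simp only [hne, hP, hQ, Finset.sum_const, Finset.card_univ, smul_eq_mul] at this
  rw [← Nat.card_eq_fintype_card, ← Nat.card_eq_fintype_card, hn2, hn5] at this
  have htot : Nat.card {x : G // x ≠ 1} = 59 := by
    have : Fintype G := Fintype.ofFinite _
    rw [Nat.card_eq_fintype_card, Fintype.card_subtype_compl, Fintype.card_subtype_eq,
      ← Nat.card_eq_fintype_card, hG]
  omega

end CfsgLib.Geom
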