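import Mathlib
import Cfsg.Agent.Lib.Geom.MoebiusCases
import Cfsg.Agent.Lib.Geom.SimpleSixty
import Cfsg.Agent.Lib.Invol.Dihedral

set_option autoImplicit false

/-!
Isomorphism types for the small orbit patterns: dihedral, tetrahedral, octahedral and icosahedral groups.
-/

namespace CfsgLib.Geom.Moebius

open scoped MatrixGroups
open MulAction (orbit)

variable {E : Type*} [Field E] [Fintype (Line E)] {G : Subgroup PGL(2, E)}

omit [Fintype (Line E)] in
theorem para_nil [Finite G] {P : Line E} (h : (paraAt G P).ncard + 1 = 1) : paraAt G P = ∅ :=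
  (Set.ncard_eq_zero ((Set.toFinite (G : Set PGL(2, E))).subset fun _ hx => hx.1)).1 (by omega)

omit [Fintype (Line E)] in
/-- The stabiliser inside `G` as a type. -/
def stabEquiv (G : Subgroup PGL(2, E)) (P : Line E) : MulAction.stabilizer G P ≃* stabAt G P where
  toFun g := ⟨g.1.1, (mem_stabAt G).2 ⟨g.1.2, g.2⟩⟩
  invFun g := ⟨⟨g.1, ((mem_stabAt G).1 g.2).1⟩, ((mem_stabAt G).1 g.2).2⟩
  left_inv _ := rfl
  right_inv _ := rfl
  map_mul' _ _ := rfl

omit [Fintype (Line E)] in
instance finite_stabAt [Finite G] (P : Line E) : Finite (stabAt G P) :=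
  Finite.of_equiv _ (stabEquiv G P).toEquiv

omit [Fintype (Line E)] in
theorem fixed_of_orbit_pair [Finite G] {P P' : Line E} (ho : (orbit G P).ncard ≤ 2)
    (hP' : P' ∈ orbit G P) (hne : P' ≠ P) : orbit G P = {P, P'} := by
  refine (Set.eq_of_subset_of_ncard_le ?_ ?_ (Set.finite_range _)).symm
  · intro Q hQ
    rcases hQ with rfl | rfl
    · exact MulAction.mem_orbit_self _
    · exact hP'
  · rw [Set.ncard_pair hne.symm]; exact ho

/-- A point with an orbit of two points and no parabolic elements gives a dihedral group. -/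
theorem dihedral_type [Finite G] (hfix : ∀ g ∈ G, ∃ P : Line E, g • P = P) (P : Line E)
    (h1 : paraAt G P = ∅) (h2 : (orbit G P).ncard = 2) (h3 : 2 ≤ Nat.card (stabAt G P)) :
    ∃ n, n = Nat.card (stabAt G P) ∧ 2 ≤ n ∧ Nonempty (G ≃* DihedralGroup n) ∧ Nat.card G = 2 * n ∧
      ∃ r ∈ stabAt G P, orderOf r = n := by
  obtain ⟨hcyc, -⟩ := stabAt_cyclic G P h1
  set n := Nat.card (stabAt G P) with hn
  have : Finite (stabAt G P) := Finite.of_equiv _ (stabEquiv G P).toEquiv
  obtain ⟨⟨r, hr⟩, hr'⟩ := hcyc.exists_ofOrder_eq_natCard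
  have hrn : orderOf r = n := (Subgroup.orderOf_mk r hr).symm.trans hr'
  obtain ⟨P', hP', hne⟩ := Set.exists_ne_of_one_lt_ncard (s := orbit G P) (by omega) P
  obtain ⟨⟨s, hs⟩, hsP : s • P = P'⟩ := hP'
  have horb := fixed_of_orbit_pair h2.le (⟨⟨s, hs⟩, hsP⟩ : P' ∈ orbit G P) hne
  have hmove : ∀ g ∈ G, g • P = P ∨ g • P = P' := fun g hg => by
    have : g • P ∈ orbit G P := ⟨⟨g, hg⟩, rfl⟩
    rwa [horb] at this
  have hmove' : ∀ g ∈ G, g • P' = P ∨ g • P' = P' := fun g hg => by
    have : (g * s) • P ∈ orbit G P := ⟨⟨g * s, mul_mem hg hs⟩, rfl⟩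
    rw [horb, mul_smul, hsP] at this
    exact this
  have hinv : ∀ g ∈ G, g • P ≠ P → g * g = 1 := by
    intro g hg hgP
    have e1 : g • P = P' := (hmove g hg).resolve_left hgP
    have e2 : g • P' = P := (hmove' g hg).resolve_right fun e =>
      hne (smul_left_cancel g (e.trans e1.symm))
    obtain ⟨R, hR⟩ := hfix g hg
    have hRP : R ≠ P := fun e => hgP (e ▸ hR)
    have hRP' : R ≠ P' := fun e => hne (by rw [← e, ← hR, e, e2])
    exact eq_one_of_three hne.symm hRP.symm hRP'.symm (by rw [mul_smul, e1, e2])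
      (by rw [mul_smul, e2, e1]) (by rw [mul_smul, hR, hR])
  have hsne : s • P ≠ P := by rw [hsP]; exact hne
  have hs2 : s * s = 1 := hinv s hs hsne
  have hs1 : s ≠ 1 := fun e => hsne (by rw [e, one_smul])
  obtain ⟨hrG, hrP⟩ := (mem_stabAt G).1 hr
  have hsr : s * r * s⁻¹ = r⁻¹ := by
    have : (s * r) • P ≠ P := by rw [mul_smul, hrP]; exact hsne
    have h := hinv _ (mul_mem hs hrG) this
    rw [inv_eq_of_mul_eq_one_right hs2, eq_inv_iff_mul_eq_one, mul_assoc (s * r), h]
  let r' : G := ⟨r, hrG⟩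
  let s' : G := ⟨s, hs⟩
  have hn2 : 2 ≤ n := h3
  have : NeZero n := ⟨by omega⟩
  have hzp : ∀ x ∈ Subgroup.zpowers r', x.1 • P = P := by
    rintro x ⟨i, rfl⟩
    exact ((mem_stabAt G).1 (Subgroup.zpow_mem _ hr i : r ^ i ∈ stabAt G P)).2
  obtain ⟨e⟩ := CfsgLib.Invol.exists_mulEquiv_dihedral (r := r') (s := s')
    (show orderOf r' = n by rw [Subgroup.orderOf_mk, hrn])
    (orderOf_eq_prime (Subtype.ext (by rw [Subgroup.coe_pow, sq]; exact hs2))
      (fun e => hs1 (congrArg Subtype.val e)))
    (Subtype.ext hsr) (fun h => hsne (hzp _ h))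
  have hmemz : ∀ g : G, g.1 • P = P → g ∈ Subgroup.zpowers r' := by
    intro g hg
    have htop : Subgroup.zpowers (⟨r, hr⟩ : stabAt G P) = ⊤ :=
      Subgroup.eq_top_of_card_eq _ (by rw [Nat.card_zpowers, hr'])
    obtain ⟨i, hi⟩ := htop.symm ▸ Subgroup.mem_top (⟨g.1, (mem_stabAt G).2 ⟨g.2, hg⟩⟩ : stabAt G P)
    exact ⟨i, Subtype.ext (by simpa using congrArg Subtype.val hi)⟩
  have htop : Subgroup.closure ({r', s'} : Set G) = ⊤ := by
    rw [eq_top_iff]
    intro g _
    have hsc : s' ∈ Subgroup.closure ({r', s'} : Set G) := Subgroup.subset_closure (by simp)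
    have hz : Subgroup.zpowers r' ≤ Subgroup.closure ({r', s'} : Set G) :=
      Subgroup.zpowers_le.2 (Subgroup.subset_closure (by simp))
    rcases hmove g.1 g.2 with h | h
    · exact hz (hmemz g h)
    · have : s' * g ∈ Subgroup.zpowers r' := hmemz _ (by
        show (s * g.1) • P = P
        rw [mul_smul, h, ← hsP, ← mul_smul, hs2, one_smul])
      have := mul_mem hsc (hz this)
      rwa [← mul_assoc, show s' * s' = 1 from Subtype.ext hs2, one_mul] at this
  refine ⟨n, rfl, hn2, ⟨((Subgroup.topEquiv.symm.trans (MulEquiv.subgroupCongr htop.symm)).trans e)⟩, ?_, r, hr, hrn⟩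
  rw [← card_orbit_mul G P, h2]

/-- Twelve elements and an orbit of four points. -/
theorem tetrahedral_type [Finite G] {P : Line E} (hG : Nat.card G = 12) (hP : PointData G P 4 1 3) :
    Nonempty (G ≃* alternatingGroup (Fin 4)) := by
  classical
  have : Fintype (orbit G P) := Fintype.ofFinite _
  have hc : Fintype.card (orbit G P) = 4 := by
    rw [← Nat.card_eq_fintype_card, Nat.card_coe_set_eq, hP.orb_eq]
  let e := Fintype.equivFinOfCardEq hc
  refine CfsgLib.Classical.equiv_alternating_of_embedding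
    (e.permCongrHom.toMonoidHom.comp (MulAction.toPermHom G (orbit G P)))
    ((Equiv.permCongrHom e).injective.comp ?_) (by rw [hG, Fintype.card_fin]; rfl)
  rw [injective_iff_map_eq_one]
  intro g hg
  have hfixall : ∀ Q : orbit G P, g.1 • Q.1 = Q.1 := fun Q =>
    congrArg Subtype.val (Equiv.congr_fun hg Q)
  have hQ : ∀ i, g.1 • (e.symm i).1 = (e.symm i).1 := fun i => hfixall _
  have hne : ∀ i j : Fin 4, i ≠ j → (e.symm i).1 ≠ (e.symm j).1 := fun i j h h' =>
    h (e.symm.injective (Subtype.ext h'))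
  exact Subtype.ext (eq_one_of_three (hne 0 1 (by decide)) (hne 0 2 (by decide)) (hne 1 2 (by decide))
    (hQ 0) (hQ 1) (hQ 2))

omit [Fintype (Line E)] in
theorem eq_one_or_eq_of_card_two {A : Type*} [Group A] (H : Subgroup A) (h : Nat.card H = 2) {z x : A}
    (hz : z ∈ H) (hz1 : z ≠ 1) (hx : x ∈ H) : x = 1 ∨ x = z := by
  obtain ⟨a, b, hab, huniv⟩ := Nat.card_eq_two_iff.1 h
  have m : ∀ y : H, y = a ∨ y = b := fun y => by
    have := huniv.symm ▸ Set.mem_univ y
    simpa using this
  by_contra hne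
  push Not at hne
  have n1 : (⟨x, hx⟩ : H) ≠ 1 := fun e => hne.1 (congrArg Subtype.val e)
  have n2 : (⟨x, hx⟩ : H) ≠ ⟨z, hz⟩ := fun e => hne.2 (congrArg Subtype.val e)
  have n3 : (⟨z, hz⟩ : H) ≠ 1 := fun e => hz1 (congrArg Subtype.val e)
  rcases m ⟨x, hx⟩ with e | e <;> rcases m ⟨z, hz⟩ with f | f <;> rcases m 1 with i | i <;>
    first
      | exact n1 (e.trans i.symm)
      | exact n2 (e.trans f.symm)
      | exact n3 (f.trans i.symm)

/-- Twenty-four elements with a stabiliser of order three. -/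
theorem octahedral_type [Finite G] (hfix : ∀ g ∈ G, ∃ P : Line E, g • P = P) {P : Line E}
    (hG : Nat.card G = 24) (hP : PointData G P 8 1 3) : Nonempty (G ≃* Equiv.Perm (Fin 4)) := by
  classical
  obtain ⟨-, Q, hQP, hQ⟩ := stabAt_cyclic G P (para_nil hP.para_eq)
  have : Fact (Nat.Prime 3) := ⟨Nat.prime_three⟩
  set C : Subgroup G := MulAction.stabilizer G P with hCdef
  have hC : Nat.card C = 3 := by
    rw [Nat.card_congr (stabEquiv G P).toEquiv, hP.stab_eq]
  have hCfix : ∀ c ∈ C, c.1 • Q = Q := fun c hc =>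
    hQ c.1 ((mem_stabAt G).2 ⟨c.2, hc⟩)
  obtain ⟨c, hcC, hc1⟩ : ∃ c ∈ C, c ≠ 1 := by
    by_contra h
    push Not at h
    rw [show C = ⊥ from (Subgroup.eq_bot_iff_forall C).2 h, Subgroup.card_bot] at hC
    omega
  have hfixC : ∀ R : Line E, c.1 • R = R → R = P ∨ R = Q := by
    intro R hR
    by_contra h
    push Not at h
    exact hc1 (Subtype.ext (eq_one_of_three hQP.symm h.1.symm h.2.symm hcC (hCfix c hcC) hR))
  have hN : Nat.card (Subgroup.normalizer (C : Set G)) ≤ 6 := by
    set N := Subgroup.normalizer (C : Set G)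
    have hsub : orbit N P ⊆ {P, Q} := by
      rintro _ ⟨⟨x, hx⟩, rfl⟩
      refine hfixC _ ?_
      have hm : x⁻¹ * c * x ∈ C := (Subgroup.mem_normalizer_iff''.1 hx c).1 hcC
      have : (x.1⁻¹ * c.1 * x.1) • P = P := hm
      show c.1 • x.1 • P = x.1 • P
      rw [mul_smul, mul_smul, inv_smul_eq_iff] at this
      exact this
    have h1 : (orbit N P).ncard ≤ 2 :=
      (Set.ncard_le_ncard hsub (Set.toFinite _)).trans (Set.ncard_pair hQP.symm).le
    have h2 : Nat.card (MulAction.stabilizer N P) ≤ 3 := by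
      rw [← hC]
      exact Nat.card_le_card_of_injective (fun x => (⟨x.1.1, x.2⟩ : C))
        (fun x y h => Subtype.ext (Subtype.ext (congrArg (fun z : C => (z.1 : G)) h)))
    rw [← Nat.card_congr (MulAction.orbitProdStabilizerEquivGroup N P), Nat.card_prod,
      Nat.card_coe_set_eq]
    exact le_trans (Nat.mul_le_mul h1 h2) le_rfl
  let S : Sylow 3 G := Sylow.ofCard C (by
    rw [hC, hG, show 24 = 3 ^ 1 * 8 by norm_num, Nat.factorization_mul (by norm_num) (by norm_num),
      Finsupp.add_apply, Nat.Prime.factorization_pow Nat.prime_three, Finsupp.single_eq_same,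
      Nat.factorization_eq_zero_of_not_dvd (show ¬ 3 ∣ 8 by norm_num)]; rfl)
  have hn3 : Nat.card (Sylow 3 G) = 4 := by
    have h1 := card_sylow_modEq_one 3 G
    have h2 := S.card_dvd_index
    have h3 : Nat.card (Sylow 3 G) = (Subgroup.normalizer (C : Set G)).index := S.card_eq_index_normalizer
    have h4 := (Subgroup.normalizer (C : Set G)).card_mul_index
    have h5 := C.card_mul_index
    replace h2 : Nat.card (Sylow 3 G) ∣ C.index := h2
    rw [← h3, hG] at h4
    rw [hC, hG] at h5
    rw [show C.index = 8 by omega] at h2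
    have h6 : 4 ≤ Nat.card (Sylow 3 G) := by
      by_contra hlt
      have := Nat.mul_le_mul hN (Nat.le_of_lt_succ (Nat.lt_of_not_le hlt))
      omega
    have h7 := Nat.le_of_dvd (by norm_num) h2
    unfold Nat.ModEq at h1
    interval_cases hk : Nat.card (Sylow 3 G) <;> omega
  set φ : G →* Equiv.Perm (Sylow 3 G) := MulAction.toPermHom G (Sylow 3 G)
  have hker : φ.ker ≤ Subgroup.normalizer (C : Set G) := fun x hx => by
    have : x • S = S := Equiv.congr_fun (MonoidHom.mem_ker.1 hx) S
    exact Sylow.smul_eq_iff_mem_normalizer.1 this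
  have hinj : Function.Injective φ := by
    rw [← MonoidHom.ker_eq_bot_iff]
    set K := φ.ker
    have hKn : K.Normal := φ.normal_ker
    have hK6 : Nat.card K ≤ 6 := le_trans (Subgroup.card_le_of_le hker) hN
    have hKC : ¬ C ≤ K := by
      intro hle
      have : Fintype (Sylow 3 G) := Fintype.ofFinite _
      obtain ⟨T, hT⟩ := Fintype.exists_ne_of_one_lt_card
        (by rw [← Nat.card_eq_fintype_card, hn3]; norm_num) S
      obtain ⟨x, hx⟩ := MulAction.exists_smul_eq G S T
      have hTK : (T : Subgroup G) ≤ K := by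
        rw [← hx, Sylow.coe_subgroup_smul]
        intro y hy
        obtain ⟨z, hz, rfl⟩ := hy
        exact hKn.conj_mem z (hle hz) x
      have hcT : Nat.card (T : Subgroup G) = 3 :=
        (Nat.card_congr (Sylow.equiv T S).toEquiv).trans hC
      have hdis : Disjoint C (T : Subgroup G) := by
        rw [disjoint_iff]
        have hd := Subgroup.card_dvd_of_le (inf_le_left : C ⊓ (T : Subgroup G) ≤ C)
        rw [hC] at hd
        rcases (Nat.dvd_prime Nat.prime_three).1 hd with e | e
        · exact Subgroup.eq_bot_of_card_eq _ e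
        · exfalso
          have e1 : C ⊓ (T : Subgroup G) = C := Subgroup.eq_of_le_of_card_ge inf_le_left (by rw [e, hC])
          have e2 : C = (T : Subgroup G) :=
            Subgroup.eq_of_le_of_card_ge (e1 ▸ inf_le_right) (by rw [hcT, hC])
          exact hT (Sylow.ext e2.symm)
      have := Nat.card_le_card_of_injective (fun p : C × (T : Subgroup G) =>
        (⟨p.1.1 * p.2.1, mul_mem (hle p.1.2) (hTK p.2.2)⟩ : K))
        (fun a b h => Subgroup.mul_injective_of_disjoint hdis (congrArg Subtype.val h))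
      rw [Nat.card_prod, hC, hcT] at this
      omega
    by_contra hbot
    have h3 : ¬ 3 ∣ Nat.card K := by
      intro h3
      obtain ⟨x, hx⟩ := exists_prime_orderOf_dvd_card' 3 h3
      obtain ⟨T, hT⟩ := IsPGroup.exists_le_sylow (P := Subgroup.zpowers x.1)
        (IsPGroup.of_card (p := 3) (n := 1) (by rw [Nat.card_zpowers, Subgroup.orderOf_coe, hx]; rfl))
      have hTK : (T : Subgroup G) ≤ K := by
        rw [← Subgroup.eq_of_le_of_card_ge hT (by
          rw [(Nat.card_congr (Sylow.equiv T S).toEquiv).trans hC, Nat.card_zpowers,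
            Subgroup.orderOf_coe, hx]), Subgroup.zpowers_le]
        exact x.2
      obtain ⟨y, hy⟩ := MulAction.exists_smul_eq G T S
      refine hKC fun z hz => ?_
      have hS' : z ∈ ((y • T : Sylow 3 G) : Subgroup G) := by rw [hy]; exact hz
      rw [Sylow.coe_subgroup_smul] at hS'
      obtain ⟨w, hw, rfl⟩ := hS'
      exact hKn.conj_mem w (hTK hw) y
    have hK2 : Nat.card K = 2 := by
      have h24 := K.card_subgroup_dvd_card
      rw [hG] at h24
      have hdN := Subgroup.card_dvd_of_le hker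
      have hNcard : Nat.card (Subgroup.normalizer (C : Set G)) = 6 := by
        have h3 : Nat.card (Sylow 3 G) = (Subgroup.normalizer (C : Set G)).index := S.card_eq_index_normalizer
        have h4 := (Subgroup.normalizer (C : Set G)).card_mul_index
        rw [← h3, hn3, hG] at h4
        omega
      rw [hNcard] at hdN
      have h0 : 0 < Nat.card K := Nat.card_pos
      have h1 : Nat.card K ≠ 1 := fun e => hbot (Subgroup.eq_bot_of_card_eq _ e)
      interval_cases hk : Nat.card K <;> omega
    obtain ⟨z, hzK, hz1⟩ : ∃ z ∈ K, z ≠ 1 := by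
      by_contra h
      push Not at h
      exact hbot ((Subgroup.eq_bot_iff_forall K).2 h)
    have hcz : c * z = z * c := by
      rcases eq_one_or_eq_of_card_two K hK2 hzK hz1 (hKn.conj_mem z hzK c) with e | e
      · exfalso
        apply hz1
        rw [mul_inv_eq_one, mul_eq_left] at e
        exact e
      · exact (mul_inv_eq_iff_eq_mul.1 e)
    have hz2 : z * z = 1 := by
      rcases eq_one_or_eq_of_card_two K hK2 hzK hz1 (mul_mem hzK hzK) with e | e
      · exact e
      · exact absurd (mul_eq_left.1 e) hz1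
    obtain ⟨R, hR⟩ := hfix z.1 z.2
    have hzc : ∀ T : Line E, z.1 • T = T → z.1 • c.1 • T = c.1 • T := fun T hT => by
      rw [← mul_smul, ← Subgroup.coe_mul, ← hcz, Subgroup.coe_mul, mul_smul, hT]
    have hc3 : ∀ T : Line E, c.1 • c.1 • c.1 • T = T := fun T => by
      have e : c ^ 3 = 1 := by
        have h := pow_card_eq_one' (x := (⟨c, hcC⟩ : C))
        rw [hC] at h
        exact congrArg Subtype.val h
      rw [← mul_smul, ← mul_smul, ← Subgroup.coe_mul, ← Subgroup.coe_mul,
        show c * c * c = c ^ 3 by rw [pow_succ, sq], e, Subgroup.coe_one, one_smul]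
    have hcR : c.1 • R = R := by
      by_contra hne
      have h2 : c.1 • c.1 • R = R := by
        by_contra hne2
        refine hz1 (Subtype.ext (eq_one_of_three (Ne.symm hne) (Ne.symm hne2) ?_ hR (hzc R hR)
          (hzc _ (hzc R hR))))
        exact fun e => hne (smul_left_cancel c.1 e.symm)
      exact hne ((congrArg (fun T => c.1 • T) h2).symm.trans (hc3 R))
    have hzP : z.1 • P ≠ P := fun e => by
      have hzC : z ∈ C := e
      have hd := orderOf_dvd_natCard (⟨z, hzC⟩ : C)
      rw [hC, Subgroup.orderOf_mk] at hd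
      rw [orderOf_eq_prime (p := 2) (by rw [sq, hz2]) hz1] at hd
      norm_num at hd
    rcases hfixC R hcR with rfl | rfl
    · exact hzP hR
    · refine hzP ?_
      rcases hfixC (z.1 • P) (by
        rw [← mul_smul, ← Subgroup.coe_mul, hcz, Subgroup.coe_mul, mul_smul, show c.1 • P = P from hcC]) with e | e
      · exact e
      · exact absurd (smul_left_cancel z.1 (e.trans hR.symm)) hQP.symm
  have : Fintype (Sylow 3 G) := Fintype.ofFinite _
  let e4 : Sylow 3 G ≃ Fin 4 := Fintype.equivFinOfCardEq (by rw [← Nat.card_eq_fintype_card, hn3])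
  exact ⟨MulEquiv.ofBijective (e4.permCongrHom.toMonoidHom.comp φ)
    ((Nat.bijective_iff_injective_and_card _).2 ⟨e4.permCongrHom.injective.comp hinj, by
      rw [hG, Nat.card_perm, Nat.card_fin]; rfl⟩)⟩

omit [Fintype (Line E)] in
theorem paraAt_mono {N : Subgroup PGL(2, E)} (h : N ≤ G) (P : Line E) : paraAt N P ⊆ paraAt G P :=
  fun _ ⟨a, b, c⟩ => ⟨h a, b, c⟩

omit [Fintype (Line E)] in
theorem stabAt_mono {N : Subgroup PGL(2, E)} (h : N ≤ G) (P : Line E) : stabAt N P ≤ stabAt G P :=
  inf_le_inf_right _ h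

omit [Fintype (Line E)] in
theorem wt_mono [Finite G] {N : Subgroup PGL(2, E)} (h : N ≤ G) (P : Line E) : wt N P ≤ wt G P :=
  Nat.add_le_add (Nat.sub_le_sub_right (Nat.le_of_dvd (Nat.card_pos (α := stabAt G P))
      (Subgroup.card_dvd_of_le (stabAt_mono h P))) 1)
    (Set.ncard_le_ncard (paraAt_mono h P) ((Set.toFinite (G : Set PGL(2, E))).subset fun _ hx => hx.1))

omit [Fintype (Line E)] in
theorem conjBy_normal {N : Subgroup G} [N.Normal] {g : PGL(2, E)} (hg : g ∈ G) :
    conjBy (N.map G.subtype) g = N.map G.subtype := by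
  ext x
  rw [mem_conjBy]
  constructor
  · rintro ⟨y, hy, e⟩
    refine ⟨⟨g, hg⟩ * y * ⟨g, hg⟩⁻¹, Subgroup.Normal.conj_mem inferInstance y hy _, ?_⟩
    show g * y.1 * g⁻¹ = x
    rw [show y.1 = g⁻¹ * x * g from e]
    group
  · rintro ⟨y, hy, rfl⟩
    exact ⟨(⟨g, hg⟩ : G)⁻¹ * y * (⟨g, hg⟩ : G)⁻¹⁻¹, Subgroup.Normal.conj_mem inferInstance y hy _, by
      simp⟩

/-- A normal subgroup has constant weight along the orbits. -/
theorem sum_orbit_normal (N : Subgroup G) [N.Normal] (P : Line E) :
    ∑ Q ∈ orb G P, wt (N.map G.subtype) Q = (orbit G P).ncard * wt (N.map G.subtype) P := by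
  rw [← card_orb, ← smul_eq_mul]
  refine Finset.sum_eq_card_nsmul fun Q hQ => ?_
  obtain ⟨⟨g, hg⟩, rfl⟩ := (mem_orb G).1 hQ
  have a := card_stabAt_conjBy (N.map G.subtype) g P
  have b := ncard_paraAt_conjBy (N.map G.subtype) g P
  rw [conjBy_normal hg] at a b
  show wt _ (g • P) = _
  rw [wt, wt, a, b]

omit [Fintype (Line E)] in
theorem orbit_disjoint {P Q : Line E} (h : Nat.card (stabAt G P) ≠ Nat.card (stabAt G Q)) {S : Line E}
    (h1 : S ∈ orbit G P) (h2 : S ∈ orbit G Q) : False := by
  obtain ⟨⟨a, ha⟩, rfl⟩ := h1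
  obtain ⟨⟨b, hb⟩, e⟩ := h2
  exact h ((card_stabAt_smul G ha P).symm.trans
    ((congrArg (fun T => Nat.card (stabAt G T)) e.symm).trans (card_stabAt_smul G hb Q)))

/-- Weight of a normal subgroup at a point with stabiliser of prime order and no parabolic elements. -/
theorem wt_normal_prime [Finite G] {o s : ℕ} {P : Line E} (hs : s.Prime) (hP : PointData G P o 1 s)
    (N : Subgroup G) [N.Normal] :
    wt (N.map G.subtype) P = 0 ∨ wt (N.map G.subtype) P = s - 1 := by
  have hle : N.map G.subtype ≤ G := Subgroup.map_subtype_le N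
  have hp0 : (paraAt (N.map G.subtype) P).ncard = 0 := by
    rw [show paraAt (N.map G.subtype) P = ∅ from Set.subset_empty_iff.1
      ((paraAt_mono hle P).trans (para_nil hP.para_eq).le), Set.ncard_empty]
  have hd := Subgroup.card_dvd_of_le (stabAt_mono hle P)
  rw [hP.stab_eq, one_mul] at hd
  rcases (Nat.dvd_prime hs).1 hd with e | e <;> simp [wt, hp0, e]

/-- The weight of a normal subgroup at a point with stabiliser of order six. -/
theorem wt_normal_six [Finite G] (p : ℕ) [Fact p.Prime] [CharP E p] {o : ℕ} {P : Line E}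
    (hP : PointData G P o 3 2) (N : Subgroup G) [N.Normal] :
    wt (N.map G.subtype) P = 0 ∨ wt (N.map G.subtype) P = 4 ∨ wt (N.map G.subtype) P = 7 := by
  set N' := N.map G.subtype with hN'
  have hle : N' ≤ G := Subgroup.map_subtype_le N
  have : Finite N' := Finite.of_injective (Subgroup.inclusion hle) (Subgroup.inclusion_injective _)
  obtain ⟨u, k, r, hs, hpar, hur, hpk, hk, hk0⟩ := stabAt_data N' p P
  obtain ⟨u', k', r', -, hpar', hur', -, -, -⟩ := stabAt_data G p P
  have hu3 : u ≤ 3 := by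
    rw [← hpar, ← hP.para_eq]
    exact Nat.add_le_add_right (Set.ncard_le_ncard (paraAt_mono hle P)
      ((Set.toFinite (G : Set PGL(2, E))).subset fun _ hx => hx.1)) 1
  have hp3 : p = 3 := by
    have h3 : (3 : ℕ) = p ^ r' := by rw [← hur', ← hpar', hP.para_eq]
    exact ((Nat.prime_dvd_prime_iff_eq Nat.prime_three (Fact.out : p.Prime)).1
      (Nat.prime_three.dvd_of_dvd_pow ⟨1, by rw [mul_one, ← h3]⟩)).symm
  subst hp3
  have hd := Subgroup.card_dvd_of_le (stabAt_mono hle P)
  rw [hs, hP.stab_eq] at hd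
  have hw : wt N' P = u * k + u - 2 := by
    have h0 : 0 < u * k := Nat.mul_pos (by omega) hk0
    simp only [wt]; omega
  have hu : u = 1 ∨ u = 3 := by
    rcases r with - | r
    · exact Or.inl (by rw [hur]; rfl)
    · rcases r with - | r
      · exact Or.inr (by rw [hur]; rfl)
      · exfalso
        rw [hur, pow_add, pow_add] at hu3
        have := Nat.one_le_pow r 3 (by norm_num)
        omega
  have hk6 : k ≤ 6 := Nat.le_of_dvd (by norm_num) (dvd_trans (dvd_mul_left k u) hd)
  rcases hu with h | h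
  · subst h
    interval_cases k
    · exact Or.inl (by omega)
    · exfalso
      obtain ⟨hcyc, Q, hQP, hQ⟩ := stabAt_cyclic N' P (para_nil (by omega))
      obtain ⟨t, ht⟩ : (paraAt G P).Nonempty := by
        rw [Set.nonempty_iff_ne_empty]
        intro e
        have := hP.para_eq
        rw [e, Set.ncard_empty] at this
        omega
      have : Finite (stabAt N' P) := Finite.of_equiv _ (stabEquiv N' P).toEquiv
      obtain ⟨z, hz, hz1⟩ : ∃ z ∈ stabAt N' P, z ≠ 1 := by
        by_contra h
        push Not at h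
        rw [(Subgroup.eq_bot_iff_forall _).2 h, Subgroup.card_bot] at hs
        omega
      obtain ⟨hzN, hzP⟩ := (mem_stabAt N').1 hz
      have hzc : t⁻¹ * z * t ∈ stabAt N' P := by
        refine (mem_stabAt N').2 ⟨?_, ?_⟩
        · have e := conjBy_normal (N := N) ht.1
          rw [← hN'] at e
          exact (mem_conjBy N').1 (e.symm ▸ hzN)
        · rw [mul_smul, mul_smul, ht.2.1, hzP, inv_smul_eq_iff, ht.2.1]
      rcases eq_one_or_eq_of_card_two _ (by omega : Nat.card (stabAt N' P) = 2) hz hz1 hzc with e | e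
      · apply hz1
        calc z = t * (t⁻¹ * z * t) * t⁻¹ := by group
          _ = 1 := by rw [e]; group
      · have htQ : z • t • Q = t • Q := by
          rw [← mul_smul, show z * t = t * (t⁻¹ * z * t) by group, e, mul_smul, hQ z hz]
        have hne : t • Q ≠ Q := fun e' => hQP (ht.2.2 Q e')
        have hne' : t • Q ≠ P := fun e' => hQP (smul_left_cancel t (e'.trans ht.2.1.symm))
        exact hz1 (eq_one_of_three hQP.symm hne'.symm hne.symm hzP (hQ z hz) htQ)
    all_goals first
      | (exfalso; omega)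
      | (exfalso; exact hpk (by norm_num))
      | (exfalso; norm_num at hd)
  · subst h
    have hk2 : k ≤ 2 := Nat.le_of_dvd (by norm_num) (by simpa using hk)
    right
    interval_cases k <;> omega

theorem sum_univ_cover (N : Subgroup G) (T : Finset (Line E)) [Finite G]
    (h : ∀ S, wt G S ≠ 0 → S ∈ T) :
    ∑ S : Line E, wt (N.map G.subtype) S = ∑ S ∈ T, wt (N.map G.subtype) S := by
  refine (Finset.sum_subset (Finset.subset_univ T) fun S _ hS => ?_).symm
  have := wt_mono (Subgroup.map_subtype_le N) S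
  by_contra h'
  exact hS (h S (by omega))

/-- The two icosahedral patterns give simple groups of order sixty. -/
theorem icosahedral_type [Finite G] (p : ℕ) [Fact p.Prime] [CharP E p]
    (hfix : ∀ g ∈ G, ∃ P : Line E, g • P = P) (hG : Nat.card G = 60)
    (h : (∃ P Q R, PointData G P 30 1 2 ∧ PointData G Q 20 1 3 ∧ PointData G R 12 1 5 ∧
        ∀ S, wt G S ≠ 0 → S ∈ orbit G P ∨ S ∈ orbit G Q ∨ S ∈ orbit G R) ∨
      ∃ P Q, PointData G P 10 3 2 ∧ PointData G Q 12 1 5 ∧
        ∀ S, wt G S ≠ 0 → S ∈ orbit G P ∨ S ∈ orbit G Q) :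
    Nonempty (G ≃* alternatingGroup (Fin 5)) := by
  classical
  have : Nontrivial G := by
    rw [← Finite.one_lt_card_iff_nontrivial, hG]; norm_num
  have hsimple : IsSimpleGroup G := by
    refine ⟨fun N hN => ?_⟩
    set N' := N.map G.subtype
    have : Finite N' := Finite.of_injective (Subgroup.inclusion (Subgroup.map_subtype_le N))
      (Subgroup.inclusion_injective _)
    have hsum := sum_wt N' fun g hg => hfix g (Subgroup.map_subtype_le N hg)
    have hcard : Nat.card N' = Nat.card N :=
      (Nat.card_congr (N.equivMapOfInjective _ G.subtype_injective).toEquiv).symm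
    have hdvd := N.card_subgroup_dvd_card
    rw [hG] at hdvd
    have hpos : 0 < Nat.card N := Nat.card_pos
    suffices hn : Nat.card N = 1 ∨ Nat.card N = 60 by
      rcases hn with e | e
      · exact Or.inl (Subgroup.eq_bot_of_card_eq _ e)
      · exact Or.inr (Subgroup.eq_top_of_card_eq _ (by rw [e, hG]))
    rw [hcard] at hsum
    have hdiv : Nat.card N ∈ Nat.divisors 60 := Nat.mem_divisors.2 ⟨hdvd, by norm_num⟩
    rw [show Nat.divisors 60 = {1, 2, 3, 4, 5, 6, 10, 12, 15, 20, 30, 60} from by decide] at hdiv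
    simp only [Finset.mem_insert, Finset.mem_singleton] at hdiv
    rcases h with ⟨P, Q, R, dP, dQ, dR, hcov⟩ | ⟨P, Q, dP, dQ, hcov⟩
    · have hd1 : Disjoint (orb G P) (orb G Q) := Finset.disjoint_left.2 fun S a b =>
        orbit_disjoint (by rw [dP.stab_eq, dQ.stab_eq]; norm_num) ((mem_orb G).1 a) ((mem_orb G).1 b)
      have hd2 : Disjoint (orb G P ∪ orb G Q) (orb G R) := Finset.disjoint_left.2 fun S a b => by
        rcases Finset.mem_union.1 a with a | a
        · exact orbit_disjoint (by rw [dP.stab_eq, dR.stab_eq]; norm_num) ((mem_orb G).1 a) ((mem_orb G).1 b)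
        · exact orbit_disjoint (by rw [dQ.stab_eq, dR.stab_eq]; norm_num) ((mem_orb G).1 a) ((mem_orb G).1 b)
      rw [sum_univ_cover N (orb G P ∪ orb G Q ∪ orb G R) (fun S hS => by
        rcases hcov S hS with a | a | a <;> simp [mem_orb, a]), Finset.sum_union hd2,
        Finset.sum_union hd1, sum_orbit_normal, sum_orbit_normal, sum_orbit_normal, dP.orb_eq,
        dQ.orb_eq, dR.orb_eq] at hsum
      rcases wt_normal_prime Nat.prime_two dP N with a | a <;>
        rcases wt_normal_prime Nat.prime_three dQ N with b | b <;>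
        rcases wt_normal_prime Nat.prime_five dR N with c | c <;>
        rw [a, b, c] at hsum <;> omega
    · have hd1 : Disjoint (orb G P) (orb G Q) := Finset.disjoint_left.2 fun S a b =>
        orbit_disjoint (by rw [dP.stab_eq, dQ.stab_eq]; norm_num) ((mem_orb G).1 a) ((mem_orb G).1 b)
      rw [sum_univ_cover N (orb G P ∪ orb G Q) (fun S hS => by
        rcases hcov S hS with a | a <;> simp [mem_orb, a]), Finset.sum_union hd1, sum_orbit_normal,
        sum_orbit_normal, dP.orb_eq, dQ.orb_eq] at hsum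
      rcases wt_normal_six p dP N with a | a | a <;>
        rcases wt_normal_prime Nat.prime_five dQ N with c | c <;>
        rw [a, c] at hsum <;> omega
  exact CfsgLib.Geom.equiv_altFive_of_simple_sixty hG

end CfsgLib.Geom.Moebius
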