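import Mathlib
import Cfsg.Agent.Lib.Geom.MoebiusCases
import Cfsg.Agent.Lib.Classical.SLGen
import Cfsg.Agent.Lib.Classical.SLOrder
import Cfsg.Agent.Lib.Classical.SLTwoSylow
import Cfsg.Agent.Lib.Classical.PSLTwoPerm

set_option autoImplicit false

/-!
The orbit pattern of a projective subline: the group is `PSL_2(K)` or `PGL_2(K)` for a subfield `K`.
-/

namespace CfsgLib.Geom.Moebius

open Matrix
open scoped MatrixGroups
open MulAction (orbit)

section SubfieldMap

variable {K E : Type*} [Field K] [Field E] (f : K →+* E)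

/-- Extension of scalars on `PGL_2`. -/
noncomputable def extHom : PGL(2, K) →* PGL(2, E) :=
  ProjGenLinGroup.lift (ProjGenLinGroup.mk.comp (Matrix.GeneralLinearGroup.map f)) (by
    refine MonoidHom.ext fun a => ?_
    show ProjGenLinGroup.mk (Matrix.GeneralLinearGroup.map f (GeneralLinearGroup.scalar (Fin 2) a)) = 1
    rw [show Matrix.GeneralLinearGroup.map f (GeneralLinearGroup.scalar (Fin 2) a) =
        GeneralLinearGroup.scalar (Fin 2) (Units.map f.toMonoidHom a) from ?_,
      ProjGenLinGroup.mk_scalar]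
    refine Units.ext (Matrix.ext fun i j => ?_)
    fin_cases i <;> fin_cases j <;> simp)

/-- Extension of scalars on points. -/
noncomputable def extPt : Line K → Line E :=
  Projectivization.lift (fun v => Projectivization.mk E (fun i => f (v.1 i)) fun h => v.2
    (funext fun i => f.injective (by rw [Pi.zero_apply, map_zero]; exact congrFun h i)))
    (fun v w t h => by
      rw [Projectivization.mk_eq_mk_iff']
      exact ⟨f t, funext fun i => by simp [h]⟩)

theorem extPt_mk (v : Fin 2 → K) (hv : v ≠ 0) :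
    extPt f (Projectivization.mk K v hv) = Projectivization.mk E (fun i => f (v i)) (fun h => hv
      (funext fun i => f.injective (by rw [Pi.zero_apply, map_zero]; exact congrFun h i))) :=
  Projectivization.lift_mk ..

theorem extPt_inf : extPt f (inf : Line K) = inf := by
  rw [inf, extPt_mk, inf, Projectivization.mk_eq_mk_iff']
  exact ⟨1, funext fun i => by fin_cases i <;> simp⟩

theorem extPt_pt (x : K) : extPt f (pt x) = pt (f x) := by
  rw [pt, extPt_mk, pt, Projectivization.mk_eq_mk_iff']
  exact ⟨1, funext fun i => by fin_cases i <;> simp⟩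

theorem extHom_smul (g : PGL(2, K)) (P : Line K) : extHom f g • extPt f P = extPt f (g • P) := by
  obtain ⟨A, rfl⟩ := ProjGenLinGroup.mk_surjective g
  induction P using Projectivization.ind with | _ v hv =>
  have e : ProjGenLinGroup.mk A • Projectivization.mk K v hv =
      Projectivization.mk K ((A : Matrix (Fin 2) (Fin 2) K) *ᵥ v) (fun h => hv
        (Matrix.mulVec_injective_iff_isUnit.2 A.isUnit (h.trans (Matrix.mulVec_zero _).symm))) :=
    gl_smul_mk_eq A _ _ ⟨1, by rw [one_smul]⟩
  rw [e, extPt_mk, extPt_mk]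
  refine gl_smul_mk_eq _ _ _ ⟨1, ?_⟩
  rw [one_smul]
  funext i
  exact (RingHom.map_mulVec f (A : Matrix (Fin 2) (Fin 2) K) v i).symm

theorem extHom_injective : Function.Injective (extHom f) := by
  rw [injective_iff_map_eq_one]
  intro g hg
  have hinj : Function.Injective (extPt f) := by
    intro P Q h
    rcases point_cases P with rfl | ⟨x, rfl⟩ <;> rcases point_cases Q with rfl | ⟨y, rfl⟩ <;>
      simp only [extPt_inf, extPt_pt] at h
    · rfl
    · exact absurd h.symm (pt_ne_inf _)
    · exact absurd h (pt_ne_inf _)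
    · rw [f.injective (pt_injective h)]
  have hP : ∀ P : Line K, g • P = P := fun P => hinj (by rw [← extHom_smul, hg, one_smul])
  exact eq_of_agree (by rw [hP, one_smul]) (by rw [hP, one_smul]) (by rw [hP, one_smul])

theorem extHom_aff (a : Kˣ) (b : K) : extHom f (aff a b) = aff (Units.map f.toMonoidHom a) (f b) := by
  refine eq_of_agree ?_ ?_ ?_
  · rw [aff_smul_inf, ← extPt_inf f, extHom_smul, aff_smul_inf]
  · rw [aff_smul_pt, show pt (0 : E) = extPt f (pt 0) by rw [extPt_pt, map_zero], extHom_smul,
      aff_smul_pt, extPt_pt]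
    simp
  · rw [aff_smul_pt, show pt (1 : E) = extPt f (pt 1) by rw [extPt_pt, map_one], extHom_smul,
      aff_smul_pt, extPt_pt]
    simp

theorem extHom_swap : extHom f (swapElem : PGL(2, K)) = swapElem := by
  refine eq_of_agree ?_ ?_ ?_
  · rw [swap_smul_inf, ← extPt_inf f, extHom_smul, swap_smul_inf, extPt_pt, map_zero]
  · rw [swap_smul_zero, show pt (0 : E) = extPt f (pt 0) by rw [extPt_pt, map_zero], extHom_smul,
      swap_smul_zero, extPt_inf]
  · rw [swap_smul_pt one_ne_zero, inv_one, show pt (1 : E) = extPt f (pt 1) by rw [extPt_pt, map_one],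
      extHom_smul, swap_smul_pt one_ne_zero, inv_one]

theorem extHom_low (b : K) : extHom f (low b) = low (f b) := by
  rw [low, map_mul, map_mul, extHom_swap, extHom_aff, low]
  simp

/-- The upper transvection as a transformation. -/
theorem mk_transvection_zero_one (c : K) :
    ProjGenLinGroup.mk (Matrix.SpecialLinearGroup.toGL
      (Matrix.SpecialLinearGroup.transvection (show (0 : Fin 2) ≠ 1 by decide) c)) = aff 1 c := by
  rw [aff]
  congr 1
  refine Units.ext (Matrix.ext fun i j => ?_)
  fin_cases i <;> fin_cases j <;>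
    simp [affGL, Matrix.transvection, Matrix.SpecialLinearGroup.transvection_coe]

/-- The lower transvection as a transformation. -/
theorem mk_transvection_one_zero (c : K) :
    ProjGenLinGroup.mk (Matrix.SpecialLinearGroup.toGL
      (Matrix.SpecialLinearGroup.transvection (show (1 : Fin 2) ≠ 0 by decide) c)) = low c := by
  rw [low, swapElem, aff, ← map_mul, ← map_mul]
  congr 1
  refine Units.ext (Matrix.ext fun i j => ?_)
  fin_cases i <;> fin_cases j <;>
    simp [affGL, Matrix.transvection, Matrix.SpecialLinearGroup.transvection_coe, Matrix.mul_apply,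
      Fin.sum_univ_two]

end SubfieldMap

variable {E : Type*} [Field E] [Fintype (Line E)] (G : Subgroup PGL(2, E))

/-- The lower unipotent elements of `G`. -/
def lowSet : AddSubgroup E where
  carrier := {b | low b ∈ G}
  zero_mem' := by
    show low 0 ∈ G
    rw [low, aff_one, mul_one, swap_mul_swap]; exact one_mem G
  add_mem' := fun {a b} ha hb => by
    show low (a + b) ∈ G
    rw [← low_mul]; exact mul_mem ha hb
  neg_mem' := fun {a} ha => by
    show low (-a) ∈ G
    have h : low a * low (-a) = 1 := by rw [low_mul, add_neg_cancel, low, aff_one, mul_one, swap_mul_swap]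
    rw [← inv_eq_of_mul_eq_one_right h]; exact inv_mem ha

/-- The orbit of infinity is a projective line over a subfield. -/
theorem exists_subfield [Finite G] (p : ℕ) [Fact p.Prime] [CharP E p] {u k : ℕ}
    (hP : PointData G inf (u + 1) u k) (h0 : pt (0 : E) ∈ orbit G (inf : Line E))
    (h1 : pt (1 : E) ∈ orbit G (inf : Line E)) :
    ∃ K : Subfield E, (∀ x, x ∈ K ↔ x ∈ transSet G) ∧ Nat.card K = u ∧
      (∀ x : E, pt x ∈ orbit G (inf : Line E) ↔ x ∈ K) ∧ ∀ b ∈ K, low b ∈ G := by
  classical
  set A := transSet G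
  set B := lowSet G
  have hAfin : (A : Set E).Finite := by
    have := finite_transSet G
    exact Set.toFinite _
  have hA : Nat.card A = u := by rw [← hP.para_eq, ncard_paraAt_inf]
  have horb : ∀ x, pt x ∈ orbit G (inf : Line E) ↔ x ∈ A := by
    let S : Set E := {x | pt x ∈ orbit G (inf : Line E)}
    have hsub : (A : Set E) ⊆ S := by
      intro t ht
      obtain ⟨g, hg⟩ := h0
      refine ⟨(⟨aff 1 t, ht⟩ : G) * g, ?_⟩
      show (aff 1 t * g.1) • inf = pt t
      rw [mul_smul, show g.1 • inf = pt (0 : E) from hg, aff_smul_pt]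
      simp
    have hS : (orbit G (inf : Line E)) = insert inf (pt '' S) := by
      ext Q
      rcases point_cases Q with rfl | ⟨x, rfl⟩
      · exact ⟨fun _ => Set.mem_insert _ _, fun _ => MulAction.mem_orbit_self _⟩
      · simp only [Set.mem_insert_iff, pt_ne_inf, false_or, pt_injective.mem_set_image]
        rfl
    have hc : S.ncard = u := by
      have := hP.orb_eq
      rw [hS, Set.ncard_insert_of_notMem (show (inf : Line E) ∉ pt '' S from fun ⟨x, _, hx⟩ => pt_ne_inf x hx)
          (Set.toFinite _),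
        Set.ncard_image_of_injective _ pt_injective] at this
      omega
    have hfin : S.Finite := Set.Finite.of_finite_image (Set.toFinite (pt '' S)) pt_injective.injOn
    have he : (A : Set E) = S := Set.eq_of_subset_of_ncard_le hsub
      (by rw [hc, ← Nat.card_coe_set_eq]; exact hA.ge) hfin
    intro x
    exact (Set.ext_iff.1 he x).symm
  have hpara0 : paraAt G (pt (0 : E)) = low '' ((B : Set E) \ {0}) := by
    ext g
    constructor
    · rintro ⟨hg, h00, hu⟩
      obtain ⟨b, rfl⟩ := exists_low_or_second h00 hu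
      refine ⟨b, ⟨hg, fun hb => ?_⟩, rfl⟩
      rw [Set.mem_singleton_iff] at hb
      exact pt_ne_inf 0 (hu inf (by rw [hb, low, aff_one, mul_one, swap_mul_swap, one_smul])).symm
    · rintro ⟨b, ⟨hb, hb0⟩, rfl⟩
      refine ⟨hb, low_smul_zero b, fun Q hQ => ?_⟩
      rw [low, mul_smul, mul_smul] at hQ
      have hQ' : aff 1 b • (swapElem : PGL(2, E)) • Q = (swapElem : PGL(2, E)) • Q := by
        have := congrArg (fun T => (swapElem : PGL(2, E)) • T) hQ
        rwa [← mul_smul (swapElem : PGL(2, E)) swapElem, swap_mul_swap, one_smul] at this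
      rcases fixed_aff_cases hQ' with e | ⟨e, -⟩ | ⟨-, e⟩
      · rw [← swap_smul_inf, ← e, ← mul_smul, swap_mul_swap, one_smul]
      · exact absurd rfl e
      · exact absurd e hb0
  have hlowinj : Function.Injective (low (E := E)) := by
    intro a b h
    rw [low, low, mul_left_inj, mul_right_inj] at h
    exact (aff_inj h).2
  have hBfin : (B : Set E).Finite :=
    Set.Finite.of_finite_image ((Set.toFinite (G : Set PGL(2, E))).subset
      (Set.image_subset_iff.2 fun b hb => hb)) hlowinj.injOn
  have hB : (B : Set E).ncard = u := by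
    obtain ⟨⟨g, hg⟩, hg0⟩ := h0
    have := ncard_paraAt_smul G hg (inf : Line E)
    rw [show g • (inf : Line E) = pt 0 from hg0, hpara0, Set.ncard_image_of_injective _ hlowinj] at this
    have h' := hP.para_eq
    rw [← Set.ncard_diff_singleton_add_one (show (0 : E) ∈ (B : Set E) from B.zero_mem) hBfin]
    omega
  have hAB : ∀ b ∈ B, b ≠ 0 → b⁻¹ ∈ A := fun b hb hb0 => by
    rw [← horb]
    exact ⟨⟨low b, hb⟩, low_smul_inf hb0⟩
  have hBA : ∀ a ∈ A, a ≠ 0 → a⁻¹ ∈ B := by
    have hsub : (fun b : E => b⁻¹) '' ((B : Set E) \ {0}) ⊆ (A : Set E) \ {0} := by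
      rintro _ ⟨b, ⟨hb, hb0⟩, rfl⟩
      exact ⟨hAB b hb hb0, inv_ne_zero hb0⟩
    have heq := Set.eq_of_subset_of_ncard_le hsub (by
      rw [Set.ncard_image_of_injective _ inv_injective,
        ← add_le_add_iff_right 1, Set.ncard_diff_singleton_add_one (show (0 : E) ∈ (A : Set E) from A.zero_mem) hAfin,
        Set.ncard_diff_singleton_add_one (show (0 : E) ∈ (B : Set E) from B.zero_mem) hBfin, hB,
        ← Nat.card_coe_set_eq]
      exact hA.le) (hAfin.subset Set.diff_subset)
    intro a ha ha0
    obtain ⟨b, ⟨hb, -⟩, rfl⟩ := heq.symm ▸ (show a ∈ (A : Set E) \ {0} from ⟨ha, ha0⟩)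
    simpa using hb
  have key : ∀ a ∈ A, ∀ b ∈ B, a * a * b ∈ A := by
    intro a ha b hb
    by_cases ha0 : a = 0
    · rw [ha0, zero_mul, zero_mul]; exact A.zero_mem
    by_cases hb0 : b = 0
    · rw [hb0, mul_zero]; exact A.zero_mem
    by_cases h : b * a + 1 = 0
    · have : a * a * b = -a := by linear_combination a * h
      rw [this]; exact A.neg_mem ha
    · obtain ⟨g, hg⟩ := (horb a).2 ha
      have hmem : a / (b * a + 1) ∈ A := (horb _).1 ⟨(⟨low b, hb⟩ : G) * g, by
        show (low b * g.1) • inf = pt (a / (b * a + 1))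
        rw [mul_smul, show g.1 • inf = pt a from hg, low_smul_pt ha0 h]⟩
      have hdiff := A.sub_mem ha hmem
      have hne : a - a / (b * a + 1) ≠ 0 := by
        rw [sub_ne_zero]
        intro e
        rw [eq_div_iff h] at e
        exact mul_ne_zero (mul_ne_zero ha0 hb0) ha0 (by linear_combination e)
      have h2 := B.sub_mem (hBA _ hdiff hne) (hBA a ha ha0)
      have he : (a - a / (b * a + 1))⁻¹ - a⁻¹ = (a * a * b)⁻¹ := by
        rw [show a - a / (b * a + 1) = (a * a * b) / (b * a + 1) by
          rw [sub_eq_iff_eq_add, ← add_div, eq_div_iff h]; ring, inv_div]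
        field_simp
        ring
      rw [he] at h2
      simpa using hAB _ h2 (inv_ne_zero (mul_ne_zero (mul_ne_zero ha0 ha0) hb0))
  have hone : (1 : E) ∈ A := (horb 1).1 h1
  have hone' : (1 : E) ∈ B := by simpa using hBA 1 hone one_ne_zero
  have hBeq : ∀ b, b ∈ B ↔ b ∈ A := by
    have hsub : (B : Set E) ⊆ A := fun b hb => by simpa using key 1 hone b hb
    have := Set.eq_of_subset_of_ncard_le hsub (by
      rw [hB, ← Nat.card_coe_set_eq]; exact hA.le) hAfin
    exact fun b => Set.ext_iff.1 this b
  have hinv : ∀ a ∈ A, a⁻¹ ∈ A := fun a ha => by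
    by_cases h : a = 0
    · rw [h, _root_.inv_zero]; exact A.zero_mem
    · exact (hBeq _).1 (hBA a ha h)
  have hmul : ∀ a ∈ A, ∀ b ∈ A, a * b ∈ A := by
    intro a ha b hb
    have hb' : b ∈ B := (hBeq b).2 hb
    by_cases h2 : (2 : E) = 0
    · have hsqs : (fun s : E => s * s) '' (A : Set E) = A := by
        refine Set.eq_of_subset_of_ncard_le ?_ ?_ hAfin
        · rintro _ ⟨s, hs, rfl⟩
          simpa using key s hs 1 hone'
        · rw [Set.ncard_image_of_injective]
          intro x y e
          have : (x - y) * (x - y) = 0 := by linear_combination e + (y * y - x * y) * h2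
          exact sub_eq_zero.1 (mul_self_eq_zero.1 this)
      obtain ⟨s, hs, rfl⟩ : a ∈ (fun s : E => s * s) '' (A : Set E) := hsqs.symm ▸ ha
      exact key s hs b hb'
    · have hsq : ∀ x ∈ A, x * x ∈ A := fun x hx => by simpa using key x hx 1 hone'
      have h2ab : a * b + a * b ∈ A := by
        have := A.sub_mem (A.sub_mem (hsq _ (A.add_mem ha hb)) (hsq a ha)) (hsq b hb)
        convert this using 1; ring
      have hp2 : ¬ 2 ∣ p := fun h => h2 (by
        rw [← Nat.cast_two, CharP.cast_eq_zero_iff E p,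
          (Nat.prime_dvd_prime_iff_eq Nat.prime_two Fact.out).1 h])
      have := A.nsmul_mem h2ab ((p + 1) / 2)
      rw [← two_mul, nsmul_eq_mul, ← mul_assoc] at this
      have hc : (((p + 1) / 2 : ℕ) : E) * 2 = 1 := by
        have h := congrArg (Nat.cast : ℕ → E) (show (p + 1) / 2 * 2 = p + 1 by omega)
        rw [Nat.cast_mul, Nat.cast_add, CharP.cast_eq_zero E p, zero_add, Nat.cast_one, Nat.cast_two] at h
        exact h
      rwa [hc, one_mul] at this
  let K : Subfield E :=
    { carrier := A
      mul_mem' := fun {a b} ha hb => hmul a ha b hb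
      one_mem' := hone
      add_mem' := fun {a b} ha hb => A.add_mem ha hb
      zero_mem' := A.zero_mem
      neg_mem' := fun {a} ha => A.neg_mem ha
      inv_mem' := hinv }
  exact ⟨K, fun x => Iff.rfl, hA, horb, fun b hb => (hBeq b).2 hb⟩

/-- The group of a subline pattern is a projective linear group over the subfield. -/
theorem subline_type [Finite G] (p : ℕ) [Fact p.Prime] [CharP E p] {u k : ℕ} (hu : 2 ≤ u)
    (hP : PointData G inf (u + 1) u k) (hk : k = u - 1 ∨ 2 * k = u - 1)
    (h0 : pt (0 : E) ∈ orbit G (inf : Line E)) (h1 : pt (1 : E) ∈ orbit G (inf : Line E)) :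
    ∃ K : Subfield E, (∀ x, x ∈ K ↔ x ∈ transSet G) ∧ Nat.card K = u ∧
      (Nonempty (G ≃* ProjGenLinGroup (Fin 2) K) ∧ Nat.card G = (u + 1) * (u * (u - 1)) ∨
        Nonempty (G ≃* ProjectiveSpecialLinearGroup (Fin 2) K) ∧ 2 * Nat.card G = (u + 1) * (u * (u - 1))) := by
  classical
  obtain ⟨K, hKA, hKu, horb, hlow⟩ := exists_subfield G p hP h0 h1
  refine ⟨K, hKA, hKu, ?_⟩
  have : Finite K := Nat.finite_of_card_ne_zero (by omega)
  let _ : Fintype K := Fintype.ofFinite K
  have hKcard : Fintype.card K = u := by rw [← Nat.card_eq_fintype_card, hKu]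
  set f : K →+* E := K.subtype
  have hline : ∀ Q ∈ orbit G (inf : Line E), ∃ Q' : Line K, extPt f Q' = Q := by
    intro Q hQ
    rcases point_cases Q with rfl | ⟨x, rfl⟩
    · exact ⟨inf, extPt_inf f⟩
    · exact ⟨pt ⟨x, (horb x).1 hQ⟩, extPt_pt f _⟩
  have hle : G ≤ (extHom f).range := by
    intro g hg
    have m : ∀ Q ∈ orbit G (inf : Line E), g • Q ∈ orbit G (inf : Line E) := fun Q hQ =>
      MulAction.mem_orbit_of_mem_orbit (⟨g, hg⟩ : G) hQ
    obtain ⟨a, ha⟩ := hline _ (m _ (MulAction.mem_orbit_self _))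
    obtain ⟨b, hb⟩ := hline _ (m _ h0)
    obtain ⟨c, hc⟩ := hline _ (m _ h1)
    have d1 : a ≠ b := fun e => pt_ne_inf (0 : E) (smul_left_cancel g (by rw [← ha, ← hb, e]))
    have d2 : a ≠ c := fun e => pt_ne_inf (1 : E) (smul_left_cancel g (by rw [← ha, ← hc, e]))
    have d3 : b ≠ c := fun e => zero_ne_one
      (pt_injective (smul_left_cancel g (show g • pt (0 : E) = g • pt 1 by rw [← hb, ← hc, e])))
    obtain ⟨h, e1, e2, e3⟩ := exists_map3 d1 d2 d3
    refine ⟨h, eq_of_agree ?_ ?_ ?_⟩
    · rw [← extPt_inf f, extHom_smul, e1, ha, extPt_inf]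
    · rw [show pt (0 : E) = extPt f (pt 0) by rw [extPt_pt, map_zero], extHom_smul, e2, hb, extPt_pt,
        map_zero]
    · rw [show pt (1 : E) = extPt f (pt 1) by rw [extPt_pt, map_one], extHom_smul, e3, hc, extPt_pt,
        map_one]
  set ψ : ProjectiveSpecialLinearGroup (Fin 2) K →* PGL(2, E) :=
    (extHom f).comp Matrix.ProjectiveSpecialLinearGroup.toPGL
  have hψinj : Function.Injective ψ :=
    (extHom_injective f).comp Matrix.ProjectiveSpecialLinearGroup.toPGL_injective
  have hψle : ψ.range ≤ G := by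
    have hH : G.comap (ψ.comp (QuotientGroup.mk' _)) = ⊤ := by
      refine CfsgLib.Classical.sl_transvection_induction _ fun i j hij c => ?_
      show extHom f (ProjGenLinGroup.mk (Matrix.SpecialLinearGroup.toGL _)) ∈ G
      fin_cases i <;> fin_cases j
      · exact absurd rfl hij
      · rw [show extHom f (ProjGenLinGroup.mk _) = aff 1 (f c) from
          (congrArg (extHom f) (mk_transvection_zero_one c)).trans (by rw [extHom_aff, map_one])]
        exact (hKA _).1 c.2
      · rw [show extHom f (ProjGenLinGroup.mk _) = low (f c) from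
          (congrArg (extHom f) (mk_transvection_one_zero c)).trans (extHom_low f c)]
        exact hlow _ c.2
      · exact absurd rfl hij
    rintro _ ⟨x, rfl⟩
    obtain ⟨y, rfl⟩ := QuotientGroup.mk'_surjective _ x
    exact (hH.symm ▸ Subgroup.mem_top y : y ∈ G.comap (ψ.comp (QuotientGroup.mk' _)))
  have hG := hP.mul_eq
  obtain ⟨u', rfl⟩ : ∃ u', u = u' + 1 := ⟨u - 1, by omega⟩
  simp only [Nat.add_sub_cancel] at hk ⊢
  have hpgl : Nat.card PGL(2, K) = (u' + 1 + 1) * ((u' + 1) * u') := by
    rw [CfsgLib.Classical.card_pgl, CfsgLib.Classical.card_sl_two_eq, hKcard,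
      show (u' + 1) ^ 2 - 1 = u' * (u' + 2) from Nat.sub_eq_of_eq_add (by ring)]
    ring
  have : Finite PGL(2, K) := Nat.finite_of_card_ne_zero (by
    rw [hpgl]
    exact (Nat.mul_pos (by omega) (Nat.mul_pos (by omega) (by omega))).ne')
  rcases hk with rfl | hk
  · left
    refine ⟨?_, hG.symm⟩
    have : Finite (extHom f).range := Finite.of_surjective _ (extHom f).rangeRestrict_surjective
    have e : G = (extHom f).range := Subgroup.eq_of_le_of_card_ge hle (by
      rw [← Nat.card_congr (MonoidHom.ofInjective (extHom_injective f)).toEquiv, hpgl, hG])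
    exact ⟨(MulEquiv.subgroupCongr e).trans (MonoidHom.ofInjective (extHom_injective f)).symm⟩
  · right
    have h2G : 2 * Nat.card G = (u' + 1 + 1) * ((u' + 1) * u') := by
      rw [← hG, ← hk]; ring
    refine ⟨?_, h2G⟩
    have hpsl := CfsgLib.Classical.card_psl_two_mul (F := K)
    rw [hKcard, Nat.add_sub_cancel, show Nat.gcd 2 u' = 2 from Nat.gcd_eq_left ⟨k, hk.symm⟩,
      show (u' + 1) ^ 2 - 1 = u' * (u' + 2) from Nat.sub_eq_of_eq_add (by ring)] at hpsl
    have e : ψ.range = G := Subgroup.eq_of_le_of_card_ge hψle (by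
      rw [← Nat.card_congr (MonoidHom.ofInjective hψinj).toEquiv]
      have : 2 * Nat.card (ProjectiveSpecialLinearGroup (Fin 2) K) = 2 * Nat.card G := by
        rw [hpsl, h2G]; ring
      omega)
    exact ⟨((MonoidHom.ofInjective hψinj).trans (MulEquiv.subgroupCongr e)).symm⟩

end CfsgLib.Geom.Moebius
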