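import Mathlib
import Cfsg.Agent.Lib.Geom.MoebiusField
import Cfsg.Agent.Lib.Geom.FiniteField

set_option autoImplicit false

/-!
Eigenvalues of two by two matrices in a quadratic extension, and the resulting fixed points.
-/

namespace CfsgLib.Geom.Moebius

open Matrix
open scoped MatrixGroups

variable {F E : Type*} [Field F] [Field E] (f : F →+* E)

/-- Every monic quadratic over `F` has a root in `E`. -/
def QuadClosed : Prop := ∀ b c : F, ∃ μ : E, μ * μ + f b * μ + f c = 0

theorem quadClosed_extension [Finite F] (p : ℕ) [Fact p.Prime] [CharP F p] :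
    QuadClosed (algebraMap F (FiniteField.Extension F p 2)) := by
  intro b c
  by_cases h : ∃ x : F, x * x + b * x + c = 0
  · obtain ⟨x, hx⟩ := h
    exact ⟨algebraMap F _ x, by rw [← map_mul, ← map_mul, ← map_add, ← map_add, hx, map_zero]⟩
  push Not at h
  let g : Polynomial F := Polynomial.X ^ 2 + Polynomial.C b * Polynomial.X + Polynomial.C c
  have hdeg : g.natDegree = 2 := by simp only [g]; compute_degree!
  have hirr : Irreducible g := by
    rw [Polynomial.irreducible_iff_roots_eq_zero_of_degree_le_three (by omega) (by omega)]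
    refine Multiset.eq_zero_of_forall_notMem fun x hx => h x ?_
    have := (Polynomial.mem_roots'.1 hx).2
    simp [g, Polynomial.IsRoot] at this
    linear_combination this
  have : Fact (Irreducible g) := ⟨hirr⟩
  have hg0 : g ≠ 0 := hirr.ne_zero
  have hfr : Module.finrank F (AdjoinRoot g) = 2 :=
    ((AdjoinRoot.powerBasis hg0).finrank.trans (AdjoinRoot.powerBasis_dim hg0)).trans hdeg
  obtain ⟨φ⟩ : Nonempty (AdjoinRoot g →ₐ[F] FiniteField.Extension F p 2) :=
    FiniteField.nonempty_algHom_of_finrank_dvd (by rw [hfr, FiniteField.finrank_extension])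
  refine ⟨φ (AdjoinRoot.root g), ?_⟩
  have hroot : Polynomial.aeval (φ (AdjoinRoot.root g)) g = 0 := by
    rw [Polynomial.aeval_algHom_apply, AdjoinRoot.aeval_eq, AdjoinRoot.mk_self, map_zero]
  simp only [g, map_add, map_mul, map_pow, Polynomial.aeval_X, Polynomial.aeval_C] at hroot
  linear_combination hroot

theorem map_mulVec_two (A : Matrix (Fin 2) (Fin 2) F) (v : Fin 2 → E) (i : Fin 2) :
    (A.map f *ᵥ v) i = f (A i 0) * v 0 + f (A i 1) * v 1 := by
  simp [Matrix.mulVec, dotProduct, Fin.sum_univ_two, Matrix.map_apply]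

theorem exists_eigen {A : Matrix (Fin 2) (Fin 2) F} {μ : E}
    (h : μ * μ + f (-A.trace) * μ + f A.det = 0) : ∃ v : Fin 2 → E, v ≠ 0 ∧ A.map f *ᵥ v = μ • v := by
  have hdet : (A.map f - μ • (1 : Matrix (Fin 2) (Fin 2) E)).det = 0 := by
    rw [trace_fin_two, det_fin_two, map_neg, map_add, map_sub, map_mul, map_mul] at h
    simp [det_fin_two]
    linear_combination h
  obtain ⟨v, hv, e⟩ := Matrix.exists_mulVec_eq_zero_iff.2 hdet
  rw [Matrix.sub_mulVec, sub_eq_zero, Matrix.smul_mulVec, Matrix.one_mulVec] at e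
  exact ⟨v, hv, e⟩

theorem extHom_mk_smul (A : GL (Fin 2) F) {v : Fin 2 → E} (hv : v ≠ 0) {μ : E}
    (h : (A : Matrix (Fin 2) (Fin 2) F).map f *ᵥ v = μ • v) :
    extHom f (ProjGenLinGroup.mk A) • Projectivization.mk E v hv = Projectivization.mk E v hv :=
  gl_smul_mk_eq _ _ _ ⟨μ, h⟩

theorem exists_fixed (hE : QuadClosed f) (g : PGL(2, F)) : ∃ P : Line E, extHom f g • P = P := by
  obtain ⟨A, rfl⟩ := ProjGenLinGroup.mk_surjective g
  obtain ⟨μ, hμ⟩ := hE (-(A : Matrix (Fin 2) (Fin 2) F).trace) (A : Matrix (Fin 2) (Fin 2) F).det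
  obtain ⟨v, hv, e⟩ := exists_eigen f hμ
  exact ⟨_, extHom_mk_smul f A hv e⟩

/-- A fixed point that is the only one is defined over `F`. -/
theorem rational_of_unique [Finite F] (hE : QuadClosed f) {g : PGL(2, F)} {P : Line E}
    (hu : ∀ Q : Line E, extHom f g • Q = Q → Q = P) : ∃ P' : Line F, extPt f P' = P := by
  obtain ⟨A, rfl⟩ := ProjGenLinGroup.mk_surjective g
  set M := (A : Matrix (Fin 2) (Fin 2) F)
  obtain ⟨μ, hμ⟩ := hE (-M.trace) M.det
  obtain ⟨v, hv, e⟩ := exists_eigen f hμ
  have hν : (f M.trace - μ) * (f M.trace - μ) + f (-M.trace) * (f M.trace - μ) + f M.det = 0 := by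
    rw [map_neg] at hμ ⊢; linear_combination hμ
  obtain ⟨w, hw, e'⟩ := exists_eigen f hν
  have h1 := hu _ (extHom_mk_smul f A hv e)
  have h2 := hu _ (extHom_mk_smul f A hw e')
  obtain ⟨t, ht⟩ := (Projectivization.mk_eq_mk_iff' E _ _ hw hv).1 (h2.trans h1.symm)
  have hμν : f M.trace - μ = μ := by
    have : (f M.trace - μ) • w = μ • w := by
      rw [← e', ← ht, Matrix.mulVec_smul, e, smul_comm]
    exact smul_left_injective E hw this
  have htr : f M.trace = 2 * μ := by linear_combination hμν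
  obtain ⟨l, hl⟩ : ∃ l : F, f l = μ := by
    by_cases h2 : (2 : F) = 0
    · have h2E : (2 : E) = 0 := by rw [← map_ofNat f 2, h2, map_zero]
      have hsq : IsSquare M.det := isSquare_of_two_eq_zero h2 _
      obtain ⟨l, hl⟩ := hsq
      refine ⟨l, ?_⟩
      have : (f l - μ) * (f l - μ) = 0 := by
        rw [map_neg] at hμ
        rw [hl, map_mul] at hμ
        linear_combination hμ + μ * htr + (μ * μ - f l * μ) * h2E
      exact sub_eq_zero.1 (mul_self_eq_zero.1 this)
    · refine ⟨M.trace / 2, ?_⟩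
      rw [map_div₀, map_ofNat, htr]
      have : (2 : E) ≠ 0 := by rw [← map_ofNat f 2]; exact (map_ne_zero f).2 h2
      field_simp
  subst hl
  have hd : (M - l • (1 : Matrix (Fin 2) (Fin 2) F)).det = 0 := by
    apply f.injective
    rw [map_zero, trace_fin_two, det_fin_two] at *
    simp [det_fin_two]
    simp at hμ
    linear_combination hμ
  obtain ⟨u, hu0, eu⟩ := Matrix.exists_mulVec_eq_zero_iff.2 hd
  rw [Matrix.sub_mulVec, sub_eq_zero, Matrix.smul_mulVec, Matrix.one_mulVec] at eu
  refine ⟨Projectivization.mk F u hu0, hu _ ?_⟩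
  rw [extHom_smul, show ProjGenLinGroup.mk A • Projectivization.mk F u hu0 = Projectivization.mk F u hu0 from
    gl_smul_mk_eq _ _ _ ⟨l, eu⟩]

end CfsgLib.Geom.Moebius
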