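import Mathlib
import Cfsg.Agent.Lib.Geom.QuadExt
import Cfsg.Agent.Lib.Geom.MoebiusTypes

set_option autoImplicit false

/-!
Subgroups of `PSL_2` over a finite field.
-/

namespace CfsgLib.Geom.Moebius

open Matrix
open scoped MatrixGroups
open MulAction (orbit)

theorem map_center_equiv {A B : Type*} [Group A] [Group B] (φ : A ≃* B) :
    (Subgroup.center A).map (φ : A →* B) = Subgroup.center B := by
  ext x
  rw [Subgroup.mem_map, Subgroup.mem_center_iff]
  constructor
  · rintro ⟨y, hy, rfl⟩ g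
    obtain ⟨g, rfl⟩ := φ.surjective g
    show φ g * φ y = φ y * φ g
    rw [← map_mul, ← map_mul, Subgroup.mem_center_iff.1 hy]
  · intro h
    refine ⟨φ.symm x, Subgroup.mem_center_iff.2 fun g => φ.injective ?_, φ.apply_symm_apply x⟩
    rw [map_mul, map_mul, MulEquiv.apply_symm_apply, h]

/-- Isomorphic fields give isomorphic projective special linear groups. -/
noncomputable def pslCongr {n : Type*} [Fintype n] [DecidableEq n] {K L : Type*} [Field K] [Field L]
    (e : K ≃+* L) : ProjectiveSpecialLinearGroup n K ≃* ProjectiveSpecialLinearGroup n L :=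
  let φ : Matrix.SpecialLinearGroup n K ≃* Matrix.SpecialLinearGroup n L :=
    MulEquiv.ofBijective (Matrix.SpecialLinearGroup.map e.toRingHom)
      ⟨fun a b h => Subtype.ext (Matrix.map_injective e.injective (congrArg Subtype.val h)),
        fun b => ⟨Matrix.SpecialLinearGroup.map e.symm.toRingHom b, Subtype.ext (by ext i j; simp)⟩⟩
  QuotientGroup.congr _ _ φ (map_center_equiv φ)

/-- Isomorphic fields give isomorphic projective general linear groups. -/
noncomputable def pglCongr {n : Type*} [Fintype n] [DecidableEq n] {K L : Type*} [Field K] [Field L]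
    (e : K ≃+* L) : ProjGenLinGroup n K ≃* ProjGenLinGroup n L :=
  let φ : GL n K ≃* GL n L := Units.mapEquiv (RingEquiv.mapMatrix e).toMulEquiv
  QuotientGroup.congr _ _ φ (map_center_equiv φ)

variable {F E : Type*} [Field F] [Fintype F] [Field E] (f : F →+* E)

/-- `PSL_2(F)` inside `PGL_2(E)`. -/
noncomputable def pslExt : ProjectiveSpecialLinearGroup (Fin 2) F →* PGL(2, E) :=
  (extHom f).comp Matrix.ProjectiveSpecialLinearGroup.toPGL

omit [Fintype F] in
theorem pslExt_injective : Function.Injective (pslExt f) :=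
  (extHom_injective f).comp Matrix.ProjectiveSpecialLinearGroup.toPGL_injective

omit [Fintype F] in
theorem fixed_iff_eigen (A : GL (Fin 2) F) {v : Fin 2 → E} (hv : v ≠ 0)
    (h : extHom f (ProjGenLinGroup.mk A) • Projectivization.mk E v hv = Projectivization.mk E v hv) :
    ∃ μ : E, (A : Matrix (Fin 2) (Fin 2) F).map f *ᵥ v = μ • v := by
  have hinj : Function.Injective ((A : Matrix (Fin 2) (Fin 2) F).map f).mulVec :=
    Matrix.mulVec_injective_iff_isUnit.2 ((Matrix.GeneralLinearGroup.map f A).isUnit)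
  have hw : (A : Matrix (Fin 2) (Fin 2) F).map f *ᵥ v ≠ 0 := fun e =>
    hv (hinj (e.trans (Matrix.mulVec_zero _).symm))
  have e : extHom f (ProjGenLinGroup.mk A) • Projectivization.mk E v hv = Projectivization.mk E _ hw :=
    gl_smul_mk_eq _ _ _ ⟨1, by rw [one_smul]; rfl⟩
  obtain ⟨μ, hμ⟩ := (Projectivization.mk_eq_mk_iff' E _ _ hw hv).1 (e.symm.trans h)
  exact ⟨μ, hμ.symm⟩

/-- An element fixing two points has order dividing `(q ± 1)/d`. -/
theorem pow_eq_one_of_two_fixed (g : ProjectiveSpecialLinearGroup (Fin 2) F) {P Q : Line E}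
    (hPQ : P ≠ Q) (hP : pslExt f g • P = P) (hQ : pslExt f g • Q = Q) :
    g ^ ((Fintype.card F + 1) / Nat.gcd 2 (Fintype.card F - 1)) = 1 ∨
      g ^ ((Fintype.card F - 1) / Nat.gcd 2 (Fintype.card F - 1)) = 1 := by
  classical
  obtain ⟨x, rfl⟩ := QuotientGroup.mk_surjective g
  induction P using Projectivization.ind with | _ v hv =>
  induction Q using Projectivization.ind with | _ w hw =>
  set A := Matrix.SpecialLinearGroup.toGL x
  set X : Matrix (Fin 2) (Fin 2) E := (x : Matrix (Fin 2) (Fin 2) F).map f with hX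
  obtain ⟨μ, hμ⟩ : ∃ μ, X *ᵥ v = μ • v := fixed_iff_eigen f A hv hP
  obtain ⟨ν, hν⟩ : ∃ ν, X *ᵥ w = ν • w := fixed_iff_eigen f A hw hQ
  let M : Matrix (Fin 2) (Fin 2) E := Matrix.of fun i j => ![v, w] j i
  have hMv : ∀ c, M *ᵥ c = c 0 • v + c 1 • w := fun c => by
    funext i; simp [M, Matrix.mulVec, dotProduct, Fin.sum_univ_two, mul_comm]
  have hM : M.det ≠ 0 := fun h => by
    obtain ⟨c, hc, e⟩ := Matrix.exists_mulVec_eq_zero_iff.2 h
    rw [hMv] at e
    by_cases h1 : c 1 = 0
    · rw [h1, zero_smul, add_zero] at e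
      have h0 : c 0 = 0 := (smul_eq_zero.1 e).resolve_right hv
      exact hc (funext fun i => by fin_cases i <;> simp [h0, h1])
    · refine hPQ ((Projectivization.mk_eq_mk_iff' E _ _ hv hw).2 ?_)
      by_cases h0 : c 0 = 0
      · rw [h0, zero_smul, zero_add] at e
        exact absurd ((smul_eq_zero.1 e).resolve_left h1) hw
      · refine ⟨-(c 1 / c 0), ?_⟩
        apply smul_right_injective _ h0
        show c 0 • (-(c 1 / c 0)) • w = c 0 • v
        rw [smul_smul, mul_neg, mul_div_cancel₀ _ h0, neg_smul, neg_eq_iff_add_eq_zero, add_comm]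
        exact e
  have hXM : X * M = M * Matrix.diagonal ![μ, ν] := by
    refine Matrix.ext_iff_mulVec.2 fun c => ?_
    rw [← Matrix.mulVec_mulVec, ← Matrix.mulVec_mulVec, hMv, hMv, Matrix.mulVec_add, Matrix.mulVec_smul,
      Matrix.mulVec_smul, hμ, hν]
    simp [Matrix.mulVec_diagonal, smul_smul, mul_comm]
  have hXdet : X.det = 1 := by
    rw [hX, ← RingHom.mapMatrix_apply, ← RingHom.map_det, x.2, map_one]
  have hmul : μ * ν = 1 := by
    have := congrArg Matrix.det hXM
    rw [Matrix.det_mul, Matrix.det_mul, hXdet, Matrix.det_diagonal, Fin.prod_univ_two, one_mul] at this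
    simpa [hM] using this.symm
  have hμ0 : μ ≠ 0 := left_ne_zero_of_mul_eq_one hmul
  set t := f (x : Matrix (Fin 2) (Fin 2) F).trace
  have hchar : μ * μ - t * μ + 1 = 0 := by
    have hd : (X - μ • (1 : Matrix (Fin 2) (Fin 2) E)).det = 0 := by
      refine Matrix.exists_mulVec_eq_zero_iff.1 ⟨v, hv, ?_⟩
      rw [Matrix.sub_mulVec, Matrix.smul_mulVec, Matrix.one_mulVec, hμ, sub_self]
    rw [det_fin_two] at hd hXdet
    simp [hX] at hd hXdet
    have ht : t = f ((x : Matrix (Fin 2) (Fin 2) F) 0 0) + f ((x : Matrix (Fin 2) (Fin 2) F) 1 1) := by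
      rw [← map_add]; exact congrArg f (trace_fin_two _)
    linear_combination hd - hXdet - μ * ht
  obtain ⟨p, hp⟩ := CharP.exists F
  obtain ⟨n, hprime, hq⟩ := FiniteField.card F p
  have := Fact.mk hprime
  have : CharP E p := charP_of_injective_ringHom f.injective p
  have hfrob : μ ^ Fintype.card F = μ ∨ μ ^ Fintype.card F = ν := by
    have h := congrArg (fun y : E => y ^ (p ^ (n : ℕ))) (show μ * μ + 1 = t * μ by linear_combination hchar)
    simp only [add_pow_char_pow, mul_pow, one_pow] at h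
    have ht : t ^ p ^ (n : ℕ) = t := by
      rw [← map_pow, ← hq, FiniteField.pow_card]
    rw [ht, ← hq] at h
    have : (μ ^ Fintype.card F - μ) * (μ ^ Fintype.card F - ν) = 0 := by
      have htν : t = μ + ν := mul_right_cancel₀ hμ0 (by linear_combination -hchar - hmul)
      linear_combination h + μ ^ Fintype.card F * htν + hmul
    rcases mul_eq_zero.1 this with e | e
    · exact Or.inl (sub_eq_zero.1 e)
    · exact Or.inr (sub_eq_zero.1 e)
  have key : ∀ m, μ ^ m = ν ^ m → (QuotientGroup.mk x : ProjectiveSpecialLinearGroup (Fin 2) F) ^ m = 1 := by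
    intro m hm
    have hXmM : X ^ m * M = M * (μ ^ m • (1 : Matrix (Fin 2) (Fin 2) E)) := by
      have : ∀ j : ℕ, X ^ j * M = M * (Matrix.diagonal ![μ, ν]) ^ j := fun j => by
        induction j with
        | zero => simp
        | succ j ih => rw [pow_succ', pow_succ, mul_assoc, ih, ← mul_assoc, hXM, mul_assoc, pow_mul_comm']
      rw [this, Matrix.diagonal_pow, Matrix.smul_one_eq_diagonal]
      congr 2
      funext i
      fin_cases i <;> simp [hm]
    have hXm : X ^ m = μ ^ m • 1 := by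
      rw [Matrix.mul_smul, mul_one, ← Matrix.one_mul M, ← Matrix.smul_mul, one_mul] at hXmM
      have hu : IsUnit M := (Matrix.isUnit_iff_isUnit_det M).2 (IsUnit.mk0 _ hM)
      exact hu.mul_right_cancel hXmM
    set y := x ^ m
    have hy : (y : Matrix (Fin 2) (Fin 2) F).map f = μ ^ m • 1 := by
      rw [← hXm, hX, Matrix.SpecialLinearGroup.coe_pow]
      exact map_pow f.mapMatrix _ m
    rw [← QuotientGroup.mk_pow, QuotientGroup.eq_one_iff, Matrix.SpecialLinearGroup.mem_center_iff]
    have h00 : f ((y : Matrix (Fin 2) (Fin 2) F) 0 0) = μ ^ m := by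
      have := congrFun (congrFun hy 0) 0
      simpa using this
    refine ⟨(y : Matrix (Fin 2) (Fin 2) F) 0 0, ?_, ?_⟩
    · apply f.injective
      rw [map_pow, h00, map_one, Fintype.card_fin, sq]
      nth_rewrite 2 [hm]
      rw [← mul_pow, hmul, one_pow]
    · refine Matrix.map_injective f.injective ?_
      show (Matrix.scalar (Fin 2) ((y : Matrix (Fin 2) (Fin 2) F) 0 0)).map f = (y : Matrix (Fin 2) (Fin 2) F).map f
      rw [hy, Matrix.scalar_apply, Matrix.diagonal_map (map_zero f), Matrix.smul_one_eq_diagonal]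
      simp [h00, Function.comp_def]
  have hν' : ν = μ⁻¹ := eq_inv_of_mul_eq_one_right hmul
  have half : ∀ N : ℕ, μ ^ N = 1 → Nat.gcd 2 (Fintype.card F - 1) ∣ N →
      μ ^ (N / Nat.gcd 2 (Fintype.card F - 1)) = ν ^ (N / Nat.gcd 2 (Fintype.card F - 1)) := by
    intro N hN hdvd
    rw [hν', inv_pow]
    refine eq_inv_of_mul_eq_one_left ?_
    rw [← pow_add]
    rcases (Nat.dvd_prime Nat.prime_two).1 (Nat.gcd_dvd_left 2 (Fintype.card F - 1)) with e | e
    · rw [e, Nat.div_one, pow_add, hN, mul_one]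
    · rw [e] at hdvd ⊢
      rw [← two_mul, Nat.mul_div_cancel' hdvd, hN]
  have hq1 : 1 < Fintype.card F := Fintype.one_lt_card
  rcases hfrob with e | e
  · right
    refine key _ (half _ ?_ (Nat.gcd_dvd_right _ _))
    have : μ ^ (Fintype.card F - 1) * μ = 1 * μ := by
      rw [← pow_succ, show Fintype.card F - 1 + 1 = Fintype.card F by omega, e, one_mul]
    exact mul_right_cancel₀ hμ0 this
  · left
    refine key _ (half _ (by rw [pow_succ, e, mul_comm, hmul]) ?_)
    have := Nat.gcd_dvd_right 2 (Fintype.card F - 1)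
    have := Nat.gcd_dvd_left 2 (Fintype.card F - 1)
    rw [show Fintype.card F + 1 = Fintype.card F - 1 + 2 by omega]
    exact Nat.dvd_add ‹_› ‹_›

variable [Fintype (Line E)]

omit [Fintype F] in
theorem pointData_conjBy (G : Subgroup PGL(2, E)) (m : PGL(2, E)) {P : Line E} {o u k : ℕ}
    (h : PointData G P o u k) : PointData (conjBy G m) (m • P) o u k where
  orb_eq := by rw [orbit_conjBy, Set.ncard_image_of_injective _ (fun _ _ e => smul_left_cancel m e), h.orb_eq]
  para_eq := by rw [ncard_paraAt_conjBy, h.para_eq]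
  stab_eq := by rw [card_stabAt_conjBy, h.stab_eq]
  wt_eq := by rw [wt, card_stabAt_conjBy, ncard_paraAt_conjBy]; exact h.wt_eq
  mul_eq := by rw [card_conjBy, h.mul_eq]
  nontriv := h.nontriv
  kpos := h.kpos
  kdvd := h.kdvd
  omod := h.omod

/-- The subline pattern for a subgroup defined over `F` gives a subfield of `F`. -/
theorem subfield_of_subline {G : Subgroup PGL(2, E)} [Finite G] (hle : G ≤ (extHom f).range) (p : ℕ)
    [Fact p.Prime] [CharP E p] (hE : QuadClosed f) {P : Line E} {u k : ℕ} (hu : 3 ≤ u)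
    (hP : PointData G P (u + 1) u k) (hk : k = u - 1 ∨ 2 * k = u - 1) :
    ∃ K : Subfield F, Nat.card K = u ∧
      (Nonempty (G ≃* ProjGenLinGroup (Fin 2) K) ∧ Nat.card G = (u + 1) * (u * (u - 1)) ∨
        Nonempty (G ≃* ProjectiveSpecialLinearGroup (Fin 2) K) ∧
          2 * Nat.card G = (u + 1) * (u * (u - 1))) := by
  obtain ⟨g, hgG, hgP, hgu⟩ : (paraAt G P).Nonempty := by
    rw [Set.nonempty_iff_ne_empty]
    intro e
    have := hP.para_eq
    rw [e, Set.ncard_empty] at this
    omega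
  obtain ⟨g', rfl⟩ := hle hgG
  obtain ⟨P', rfl⟩ := rational_of_unique f hE hgu
  have hrat : ∀ Q ∈ orbit G (extPt f P'), ∃ Q' : Line F, extPt f Q' = Q := by
    rintro _ ⟨⟨h, hh⟩, rfl⟩
    obtain ⟨h', rfl⟩ := hle hh
    exact ⟨h' • P', (extHom_smul f h' P').symm⟩
  obtain ⟨Q0, hQ0, hne0⟩ := Set.exists_ne_of_one_lt_ncard (s := orbit G (extPt f P'))
    (by rw [hP.orb_eq]; omega) (extPt f P')
  obtain ⟨Q1, hQ1, hne1⟩ : ∃ Q1 ∈ orbit G (extPt f P'), Q1 ∉ ({extPt f P', Q0} : Set (Line E)) :=
    Set.exists_mem_notMem_of_ncard_lt_ncard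
      (by rw [hP.orb_eq, Set.ncard_pair hne0.symm]; omega) (Set.toFinite _)
  simp only [Set.mem_insert_iff, Set.mem_singleton_iff, not_or] at hne1
  obtain ⟨A, rfl⟩ := hrat Q0 hQ0
  obtain ⟨B, rfl⟩ := hrat Q1 hQ1
  obtain ⟨m, hm1, hm2, hm3⟩ := exists_map3 (P := P') (Q := A) (R := B)
    (fun e => hne0 (by rw [e])) (fun e => hne1.1 (by rw [e])) (fun e => hne1.2 (by rw [e]))
  set M := (extHom f m)⁻¹
  have e1 : M • extPt f P' = inf := by rw [inv_smul_eq_iff, ← extPt_inf f, extHom_smul, hm1]
  have e2 : M • extPt f A = pt 0 := by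
    rw [inv_smul_eq_iff, show pt (0 : E) = extPt f (pt 0) by rw [extPt_pt, map_zero], extHom_smul, hm2]
  have e3 : M • extPt f B = pt 1 := by
    rw [inv_smul_eq_iff, show pt (1 : E) = extPt f (pt 1) by rw [extPt_pt, map_one], extHom_smul, hm3]
  have hP' := pointData_conjBy G M hP
  rw [e1] at hP'
  have horb : orbit (conjBy G M) (inf : Line E) = (fun Q => M • Q) '' orbit G (extPt f P') := by
    rw [← e1, orbit_conjBy]
  obtain ⟨K, hKA, hKu, hres⟩ := subline_type (conjBy G M) p (by omega) hP' hk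
    (by rw [horb]; exact ⟨_, hQ0, e2⟩) (by rw [horb]; exact ⟨_, hQ1, e3⟩)
  have hKF : ∀ x ∈ K, ∃ t : F, f t = x := by
    intro x hx
    have h := (mem_conjBy G).1 ((hKA x).1 hx)
    obtain ⟨h', hh'⟩ := hle h
    have he : extHom f (m⁻¹ * h' * m) = aff 1 x := by
      rw [map_mul, map_mul, map_inv, hh']
      simp only [M]; group
    have hinf : (m⁻¹ * h' * m) • (inf : Line F) = inf := by
      have hinj : Function.Injective (extPt f) := fun a b e => by
        rcases point_cases a with rfl | ⟨s, rfl⟩ <;> rcases point_cases b with rfl | ⟨t, rfl⟩ <;>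
          simp only [extPt_inf, extPt_pt] at e
        · rfl
        · exact absurd e.symm (pt_ne_inf _)
        · exact absurd e (pt_ne_inf _)
        · rw [f.injective (pt_injective e)]
      exact hinj (by rw [← extHom_smul, he, extPt_inf, aff_smul_inf])
    obtain ⟨a, t, hat⟩ := exists_aff_of_fix hinf
    rw [hat, extHom_aff] at he
    exact ⟨t, (aff_inj he).2⟩
  let e : (K.comap f) ≃+* K := RingEquiv.ofBijective
    ((f.comp (K.comap f).subtype).codRestrict K fun x => x.2)
    ⟨fun a b h => Subtype.ext (f.injective (congrArg Subtype.val h)), fun y => by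
      obtain ⟨t, ht⟩ := hKF y.1 y.2
      exact ⟨⟨t, show f t ∈ K from ht.symm ▸ y.2⟩, Subtype.ext ht⟩⟩
  refine ⟨K.comap f, (Nat.card_congr e.toEquiv).trans hKu, ?_⟩
  have hG : G ≃* conjBy G M := G.equivMapOfInjective _ (MulAut.conj M).injective
  rcases hres with ⟨⟨i⟩, hc⟩ | ⟨⟨i⟩, hc⟩ <;> rw [card_conjBy] at hc
  · exact Or.inl ⟨⟨(hG.trans i).trans (pglCongr e.symm)⟩, hc⟩
  · exact Or.inr ⟨⟨(hG.trans i).trans (pslCongr e.symm)⟩, hc⟩

end CfsgLib.Geom.Moebius
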