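import Mathlib
import Cfsg.Agent.Lib.Geom.WittSesq
import Cfsg.Agent.Lib.Classical.FormStab

set_option autoImplicit false

/-!
Stabilisers of non-degenerate subspaces of reflexive sesquilinear spaces are direct products.
-/

namespace CfsgLib.Geom

open CfsgLib.Classical (restrictSesq restrictSesq_apply)

variable {F V : Type*} [Field F] [AddCommGroup V] [Module F V] {σ : F →+* F}

/-- The setwise stabiliser of a submodule inside the isometries. -/
def isomStab (B : V →ₛₗ[σ] V →ₗ[F] F) (W : Submodule F V) : Subgroup (V ≃ₗ[F] V) where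
  carrier := {g | g ∈ formIsoms B ∧ ∀ v, v ∈ W ↔ g v ∈ W}
  mul_mem' {a b} ha hb := ⟨mul_mem ha.1 hb.1, fun v => (hb.2 v).trans (ha.2 _)⟩
  one_mem' := ⟨one_mem _, fun _ => Iff.rfl⟩
  inv_mem' {a} ha := ⟨inv_mem ha.1, fun v => by
    have h := (ha.2 (a⁻¹ v)).symm
    rwa [← LinearEquiv.mul_apply, mul_inv_cancel] at h⟩

theorem mem_isomStab {B : V →ₛₗ[σ] V →ₗ[F] F} {W : Submodule F V} {g : V ≃ₗ[F] V} :
    g ∈ isomStab B W ↔ g ∈ formIsoms B ∧ ∀ v, v ∈ W ↔ g v ∈ W := Iff.rfl

/-- Isometric spaces have isomorphic isometry groups. -/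
def formIsomsCongr {V' : Type*} [AddCommGroup V'] [Module F V'] (B : V →ₛₗ[σ] V →ₗ[F] F)
    (B' : V' →ₛₗ[σ] V' →ₗ[F] F) (e : V ≃ₗ[F] V') (he : ∀ x y, B' (e x) (e y) = B x y) :
    formIsoms B ≃* formIsoms B' where
  toFun g := ⟨(e.symm.trans g.1).trans e, fun u v => by
    simp only [LinearEquiv.trans_apply, he, g.2 (e.symm u) (e.symm v)]
    rw [← he, e.apply_symm_apply, e.apply_symm_apply]⟩
  invFun g := ⟨(e.trans g.1).trans e.symm, fun u v => by
    simp only [LinearEquiv.trans_apply]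
    rw [← he, e.apply_symm_apply, e.apply_symm_apply, g.2, he]⟩
  left_inv g := Subtype.ext (LinearEquiv.ext fun x => by simp)
  right_inv g := Subtype.ext (LinearEquiv.ext fun x => by simp)
  map_mul' a b := Subtype.ext (LinearEquiv.ext fun x => by simp [LinearEquiv.mul_apply])

/-- The orthogonal complement of a non-degenerate subspace is a complement. -/
theorem exists_perp_compl [FiniteDimensional F V] (B : V →ₛₗ[σ] V →ₗ[F] F)
    (hR : ∀ x y, B x y = 0 → B y x = 0) (W : Submodule F V)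
    (hW : ∀ u ∈ W, (∀ v ∈ W, B u v = 0) → u = 0) :
    ∃ W' : Submodule F V, IsCompl W W' ∧ ∀ y, y ∈ W' ↔ ∀ w ∈ W, B w y = 0 := by
  let b := Module.finBasis F W
  let T : V →ₗ[F] (Fin (Module.finrank F W) → F) := LinearMap.pi fun i => B (b i : V)
  have hker : ∀ y, y ∈ LinearMap.ker T ↔ ∀ w ∈ W, B w y = 0 := by
    intro y
    constructor
    · intro h w hw
      have hw' : (∑ i, b.repr ⟨w, hw⟩ i • (b i : V)) = w := by
        simpa only [Submodule.coe_sum, Submodule.coe_smul] using congrArg (Subtype.val) (b.sum_repr ⟨w, hw⟩)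
      rw [← hw', map_sum, LinearMap.sum_apply]
      refine Finset.sum_eq_zero fun i _ => ?_
      rw [LinearMap.map_smulₛₗ, LinearMap.smul_apply, show B (b i : V) y = 0 from congrFun h i,
        smul_zero]
    · intro h
      exact funext fun i => h _ (b i).2
  refine ⟨LinearMap.ker T, ⟨?_, ?_⟩, hker⟩
  · rw [Submodule.disjoint_def]
    intro x hx hxT
    exact hW x hx fun v hv => hR _ _ ((hker x).1 hxT v hv)
  · rw [codisjoint_iff, eq_top_iff]
    intro v _
    have hinj : Function.Injective (T ∘ₗ W.subtype) := by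
      rw [← LinearMap.ker_eq_bot, Submodule.eq_bot_iff]
      intro x hx
      exact Subtype.ext (hW x x.2 fun v hv => hR _ _ ((hker x).1 hx v hv))
    obtain ⟨w, hw⟩ := (LinearMap.injective_iff_surjective_of_finrank_eq_finrank (by simp)).1 hinj (T v)
    rw [Submodule.mem_sup]
    exact ⟨w, w.2, v - w, by
      rw [LinearMap.mem_ker, map_sub, sub_eq_zero]; exact hw.symm, add_sub_cancel _ _⟩

/-- The stabiliser of a non-degenerate subspace is the product of the two isometry groups. -/
theorem nonempty_isomStab_equiv (B : V →ₛₗ[σ] V →ₗ[F] F) {W W' : Submodule F V} (hc : IsCompl W W')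
    (h1 : ∀ y, y ∈ W' ↔ ∀ w ∈ W, B w y = 0) (h2 : ∀ y ∈ W', ∀ w ∈ W, B y w = 0) :
    Nonempty (isomStab B W ≃* formIsoms (restrictSesq B W) × formIsoms (restrictSesq B W')) := by
  let e := W.prodEquivOfIsCompl W' hc
  have he : ∀ p : W × W', e p = (p.1 : V) + (p.2 : V) := fun p => rfl
  have hB : ∀ p r : W × W', B (e p) (e r) =
      B (p.1 : V) (r.1 : V) + B (p.2 : V) (r.2 : V) := fun p r => by
    simp [he, (h1 _).1 r.2.2 _ p.1.2, h2 _ p.2.2 _ r.1.2]
  have hmem : ∀ (x : V), x ∈ W ↔ (e.symm x).2 = 0 := fun x =>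
    (Submodule.prodEquivOfIsCompl_symm_apply_snd_eq_zero W W' hc).symm
  let ψ : formIsoms (restrictSesq B W) × formIsoms (restrictSesq B W') →* isomStab B W :=
    { toFun := fun p => ⟨(e.symm.trans ((p.1.1).prodCongr p.2.1)).trans e, fun u v => by
          obtain ⟨x, rfl⟩ := e.surjective u
          obtain ⟨y, rfl⟩ := e.surjective v
          simp only [LinearEquiv.trans_apply, LinearEquiv.symm_apply_apply, hB,
            LinearEquiv.prodCongr_apply]
          have a := p.1.2 x.1 y.1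
          have c := p.2.2 x.2 y.2
          simp only [restrictSesq_apply] at a c
          rw [a, c],
        fun v => by
          rw [hmem, hmem]
          simp⟩
      map_one' := Subtype.ext (LinearEquiv.ext fun x => by simp)
      map_mul' := fun a b => Subtype.ext (LinearEquiv.ext fun x => by simp [LinearEquiv.mul_apply]) }
  have hψ : ∀ p x, (ψ p).1 (e x) = e (p.1.1 x.1, p.2.1 x.2) := fun p x => by simp [ψ]
  refine ⟨(MulEquiv.ofBijective ψ ⟨fun a b hab => ?_, fun g => ?_⟩).symm⟩
  · have h : ∀ x : W × W', (a.1.1 x.1, a.2.1 x.2) = (b.1.1 x.1, b.2.1 x.2) := fun x => by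
      apply e.injective
      rw [← hψ, ← hψ, hab]
    refine Prod.ext (Subtype.ext (LinearEquiv.ext fun w => ?_))
      (Subtype.ext (LinearEquiv.ext fun w => ?_))
    · exact congrArg Prod.fst (h (w, 0))
    · exact congrArg Prod.snd (h (0, w))
  · have hg' : ∀ y, y ∈ W' ↔ g.1 y ∈ W' := by
      have key : ∀ k : isomStab B W, ∀ y ∈ W', k.1 y ∈ W' := fun k y hy => (h1 _).2 fun w hw => by
        have hw' : k.1⁻¹ w ∈ W := (k.2.2 _).2 (by rwa [← LinearEquiv.mul_apply, mul_inv_cancel])
        have := k.2.1 (k.1⁻¹ w) y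
        rw [← LinearEquiv.mul_apply, mul_inv_cancel] at this
        rw [show B w (k.1 y) = B (k.1⁻¹ w) y from this]
        exact (h1 y).1 hy _ hw'
      refine fun y => ⟨key g y, fun hy => ?_⟩
      have := key g⁻¹ _ hy
      rwa [Subgroup.coe_inv, ← LinearEquiv.mul_apply, inv_mul_cancel] at this
    let a := LinearEquiv.ofSubmodules g.1 W W (le_antisymm
      (Submodule.map_le_iff_le_comap.2 fun y hy => (g.2.2 y).1 hy)
      (fun y hy => ⟨g.1.symm y, (g.2.2 _).2 (by simpa using hy), g.1.apply_symm_apply y⟩))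
    let c := LinearEquiv.ofSubmodules g.1 W' W' (le_antisymm
      (Submodule.map_le_iff_le_comap.2 fun y hy => (hg' y).1 hy)
      (fun y hy => ⟨g.1.symm y, (hg' _).2 (by simpa using hy), g.1.apply_symm_apply y⟩))
    refine ⟨(⟨a, fun u v => g.2.1 (u : V) (v : V)⟩, ⟨c, fun u v => g.2.1 (u : V) (v : V)⟩),
      Subtype.ext (LinearEquiv.ext fun v => ?_)⟩
    obtain ⟨x, rfl⟩ := e.surjective v
    rw [hψ, he, he, map_add]
    rfl

end CfsgLib.Geom
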