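import Mathlib
import Cfsg.Agent.Lib.Geom.SplitStab

set_option autoImplicit false

/-!
Stabilisers of totally isotropic subspaces of reflexive sesquilinear spaces over finite fields: the induced group
is the full linear group, and the pointwise stabiliser is counted through dual isotropic tuples.
-/

namespace CfsgLib.Geom

open CfsgLib.Classical (restrictSesq fixingIn mem_fixingIn card_fixingIn_formIsoms)

variable {F V : Type*} [Field F] [AddCommGroup V] [Module F V] {σ : F →+* F}

/-- Witt extension property of a form. -/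
def HasWittExt (B : V →ₛₗ[σ] V →ₗ[F] F) : Prop :=
  ∀ (X : Submodule F V) (φ : X →ₗ[F] V), Function.Injective φ →
    (∀ x x' : X, B (φ x) (φ x') = B (x : V) (x' : V)) → ∃ g ∈ formIsoms B, ∀ x : X, g (x : V) = φ x

/-- Number of automorphisms of a finite space. -/
theorem card_linearEquiv [Fintype F] {W : Type*} [AddCommGroup W] [Module F W] [FiniteDimensional F W]
    {k : ℕ} (hk : Module.finrank F W = k) :
    Nat.card (W ≃ₗ[F] W) = ∏ i : Fin k, (Fintype.card F ^ k - Fintype.card F ^ (i : ℕ)) := by
  rw [← Matrix.card_GL_field k]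
  refine Nat.card_congr ?_
  let b := (Module.finBasisOfFinrankEq F W hk).equivFun
  exact ({ toFun := fun h => (b.symm.trans h).trans b
           invFun := fun h => (b.trans h).trans b.symm
           left_inv := fun h => LinearEquiv.ext fun x => by simp
           right_inv := fun h => LinearEquiv.ext fun x => by simp } :
      (W ≃ₗ[F] W) ≃ ((Fin k → F) ≃ₗ[F] (Fin k → F))).trans
    ((Matrix.GeneralLinearGroup.toLin (n := Fin k) (R := F)).trans
      (LinearMap.GeneralLinearGroup.generalLinearEquiv F (Fin k → F))).symm.toEquiv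

/-- The stabiliser of a totally isotropic `W` induces all of `GL(W)`, with kernel the pointwise stabiliser. -/
theorem card_isomStab [FiniteDimensional F V] (B : V →ₛₗ[σ] V →ₗ[F] F) (hW : HasWittExt B)
    (W : Submodule F V) (hiso : ∀ u ∈ W, ∀ v ∈ W, B u v = 0) :
    Nat.card (isomStab B W) = Nat.card (W ≃ₗ[F] W) * Nat.card (fixingIn (formIsoms B) W) := by
  let r : isomStab B W →* (W ≃ₗ[F] W) :=
    { toFun := fun g => LinearEquiv.ofSubmodules g.1 W W (le_antisymm
        (Submodule.map_le_iff_le_comap.2 fun y hy => (g.2.2 y).1 hy)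
        (fun y hy => ⟨g.1.symm y, (g.2.2 _).2 (by simpa using hy), g.1.apply_symm_apply y⟩))
      map_one' := LinearEquiv.ext fun x => rfl
      map_mul' := fun a b => LinearEquiv.ext fun x => rfl }
  have hr : Function.Surjective r := by
    intro h
    obtain ⟨g, hg, hgW⟩ := hW W (W.subtype.comp h.toLinearMap)
      (W.injective_subtype.comp h.injective)
      (fun x x' => by
        show B (h x : V) (h x' : V) = _
        rw [hiso _ (h x).2 _ (h x').2, hiso _ x.2 _ x'.2])
    refine ⟨⟨g, hg, fun v => ⟨fun hv => ?_, fun hv => ?_⟩⟩, LinearEquiv.ext fun x => Subtype.ext (hgW x)⟩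
    · rw [hgW ⟨v, hv⟩]; exact (h ⟨v, hv⟩).2
    · obtain ⟨x, hx⟩ := h.surjective ⟨_, hv⟩
      have : v = x := g.injective (by rw [hgW x]; exact (congrArg Subtype.val hx).symm)
      rw [this]; exact x.2
  rw [Subgroup.card_eq_card_quotient_mul_card_subgroup r.ker,
    Nat.card_congr (QuotientGroup.quotientKerEquivOfSurjective r hr).toEquiv]
  congr 1
  exact Nat.card_congr
    { toFun := fun g => ⟨g.1.1, g.1.2.1, fun w hw =>
        congrArg Subtype.val (LinearEquiv.congr_fun g.2 (⟨w, hw⟩ : W))⟩
      invFun := fun g => ⟨⟨g.1, g.2.1, fun v => ⟨fun hv => by rw [g.2.2 v hv]; exact hv, fun hv => by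
          have := g.1.injective (g.2.2 _ hv)
          rwa [this] at hv⟩⟩, LinearEquiv.ext fun x => Subtype.ext (g.2.2 x x.2)⟩
      left_inv := fun g => rfl
      right_inv := fun g => rfl }

/-- An isotropic tuple dual to the first `j` members of `e`. -/
def IsDualTuple (B : V →ₛₗ[σ] V →ₗ[F] F) {k j : ℕ} (e : Fin k → V) (f : Fin j → V) : Prop :=
  (∀ i a, B (e i) (f a) = if (i : ℕ) = (a : ℕ) then 1 else 0) ∧ ∀ a b, B (f a) (f b) = 0

theorem linearIndependent_dualTuple (B : V →ₛₗ[σ] V →ₗ[F] F) (hσ2 : ∀ a, σ (σ a) = a)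
    (hS : ∀ x y, B x y = 0 → B y x = 0) {k j : ℕ} (hjk : j ≤ k) {e : Fin k → V}
    (he : LinearIndependent F e) (hee : ∀ i i', B (e i) (e i') = 0) {f : Fin j → V}
    (hf : IsDualTuple B e f) : LinearIndependent F (Sum.elim e f) := by
  classical
  rw [Fintype.linearIndependent_iff]
  intro c hc
  rw [Fintype.sum_sum_type] at hc
  simp only [Sum.elim_inl, Sum.elim_inr] at hc
  have hb : ∀ a, c (Sum.inr a) = 0 := fun a => by
    have := congrArg (B (e (Fin.castLE hjk a))) hc
    simpa [map_sum, hee, hf.1, ← Fin.ext_iff] using this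
  simp only [hb, zero_smul, Finset.sum_const_zero, add_zero] at hc
  have ha := Fintype.linearIndependent_iff.1 he _ hc
  intro i
  rcases i with i | a
  · exact ha i
  · exact hb a

/-- Solutions of the linear conditions for the next member of a dual tuple. -/
theorem card_dual_affine [Fintype F] [FiniteDimensional F V] (B : V →ₛₗ[σ] V →ₗ[F] F)
    (hσ2 : ∀ a, σ (σ a) = a) (hS : ∀ x y, B x y = 0 → B y x = 0)
    (hB : ∀ x, (∀ y, B x y = 0) → x = 0) {ι : Type*} [Fintype ι] {v : ι → V}
    (hv : LinearIndependent F v) (c : ι → F) :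
    Nat.card {x : V // ∀ i, B (v i) x = c i} =
      Fintype.card F ^ (Module.finrank F V - Fintype.card ι) := by
  classical
  let L : V →ₗ[F] (ι → F) := LinearMap.pi fun i => B (v i)
  have hL : Function.Surjective L := by
    rw [← LinearMap.range_eq_top]
    by_contra hne
    obtain ⟨φ, hφ, hle⟩ := Submodule.exists_le_ker_of_lt_top _ (lt_top_iff_ne_top.2 hne)
    let d : ι → F := fun i => φ (Pi.single i 1)
    have hφd : ∀ w : ι → F, φ w = ∑ i, w i * d i := fun w => by
      conv_lhs => rw [pi_eq_sum_univ' w]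
      simp [d]
    have hz : (∑ i, σ (d i) • v i) = 0 := hB _ fun y => by
      have := LinearMap.mem_ker.1 (hle (LinearMap.mem_range_self L y))
      rw [hφd] at this
      simpa [map_sum, LinearMap.map_smulₛₗ, hσ2, L, mul_comm] using this
    have hd : ∀ i, d i = 0 := fun i => by
      have := Fintype.linearIndependent_iff.1 hv _ hz i
      simpa using congrArg σ this |>.symm.trans (hσ2 (d i)) |>.symm
    exact hφ (LinearMap.ext fun w => by simp [hφd, hd])
  obtain ⟨x₀, hx₀⟩ := hL c
  have e : {x : V // ∀ i, B (v i) x = c i} ≃ LinearMap.ker L :=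
    { toFun := fun x => ⟨x.1 - x₀, by
        rw [LinearMap.mem_ker, map_sub, hx₀, sub_eq_zero]; exact funext x.2⟩
      invFun := fun z => ⟨z.1 + x₀, fun i => by
        rw [map_add, show B (v i) z.1 = 0 from congrFun z.2 i, zero_add]; exact congrFun hx₀ i⟩
      left_inv := fun x => Subtype.ext (sub_add_cancel _ _)
      right_inv := fun z => Subtype.ext (add_sub_cancel_right _ _) }
  rw [Nat.card_congr e, Module.natCard_eq_pow_finrank (K := F), Nat.card_eq_fintype_card]
  congr 1
  have h1 := L.finrank_range_add_finrank_ker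
  rw [LinearMap.range_eq_top.2 hL, finrank_top, Module.finrank_fintype_fun_eq_card] at h1
  omega

/-- One step: tuples of length `j + 1` over tuples of length `j`. -/
theorem card_dualTuple_succ [Fintype F] [Finite V] (B : V →ₛₗ[σ] V →ₗ[F] F)
    (hS : ∀ x y, B x y = 0 → B y x = 0) {k j : ℕ} (e : Fin k → V) (N : ℕ)
    (hN : ∀ f : Fin j → V, IsDualTuple B e f → Nat.card {x : V //
      (∀ i : Fin k ⊕ Fin j, B (Sum.elim e f i) x =
        Sum.elim (fun i : Fin k => if (i : ℕ) = j then 1 else 0) (fun _ => 0) i) ∧ B x x = 0} = N) :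
    Nat.card {f : Fin (j + 1) → V // IsDualTuple B e f} =
      Nat.card {f : Fin j → V // IsDualTuple B e f} * N := by
  classical
  let E : {f : Fin (j + 1) → V // IsDualTuple B e f} ≃
      Σ f : {f : Fin j → V // IsDualTuple B e f}, {x : V //
        (∀ i : Fin k ⊕ Fin j, B (Sum.elim e f.1 i) x =
          Sum.elim (fun i : Fin k => if (i : ℕ) = j then 1 else 0) (fun _ => 0) i) ∧ B x x = 0} :=
    { toFun := fun f => ⟨⟨Fin.init f.1, fun i a => by simpa [Fin.init] using f.2.1 i a.castSucc,
          fun a b => f.2.2 _ _⟩, f.1 (Fin.last j), fun i => by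
            rcases i with i | a
            · simpa using f.2.1 i (Fin.last j)
            · simpa [Fin.init] using f.2.2 a.castSucc (Fin.last j),
          f.2.2 _ _⟩
      invFun := fun p => ⟨Fin.snoc p.1.1 p.2.1, fun i a => by
          induction a using Fin.lastCases with
          | last => simpa using p.2.2.1 (Sum.inl i)
          | cast a => simpa using p.1.2.1 i a, fun a b => by
          induction a using Fin.lastCases with
          | last =>
            induction b using Fin.lastCases with
            | last => simpa using p.2.2.2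
            | cast b => simpa using hS _ _ (p.2.2.1 (Sum.inr b))
          | cast a =>
            induction b using Fin.lastCases with
            | last => simpa using p.2.2.1 (Sum.inr a)
            | cast b => simpa using p.1.2.2 a b⟩
      left_inv := fun f => Subtype.ext (Fin.snoc_init_self f.1)
      right_inv := fun p => by
        obtain ⟨⟨f, hf⟩, x, hx⟩ := p
        refine Sigma.subtype_ext (Subtype.ext ?_) ?_
        · simp
        · simp }
  have : Fintype {f : Fin j → V // IsDualTuple B e f} := Fintype.ofFinite _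
  rw [Nat.card_congr E, Nat.card_sigma, Finset.sum_congr rfl (fun f _ => hN f.1 f.2),
    Finset.sum_const, Finset.card_univ, smul_eq_mul, Nat.card_eq_fintype_card]

/-- Pointwise stabiliser of an isotropic subspace: dual tuples times the isometry group of a complement. -/
theorem exists_card_fixingIn [Fintype F] [FiniteDimensional F V] (B : V →ₛₗ[σ] V →ₗ[F] F)
    (hσ2 : ∀ a, σ (σ a) = a) (hS : ∀ x y, B x y = 0 → B y x = 0)
    (hB : ∀ x, (∀ y, B x y = 0) → x = 0) (hW : HasWittExt B) (hsym : ∃ s : F, ∀ x y, B y x = s * σ (B x y))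
    {k : ℕ} (W : Submodule F V) (b : Module.Basis (Fin k) F W) (hiso : ∀ u ∈ W, ∀ v ∈ W, B u v = 0)
    {N : ℕ} (hN : N = Nat.card {f : Fin k → V // IsDualTuple B (fun i => (b i : V)) f}) (hN0 : 0 < N) :
    ∃ P : Submodule F V, Module.finrank F P + 2 * k = Module.finrank F V ∧
      (∀ x : P, (∀ y : P, B (x : V) (y : V) = 0) → x = 0) ∧
      Nat.card (fixingIn (formIsoms B) W) = N * Nat.card (formIsoms (restrictSesq B P)) := by
  classical
  obtain ⟨s, hs⟩ := hsym
  set e : Fin k → V := fun i => (b i : V) with he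
  have heli : LinearIndependent F e :=
    b.linearIndependent.map' W.subtype (LinearMap.ker_eq_bot.2 W.injective_subtype)
  have hee : ∀ i i', B (e i) (e i') = 0 := fun i i' => hiso _ (b i).2 _ (b i').2
  obtain ⟨f₀, hf₀⟩ : ∃ f : Fin k → V, IsDualTuple B e f := by
    rw [hN] at hN0
    exact nonempty_subtype.1 (Nat.card_pos_iff.1 hN0).1
  have hli := linearIndependent_dualTuple B hσ2 hS le_rfl heli hee hf₀
  have hfe : ∀ f : Fin k → V, IsDualTuple B e f → ∀ i a, B (f a) (e i) =
      s * σ (if (i : ℕ) = (a : ℕ) then 1 else 0) := fun f hf i a => by rw [hs (e i) (f a), hf.1]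
  set H := Submodule.span F (Set.range (Sum.elim e f₀)) with hH
  have hWH : ∀ w ∈ W, w ∈ H := fun w hw => by
    have hw' : (∑ i, b.repr ⟨w, hw⟩ i • e i) = w := by
      simpa only [Submodule.coe_sum, Submodule.coe_smul] using congrArg Subtype.val (b.sum_repr ⟨w, hw⟩)
    rw [← hw']
    exact H.sum_mem fun i _ => H.smul_mem _ (Submodule.subset_span ⟨Sum.inl i, rfl⟩)
  have hfix : ∀ g ∈ fixingIn (formIsoms B) W, IsDualTuple B e (fun a => g (f₀ a)) := fun g hg => by
    refine ⟨fun i a => ?_, fun a c => ?_⟩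
    · rw [← hg.2 (e i) (b i).2, hg.1 (e i) (f₀ a)]; exact hf₀.1 i a
    · rw [hg.1 (f₀ a) (f₀ c)]; exact hf₀.2 a c
  have hex : ∀ f : {f : Fin k → V // IsDualTuple B e f}, ∃ g ∈ fixingIn (formIsoms B) W,
      ∀ a, g (f₀ a) = f.1 a := by
    rintro ⟨f, hf⟩
    let c := Module.Basis.span hli
    let φ : H →ₗ[F] V := c.constr F (Sum.elim e f)
    have hφc : ∀ i, φ (c i) = Sum.elim e f i := fun i => c.constr_basis F _ i
    have hli' := linearIndependent_dualTuple B hσ2 hS le_rfl heli hee hf
    have hφi : Function.Injective φ := by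
      rw [← LinearMap.ker_eq_bot, Submodule.eq_bot_iff]
      intro x hx
      refine c.ext_elem fun i => ?_
      rw [LinearMap.mem_ker, ← c.sum_repr x, map_sum] at hx
      simp only [map_smul, hφc] at hx
      simp [Fintype.linearIndependent_iff.1 hli' _ hx i]
    have hpres : ∀ x x' : H, B (φ x) (φ x') = B (x : V) (x' : V) := by
      have hgram : ∀ i i', B (Sum.elim e f i) (Sum.elim e f i') =
          B (Sum.elim e f₀ i) (Sum.elim e f₀ i') := by
        rintro (i | a) (i' | a') <;> simp [hee, hf.1, hf₀.1, hf.2, hf₀.2, hfe f hf, hfe f₀ hf₀]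
      intro x x'
      conv_lhs => rw [← c.sum_repr x, ← c.sum_repr x']
      conv_rhs => rw [← c.sum_repr x, ← c.sum_repr x']
      simp only [map_sum, map_smul, LinearMap.map_smulₛₗ, LinearMap.sum_apply, LinearMap.smul_apply,
        Submodule.coe_sum, Submodule.coe_smul, hφc, hgram]
      simp only [c, Module.Basis.span_apply]
    obtain ⟨g, hg, hgH⟩ := hW H φ hφi hpres
    have hgc : ∀ i, g (Sum.elim e f₀ i) = Sum.elim e f i := fun i => by
      rw [← hφc, ← hgH (c i)]; simp [c, Module.Basis.span_apply]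
    refine ⟨g, ⟨hg, fun w hw => ?_⟩, fun a => hgc (Sum.inr a)⟩
    have hw' : (∑ i, b.repr ⟨w, hw⟩ i • e i) = w := by
      simpa only [Submodule.coe_sum, Submodule.coe_smul] using congrArg Subtype.val (b.sum_repr ⟨w, hw⟩)
    rw [← hw', map_sum]
    exact Finset.sum_congr rfl fun i _ => by rw [map_smul]; exact congrArg _ (hgc (Sum.inl i))
  choose sec hsec hsecf using hex
  have hcard : Nat.card (fixingIn (formIsoms B) W) = N * Nat.card (fixingIn (formIsoms B) H) := by
    rw [hN, ← Nat.card_prod]
    refine Nat.card_congr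
      { toFun := fun g => (⟨_, hfix g.1 g.2⟩, ⟨(sec ⟨_, hfix g.1 g.2⟩)⁻¹ * g.1,
          mul_mem (inv_mem (hsec _).1) g.2.1, ?_⟩)
        invFun := fun p => ⟨sec p.1 * p.2.1, mul_mem (hsec _).1 p.2.2.1, fun w hw => ?_⟩
        left_inv := fun g => Subtype.ext (by simp)
        right_inv := fun p => ?_ }
    · set G := sec ⟨_, hfix g.1 g.2⟩ with hG
      have hgen : ∀ i, G⁻¹ (g.1 (Sum.elim e f₀ i)) = Sum.elim e f₀ i := by
        intro i
        have : g.1 (Sum.elim e f₀ i) = G (Sum.elim e f₀ i) := by
          rcases i with i | a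
          · show g.1 (e i) = G (e i)
            rw [g.2.2 _ (b i).2, (hsec _).2 _ (b i).2]
          · exact (hsecf ⟨_, hfix g.1 g.2⟩ a).symm
        rw [this]
        exact G.symm_apply_apply _
      intro w hw
      show G⁻¹ (g.1 w) = w
      induction hw using Submodule.span_induction with
      | mem x hx => obtain ⟨i, rfl⟩ := hx; exact hgen i
      | zero => simp
      | add x y _ _ hx hy => rw [map_add, map_add, hx, hy]
      | smul c x _ hx => rw [map_smul, map_smul, hx]
    · rw [LinearEquiv.mul_apply, p.2.2.2 w (hWH w hw), (hsec _).2 w hw]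
    · have h1 : (fun a => (sec p.1 * p.2.1) (f₀ a)) = p.1.1 := funext fun a => by
        have := p.2.2.2 (f₀ a) (Submodule.subset_span ⟨Sum.inr a, rfl⟩)
        rw [LinearEquiv.mul_apply, this, hsecf]
      have h2 : ∀ h, (⟨fun a => (sec p.1 * p.2.1) (f₀ a), h⟩ : {f // IsDualTuple B e f}) = p.1 :=
        fun h => Subtype.ext h1
      refine Prod.ext (Subtype.ext h1) (Subtype.ext ?_)
      show (sec ⟨fun a => (sec p.1 * p.2.1) (f₀ a), _⟩)⁻¹ * (sec p.1 * p.2.1) = p.2.1
      rw [h2, inv_mul_cancel_left]
  have hHnd : ∀ u ∈ H, (∀ v ∈ H, B u v = 0) → u = 0 := by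
    intro u hu huH
    obtain ⟨d, hd⟩ := (Submodule.mem_span_range_iff_exists_fun F).1 hu
    rw [Fintype.sum_sum_type] at hd
    simp only [Sum.elim_inl, Sum.elim_inr] at hd
    have hu' : ∀ x ∈ H, B x u = 0 := fun x hx => hS _ _ (huH x hx)
    have h1 : ∀ a, d (Sum.inr a) = 0 := fun a => by
      have := hu' (e a) (Submodule.subset_span ⟨Sum.inl a, rfl⟩)
      rw [← hd] at this
      simpa [map_sum, hee, hf₀.1, ← Fin.ext_iff] using this
    simp only [h1, zero_smul, Finset.sum_const_zero, add_zero] at hd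
    have hs0 : ∀ a : Fin k, B (f₀ a) (e a) ≠ 0 := fun a h => by
      have := hS _ _ h; rw [hf₀.1] at this; simp at this
    have h2 : ∀ a, d (Sum.inl a) = 0 := fun a => by
      have := hu' (f₀ a) (Submodule.subset_span ⟨Sum.inr a, rfl⟩)
      rw [← hd, map_sum, Finset.sum_eq_single a (fun i _ hia => by
        simp [hfe f₀ hf₀, ← Fin.ext_iff, hia]) (by simp)] at this
      simpa [hs0 a] using this
    rw [← hd]; simp [h2]
  obtain ⟨P, hP, hP1⟩ := exists_perp_compl B hS H hHnd
  have hP2 : ∀ y ∈ P, ∀ w ∈ H, B y w = 0 := fun y hy w hw => hS _ _ ((hP1 y).1 hy w hw)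
  refine ⟨P, ?_, ?_, by rw [hcard, card_fixingIn_formIsoms B hP hP1 hP2]⟩
  · have := Submodule.finrank_add_eq_of_isCompl hP
    rw [show Module.finrank F H = Fintype.card (Fin k ⊕ Fin k) from finrank_span_eq_card hli] at this
    simp at this
    omega
  · intro x hx
    refine Subtype.ext (hB _ fun z => ?_)
    obtain ⟨w, hw, y, hy, rfl⟩ := Submodule.mem_sup.1 (show z ∈ H ⊔ P by rw [hP.sup_eq_top]; trivial)
    rw [map_add, hP2 _ x.2 w hw, zero_add]
    exact hx ⟨y, hy⟩

end CfsgLib.Geom
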