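import Mathlib
import Cfsg.Agent.Lib.Geom.IsoStab
import Cfsg.Agent.Lib.Geom.GUEquiv
import Cfsg.Agent.Lib.Classical.HermOrder

set_option autoImplicit false

/-!
Order of the stabiliser of a totally isotropic subspace in a finite unitary group.
-/

namespace CfsgLib.Geom

open CfsgLib.Classical (hermB hermB_conj hermB_sep qFrob qFrob_apply qFrob_qFrob qFrob_ne_id
  exists_qFrob_trace_one card_gu restrictSesq two_le_of_card_sq)

variable {F : Type*} [Field F] [Fintype F] {q : ℕ}

theorem hasWittExt_hermB (hF : Fintype.card F = q ^ 2) (n : ℕ) : HasWittExt (hermB hF n) := by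
  intro X φ hi hφ
  exact witt_hermitian (qFrob_qFrob hF) (exists_qFrob_trace_one hF) _ (hermB_conj hF) (hermB_sep hF) X φ hi hφ

/-- The trace `c ↦ c + c^q` has fibres of size `q` over the fixed elements. -/
theorem card_trace_fibre (hF : Fintype.card F = q ^ 2) {t : F} (ht : qFrob hF t = t) :
    Nat.card {c : F // c + qFrob hF c = t} = q := by
  classical
  have hq := two_le_of_card_sq hF
  let T : F →+ F :=
    { toFun := fun c => c + qFrob hF c, map_zero' := by simp, map_add' := fun a b => by simp; abel }
  have hTdef : ∀ c, T c = c + qFrob hF c := fun c => rfl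
  let S : Finset F := Finset.univ.filter fun a => a ^ q = a
  have hS : S.card ≤ q := by
    calc S.card ≤ (Polynomial.X ^ q - Polynomial.X : Polynomial F).roots.toFinset.card :=
        Finset.card_le_card fun a ha => by
          rw [Multiset.mem_toFinset, Polynomial.mem_roots (FiniteField.X_pow_card_sub_X_ne_zero F (by omega))]
          simp [S] at ha
          simp [ha]
      _ ≤ _ := (Multiset.toFinset_card_le _).trans (Polynomial.card_roots' _)
      _ = q := FiniteField.X_pow_card_sub_X_natDegree_eq F (by omega)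
  have hker : Nat.card T.ker ≤ q := by
    let P : Polynomial F := Polynomial.X ^ q + Polynomial.X
    have hP : P ≠ 0 := fun h => by
      have := congrArg (fun r => Polynomial.coeff r 1) h
      simp [P, Polynomial.coeff_X_pow, show 1 ≠ q by omega] at this
    have hmap : ∀ c : T.ker, (c : F) ∈ P.roots.toFinset := fun c => by
      rw [Multiset.mem_toFinset, Polynomial.mem_roots hP]
      have := (AddMonoidHom.mem_ker).1 c.2
      rw [hTdef, qFrob_apply] at this
      simp [P]
      linear_combination this
    refine (Nat.card_le_card_of_injective (fun c => (⟨_, hmap c⟩ : {x // x ∈ P.roots.toFinset}))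
      fun a b h => Subtype.ext (congrArg (fun x => x.1) h)).trans ?_
    rw [Nat.card_eq_fintype_card, Fintype.card_coe]
    refine ((Multiset.toFinset_card_le _).trans (Polynomial.card_roots' _)).trans ?_
    refine (Polynomial.natDegree_add_le _ _).trans ?_
    simp; omega
  have hrS : ∀ a ∈ T.range, a ∈ S := by
    rintro _ ⟨c, rfl⟩
    simp only [S, Finset.mem_filter, Finset.mem_univ, true_and]
    rw [← qFrob_apply hF, hTdef, map_add, qFrob_qFrob]; ring
  have hrange : Nat.card T.range ≤ S.card := by
    rw [← Fintype.card_coe, ← Nat.card_eq_fintype_card]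
    exact Nat.card_le_card_of_injective (fun a => ⟨a.1, hrS a.1 a.2⟩)
      fun a b h => Subtype.ext (congrArg (fun x => x.1) h)
  have hmul : Nat.card T.range * Nat.card T.ker = q * q := by
    rw [← Nat.card_congr (QuotientAddGroup.quotientKerEquivRange T).toEquiv,
      ← AddSubgroup.card_eq_card_quotient_mul_card_addSubgroup, Nat.card_eq_fintype_card, hF, sq]
  have hkq : q ≤ Nat.card T.ker := Nat.le_of_mul_le_mul_left
    (hmul.symm.le.trans (Nat.mul_le_mul_right _ (hrange.trans hS))) (by omega)
  have hk : Nat.card T.ker = q := le_antisymm hker hkq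
  have hr : q ≤ Nat.card T.range := Nat.le_of_mul_le_mul_right
    (hmul.symm.le.trans (Nat.mul_le_mul_left _ hk.le)) (by omega)
  obtain ⟨c, hc⟩ : ∃ c, T c = t := by
    have hset : (Finset.univ.image T) = S := by
      refine Finset.eq_of_subset_of_card_le (fun a ha => hrS a ?_) ?_
      · obtain ⟨c, -, rfl⟩ := Finset.mem_image.1 ha
        exact ⟨c, rfl⟩
      · have : Nat.card T.range = (Finset.univ.image T).card := by
          rw [← Fintype.card_coe, ← Nat.card_eq_fintype_card]
          exact Nat.card_congr (Equiv.subtypeEquivRight fun a => by simp [AddMonoidHom.mem_range])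
        omega
    have : t ∈ S := by
      simp only [S, Finset.mem_filter, Finset.mem_univ, true_and]
      rw [← qFrob_apply hF]; exact ht
    rw [← hset] at this
    obtain ⟨c, -, hc⟩ := Finset.mem_image.1 this
    exact ⟨c, hc⟩
  conv_rhs => rw [← hk]
  refine Nat.card_congr
    { toFun := fun a => ⟨a.1 - c, by rw [AddMonoidHom.mem_ker, map_sub, hc]; exact sub_eq_zero.2 a.2⟩
      invFun := fun z => ⟨z.1 + c, by
        rw [← hTdef, map_add, AddMonoidHom.mem_ker.1 z.2, zero_add, hc]⟩
      left_inv := fun a => Subtype.ext (sub_add_cancel _ _)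
      right_inv := fun z => Subtype.ext (add_sub_cancel_right _ _) }

theorem card_dualTuple_herm (hF : Fintype.card F = q ^ 2) {n k : ℕ} {e : Fin k → (Fin n → F)}
    (he : LinearIndependent F e) (hee : ∀ i i', hermB hF n (e i) (e i') = 0) (hkn : 2 * k ≤ n) :
    ∀ j ≤ k, Nat.card {f : Fin j → (Fin n → F) // IsDualTuple (hermB hF n) e f} =
      q ^ (∑ i ∈ Finset.range j, (2 * (n - k - i) - 1)) := by
  classical
  have hq := two_le_of_card_sq hF
  have hσ2 := qFrob_qFrob hF
  have hB := hermB_sep (n := n) hF
  have hS : ∀ x y, hermB hF n x y = 0 → hermB hF n y x = 0 := fun x y h => by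
    rw [← hermB_conj, h, map_zero]
  intro j
  induction j with
  | zero =>
    intro _
    rw [Nat.card_eq_one_iff_unique.2 ⟨⟨fun a b => Subtype.ext (funext fun i => i.elim0)⟩,
      ⟨⟨fun i => i.elim0, fun _ a => a.elim0, fun a => a.elim0⟩⟩⟩]
    simp
  | succ j ih =>
    intro hj
    rw [card_dualTuple_succ (hermB hF n) hS e (q ^ (2 * (n - k - j) - 1)) ?_, ih (by omega),
      Finset.sum_range_succ, pow_add]
    intro f hf
    have hli := linearIndependent_dualTuple (hermB hF n) hσ2 hS (by omega) he hee hf
    set B := hermB hF n with hBdef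
    set v := e ⟨j, by omega⟩ with hv
    let C : Fin k ⊕ Fin j → F := Sum.elim (fun i : Fin k => if (i : ℕ) = j then 1 else 0) (fun _ => 0)
    have hA := card_dual_affine B hσ2 hS hB hli C
    have hperp : ∀ i, B (Sum.elim e f i) v = 0 := by
      rintro (i | a)
      · exact hee _ _
      · refine hS _ _ ?_
        show B (e ⟨j, _⟩) (f a) = 0
        rw [hf.1, if_neg (show j ≠ (a : ℕ) by omega)]
    have hvv : B v v = 0 := hee _ _
    have hvx : ∀ x, (∀ i, B (Sum.elim e f i) x = C i) → B v x = 1 := fun x hx => by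
      have := hx (Sum.inl ⟨j, by omega⟩)
      simpa [C] using this
    have hxv : ∀ x, (∀ i, B (Sum.elim e f i) x = C i) → B x v = 1 := fun x hx => by
      rw [← hermB_conj, hvx x hx, map_one]
    let E : {x // (∀ i, B (Sum.elim e f i) x = C i) ∧ B x x = 0} × F ≃
        Σ a : {x // ∀ i, B (Sum.elim e f i) x = C i}, {c : F // c + qFrob hF c = B a.1 a.1} :=
      { toFun := fun p => ⟨⟨p.1.1 + p.2 • v, fun i => by
            rw [map_add, map_smul, hperp, smul_zero, add_zero]; exact p.1.2.1 i⟩, p.2, by
          simp only [map_add, LinearMap.add_apply, LinearMap.map_smulₛₗ, LinearMap.smul_apply, map_smul,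
            smul_eq_mul, p.1.2.2, hvv, hvx _ p.1.2.1, hxv _ p.1.2.1, RingHom.id_apply]
          ring⟩
        invFun := fun p => (⟨p.1.1 - p.2.1 • v, fun i => by
            rw [map_sub, map_smul, hperp, smul_zero, sub_zero]; exact p.1.2 i, by
          simp only [map_sub, LinearMap.sub_apply, LinearMap.map_smulₛₗ, LinearMap.smul_apply, map_smul,
            smul_eq_mul, hvv, hvx _ p.1.2, hxv _ p.1.2, RingHom.id_apply]
          linear_combination -p.2.2⟩, p.2.1)
        left_inv := fun p => Prod.ext (Subtype.ext (add_sub_cancel_right _ _)) rfl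
        right_inv := fun p => Sigma.subtype_ext (Subtype.ext (sub_add_cancel _ _)) rfl }
    have : Fintype {x // ∀ i, B (Sum.elim e f i) x = C i} := Fintype.ofFinite _
    have h1 := Nat.card_congr E
    rw [Nat.card_prod, Nat.card_sigma, Finset.sum_congr rfl (fun a _ => card_trace_fibre hF
      (hermB_conj hF a.1 a.1)), Finset.sum_const, Finset.card_univ, smul_eq_mul,
      ← Nat.card_eq_fintype_card, hA, hF, Nat.card_eq_fintype_card (α := F), hF] at h1
    have hd : Module.finrank F (Fin n → F) - Fintype.card (Fin k ⊕ Fin j) = n - k - j := by simp; omega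
    rw [hd] at h1
    refine Nat.eq_of_mul_eq_mul_right (show 0 < q ^ 2 by positivity) (h1.trans ?_)
    rw [← pow_mul, ← pow_succ, ← pow_add]
    congr 1
    omega

/-- The exponent of the unipotent radical. -/
theorem sum_dual_exponent (n : ℕ) : ∀ k : ℕ, 2 * k ≤ n →
    ∀ r : ℕ, r + k ≤ n → ∀ j ≤ k, (∑ i ∈ Finset.range j, (2 * (n - r - i) - 1)) + j * j = 2 * j * (n - r) := by
  intro k _ r hr j
  induction j with
  | zero => simp
  | succ j ih =>
    intro hj
    rw [Finset.sum_range_succ]
    have := ih (by omega)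
    obtain ⟨a, ha⟩ : ∃ a, n - r = j + 1 + a := ⟨n - r - j - 1, by omega⟩
    rw [ha] at this ⊢
    rw [show 2 * (j + 1 + a - j) - 1 = 2 * a + 1 by omega]
    nlinarith

theorem card_isomStab_herm (hF : Fintype.card F = q ^ 2) (n k : ℕ) (hk : 2 * k ≤ n)
    (W : Submodule F (Fin n → F)) (hWk : Module.finrank F W = k)
    (hW : ∀ u ∈ W, ∀ v ∈ W, hermB hF n u v = 0) :
    Nat.card (isomStab (hermB hF n) W) =
      (∏ i : Fin k, ((q ^ 2) ^ k - (q ^ 2) ^ (i : ℕ))) * (q ^ (k * (2 * n - 3 * k)) *
        (q ^ ((n - 2 * k) * (n - 2 * k - 1) / 2) *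
          ∏ i ∈ Finset.range (n - 2 * k), (if Even i then q ^ (i + 1) + 1 else q ^ (i + 1) - 1))) := by
  have hσ2 := qFrob_qFrob hF
  have hB := hermB_sep (n := n) hF
  have hS : ∀ x y, hermB hF n x y = 0 → hermB hF n y x = 0 := fun x y h => by
    rw [← hermB_conj, h, map_zero]
  have hq := two_le_of_card_sq hF
  have hw := hasWittExt_hermB hF n
  let b := Module.finBasisOfFinrankEq F W hWk
  have hN := card_dualTuple_herm hF
    (b.linearIndependent.map' W.subtype (LinearMap.ker_eq_bot.2 W.injective_subtype))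
    (fun i i' => hW _ (b i).2 _ (b i').2) hk k le_rfl
  obtain ⟨P, hPd, hPsep, hfix⟩ := exists_card_fixingIn (hermB hF n) hσ2 hS hB hw
    ⟨1, fun x y => by rw [one_mul, hermB_conj]⟩ W b hW hN.symm (pow_pos (by omega) _)
  have hn : Module.finrank F (Fin n → F) = n := by simp
  obtain ⟨e, he⟩ := exists_isometry_hermB hF (n - 2 * k) (restrictSesq (hermB hF n) P)
    (fun u v => hermB_conj hF _ _) hPsep (by omega)
  have hexp : ∑ i ∈ Finset.range k, (2 * (n - k - i) - 1) = k * (2 * n - 3 * k) := by
    have h1 := sum_dual_exponent n k hk k (by omega) k le_rfl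
    obtain ⟨a, ha⟩ : ∃ a, n = 2 * k + a := ⟨n - 2 * k, by omega⟩
    subst ha
    rw [show 2 * k + a - k = k + a by omega] at h1 ⊢
    rw [show 2 * (2 * k + a) - 3 * k = k + 2 * a by omega]
    nlinarith
  rw [card_isomStab (hermB hF n) hw W hW, card_linearEquiv hWk, hfix, hexp, hF,
    Nat.card_congr ((formIsomsCongr _ _ e he).trans (guEquiv hF (n - 2 * k)).symm).toEquiv, card_gu hF]

end CfsgLib.Geom
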