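import Mathlib
import Cfsg.Agent.Lib.Classical.ExcIsoFive

set_option autoImplicit false

/-!
The kernel of the five-dimensional representation of `Sp_4`.
-/

namespace CfsgLib.Classical

open CfsgLib.Geom

variable {F : Type*} [Field F] [Fintype F]

theorem spFive_ker_le_center (hodd : Odd (Fintype.card F)) :
    (spFive (F := F)).ker ≤ Subgroup.center (Matrix.symplecticGroup (Fin 2) F) := by
  have h2 := two_ne_zero_of_odd (F := F) hodd
  have hkey : ∀ A ∈ (spFive (F := F)).ker, slFour (spToSL A) = 1 := by
    intro A hA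
    refine Subtype.ext (LinearEquiv.ext fun v => ?_)
    obtain ⟨t, ht⟩ : ∃ t, t = (v (.inr 1) - v (.inl 1)) / 2 := ⟨_, rfl⟩
    obtain ⟨w, hw⟩ : ∃ w, w = v - t • spVec := ⟨_, rfl⟩
    have hw1 : w (.inl 1) = w (.inr 1) := by
      simp [hw, spVec, ht]; field_simp; ring
    have hfix : (slFour (spToSL A)).1 w = w := by
      have h := congrArg (fun k : quadIsoms (qfOdd 2 F) => fiveIncl (k.1 (fiveProj w))) (MonoidHom.mem_ker.1 hA)
      simp only [spFive, quadHom_apply, LinearMap.comp_apply, LinearEquiv.coe_coe, slFour_fiveIncl,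
        fiveIncl_proj hw1, Subgroup.coe_one, LinearEquiv.coe_one, id_eq] at h
      have h2' := slFour_fiveIncl A (fiveProj w)
      rw [fiveIncl_proj hw1] at h2'
      exact h2'.symm.trans h
    show (slFour (spToSL A)).1 v = v
    rw [show v = w + t • spVec by rw [hw, sub_add_cancel], map_add, map_smul, hfix, slFour_spVec]
  intro A hA
  obtain ⟨r, -, hr⟩ := slFour_ker _ (hkey A hA)
  refine Subgroup.mem_center_iff.2 fun B => spToSL_injective ?_
  rw [map_mul, map_mul]
  exact Subtype.ext (by simp [Matrix.SpecialLinearGroup.coe_mul, hr])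

end CfsgLib.Classical
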