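import Mathlib
import Cfsg.Agent.Lib.Classical.ExcIsoFive
import Cfsg.Agent.Lib.Classical.OrthOrder
import Cfsg.Agent.Lib.Geom.OmegaIndex
import Cfsg.Agent.Lib.Geom.PSpInvol

set_option autoImplicit false

/-!
The 36 points shared by `O_5(3)` and `O_6^-(2)`, and the map between the two groups.
-/

namespace CfsgLib.Geom.ThirtySix

open QuadraticMap CfsgLib.Classical

abbrev F2 := ZMod 2
abbrev F3 := ZMod 3
abbrev I5 := Unit ⊕ (Fin 2 ⊕ Fin 2)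
abbrev I6 := (Fin 2 ⊕ Fin 2) ⊕ Fin 2

instance factTwo : Fact (Nat.Prime 2) := ⟨Nat.prime_two⟩
instance factThree : Fact (Nat.Prime 3) := ⟨Nat.prime_three⟩

def vecFive (u a b c d : F3) : I5 → F3 := Sum.elim (fun _ => u) (Sum.elim ![a, b] ![c, d])

def vecSix (a b c d e f : F2) : I6 → F2 := Sum.elim (Sum.elim ![a, b] ![c, d]) ![e, f]

/-- Representatives of the pairs of vectors of value `2`. -/
def rootFive : Fin 36 → I5 → F3 :=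
  ![vecFive 0 0 1 0 2, vecFive 0 0 1 1 2, vecFive 0 0 1 2 2, vecFive 0 1 0 2 0,
    vecFive 0 1 0 2 1, vecFive 0 1 0 2 2, vecFive 0 1 1 0 2, vecFive 0 1 1 1 1,
    vecFive 0 1 1 2 0, vecFive 0 1 2 0 1, vecFive 0 1 2 1 2, vecFive 0 1 2 2 0,
    vecFive 1 0 1 0 1, vecFive 1 0 1 1 1, vecFive 1 0 1 2 1, vecFive 1 0 2 0 2,
    vecFive 1 0 2 1 2, vecFive 1 0 2 2 2, vecFive 1 1 0 1 0, vecFive 1 1 0 1 1,
    vecFive 1 1 0 1 2, vecFive 1 1 1 0 1, vecFive 1 1 1 1 0, vecFive 1 1 1 2 2,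
    vecFive 1 1 2 0 2, vecFive 1 1 2 1 0, vecFive 1 1 2 2 1, vecFive 1 2 0 2 0,
    vecFive 1 2 0 2 1, vecFive 1 2 0 2 2, vecFive 1 2 1 0 1, vecFive 1 2 1 1 2,
    vecFive 1 2 1 2 0, vecFive 1 2 2 0 2, vecFive 1 2 2 1 1, vecFive 1 2 2 2 0]

/-- The nonsingular vectors. -/
def rootSix : Fin 36 → I6 → F2 :=
  ![vecSix 0 0 0 0 0 1, vecSix 0 0 0 0 1 0, vecSix 0 0 0 0 1 1, vecSix 0 0 0 1 0 1,
    vecSix 0 0 1 0 1 1, vecSix 0 0 1 1 1 0, vecSix 0 0 0 1 1 1, vecSix 0 0 1 1 0 1,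
    vecSix 0 0 1 0 1 0, vecSix 0 0 0 1 1 0, vecSix 0 0 1 0 0 1, vecSix 0 0 1 1 1 1,
    vecSix 1 0 1 0 0 0, vecSix 1 1 0 1 0 0, vecSix 0 1 1 1 0 0, vecSix 1 0 1 1 0 0,
    vecSix 0 1 0 1 0 0, vecSix 1 1 1 0 0 0, vecSix 1 0 0 0 0 1, vecSix 0 1 0 0 1 1,
    vecSix 1 1 0 0 1 0, vecSix 1 1 0 0 0 1, vecSix 0 1 0 0 1 0, vecSix 1 0 0 0 1 1,
    vecSix 0 1 0 0 0 1, vecSix 1 1 0 0 1 1, vecSix 1 0 0 0 1 0, vecSix 1 0 0 1 0 1,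
    vecSix 1 1 1 1 1 0, vecSix 0 1 1 0 1 1, vecSix 0 1 1 0 0 1, vecSix 1 0 0 1 1 0,
    vecSix 1 1 1 1 1 1, vecSix 1 1 1 1 0 1, vecSix 1 0 0 1 1 1, vecSix 0 1 1 0 1 0]

/-- The reflection of the second root in the first. -/
def op : Fin 36 → Fin 36 → Fin 36 :=
  ![
    ![0, 2, 1, 3, 8, 11, 9, 7, 4, 6, 10, 5, 12, 13, 14, 15, 16, 17,
      18, 22, 25, 21, 19, 26, 24, 20, 23, 27, 32, 35, 30, 34, 28, 33, 31, 29],
    ![2, 1, 0, 6, 10, 5, 3, 11, 8, 9, 4, 7, 12, 13, 14, 15, 16, 17,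
      23, 24, 20, 25, 22, 18, 19, 21, 26, 34, 28, 30, 29, 31, 33, 32, 27, 35],
    ![1, 0, 2, 9, 4, 7, 6, 5, 10, 3, 8, 11, 12, 13, 14, 15, 16, 17,
      26, 19, 21, 20, 24, 23, 22, 25, 18, 31, 33, 29, 35, 27, 32, 28, 34, 30],
    ![0, 6, 9, 3, 5, 4, 1, 7, 11, 2, 10, 8, 12, 21, 30, 15, 24, 33,
      18, 19, 20, 13, 22, 31, 16, 25, 34, 27, 28, 29, 14, 23, 32, 17, 26, 35],
    ![8, 10, 2, 5, 4, 3, 6, 9, 0, 7, 1, 11, 23, 32, 14, 34, 16, 25,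
      18, 19, 20, 21, 30, 12, 35, 17, 26, 27, 28, 29, 22, 31, 13, 33, 15, 24],
    ![11, 1, 7, 4, 3, 5, 10, 2, 8, 9, 6, 0, 31, 13, 22, 26, 35, 17,
      18, 19, 20, 32, 14, 23, 24, 33, 15, 27, 28, 29, 30, 12, 21, 25, 34, 16],
    ![9, 3, 2, 1, 4, 10, 6, 8, 7, 0, 5, 11, 12, 25, 29, 15, 19, 32,
      31, 16, 20, 21, 22, 23, 24, 13, 27, 26, 28, 14, 30, 18, 17, 33, 34, 35],
    ![0, 11, 5, 3, 9, 2, 8, 7, 6, 4, 10, 1, 27, 13, 24, 18, 30, 17,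
      15, 19, 32, 21, 22, 23, 14, 28, 26, 12, 25, 29, 16, 31, 20, 33, 34, 35],
    ![4, 1, 10, 11, 0, 5, 7, 6, 8, 9, 2, 3, 26, 28, 14, 31, 16, 20,
      18, 30, 17, 21, 22, 23, 29, 25, 12, 27, 13, 24, 19, 15, 32, 33, 34, 35],
    ![6, 1, 3, 2, 7, 5, 0, 4, 8, 9, 11, 10, 12, 20, 35, 15, 22, 28,
      34, 19, 13, 21, 16, 27, 24, 25, 26, 23, 17, 29, 30, 31, 32, 33, 18, 14],
    ![0, 4, 8, 3, 1, 6, 5, 7, 2, 11, 10, 9, 18, 33, 14, 27, 16, 21,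
      12, 35, 20, 17, 29, 23, 24, 25, 26, 15, 28, 22, 30, 31, 32, 13, 34, 19],
    ![5, 7, 2, 8, 4, 0, 6, 1, 3, 10, 9, 11, 34, 13, 19, 23, 29, 17,
      18, 14, 33, 28, 22, 15, 24, 25, 26, 27, 21, 16, 30, 31, 32, 20, 12, 35],
    ![0, 1, 2, 3, 23, 31, 6, 27, 26, 9, 18, 34, 12, 14, 13, 15, 16, 17,
      10, 19, 35, 30, 22, 4, 24, 29, 8, 7, 28, 25, 21, 5, 32, 33, 11, 20],
    ![0, 1, 2, 21, 32, 5, 25, 7, 28, 20, 33, 11, 14, 13, 12, 15, 16, 17,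
      18, 34, 9, 3, 31, 23, 27, 6, 26, 24, 8, 29, 30, 22, 4, 10, 19, 35],
    ![0, 1, 2, 30, 4, 22, 29, 24, 8, 35, 10, 19, 13, 12, 14, 15, 16, 17,
      33, 11, 20, 21, 5, 32, 7, 25, 28, 27, 26, 6, 3, 31, 23, 18, 34, 9],
    ![0, 1, 2, 3, 34, 26, 6, 18, 31, 9, 27, 23, 12, 13, 14, 15, 17, 16,
      7, 32, 20, 21, 28, 11, 33, 25, 5, 10, 22, 29, 30, 8, 19, 24, 4, 35],
    ![0, 1, 2, 24, 4, 35, 19, 30, 8, 22, 10, 29, 12, 13, 14, 17, 16, 15,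
      18, 6, 31, 27, 9, 23, 3, 34, 26, 21, 28, 11, 7, 20, 32, 33, 25, 5],
    ![0, 1, 2, 33, 25, 5, 32, 7, 20, 28, 21, 11, 12, 13, 14, 16, 15, 17,
      30, 19, 8, 10, 22, 29, 24, 4, 35, 27, 9, 23, 18, 31, 6, 3, 34, 26],
    ![0, 23, 26, 3, 4, 5, 31, 15, 8, 34, 12, 11, 10, 13, 33, 7, 16, 30,
      18, 20, 19, 21, 25, 1, 24, 22, 2, 27, 28, 29, 17, 6, 32, 14, 9, 35],
    ![22, 24, 2, 3, 4, 5, 16, 7, 30, 9, 35, 14, 12, 34, 11, 32, 6, 17,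
      20, 19, 18, 26, 0, 23, 1, 25, 21, 27, 28, 29, 8, 31, 15, 33, 13, 10],
    ![25, 1, 21, 3, 4, 5, 6, 32, 17, 13, 10, 33, 35, 9, 14, 15, 31, 8,
      19, 18, 20, 2, 22, 24, 23, 0, 26, 27, 28, 29, 30, 16, 7, 11, 34, 12],
    ![0, 25, 20, 13, 4, 32, 6, 7, 8, 9, 17, 28, 30, 3, 14, 15, 27, 10,
      18, 26, 2, 21, 23, 22, 24, 1, 19, 16, 11, 29, 12, 31, 5, 33, 34, 35],
    ![19, 1, 24, 3, 30, 14, 6, 7, 8, 16, 29, 11, 12, 31, 5, 28, 9, 17,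
      25, 0, 20, 23, 22, 21, 2, 18, 26, 27, 15, 10, 4, 13, 32, 33, 34, 35],
    ![26, 18, 2, 31, 12, 5, 6, 7, 8, 27, 10, 15, 4, 13, 32, 11, 16, 29,
      1, 19, 24, 22, 21, 23, 20, 25, 0, 9, 28, 17, 30, 3, 14, 33, 34, 35],
    ![0, 19, 22, 16, 35, 5, 6, 14, 29, 9, 10, 11, 12, 27, 7, 33, 3, 17,
      18, 1, 23, 21, 2, 20, 24, 26, 25, 13, 28, 8, 30, 31, 32, 15, 34, 4],
    ![20, 21, 2, 3, 17, 33, 13, 28, 8, 9, 10, 11, 29, 6, 14, 15, 34, 4,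
      22, 19, 0, 1, 18, 23, 26, 25, 24, 27, 7, 12, 30, 31, 32, 5, 16, 35],
    ![23, 1, 18, 34, 4, 15, 27, 7, 12, 9, 10, 11, 8, 13, 28, 5, 16, 35,
      2, 21, 20, 19, 22, 0, 25, 24, 26, 6, 14, 29, 30, 31, 32, 33, 3, 17],
    ![0, 34, 31, 3, 4, 5, 26, 12, 8, 23, 15, 11, 7, 24, 14, 10, 21, 17,
      18, 19, 20, 16, 22, 9, 13, 25, 6, 27, 29, 28, 30, 2, 35, 33, 1, 32],
    ![32, 1, 33, 3, 4, 5, 6, 25, 13, 17, 10, 21, 12, 8, 26, 22, 16, 9,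
      18, 19, 20, 11, 15, 23, 24, 7, 14, 29, 28, 27, 34, 31, 0, 2, 30, 35],
    ![35, 30, 2, 3, 4, 5, 14, 7, 24, 9, 22, 16, 25, 13, 6, 15, 11, 23,
      18, 19, 20, 21, 10, 17, 8, 12, 26, 28, 27, 29, 1, 33, 32, 31, 34, 0],
    ![0, 29, 35, 14, 22, 5, 6, 16, 19, 9, 10, 11, 21, 13, 3, 15, 7, 18,
      17, 8, 20, 12, 4, 23, 24, 25, 26, 27, 34, 1, 30, 32, 31, 33, 28, 2],
    ![34, 1, 27, 23, 4, 12, 18, 7, 15, 9, 10, 11, 5, 22, 14, 8, 20, 17,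
      6, 19, 16, 21, 13, 3, 24, 25, 26, 2, 28, 33, 32, 31, 30, 29, 0, 35],
    ![28, 33, 2, 3, 13, 21, 17, 20, 8, 9, 10, 11, 12, 4, 23, 19, 16, 6,
      18, 15, 7, 5, 22, 14, 24, 25, 26, 35, 0, 29, 31, 30, 32, 1, 34, 27],
    ![0, 32, 28, 17, 4, 25, 6, 7, 8, 9, 13, 20, 12, 10, 18, 24, 16, 3,
      14, 19, 11, 21, 22, 23, 15, 5, 26, 27, 2, 31, 30, 29, 1, 33, 35, 34],
    ![31, 27, 2, 26, 15, 5, 6, 7, 8, 18, 10, 12, 11, 19, 14, 4, 25, 17,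
      9, 13, 20, 21, 22, 23, 24, 16, 3, 1, 30, 29, 28, 0, 32, 35, 34, 33],
    ![29, 1, 30, 3, 24, 16, 6, 7, 8, 14, 19, 11, 20, 13, 9, 15, 5, 26,
      18, 10, 12, 21, 22, 23, 4, 25, 17, 32, 28, 0, 2, 31, 27, 34, 33, 35]]

def rank : Fin 36 → ℕ := ![0, 0, 1, 0, 0, 1, 1, 2, 1, 2, 1, 2, 0, 0, 1, 3, 3, 2,
    2, 3, 2, 1, 2, 1, 3, 2, 2, 3, 2, 2, 2, 2, 1, 2, 3, 3]

def parA : Fin 36 → Fin 36 := ![0, 1, 0, 3, 4, 3, 1, 2, 0, 0, 1, 0, 12, 13, 12, 8, 9, 6,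
    1, 0, 2, 3, 5, 4, 2, 1, 0, 12, 0, 6, 3, 3, 4, 1, 0, 0]

def parB : Fin 36 → Fin 36 := ![0, 1, 1, 3, 4, 4, 3, 5, 4, 6, 4, 5, 12, 13, 13, 31, 22, 32,
    23, 22, 21, 13, 14, 12, 22, 21, 23, 7, 32, 14, 14, 23, 13, 32, 31, 29]

def baseSix : Fin 6 → Fin 36 := ![0, 1, 3, 4, 12, 13]

def baseFive : Fin 5 → Fin 36 := ![0, 1, 3, 4, 12]

/-- Coordinates in `baseSix`. -/
def coordSix (v : I6 → F2) : Fin 6 → F2 :=
  !![1, 0, 1, 1, 0, 1; 1, 1, 1, 0, 1, 0; 0, 1, 0, 1, 0, 0; 1, 1, 1, 0, 0, 0; 1, 1, 0, 0, 0, 0; 0, 1, 0, 0, 0, 0].mulVec ![v (.inl (.inl 0)), v (.inl (.inl 1)), v (.inl (.inr 0)), v (.inl (.inr 1)), v (.inr 0), v (.inr 1)]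

/-- Coordinates in `baseFive`. -/
def coordFive (v : I5 → F3) : Fin 5 → F3 :=
  !![2, 2, 1, 2, 0; 0, 1, 0, 1, 0; 2, 1, 2, 0, 2; 1, 0, 1, 0, 1; 1, 0, 0, 0, 0].mulVec ![v (.inl ()), v (.inr (.inl 0)), v (.inr (.inl 1)), v (.inr (.inr 0)), v (.inr (.inr 1))]

def formFive (v : I5 → F3) : F3 := Cfsg.quadFormOdd 2 F3 v

def bilFive (v w : I5 → F3) : F3 :=
  2 * v (.inl ()) * w (.inl ()) + (v (.inr (.inl 0)) * w (.inr (.inr 0)) + w (.inr (.inl 0)) * v (.inr (.inr 0))) +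
    (v (.inr (.inl 1)) * w (.inr (.inr 1)) + w (.inr (.inl 1)) * v (.inr (.inr 1)))

def bilSix (v w : I6 → F2) : F2 :=
  (v (.inl (.inl 0)) * w (.inl (.inr 0)) + w (.inl (.inl 0)) * v (.inl (.inr 0))) +
    (v (.inl (.inl 1)) * w (.inl (.inr 1)) + w (.inl (.inl 1)) * v (.inl (.inr 1))) +
    (v (.inr 0) * w (.inr 1) + w (.inr 0) * v (.inr 1))

def reflFive (v w : I5 → F3) : I5 → F3 := w - (2 * bilFive w v) • v

theorem polar_five (v w : I5 → F3) : polar (qfOdd 2 F3) v w = bilFive v w := by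
  simp only [polar, qfOdd_apply, Cfsg.quadFormOdd, bilFive, Fin.sum_univ_two, Pi.add_apply]
  ring

theorem polar_six (v w : I6 → F2) : polar (qfMinus 2 F2 1 1) v w = bilSix v w := by
  simp only [polar, qfMinus_apply, Cfsg.quadFormMinus, bilSix, Fin.sum_univ_two, Pi.add_apply]
  have h : ∀ x : F2, x + x = 0 := by decide
  linear_combination h (v (.inr 0) * w (.inr 0)) + h (v (.inr 1) * w (.inr 1))

theorem rootFive_value : ∀ i, Cfsg.quadFormOdd 2 F3 (rootFive i) = 2 := by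
  unfold Cfsg.quadFormOdd; decide +kernel

theorem rootFive_complete : ∀ v : I5 → F3, Cfsg.quadFormOdd 2 F3 v = 2 →
    ∃ i, v = rootFive i ∨ v = -rootFive i := by
  unfold Cfsg.quadFormOdd; decide +kernel

theorem rootFive_inj : ∀ i j, rootFive i = rootFive j ∨ rootFive i = -rootFive j → i = j := by decide +kernel

theorem rootSix_value : ∀ i, Cfsg.quadFormMinus 2 F2 1 1 (rootSix i) = 1 := by
  unfold Cfsg.quadFormMinus; decide +kernel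

theorem rootSix_inj : ∀ i j, rootSix i = rootSix j → i = j := by decide +kernel

theorem op_five : ∀ i j, rootFive (op i j) = reflFive (rootFive i) (rootFive j) ∨
    rootFive (op i j) = -reflFive (rootFive i) (rootFive j) := by decide +kernel

theorem op_six : ∀ i j, rootSix (op i j) = rootSix j + bilSix (rootSix i) (rootSix j) • rootSix i := by
  decide +kernel

theorem bilSix_eq : ∀ i j, bilSix (rootSix i) (rootSix j) = if op i j = j then 0 else 1 := by decide +kernel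

theorem derived : ∀ k, (∃ b, baseSix b = k) ∨
    (rank (parA k) < rank k ∧ rank (parB k) < rank k ∧ op (parA k) (parB k) = k) := by decide +kernel

theorem connected : ∀ i, bilFive (rootFive i) (rootFive 0) ≠ 0 ∨
    ∃ j, bilFive (rootFive i) (rootFive j) ≠ 0 ∧ bilFive (rootFive j) (rootFive 0) ≠ 0 := by decide +kernel

theorem coordSix_spec : ∀ v : I6 → F2, v = ∑ k, coordSix v k • rootSix (baseSix k) := by decide +kernel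

theorem coordSix_base : ∀ k j, coordSix (rootSix (baseSix k)) j = if j = k then 1 else 0 := by decide +kernel

theorem coordFive_spec : ∀ v : I5 → F3, v = ∑ k, coordFive v k • rootFive (baseFive k) := by decide +kernel

theorem root_moved : rootFive (op 0 1) ≠ rootFive 1 := by decide +kernel

end CfsgLib.Geom.ThirtySix
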