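import Mathlib
import Cfsg.Agent.Lib.Geom.ThirtySix

set_option autoImplicit false

/-!
`PSp_4(3)` as `PΩ_6^-(2)`.
-/

namespace CfsgLib.Geom.ThirtySix

open QuadraticMap CfsgLib.Classical

local notation "O5" => quadIsoms (qfOdd 2 F3)
local notation "O6" => quadIsoms (qfMinus 2 F2 1 1)

theorem neg_sq (s : F3) : s = 1 ∨ s = -1 → s * s = 1 := by revert s; decide

theorem exists_root (g : O5) (i : Fin 36) :
    ∃ j, g.1 (rootFive i) = rootFive j ∨ g.1 (rootFive i) = -rootFive j := by
  refine rootFive_complete _ ?_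
  rw [← qfOdd_apply, g.2, qfOdd_apply, rootFive_value]

/-- The permutation of the 36 pairs. -/
noncomputable def perm (g : O5) (i : Fin 36) : Fin 36 := (exists_root g i).choose

theorem perm_spec (g : O5) (i : Fin 36) :
    ∃ s : F3, (s = 1 ∨ s = -1) ∧ g.1 (rootFive i) = s • rootFive (perm g i) := by
  rcases (exists_root g i).choose_spec with e | e
  · exact ⟨1, Or.inl rfl, by rw [one_smul]; exact e⟩
  · exact ⟨-1, Or.inr rfl, by rw [neg_smul, one_smul]; exact e⟩

theorem eq_of_smul_root {i j : Fin 36} {s t : F3} (hs : s = 1 ∨ s = -1) (ht : t = 1 ∨ t = -1)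
    (h : s • rootFive i = t • rootFive j) : i = j := by
  have e : rootFive i = (s * t) • rootFive j := by
    rw [← one_smul F3 (rootFive i), ← neg_sq s hs, mul_smul, h, smul_smul]
  apply rootFive_inj
  rcases hs with rfl | rfl <;> rcases ht with rfl | rfl
  · exact Or.inl (by simpa using e)
  · exact Or.inr (by simpa using e)
  · exact Or.inr (by simpa using e)
  · exact Or.inl (by simpa using e)

theorem perm_mul (g h : O5) (i : Fin 36) : perm (g * h) i = perm g (perm h i) := by
  obtain ⟨s, hs, e⟩ := perm_spec (g * h) i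
  obtain ⟨t, ht, e1⟩ := perm_spec h i
  obtain ⟨r, hr, e2⟩ := perm_spec g (perm h i)
  have e3 : s • rootFive (perm (g * h) i) = (t * r) • rootFive (perm g (perm h i)) := by
    rw [← e, mul_smul, ← e2, ← map_smul, ← e1]; rfl
  refine eq_of_smul_root hs ?_ e3
  rcases ht with rfl | rfl <;> rcases hr with rfl | rfl <;> simp

theorem perm_one (i : Fin 36) : perm 1 i = i := by
  obtain ⟨s, hs, e⟩ := perm_spec 1 i
  exact (eq_of_smul_root (Or.inl rfl) hs (by rw [one_smul]; exact e)).symm

theorem perm_injective (g : O5) : Function.Injective (perm g) := fun i j e => by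
  have := congrArg (perm g⁻¹) e
  rwa [← perm_mul, ← perm_mul, inv_mul_cancel, perm_one, perm_one] at this

theorem bilFive_map (g : O5) (v w : I5 → F3) : bilFive (g.1 v) (g.1 w) = bilFive v w := by
  rw [← polar_five, ← polar_five, QuadraticMap.polar, QuadraticMap.polar, ← map_add, g.2, g.2, g.2]

theorem bilFive_smul (s t : F3) (v w : I5 → F3) : bilFive (s • v) (t • w) = s * t * bilFive v w := by
  simp only [bilFive, Pi.smul_apply, smul_eq_mul]; ring

theorem perm_op (g : O5) (i j : Fin 36) : perm g (op i j) = op (perm g i) (perm g j) := by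
  have hsgn : ∀ a b, ∃ t : F3, (t = 1 ∨ t = -1) ∧ rootFive (op a b) = t • reflFive (rootFive a) (rootFive b) := by
    intro a b
    rcases op_five a b with e | e
    · exact ⟨1, Or.inl rfl, by rw [one_smul]; exact e⟩
    · exact ⟨-1, Or.inr rfl, by rw [neg_smul, one_smul]; exact e⟩
  obtain ⟨s, hs, ei⟩ := perm_spec g i
  obtain ⟨t, ht, ej⟩ := perm_spec g j
  obtain ⟨r, hr, ek⟩ := perm_spec g (op i j)
  obtain ⟨a, ha, ea⟩ := hsgn i j
  obtain ⟨b, hb, eb⟩ := hsgn (perm g i) (perm g j)
  have key : r • rootFive (perm g (op i j)) = (a * t * b) • rootFive (op (perm g i) (perm g j)) := by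
    rw [← ek, ea, eb, smul_smul, map_smul, reflFive, reflFive, map_sub, map_smul, ej, ei]
    rw [← bilFive_map g, ej, ei, bilFive_smul]
    have hb2 := neg_sq b hb
    have hs2 := neg_sq s hs
    ext x
    simp only [Pi.sub_apply, Pi.smul_apply, smul_eq_mul]
    linear_combination (-(a * t) * (rootFive (perm g j) x - 2 * bilFive (rootFive (perm g j)) (rootFive (perm g i)) *
      rootFive (perm g i) x)) * hb2 + (-(2 * a * t) * bilFive (rootFive (perm g j)) (rootFive (perm g i)) *
      rootFive (perm g i) x) * hs2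
  refine eq_of_smul_root hr ?_ key
  rcases ha with rfl | rfl <;> rcases ht with rfl | rfl <;> rcases hb with rfl | rfl <;> simp

/-- The linear map on the six-dimensional space. -/
noncomputable def sixMap (g : O5) : (I6 → F2) →ₗ[F2] (I6 → F2) where
  toFun v := ∑ k, coordSix v k • rootSix (perm g (baseSix k))
  map_add' v w := by
    rw [← Finset.sum_add_distrib]
    refine Finset.sum_congr rfl fun k _ => ?_
    rw [← add_smul, ← Pi.add_apply (coordSix v)]
    congr 2
    unfold coordSix
    rw [← Matrix.mulVec_add]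
    congr 1
    funext i; fin_cases i <;> rfl
  map_smul' c v := by
    rw [RingHom.id_apply, Finset.smul_sum]
    refine Finset.sum_congr rfl fun k _ => ?_
    rw [smul_smul, ← smul_eq_mul c, ← Pi.smul_apply c (coordSix v)]
    congr 2
    unfold coordSix
    rw [← Matrix.mulVec_smul]
    congr 1
    funext i; fin_cases i <;> rfl

theorem sixMap_base (g : O5) (k : Fin 6) : sixMap g (rootSix (baseSix k)) = rootSix (perm g (baseSix k)) := by
  show ∑ j, coordSix (rootSix (baseSix k)) j • rootSix (perm g (baseSix j)) = _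
  simp [coordSix_base]

theorem bilSix_perm (g : O5) (i j : Fin 36) :
    bilSix (rootSix (perm g i)) (rootSix (perm g j)) = bilSix (rootSix i) (rootSix j) := by
  rw [bilSix_eq, bilSix_eq, ← perm_op]
  exact if_congr ⟨fun e => perm_injective g e, congrArg _⟩ rfl rfl

theorem sixMap_quad_sum (g : O5) (c : Fin 6 → F2) (s : Finset (Fin 6)) :
    qfMinus 2 F2 1 1 (∑ k ∈ s, c k • rootSix (perm g (baseSix k))) =
      qfMinus 2 F2 1 1 (∑ k ∈ s, c k • rootSix (baseSix k)) := by
  classical
  induction s using Finset.induction_on with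
  | empty => simp
  | insert a s ha ih =>
    rw [Finset.sum_insert ha, Finset.sum_insert ha, QuadraticMap.map_add (qfMinus 2 F2 1 1),
      QuadraticMap.map_add (qfMinus 2 F2 1 1), ih, QuadraticMap.map_smul, QuadraticMap.map_smul]
    simp only [qfMinus_apply, rootSix_value]
    congr 1
    rw [← QuadraticMap.polarBilin_apply_apply, ← QuadraticMap.polarBilin_apply_apply, map_sum, map_sum]
    refine Finset.sum_congr rfl fun k _ => ?_
    simp only [map_smul, LinearMap.smul_apply, QuadraticMap.polarBilin_apply_apply, polar_six, bilSix_perm]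

theorem sixMap_quad (g : O5) (v : I6 → F2) : qfMinus 2 F2 1 1 (sixMap g v) = qfMinus 2 F2 1 1 v := by
  conv_rhs => rw [coordSix_spec v]
  exact sixMap_quad_sum g (coordSix v) Finset.univ

theorem sixMap_root (g : O5) (i : Fin 36) : sixMap g (rootSix i) = rootSix (perm g i) := by
  induction hn : rank i using Nat.strong_induction_on generalizing i with
  | _ n ih =>
    rcases derived i with ⟨b, rfl⟩ | ⟨ha, hb, e⟩
    · exact sixMap_base g b
    · conv_lhs => rw [← e, op_six]
      conv_rhs => rw [← e, perm_op, op_six]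
      rw [map_add, map_smul, ih _ (hn ▸ hb) _ rfl, ih _ (hn ▸ ha) _ rfl, bilSix_perm]

theorem sixMap_ext (g : O5) (f : (I6 → F2) →ₗ[F2] (I6 → F2))
    (h : ∀ k, f (rootSix (baseSix k)) = rootSix (perm g (baseSix k))) (v : I6 → F2) : f v = sixMap g v := by
  conv_lhs => rw [coordSix_spec v]
  simp only [map_sum, map_smul, h]
  rfl

/-- `O_5(3) → O_6^-(2)`. -/
noncomputable def toSix : O5 →* O6 :=
  quadHom (qfMinus 2 F2 1 1) sixMap
    (fun v => (sixMap_ext 1 LinearMap.id (fun k => by rw [perm_one]; rfl) v).symm)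
    (fun g h v => (sixMap_ext (g * h) (sixMap g ∘ₗ sixMap h)
      (fun k => by rw [LinearMap.comp_apply, sixMap_root, sixMap_root, perm_mul]) v).symm)
    sixMap_quad

theorem sign_of_ker (g : O5) (hg : toSix g = 1) : ∃ e : F3, ∀ v, g.1 v = e • v := by
  have hp : ∀ i, perm g i = i := fun i => rootSix_inj _ _ (by
    rw [← sixMap_root]
    have := congrArg (fun k : O6 => k.1 (rootSix i)) hg
    simpa [toSix, quadHom_apply] using this)
  have hs : ∀ i, ∃ s : F3, (s = 1 ∨ s = -1) ∧ g.1 (rootFive i) = s • rootFive i := fun i => by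
    have := perm_spec g i
    rwa [hp] at this
  choose ε hε he using hs
  have hadj : ∀ i j, bilFive (rootFive i) (rootFive j) ≠ 0 → ε i = ε j := by
    intro i j hne
    have h := bilFive_map g (rootFive i) (rootFive j)
    rw [he, he, bilFive_smul] at h
    have h1 : ε i * ε j = 1 := mul_right_cancel₀ hne (by rw [one_mul]; exact h)
    calc ε i = ε i * ε j * ε j := by rw [mul_assoc, neg_sq _ (hε j), mul_one]
      _ = ε j := by rw [h1, one_mul]
  refine ⟨ε 0, fun v => ?_⟩
  have hall : ∀ i, ε i = ε 0 := fun i => by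
    rcases connected i with h | ⟨j, h1, h2⟩
    · exact hadj i 0 h
    · exact (hadj i j h1).trans (hadj j 0 h2)
  conv_lhs => rw [coordFive_spec v]
  conv_rhs => rw [coordFive_spec v]
  simp only [map_sum, map_smul, he, hall, Finset.smul_sum]
  exact Finset.sum_congr rfl fun k _ => smul_comm _ _ _

end CfsgLib.Geom.ThirtySix
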