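import Mathlib
import Cfsg.Agent.Lib.Geom.WittQuad

set_option autoImplicit false

/-!
Maximal totally singular subspaces of a quadratic space of dimension `2m` with non-degenerate polar form:
adjacency, the two members above a subspace of codimension one, and the parity of the distance.
-/

namespace CfsgLib.Geom

open QuadraticMap (polar)

variable {F V : Type*} [Field F] [AddCommGroup V] [Module F V]

/-- A totally singular subspace of dimension `m`. -/
def IsMaxTS (Q : QuadraticForm F V) (m : ℕ) (U : Submodule F V) : Prop :=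
  Module.finrank F U = m ∧ ∀ u ∈ U, Q u = 0

theorem polar_eq_zero_of_ts (Q : QuadraticForm F V) {U : Submodule F V} (hU : ∀ u ∈ U, Q u = 0)
    {u v : V} (hu : u ∈ U) (hv : v ∈ U) : polar Q u v = 0 := by
  simp [polar, hU _ hu, hU _ hv, hU _ (U.add_mem hu hv)]

/-- Orthogonal space of a subspace for the polar form. -/
noncomputable def tsPerp (Q : QuadraticForm F V) (S : Submodule F V) : Submodule F V :=
  LinearMap.BilinForm.orthogonal Q.polarBilin S

theorem mem_tsPerp {Q : QuadraticForm F V} {S : Submodule F V} {x : V} :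
    x ∈ tsPerp Q S ↔ ∀ s ∈ S, polar Q s x = 0 := Iff.rfl

variable [FiniteDimensional F V] (Q : QuadraticForm F V) (hQ : Q.polarBilin.Nondegenerate)
  {m : ℕ} (hdim : Module.finrank F V = 2 * m)

include hQ hdim

theorem finrank_tsPerp (S : Submodule F V) :
    Module.finrank F (tsPerp Q S) = 2 * m - Module.finrank F S := by
  rw [tsPerp, LinearMap.BilinForm.finrank_orthogonal hQ, hdim]

theorem finrank_ts_le {S : Submodule F V} (hS : ∀ u ∈ S, Q u = 0) : Module.finrank F S ≤ m := by
  have h := Submodule.finrank_mono (show S ≤ tsPerp Q S from fun x hx => mem_tsPerp.2 fun s hs =>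
    polar_eq_zero_of_ts Q hS hs hx)
  rw [finrank_tsPerp Q hQ hdim] at h
  omega

theorem tsPerp_maxTS {U : Submodule F V} (hU : IsMaxTS Q m U) : tsPerp Q U = U := by
  refine (Submodule.eq_of_le_of_finrank_eq (fun x hx => mem_tsPerp.2 fun s hs =>
    polar_eq_zero_of_ts Q hU.2 hs hx) ?_).symm
  rw [finrank_tsPerp Q hQ hdim, hU.1]
  omega

/-- The totally singular span of a totally singular subspace and a singular vector orthogonal to it. -/
theorem ts_sup_span {Y : Submodule F V} (hY : ∀ u ∈ Y, Q u = 0) {z : V} (hz : Q z = 0)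
    (hzY : z ∈ tsPerp Q Y) : ∀ u ∈ Y ⊔ Submodule.span F {z}, Q u = 0 := by
  intro u hu
  obtain ⟨y, hy, w, hw, rfl⟩ := Submodule.mem_sup.1 hu
  obtain ⟨c, rfl⟩ := Submodule.mem_span_singleton.1 hw
  rw [QuadraticMap.map_add Q, QuadraticMap.map_smul, QuadraticMap.polar_smul_right, hY y hy, hz,
    mem_tsPerp.1 hzY y hy]
  simp

omit hQ hdim in
theorem finrank_sup_span {Y : Submodule F V} {z : V} (hz : z ∉ Y) :
    Module.finrank F (Y ⊔ Submodule.span F {z} : Submodule F V) = Module.finrank F Y + 1 := by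
  have hz0 : z ≠ 0 := fun h => hz (h ▸ Y.zero_mem)
  have h := Submodule.finrank_sup_add_finrank_inf_eq Y (Submodule.span F {z})
  have hinf : Y ⊓ Submodule.span F {z} = ⊥ := by
    rw [Submodule.eq_bot_iff]
    rintro x ⟨hxY, hx⟩
    obtain ⟨c, rfl⟩ := Submodule.mem_span_singleton.1 hx
    by_contra hne
    have hc : c ≠ 0 := fun h => hne (by rw [h, zero_smul])
    exact hz ((Y.smul_mem_iff hc).1 hxY)
  rw [hinf, finrank_bot, finrank_span_singleton hz0] at h
  omega

/-- A maximal totally singular subspace meets `Y⊥` in one dimension more than it meets `Y`. -/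
theorem exists_mem_perp_not_mem {U Y : Submodule F V} (hU : IsMaxTS Q m U)
    (hY : Module.finrank F Y + 1 = m) : ∃ z ∈ U, z ∈ tsPerp Q Y ∧ z ∉ Y := by
  by_contra h
  push Not at h
  have hle : U ⊓ tsPerp Q Y ≤ U ⊓ Y := fun z hz => ⟨hz.1, h z hz.1 hz.2⟩
  have h1 := Submodule.finrank_sup_add_finrank_inf_eq U Y
  have h2 : tsPerp Q (U ⊔ Y) ≤ U ⊓ tsPerp Q Y := by
    intro x hx
    refine ⟨?_, mem_tsPerp.2 fun s hs => mem_tsPerp.1 hx s (Submodule.mem_sup_right hs)⟩
    rw [SetLike.mem_coe, ← tsPerp_maxTS Q hQ hdim hU]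
    exact mem_tsPerp.2 fun s hs => mem_tsPerp.1 hx s (Submodule.mem_sup_left hs)
  have h3 := Submodule.finrank_mono (h2.trans hle)
  rw [finrank_tsPerp Q hQ hdim] at h3
  have h4 := Submodule.finrank_le (U ⊔ Y)
  rw [hdim] at h4
  have := hU.1
  omega

/-- Two members above `Y` are the only ones. -/
theorem eq_or_eq_of_above {Y W X Z : Submodule F V} (hY : Module.finrank F Y + 1 = m)
    (hW : IsMaxTS Q m W) (hX : IsMaxTS Q m X) (hne : W ≠ X) (hYW : Y ≤ W) (hYX : Y ≤ X)
    (hZ : IsMaxTS Q m Z) (hYZ : Y ≤ Z) : Z = W ∨ Z = X := by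
  obtain ⟨z, hzZ, hzY, hzn⟩ := exists_mem_perp_not_mem Q hQ hdim hZ hY
  have hperp : ∀ {T : Submodule F V}, IsMaxTS Q m T → Y ≤ T → T ≤ tsPerp Q Y := fun hT hYT x hx =>
    mem_tsPerp.2 fun s hs => polar_eq_zero_of_ts Q hT.2 (hYT hs) hx
  have hinf : W ⊓ X = Y := by
    refine (Submodule.eq_of_le_of_finrank_le (le_inf hYW hYX) ?_).symm
    by_contra hlt
    push Not at hlt
    have h1 : W ⊓ X = W := Submodule.eq_of_le_of_finrank_le inf_le_left (by rw [hW.1]; omega)
    exact hne (Submodule.eq_of_le_of_finrank_eq (inf_eq_left.1 h1) (hW.1.trans hX.1.symm))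
  have hsup : W ⊔ X = tsPerp Q Y := by
    refine Submodule.eq_of_le_of_finrank_eq (sup_le (hperp hW hYW) (hperp hX hYX)) ?_
    have h1 := Submodule.finrank_sup_add_finrank_inf_eq W X
    rw [hinf, hW.1, hX.1] at h1
    rw [finrank_tsPerp Q hQ hdim]
    omega
  obtain ⟨w, hw, x, hx, hzwx⟩ := Submodule.mem_sup.1 (show z ∈ W ⊔ X by rw [hsup]; exact hzY)
  have hwx : polar Q w x = 0 := by
    simp [polar, hzwx, hZ.2 z hzZ, hW.2 w hw, hX.2 x hx]
  have key : ∀ {T T' : Submodule F V} {a b : V}, IsMaxTS Q m T → Y ≤ T → T' ⊓ T = Y →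
      IsMaxTS Q m T' → Y ≤ T' → a ∈ T' → b ∈ T → polar Q a b = 0 → a + b = z → a ∉ Y →
      Z = T' := by
    intro T T' a b hT hYT hi hT' hYT' ha hb hab hz haY
    by_cases hbY : b ∈ Y
    · have hz' : Y ⊔ Submodule.span F {z} ≤ T' :=
        sup_le hYT' ((Submodule.span_singleton_le_iff_mem _ _).2 (hz ▸ T'.add_mem ha (hYT' hbY)))
      have e1 := Submodule.eq_of_le_of_finrank_eq hz' (by rw [finrank_sup_span hzn, hT'.1, hY])
      have e2 := Submodule.eq_of_le_of_finrank_eq
        (sup_le hYZ ((Submodule.span_singleton_le_iff_mem _ _).2 hzZ))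
        (by rw [finrank_sup_span hzn, hZ.1, hY])
      exact e2.symm.trans e1
    · exfalso
      have hts := ts_sup_span Q hQ hdim hT.2 (hT'.2 a ha) (z := a) (mem_tsPerp.2 fun s hs => by
        have hTsup : T = Y ⊔ Submodule.span F {b} := (Submodule.eq_of_le_of_finrank_eq
          (sup_le hYT ((Submodule.span_singleton_le_iff_mem _ _).2 hb))
          (by rw [finrank_sup_span hbY, hT.1, hY])).symm
        rw [hTsup] at hs
        obtain ⟨y, hy, v, hv, rfl⟩ := Submodule.mem_sup.1 hs
        obtain ⟨c, rfl⟩ := Submodule.mem_span_singleton.1 hv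
        rw [QuadraticMap.polar_add_left, QuadraticMap.polar_smul_left, QuadraticMap.polar_comm Q b,
          hab, polar_eq_zero_of_ts Q hT'.2 (hYT' hy) ha]
        simp)
      have haT : a ∉ T := fun h => haY (hi ▸ ⟨ha, h⟩ : a ∈ Y)
      have := finrank_ts_le Q hQ hdim hts
      rw [finrank_sup_span haT, hT.1] at this
      omega
  by_cases hwY : w ∈ Y
  · refine Or.inr (key hW hYW (by rw [inf_comm, hinf]) hX hYX hx hw
      (by rw [QuadraticMap.polar_comm, hwx]) (by rw [add_comm, hzwx]) fun h => hzn ?_)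
    rw [← hzwx]; exact Y.add_mem hwY h
  · exact Or.inl (key hX hYX hinf hW hYW hw hx hwx hzwx hwY)

/-- Against two adjacent members, intersection dimensions differ by exactly one. -/
theorem finrank_inf_adjacent {U W X : Submodule F V} (hU : IsMaxTS Q m U) (hW : IsMaxTS Q m W)
    (hX : IsMaxTS Q m X) (hadj : Module.finrank F (W ⊓ X : Submodule F V) + 1 = m) :
    Module.finrank F (U ⊓ W : Submodule F V) = Module.finrank F (U ⊓ X : Submodule F V) + 1 ∨
      Module.finrank F (U ⊓ X : Submodule F V) = Module.finrank F (U ⊓ W : Submodule F V) + 1 := by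
  have hne : W ≠ X := by rintro rfl; rw [inf_idem, hW.1] at hadj; omega
  obtain ⟨z, hzU, hzY, hzn⟩ := exists_mem_perp_not_mem Q hQ hdim hU hadj
  have hYts : ∀ u ∈ W ⊓ X, Q u = 0 := fun u hu => hW.2 u hu.1
  have hZ : IsMaxTS Q m (W ⊓ X ⊔ Submodule.span F {z}) :=
    ⟨by rw [finrank_sup_span hzn, hadj], ts_sup_span Q hQ hdim hYts (hU.2 z hzU) hzY⟩
  have main : ∀ {A B : Submodule F V}, IsMaxTS Q m A → IsMaxTS Q m B → A ⊓ B = W ⊓ X →
      z ∈ A → A ≠ B →
      Module.finrank F (U ⊓ A : Submodule F V) = Module.finrank F (U ⊓ B : Submodule F V) + 1 := by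
    intro A B hA hB hAB hzA hAB'
    have hsupA : W ⊓ X ⊔ Submodule.span F {z} = A := Submodule.eq_of_le_of_finrank_eq
      (sup_le (hAB ▸ inf_le_left) ((Submodule.span_singleton_le_iff_mem _ _).2 hzA))
      (by rw [finrank_sup_span hzn, hadj, hA.1])
    have hUB : U ⊓ B ≤ W ⊓ X := by
      intro b hb
      by_contra hbn
      have hbY : b ∈ tsPerp Q A := mem_tsPerp.2 fun s hs => by
        rw [← hsupA] at hs
        obtain ⟨y, hy, v, hv, rfl⟩ := Submodule.mem_sup.1 hs
        obtain ⟨c, rfl⟩ := Submodule.mem_span_singleton.1 hv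
        rw [QuadraticMap.polar_add_left, QuadraticMap.polar_smul_left,
          polar_eq_zero_of_ts Q hU.2 hzU hb.1,
          polar_eq_zero_of_ts Q hB.2 ((hAB.symm.le.trans inf_le_right) hy) hb.2]
        simp
      rw [tsPerp_maxTS Q hQ hdim hA] at hbY
      exact hbn (hAB ▸ ⟨hbY, hb.2⟩)
    have hUA : U ⊓ A = U ⊓ B ⊔ Submodule.span F {z} := by
      refine le_antisymm (fun a ha => ?_) (sup_le (le_inf inf_le_left
        (hUB.trans (hAB.symm.le.trans inf_le_left)))
        ((Submodule.span_singleton_le_iff_mem _ _).2 ⟨hzU, hzA⟩))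
      obtain ⟨y, hy, v, hv, rfl⟩ := Submodule.mem_sup.1
        (show a ∈ W ⊓ X ⊔ Submodule.span F {z} by rw [hsupA]; exact ha.2)
      refine Submodule.add_mem_sup ⟨?_, (hAB.symm.le.trans inf_le_right) hy⟩ hv
      obtain ⟨c, rfl⟩ := Submodule.mem_span_singleton.1 hv
      simpa using U.sub_mem ha.1 (U.smul_mem c hzU)
    rw [hUA, finrank_sup_span fun h => hzn (hUB h)]
  have hmem : z ∈ W ⊓ X ⊔ Submodule.span F {z} :=
    Submodule.mem_sup_right (Submodule.mem_span_singleton_self z)
  rcases eq_or_eq_of_above Q hQ hdim hadj hW hX hne inf_le_left inf_le_right hZ le_sup_left with h | h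
  · exact Or.inl (main hW hX rfl (h.le hmem) hne)
  · exact Or.inr (main hX hW (inf_comm X W) (h.le hmem) hne.symm)

/-- Parity: even codimension of the intersection is transitive. -/
theorem even_sum_codim {U W X : Submodule F V} (hU : IsMaxTS Q m U) (hW : IsMaxTS Q m W)
    (hX : IsMaxTS Q m X) :
    Even ((m - Module.finrank F (U ⊓ W : Submodule F V)) + (m - Module.finrank F (W ⊓ X : Submodule F V))
      + (m - Module.finrank F (U ⊓ X : Submodule F V))) := by
  obtain ⟨d, hd⟩ : ∃ d, m - Module.finrank F (W ⊓ X : Submodule F V) = d := ⟨_, rfl⟩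
  induction d generalizing W with
  | zero =>
    have hle : Module.finrank F (W ⊓ X : Submodule F V) ≤ m :=
      (Submodule.finrank_mono inf_le_left).trans hW.1.le
    have h1 : W ⊓ X = W := Submodule.eq_of_le_of_finrank_le inf_le_left (by rw [hW.1]; omega)
    have h2 : W = X := Submodule.eq_of_le_of_finrank_eq (inf_eq_left.1 h1) (hW.1.trans hX.1.symm)
    subst h2
    rw [hd, add_zero]
    exact ⟨_, rfl⟩
  | succ d ih =>
    obtain ⟨x, hxX, hxW⟩ : ∃ x ∈ X, x ∉ W := by
      by_contra h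
      push Not at h
      have hXW : X ≤ W := h
      rw [inf_eq_right.2 hXW, hX.1] at hd
      omega
    have hx0 : x ≠ 0 := fun h => hxW (by rw [h]; exact W.zero_mem)
    obtain ⟨Y, hYdef⟩ : ∃ Y, Y = W ⊓ tsPerp Q (Submodule.span F {x}) := ⟨_, rfl⟩
    have hYW : Y ≤ W := hYdef.le.trans inf_le_left
    have hYp : Y ≤ tsPerp Q (Submodule.span F {x}) := hYdef.le.trans inf_le_right
    have hxperp : ∀ y, y ∈ tsPerp Q (Submodule.span F {x}) ↔ polar Q x y = 0 := fun y =>
      ⟨fun h => mem_tsPerp.1 h x (Submodule.mem_span_singleton_self x), fun h => mem_tsPerp.2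
        fun s hs => by
          obtain ⟨c, rfl⟩ := Submodule.mem_span_singleton.1 hs
          rw [QuadraticMap.polar_smul_left, h, smul_zero]⟩
    have hY : Module.finrank F Y + 1 = m := by
      have h1 := Submodule.finrank_sup_add_finrank_inf_eq W (tsPerp Q (Submodule.span F {x}))
      rw [← hYdef, finrank_tsPerp Q hQ hdim, finrank_span_singleton hx0,
        hW.1] at h1
      have hne : ¬ W ≤ tsPerp Q (Submodule.span F {x}) := by
        intro h
        apply hxW
        rw [← tsPerp_maxTS Q hQ hdim hW]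
        exact mem_tsPerp.2 fun s hs => by rw [QuadraticMap.polar_comm]; exact (hxperp s).1 (h hs)
      have h2 : Module.finrank F (tsPerp Q (Submodule.span F {x})) <
          Module.finrank F (W ⊔ tsPerp Q (Submodule.span F {x}) : Submodule F V) :=
        Submodule.finrank_lt_finrank_of_lt (right_lt_sup.2 hne)
      rw [finrank_tsPerp Q hQ hdim, finrank_span_singleton hx0] at h2
      have h3 := Submodule.finrank_le (W ⊔ tsPerp Q (Submodule.span F {x}))
      rw [hdim] at h3
      omega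
    have hxY : x ∈ tsPerp Q Y := mem_tsPerp.2 fun s hs => by
      rw [QuadraticMap.polar_comm]; exact (hxperp s).1 (hYp hs)
    have hW' : IsMaxTS Q m (Y ⊔ Submodule.span F {x}) :=
      ⟨by rw [finrank_sup_span fun h => hxW (hYW h), hY],
        ts_sup_span Q hQ hdim (fun u hu => hW.2 u (hYW hu)) (hX.2 x hxX) hxY⟩
    have hadj : W ⊓ (Y ⊔ Submodule.span F {x}) = Y := by
      refine (Submodule.eq_of_le_of_finrank_le (le_inf hYW le_sup_left) ?_).symm
      by_contra hlt
      push Not at hlt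
      have h1 : W ⊓ (Y ⊔ Submodule.span F {x}) = W := Submodule.eq_of_le_of_finrank_le inf_le_left
        (by rw [hW.1]; omega)
      have h2 := Submodule.eq_of_le_of_finrank_eq (inf_eq_left.1 h1) (hW.1.trans hW'.1.symm)
      exact hxW (h2.symm.le (Submodule.mem_sup_right (Submodule.mem_span_singleton_self x)))
    have hlt : Module.finrank F (X ⊓ W : Submodule F V) <
        Module.finrank F (X ⊓ (Y ⊔ Submodule.span F {x}) : Submodule F V) := by
      refine Submodule.finrank_lt_finrank_of_lt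
        (show X ⊓ W < X ⊓ (Y ⊔ Submodule.span F {x}) from lt_of_le_of_ne ?_ fun heq => ?_)
      · exact fun a ha => ⟨ha.1, Submodule.mem_sup_left (hYdef.symm.le
          ⟨ha.2, (hxperp a).2 (polar_eq_zero_of_ts Q hX.2 hxX ha.1)⟩)⟩
      · exact hxW (heq.symm.le (⟨hxX, Submodule.mem_sup_right (Submodule.mem_span_singleton_self x)⟩ :
          x ∈ X ⊓ (Y ⊔ Submodule.span F {x}))).2
    have hA := finrank_inf_adjacent Q hQ hdim hX hW hW' (by rw [hadj, hY])
    have hB := finrank_inf_adjacent Q hQ hdim hU hW hW' (by rw [hadj, hY])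
    rw [inf_comm X W, inf_comm X (Y ⊔ Submodule.span F {x})] at hA hlt
    have hle : ∀ {A B : Submodule F V}, IsMaxTS Q m A →
        Module.finrank F (A ⊓ B : Submodule F V) ≤ m :=
      fun hA => (Submodule.finrank_mono inf_le_left).trans hA.1.le
    have h1 := hle (B := W) hU
    have h2 := hle (B := Y ⊔ Submodule.span F {x}) hU
    have h3 := hle (B := X) hW'
    have h4 := ih hW' (by omega)
    rw [Nat.even_iff] at h4 ⊢
    omega

/-- Exactly two members above a totally singular subspace of dimension `m - 1`. -/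
theorem exists_two_above {Y : Submodule F V} (hY : Module.finrank F Y + 1 = m)
    (hYts : ∀ u ∈ Y, Q u = 0) {U : Submodule F V} (hU : IsMaxTS Q m U) :
    ∃ W X : Submodule F V, IsMaxTS Q m W ∧ IsMaxTS Q m X ∧ Y ≤ W ∧ Y ≤ X ∧ W ≠ X := by
  obtain ⟨z, hzU, hzY, hzn⟩ := exists_mem_perp_not_mem Q hQ hdim hU hY
  have hW : IsMaxTS Q m (Y ⊔ Submodule.span F {z}) :=
    ⟨by rw [finrank_sup_span hzn, hY], ts_sup_span Q hQ hdim hYts (hU.2 z hzU) hzY⟩
  obtain ⟨x, hxY, hx⟩ : ∃ x ∈ tsPerp Q Y, polar Q z x ≠ 0 := by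
    by_contra h
    push Not at h
    have hle : tsPerp Q Y ≤ tsPerp Q (Y ⊔ Submodule.span F {z}) := fun a ha =>
      mem_tsPerp.2 fun s hs => by
        obtain ⟨y, hy, v, hv, rfl⟩ := Submodule.mem_sup.1 hs
        obtain ⟨c, rfl⟩ := Submodule.mem_span_singleton.1 hv
        rw [QuadraticMap.polar_add_left, QuadraticMap.polar_smul_left, h a ha,
          mem_tsPerp.1 ha y hy]
        simp
    have := Submodule.finrank_mono hle
    rw [finrank_tsPerp Q hQ hdim, finrank_tsPerp Q hQ hdim, hW.1] at this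
    omega
  set x' := x + (-(Q x) / polar Q z x) • z with hx'def
  have hx'Q : Q x' = 0 := by
    rw [hx'def, QuadraticMap.map_add Q, QuadraticMap.map_smul, QuadraticMap.polar_smul_right,
      hU.2 z hzU, QuadraticMap.polar_comm Q x z, smul_eq_mul, smul_eq_mul, mul_zero, add_zero]
    field_simp
    ring
  have hx'z : polar Q z x' = polar Q z x := by
    rw [hx'def, QuadraticMap.polar_add_right, QuadraticMap.polar_smul_right,
      polar_eq_zero_of_ts Q hU.2 hzU hzU, smul_zero, add_zero]
  have hzW : z ∈ Y ⊔ Submodule.span F {z} :=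
    Submodule.mem_sup_right (Submodule.mem_span_singleton_self z)
  have hx'W : x' ∉ Y ⊔ Submodule.span F {z} := fun h =>
    hx (by rw [← hx'z, polar_eq_zero_of_ts Q hW.2 hzW h])
  have hx'Y : x' ∈ tsPerp Q Y := (tsPerp Q Y).add_mem hxY ((tsPerp Q Y).smul_mem _ hzY)
  refine ⟨_, Y ⊔ Submodule.span F {x'}, hW,
    ⟨by rw [finrank_sup_span fun h => hx'W (Submodule.mem_sup_left h), hY],
      ts_sup_span Q hQ hdim hYts hx'Q hx'Y⟩, le_sup_left, le_sup_left, fun h => hx'W ?_⟩
  rw [h]
  exact Submodule.mem_sup_right (Submodule.mem_span_singleton_self x')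

end CfsgLib.Geom
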