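import Mathlib
import Cfsg.Agent.Lib.Geom.FiniteField

set_option autoImplicit false

/-!
Conjugacy by trace in `SL_2`, elements of square `-1`, and anticommuting pairs of them.
-/

namespace CfsgLib.Geom.SL2Anti

open Matrix
open scoped MatrixGroups

variable {F : Type*} [Field F]

local notation "M2" => Matrix (Fin 2) (Fin 2) F

theorem exists_cyclic (g : SL(2, F)) (h : ∀ r : F, (g : M2) ≠ r • 1) :
    ∃ M : M2, M.det ≠ 0 ∧ (g : M2) * M = M * !![0, -1; 1, (g : M2).trace] := by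
  have hd := g.2
  rw [det_fin_two] at hd
  obtain ⟨v, hv⟩ : ∃ v : Fin 2 → F,
      v 0 * ((g : M2) 1 0 * v 0 + (g : M2) 1 1 * v 1) - v 1 * ((g : M2) 0 0 * v 0 + (g : M2) 0 1 * v 1) ≠ 0 := by
    by_contra hall
    push Not at hall
    have h0 := hall ![1, 0]
    have h1 := hall ![0, 1]
    have h2 := hall ![1, 1]
    simp at h0 h1 h2
    refine h ((g : M2) 0 0) (Matrix.ext fun i j => ?_)
    fin_cases i <;> fin_cases j <;> simp [h0, h1]
    linear_combination h2 - h0 + h1
  refine ⟨!![v 0, (g : M2) 0 0 * v 0 + (g : M2) 0 1 * v 1; v 1, (g : M2) 1 0 * v 0 + (g : M2) 1 1 * v 1], ?_, ?_⟩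
  · rw [det_fin_two_of]
    intro e
    exact hv (by linear_combination e)
  · rw [trace_fin_two]
    ext i j
    fin_cases i <;> fin_cases j <;> simp [Matrix.mul_apply, Fin.sum_univ_two]
    · linear_combination -(v 0) * hd
    · linear_combination -(v 1) * hd

variable [Finite F]

theorem exists_norm_value (t : F) (ht : t * t ≠ 4) {c : F} (hc : c ≠ 0) :
    ∃ x y : F, x * x + t * x * y + y * y = c := by
  by_cases h2 : (2 : F) = 0
  · obtain ⟨r, hr⟩ := isSquare_of_two_eq_zero h2 c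
    exact ⟨r, 0, by rw [hr]; ring⟩
  · have h4 : (4 : F) ≠ 0 := by rw [show (4 : F) = 2 * 2 by norm_num]; exact mul_ne_zero h2 h2
    obtain ⟨s, y, hs⟩ := exists_binary_eq h2 one_ne_zero
      (div_ne_zero (sub_ne_zero.2 ht.symm) h4 : (4 - t * t) / 4 ≠ 0) c
    refine ⟨s - t * y / 2, y, ?_⟩
    rw [← hs]
    field_simp
    ring

/-- Non-central semisimple elements of `SL_2` with the same trace are conjugate in `SL_2`. -/
theorem exists_conj_of_trace (g h : SL(2, F)) (ht : (g : M2).trace = (h : M2).trace)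
    (h4 : (g : M2).trace * (g : M2).trace ≠ 4) : ∃ s : SL(2, F), s * g * s⁻¹ = h := by
  have hns : ∀ k : SL(2, F), (k : M2).trace = (g : M2).trace → ∀ r : F, (k : M2) ≠ r • 1 := by
    intro k hk r e
    have hd := k.2
    rw [e, Matrix.det_smul, Matrix.det_one, mul_one, Fintype.card_fin] at hd
    rw [e, Matrix.trace_smul, Matrix.trace_one, Fintype.card_fin, smul_eq_mul] at hk
    apply h4
    rw [← hk]
    push_cast
    linear_combination 4 * hd
  obtain ⟨Mg, hMg, eg⟩ := exists_cyclic g (hns g rfl)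
  obtain ⟨Mh, hMh, eh⟩ := exists_cyclic h (hns h ht.symm)
  rw [← ht] at eh
  set t := (g : M2).trace with htdef
  obtain ⟨x, y, hxy⟩ := exists_norm_value t h4 (mul_ne_zero hMg (inv_ne_zero hMh))
  let S : M2 := Mh * (x • (1 : M2) + y • !![0, -1; 1, t]) * Mg⁻¹
  have hS : S.det = 1 := by
    simp only [S, Matrix.det_mul, Matrix.det_nonsing_inv, Ring.inverse_eq_inv']
    have : (x • (1 : M2) + y • !![0, -1; 1, t]).det = x * x + t * x * y + y * y := by
      simp [det_fin_two]; ring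
    rw [this, hxy]
    field_simp
  obtain ⟨s, hs⟩ : ∃ s : SL(2, F), (s : M2) = S := ⟨⟨S, hS⟩, rfl⟩
  refine ⟨s, ?_⟩
  rw [mul_inv_eq_iff_eq_mul]
  refine Subtype.ext ?_
  rw [Matrix.SpecialLinearGroup.coe_mul, Matrix.SpecialLinearGroup.coe_mul, hs]
  have hu : IsUnit Mg.det := IsUnit.mk0 _ hMg
  have e1 : Mg⁻¹ * (g : M2) = !![0, -1; 1, t] * Mg⁻¹ := by
    calc Mg⁻¹ * (g : M2) = Mg⁻¹ * ((g : M2) * Mg) * Mg⁻¹ := by
          rw [mul_assoc Mg⁻¹, mul_assoc (g : M2), Matrix.mul_nonsing_inv _ hu, mul_one]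
      _ = _ := by rw [eg, ← mul_assoc, Matrix.nonsing_inv_mul _ hu, one_mul]
  simp only [S]
  rw [mul_assoc _ Mg⁻¹, e1, ← mul_assoc, mul_assoc Mh, add_mul, smul_mul_assoc, smul_mul_assoc, one_mul,
    ← mul_assoc (h : M2), ← mul_assoc (h : M2), eh, mul_assoc Mh !![0, -1; 1, t]]
  simp only [mul_add, mul_smul_comm, mul_one]

omit [Finite F] in
theorem trace_eq_zero_of_sq {g : SL(2, F)} (h : g * g = -1) : (g : M2).trace = 0 := by
  have e : g⁻¹ = -g := inv_eq_of_mul_eq_one_right (by rw [mul_neg, h, neg_neg])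
  have e' := congrArg (fun x : SL(2, F) => (x : M2) 0 0) e
  simp [Matrix.adjugate_fin_two] at e'
  rw [trace_fin_two]
  linear_combination e'

omit [Finite F] in
theorem sq_eq_neg_one_of_trace {g : SL(2, F)} (h : (g : M2).trace = 0) : g * g = -1 := by
  have hd := g.2
  rw [det_fin_two] at hd
  rw [trace_fin_two] at h
  refine Subtype.ext (Matrix.ext fun i j => ?_)
  fin_cases i <;> fin_cases j <;> simp [Matrix.mul_apply, Fin.sum_univ_two]
  · linear_combination (g : M2) 0 0 * h - hd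
  · linear_combination (g : M2) 0 1 * h
  · linear_combination (g : M2) 1 0 * h
  · linear_combination (g : M2) 1 1 * h - hd

omit [Finite F] in
theorem eq_or_eq_neg_of_sq_one (h2 : (2 : F) ≠ 0) {g : SL(2, F)} (h : g * g = 1) : g = 1 ∨ g = -1 := by
  have e : g⁻¹ = g := inv_eq_of_mul_eq_one_right h
  have e00 := congrArg (fun x : SL(2, F) => (x : M2) 0 0) e
  have e01 := congrArg (fun x : SL(2, F) => (x : M2) 0 1) e
  have e10 := congrArg (fun x : SL(2, F) => (x : M2) 1 0) e
  simp [Matrix.adjugate_fin_two] at e00 e01 e10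
  have z01 : (g : M2) 0 1 = 0 :=
    (mul_eq_zero.1 (show (2 : F) * (g : M2) 0 1 = 0 by linear_combination -e01)).resolve_left h2
  have z10 : (g : M2) 1 0 = 0 :=
    (mul_eq_zero.1 (show (2 : F) * (g : M2) 1 0 = 0 by linear_combination -e10)).resolve_left h2
  have hd := g.2
  rw [det_fin_two, z01, z10, e00] at hd
  rcases mul_self_eq_one_iff.1 (show (g : M2) 0 0 * (g : M2) 0 0 = 1 by linear_combination hd) with ha | ha
  · exact Or.inl (Subtype.ext (Matrix.ext fun i j => by fin_cases i <;> fin_cases j <;> simp [e00, z01, z10, ha]))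
  · exact Or.inr (Subtype.ext (Matrix.ext fun i j => by fin_cases i <;> fin_cases j <;> simp [e00, z01, z10, ha]))

omit [Finite F] in
theorem one_ne_neg_one (h2 : (2 : F) ≠ 0) : (1 : SL(2, F)) ≠ -1 := fun e => by
  have e' := congrArg (fun x : SL(2, F) => (x : M2) 0 0) e
  simp at e'
  exact h2 (by linear_combination e')

omit [Finite F] in
theorem mem_center_iff_sign (h2 : (2 : F) ≠ 0) {z : SL(2, F)} :
    z ∈ Subgroup.center SL(2, F) ↔ z = 1 ∨ z = -1 := by
  refine ⟨fun h => ?_, ?_⟩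
  · obtain ⟨r, hr, e⟩ := Matrix.SpecialLinearGroup.mem_center_iff.1 h
    refine eq_or_eq_neg_of_sq_one h2 (Subtype.ext ?_)
    show (z : M2) * (z : M2) = 1
    rw [← e, ← map_mul, ← sq, ← Fintype.card_fin 2, hr, map_one]
  · rintro (rfl | rfl)
    · exact one_mem _
    · exact Subgroup.mem_center_iff.2 fun g => by rw [mul_neg, mul_one, neg_mul, one_mul]

/-- Anticommuting elements of square `-1`. -/
def Anti (g h : SL(2, F)) : Prop := g * g = -1 ∧ h * h = -1 ∧ g * h = -(h * g)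

/-- The standard element of square `-1`. -/
def J0 : SL(2, F) := ⟨!![0, -1; 1, 0], by simp [det_fin_two_of]⟩

omit [Finite F] in
@[simp] theorem J0_coe : ((J0 : SL(2, F)) : M2) = !![0, -1; 1, 0] := rfl

omit [Finite F] in
theorem J0_sq : (J0 : SL(2, F)) * J0 = -1 := sq_eq_neg_one_of_trace (by simp [trace_fin_two])

theorem exists_conj_J0 (h2 : (2 : F) ≠ 0) {g : SL(2, F)} (h : g * g = -1) :
    ∃ s : SL(2, F), s * J0 * s⁻¹ = g :=
  exists_conj_of_trace J0 g (by rw [trace_eq_zero_of_sq h]; simp [trace_fin_two]) (by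
    rw [trace_eq_zero_of_sq J0_sq, mul_zero, show (4 : F) = 2 * 2 by norm_num]
    exact (mul_ne_zero h2 h2).symm)

theorem exists_K0 (h2 : (2 : F) ≠ 0) : ∃ k : SL(2, F), Anti J0 k := by
  obtain ⟨a, b, hab⟩ := exists_binary_eq h2 (one_ne_zero (α := F)) (one_ne_zero (α := F)) (-1)
  obtain ⟨k, hk⟩ : ∃ k : SL(2, F), (k : M2) = !![a, b; b, -a] :=
    ⟨⟨!![a, b; b, -a], by rw [det_fin_two_of]; linear_combination -hab⟩, rfl⟩
  refine ⟨k, J0_sq, sq_eq_neg_one_of_trace (by simp [hk, trace_fin_two]), Subtype.ext ?_⟩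
  ext i j
  fin_cases i <;> fin_cases j <;> simp [hk, Matrix.mul_apply, Fin.sum_univ_two]

/-- The centraliser of the standard element. -/
def CJ (F : Type*) [Field F] : Subgroup SL(2, F) := Subgroup.centralizer {(J0 : SL(2, F))}

omit [Finite F] in
theorem mem_CJ {c : SL(2, F)} : c ∈ CJ F ↔ (c : M2) 1 1 = (c : M2) 0 0 ∧ (c : M2) 0 1 = -(c : M2) 1 0 := by
  rw [CJ, Subgroup.mem_centralizer_singleton_iff]
  constructor
  · intro h
    have e00 := congrArg (fun x : SL(2, F) => (x : M2) 0 0) h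
    have e01 := congrArg (fun x : SL(2, F) => (x : M2) 0 1) h
    simp [Matrix.mul_apply, Fin.sum_univ_two] at e00 e01
    constructor <;> first | linear_combination e00 | linear_combination e01 | linear_combination -e00 | linear_combination -e01
  · rintro ⟨a, b⟩
    refine Subtype.ext (Matrix.ext fun i j => ?_)
    fin_cases i <;> fin_cases j <;> simp [Matrix.mul_apply, Fin.sum_univ_two, a, b]

omit [Finite F] in
theorem CJ_comm {c d : SL(2, F)} (hc : c ∈ CJ F) (hd : d ∈ CJ F) : c * d = d * c := by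
  obtain ⟨a, b⟩ := mem_CJ.1 hc
  obtain ⟨a', b'⟩ := mem_CJ.1 hd
  refine Subtype.ext (Matrix.ext fun i j => ?_)
  fin_cases i <;> fin_cases j <;> simp [Matrix.mul_apply, Fin.sum_univ_two, a, b, a', b'] <;> ring

omit [Finite F] in
/-- Elements anticommuting with `J0` invert its centraliser. -/
theorem inv_of_anti {k c : SL(2, F)} (hk : Anti J0 k) (hc : c ∈ CJ F) : k * c = c⁻¹ * k := by
  obtain ⟨a, b⟩ := mem_CJ.1 hc
  have e00 := congrArg (fun x : SL(2, F) => (x : M2) 0 0) hk.2.2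
  have e01 := congrArg (fun x : SL(2, F) => (x : M2) 0 1) hk.2.2
  simp [Matrix.mul_apply, Fin.sum_univ_two] at e00 e01
  refine Subtype.ext (Matrix.ext fun i j => ?_)
  fin_cases i <;> fin_cases j <;>
    simp [Matrix.mul_apply, Fin.sum_univ_two, Matrix.adjugate_fin_two, a, b] <;>
    first
      | linear_combination (c : M2) 1 0 * e00
      | linear_combination -(c : M2) 1 0 * e00
      | linear_combination (c : M2) 1 0 * e01
      | linear_combination -(c : M2) 1 0 * e01

omit [Finite F] in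
theorem anti_mul_mem {k k' : SL(2, F)} (hk : Anti J0 k) (hk' : Anti J0 k') : k' * k⁻¹ ∈ CJ F := by
  rw [CJ, Subgroup.mem_centralizer_singleton_iff]
  have e1 : (J0 : SL(2, F)) * k' = -(k' * J0) := hk'.2.2
  have e2 : k⁻¹ * J0 = -(J0 * k⁻¹) := by
    rw [inv_mul_eq_iff_eq_mul, mul_neg, ← mul_assoc, show k * J0 = -(J0 * k) by rw [hk.2.2, neg_neg],
      neg_mul, neg_neg, mul_assoc, mul_inv_cancel, mul_one]
  rw [mul_assoc, e2, mul_neg, ← mul_assoc, ← mul_assoc, e1, neg_mul]

end CfsgLib.Geom.SL2Anti
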