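import Mathlib
import Cfsg.Agent.Lib.Geom.SL2Anti

set_option autoImplicit false

/-!
Anticommuting pairs of square `-1` in `SL_2` and four-subgroups of `PSL_2`, odd characteristic.
-/

namespace CfsgLib.Geom.SL2Anti

open Matrix
open scoped MatrixGroups

variable {F : Type*} [Field F]

local notation "M2" => Matrix (Fin 2) (Fin 2) F
local notation "PSL2" => ProjectiveSpecialLinearGroup (Fin 2) F

theorem inv_eq_neg {g : SL(2, F)} (h : g * g = -1) : g⁻¹ = -g :=
  inv_eq_of_mul_eq_one_right (by rw [mul_neg, h, neg_neg])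

theorem Anti.swap {g h : SL(2, F)} (a : Anti g h) : Anti h g :=
  ⟨a.2.1, a.1, by rw [a.2.2, neg_neg]⟩

theorem Anti.mul_sq {g h : SL(2, F)} (a : Anti g h) : g * h * (g * h) = -1 := by
  rw [show g * h * (g * h) = g * (h * g) * h by group, show h * g = -(g * h) by rw [a.2.2, neg_neg],
    mul_neg, neg_mul, show g * (g * h) * h = (g * g) * (h * h) by group, a.1, a.2.1, neg_mul_neg, one_mul]

theorem Anti.mul_right {g h : SL(2, F)} (a : Anti g h) : Anti g (g * h) := by
  refine ⟨a.1, a.mul_sq, ?_⟩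
  rw [show g * h * g = g * (h * g) by group, show h * g = -(g * h) by rw [a.2.2, neg_neg], mul_neg, neg_neg]

theorem Anti.rot {g h : SL(2, F)} (a : Anti g h) : Anti h (g * h) := by
  refine ⟨a.2.1, a.mul_sq, ?_⟩
  rw [show h * (g * h) = (h * g) * h by group, show h * g = -(g * h) by rw [a.2.2, neg_neg], neg_mul]

theorem Anti.neg_right {g h : SL(2, F)} (a : Anti g h) : Anti g (-h) :=
  ⟨a.1, by rw [neg_mul_neg]; exact a.2.1, by rw [mul_neg, neg_mul, a.2.2]⟩

theorem Anti.neg_left {g h : SL(2, F)} (a : Anti g h) : Anti (-g) h :=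
  ⟨by rw [neg_mul_neg]; exact a.1, a.2.1, by rw [mul_neg, neg_mul, a.2.2]⟩

theorem Anti.conj {g h : SL(2, F)} (a : Anti g h) (s : SL(2, F)) : Anti (s * g * s⁻¹) (s * h * s⁻¹) := by
  have e : ∀ x y : SL(2, F), s * x * s⁻¹ * (s * y * s⁻¹) = s * (x * y) * s⁻¹ := fun x y => by group
  refine ⟨?_, ?_, ?_⟩
  · rw [e, a.1]; simp
  · rw [e, a.2.1]; simp
  · rw [e, e, a.2.2, mul_neg, neg_mul]

/-- The quaternion element permuting an anticommuting pair cyclically. -/
theorem exists_rot (h2 : (2 : F) ≠ 0) {g h : SL(2, F)} (a : Anti g h) :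
    ∃ s : SL(2, F), s * g * s⁻¹ = h ∧ s * h * s⁻¹ = g * h := by
  set G := (g : M2) with hG
  set H := (h : M2) with hH
  set K := ((g * h : SL(2, F)) : M2) with hK
  have coe2 : ∀ x y z : SL(2, F), x * y = z → (x : M2) * (y : M2) = (z : M2) :=
    fun x y z e => congrArg (fun w : SL(2, F) => (w : M2)) e
  have coe3 : ∀ x y z : SL(2, F), x * y = -z → (x : M2) * (y : M2) = -(z : M2) := fun x y z e => by
    rw [coe2 x y _ e, Matrix.SpecialLinearGroup.coe_neg]
  have gg : G * G = -1 := by rw [coe3 g g 1 a.1]; simp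
  have hh : H * H = -1 := by rw [coe3 h h 1 a.2.1]; simp
  have kk : K * K = -1 := by rw [coe3 (g * h) (g * h) 1 a.mul_sq]; simp
  have gh : G * H = K := coe2 g h _ rfl
  have hg : H * G = -K := coe3 h g _ a.swap.2.2 |>.trans (by rw [← hK])
  have gk : G * K = -H := coe3 g (g * h) h (by rw [← mul_assoc, a.1, neg_mul, one_mul])
  have kh : K * H = -G := coe3 (g * h) h g (by rw [mul_assoc, a.2.1, mul_neg, mul_one])
  have kg : K * G = H := coe2 (g * h) g h (by
    rw [mul_assoc, show h * g = -(g * h) by rw [a.2.2, neg_neg], mul_neg, ← mul_assoc, a.1, neg_mul, one_mul, neg_neg])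
  have hk : H * K = G := coe2 h (g * h) g (by
    rw [← mul_assoc, show h * g = -(g * h) by rw [a.2.2, neg_neg], neg_mul, mul_assoc, a.2.1, mul_neg, mul_one, neg_neg])
  have adjneg : ∀ x : SL(2, F), x * x = -1 → Matrix.adjugate (x : M2) = -(x : M2) := fun x hx => by
    rw [← Matrix.SpecialLinearGroup.coe_inv, inv_eq_neg hx, Matrix.SpecialLinearGroup.coe_neg]
  set S : M2 := (2 : F)⁻¹ • (1 + G + H + K) with hS
  have hadj : S.adjugate = (2 : F)⁻¹ • (1 - G - H - K) := by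
    have lin : ∀ A B : M2, (A + B).adjugate = A.adjugate + B.adjugate := fun A B => by
      rw [adjugate_fin_two, adjugate_fin_two, adjugate_fin_two]
      ext i j; fin_cases i <;> fin_cases j <;> simp <;> ring
    rw [hS, Matrix.adjugate_smul, Fintype.card_fin, pow_one, lin, lin, lin, Matrix.adjugate_one, hG, hH, hK,
      adjneg g a.1, adjneg h a.2.1, adjneg _ a.mul_sq]
    simp only [← sub_eq_add_neg]
  have hdet : S.det = 1 := by
    have e := Matrix.mul_adjugate S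
    rw [hadj, hS, smul_mul_smul_comm] at e
    have e' : (1 + G + H + K) * (1 - G - H - K) = (4 : F) • (1 : M2) := by
      simp only [mul_sub, add_mul, one_mul, mul_one, gg, hh, kk, gh, hg, gk, kg, hk, kh]
      module
    rw [e', smul_smul] at e
    have := congrFun (congrFun e 0) 0
    simp only [Matrix.smul_apply, Matrix.one_apply_eq, smul_eq_mul, mul_one] at this
    rw [hS]
    rw [← this]
    field_simp
    norm_num
  obtain ⟨s, hs⟩ : ∃ s : SL(2, F), (s : M2) = S := ⟨⟨S, hdet⟩, rfl⟩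
  refine ⟨s, ?_, ?_⟩ <;> rw [mul_inv_eq_iff_eq_mul] <;> refine Subtype.ext ?_ <;>
    rw [Matrix.SpecialLinearGroup.coe_mul, Matrix.SpecialLinearGroup.coe_mul, hs]
  · rw [← hG, ← hH, hS, smul_mul_assoc, mul_smul_comm]
    congr 1
    simp only [mul_add, add_mul, one_mul, mul_one, gg, hh, kk, gh, hg, gk, kg, hk, kh]
    abel
  · rw [← hH, ← hK, hS, smul_mul_assoc, mul_smul_comm]
    congr 1
    simp only [mul_add, add_mul, one_mul, mul_one, gg, hh, kk, gh, hg, gk, kg, hk, kh]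
    abel

/-- When two is a square the pair `(g,h)` can be moved to `(g, g h)`. -/
theorem exists_flip (hsq : IsSquare (2 : F)) (h2 : (2 : F) ≠ 0) {g h : SL(2, F)} (a : Anti g h) :
    ∃ s : SL(2, F), s * g * s⁻¹ = g ∧ s * h * s⁻¹ = g * h := by
  obtain ⟨q, hq⟩ := hsq
  have hq0 : q ≠ 0 := fun e => h2 (by rw [hq, e, mul_zero])
  set G := (g : M2) with hG
  set H := (h : M2) with hH
  have gg : G * G = -1 := by
    have := congrArg (fun w : SL(2, F) => (w : M2)) a.1
    simpa using this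
  have hadj : Matrix.adjugate G = -G := by
    rw [hG, ← Matrix.SpecialLinearGroup.coe_inv, inv_eq_neg a.1, Matrix.SpecialLinearGroup.coe_neg]
  have hdet : (q⁻¹ • (1 + G)).det = 1 := by
    rw [Matrix.det_smul, Fintype.card_fin]
    have hd : G.det = 1 := g.2
    have ht : G.trace = 0 := trace_eq_zero_of_sq a.1
    have : (1 + G).det = 1 + G.trace + G.det := by
      simp [det_fin_two, trace_fin_two]; ring
    rw [this, hd, ht, add_zero]
    field_simp
    linear_combination hq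
  obtain ⟨s, hs⟩ : ∃ s : SL(2, F), (s : M2) = q⁻¹ • (1 + G) := ⟨⟨_, hdet⟩, rfl⟩
  refine ⟨s, ?_, ?_⟩ <;> rw [mul_inv_eq_iff_eq_mul] <;> refine Subtype.ext ?_ <;>
    simp only [Matrix.SpecialLinearGroup.coe_mul, hs, smul_mul_assoc, mul_smul_comm, ← hG, ← hH]
  · rw [add_mul, mul_add, one_mul, mul_one]
  · congr 1
    have hg : H * G = -(G * H) := by
      have := congrArg (fun w : SL(2, F) => (w : M2)) a.swap.2.2
      simpa using this
    rw [add_mul, one_mul, mul_add, mul_one, mul_assoc G H G, hg, mul_neg, ← mul_assoc G G H, gg, neg_mul,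
      one_mul, neg_neg, add_comm]

/-- Ordered pairs up to conjugacy. -/
def Rel (p q : SL(2, F) × SL(2, F)) : Prop :=
  ∃ s : SL(2, F), s * p.1 * s⁻¹ = q.1 ∧ s * p.2 * s⁻¹ = q.2

theorem Rel.refl (p : SL(2, F) × SL(2, F)) : Rel p p := ⟨1, by simp, by simp⟩

theorem Rel.symm {p q : SL(2, F) × SL(2, F)} (r : Rel p q) : Rel q p := by
  obtain ⟨s, a, b⟩ := r
  exact ⟨s⁻¹, by rw [← a]; group, by rw [← b]; group⟩

theorem Rel.trans {p q r : SL(2, F) × SL(2, F)} (x : Rel p q) (y : Rel q r) : Rel p r := by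
  obtain ⟨s, a, b⟩ := x
  obtain ⟨t, c, d⟩ := y
  exact ⟨t * s, by rw [← c, ← a]; group, by rw [← d, ← b]; group⟩

theorem Anti.rel_neg_left {g h : SL(2, F)} (a : Anti g h) : Rel (g, h) (-g, h) :=
  ⟨h, by
    show h * g * h⁻¹ = -g
    rw [show h * g = -(g * h) by rw [a.2.2, neg_neg], neg_mul, mul_assoc, mul_inv_cancel, mul_one],
    by show h * h * h⁻¹ = h; group⟩

theorem Anti.rel_neg_right {g h : SL(2, F)} (a : Anti g h) : Rel (g, h) (g, -h) :=
  ⟨g, by show g * g * g⁻¹ = g; group, by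
    show g * h * g⁻¹ = -h
    rw [a.2.2, neg_mul, mul_assoc, mul_inv_cancel, mul_one]⟩

theorem Anti.rel_rot (h2 : (2 : F) ≠ 0) {g h : SL(2, F)} (a : Anti g h) : Rel (g, h) (h, g * h) :=
  exists_rot h2 a

theorem Anti.rel_flip (hsq : IsSquare (2 : F)) (h2 : (2 : F) ≠ 0) {g h : SL(2, F)} (a : Anti g h) :
    Rel (g, h) (g, g * h) :=
  exists_flip hsq h2 a

/-- `δ` is not a square in the centraliser of `J0`. -/
def NonSqCJ (δ : SL(2, F)) : Prop := δ ∈ CJ F ∧ ∀ c ∈ CJ F, c * c ≠ δ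

theorem J0_mem : (J0 : SL(2, F)) ∈ CJ F := Subgroup.mem_centralizer_singleton_iff.2 rfl

theorem neg_one_mem : (-1 : SL(2, F)) ∈ CJ F :=
  Subgroup.mem_centralizer_singleton_iff.2 (by simp)

theorem nonSq_J0 (h2 : ¬ IsSquare (2 : F)) : NonSqCJ (J0 : SL(2, F)) := by
  refine ⟨J0_mem, fun c hc e => h2 ?_⟩
  obtain ⟨a, b⟩ := mem_CJ.1 hc
  have e00 := congrArg (fun x : SL(2, F) => (x : M2) 0 0) e
  have e10 := congrArg (fun x : SL(2, F) => (x : M2) 1 0) e
  simp [Matrix.mul_apply, Fin.sum_univ_two, a, b] at e00 e10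
  have hd := c.2
  rw [det_fin_two, a, b] at hd
  set x := (c : M2) 0 0
  set y := (c : M2) 1 0
  have hx : 2 * (x * x) = 1 := by linear_combination hd + e00
  refine ⟨x⁻¹, ?_⟩
  have : x ≠ 0 := fun z => by rw [z, mul_zero, mul_zero] at hx; exact zero_ne_one hx
  field_simp
  linear_combination hx

theorem conj_anti {k c : SL(2, F)} (hk : Anti J0 k) (hc : c ∈ CJ F) : c * k * c⁻¹ = c * c * k := by
  rw [mul_assoc c k, inv_of_anti hk (inv_mem hc), inv_inv, mul_assoc]

theorem mul_anti {k c : SL(2, F)} (hk : Anti J0 k) (hc : c ∈ CJ F) : Anti J0 (c * k) := by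
  refine ⟨hk.1, ?_, ?_⟩
  · rw [mul_assoc, ← mul_assoc k, inv_of_anti hk hc, mul_assoc c⁻¹, hk.2.1, mul_neg, mul_one, mul_neg,
      mul_inv_cancel]
  · have e : c * J0 = J0 * c := Subgroup.mem_centralizer_singleton_iff.1 hc
    rw [← mul_assoc, ← e, mul_assoc, hk.2.2, mul_neg, mul_assoc]

theorem rel_sq {k c : SL(2, F)} (hk : Anti J0 k) (hc : c ∈ CJ F) : Rel (J0, k) (J0, c * c * k) :=
  ⟨c, by
    show c * J0 * c⁻¹ = J0
    rw [show c * J0 = J0 * c from Subgroup.mem_centralizer_singleton_iff.1 hc, mul_assoc, mul_inv_cancel,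
      mul_one],
    conj_anti hk hc⟩

theorem not_rel_nonSq {k δ : SL(2, F)} (hk : Anti J0 k) (hδ : NonSqCJ δ) : ¬ Rel (J0, k) (J0, δ * k) := by
  rintro ⟨c, h1, hh⟩
  have hc : c ∈ CJ F := Subgroup.mem_centralizer_singleton_iff.2 (by
    have := h1; rwa [mul_inv_eq_iff_eq_mul] at this)
  exact hδ.2 c hc (mul_right_cancel ((conj_anti hk hc).symm.trans hh))

/-- The squaring map on the centraliser of `J0`. -/
def sqCJ (F : Type*) [Field F] : CJ F →* CJ F where
  toFun c := c * c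
  map_one' := mul_one 1
  map_mul' a b := Subtype.ext (by
    show a.1 * b.1 * (a.1 * b.1) = a.1 * a.1 * (b.1 * b.1)
    rw [mul_assoc, ← mul_assoc b.1, CJ_comm b.2 a.2]
    group)

variable [Finite F]

theorem sqCJ_index (h2 : (2 : F) ≠ 0) : (sqCJ F).range.index = 2 := by
  have hk : Nat.card (sqCJ F).ker = 2 := by
    rw [Nat.card_eq_two_iff]
    refine ⟨1, ⟨⟨-1, neg_one_mem⟩, Subtype.ext (show (-1 : SL(2, F)) * -1 = 1 by simp)⟩,
      fun e => one_ne_neg_one h2 (congrArg (fun x : (sqCJ F).ker => (x.1.1 : SL(2, F))) e),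
      Set.eq_univ_of_forall fun x => ?_⟩
    rcases eq_or_eq_neg_of_sq_one h2 (congrArg Subtype.val x.2 : x.1.1 * x.1.1 = 1) with e | e
    · exact Or.inl (Subtype.ext (Subtype.ext e))
    · exact Or.inr (Set.mem_singleton_iff.2 (Subtype.ext (Subtype.ext e)))
  have a := (sqCJ F).range.card_mul_index
  have b := (sqCJ F).ker.card_mul_index
  rw [hk, Subgroup.index_ker] at b
  have hpos : 0 < Nat.card (sqCJ F).range := Nat.card_pos
  refine Nat.eq_of_mul_eq_mul_left hpos (a.trans ?_)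
  rw [mul_comm, b]

theorem exists_nonSq (h2 : (2 : F) ≠ 0) : ∃ δ : SL(2, F), NonSqCJ δ := by
  by_contra hall
  push Not at hall
  have htop : (sqCJ F).range = ⊤ := eq_top_iff.2 fun x _ => by
    by_contra hx
    refine hall x.1 ⟨x.2, fun c hc e => hx ⟨⟨c, hc⟩, Subtype.ext e⟩⟩
  have := sqCJ_index (F := F) h2
  rw [htop, Subgroup.index_top] at this
  omega

/-- Every pair is conjugate to one of two standard pairs. -/
theorem rel_cases (h2 : (2 : F) ≠ 0) {k δ : SL(2, F)} (hk : Anti J0 k) (hδ : NonSqCJ δ) {g h : SL(2, F)}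
    (a : Anti g h) : Rel (J0, k) (g, h) ∨ Rel (J0, δ * k) (g, h) := by
  obtain ⟨s, hs⟩ := exists_conj_J0 h2 a.1
  set k' := s⁻¹ * h * s
  have hk' : Anti J0 k' := by
    have := a.conj s⁻¹
    rw [inv_inv, show s⁻¹ * g * s = J0 by rw [← hs]; group] at this
    exact this
  have hrel : Rel (J0, k') (g, h) := ⟨s, hs, by simp only [k']; group⟩
  set d : CJ F := ⟨k' * k⁻¹, anti_mul_mem hk hk'⟩
  by_cases hd : d ∈ (sqCJ F).range
  · obtain ⟨⟨c, hc⟩, e⟩ := hd
    left
    refine Rel.trans ?_ hrel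
    have := rel_sq hk hc
    rwa [show c * c = k' * k⁻¹ from congrArg Subtype.val e, inv_mul_cancel_right] at this
  · right
    have hdelta : (⟨δ, hδ.1⟩ : CJ F)⁻¹ ∉ (sqCJ F).range := fun h => by
      obtain ⟨⟨c, hc⟩, e⟩ := inv_mem_iff.1 h
      exact hδ.2 c hc (congrArg Subtype.val e)
    have hprod : d * (⟨δ, hδ.1⟩ : CJ F)⁻¹ ∈ (sqCJ F).range :=
      (Subgroup.mul_mem_iff_of_index_two (sqCJ_index h2)).2 (iff_of_false hd hdelta)
    obtain ⟨⟨c, hc⟩, e⟩ := hprod
    refine Rel.trans ?_ hrel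
    have := rel_sq (mul_anti hk hδ.1) hc
    rwa [show c * c = k' * k⁻¹ * δ⁻¹ from congrArg Subtype.val e,
      show k' * k⁻¹ * δ⁻¹ * (δ * k) = k' by group] at this

/-- Pairs are in bijection with the group. -/
theorem card_anti (h2 : (2 : F) ≠ 0) :
    Nat.card {p : SL(2, F) × SL(2, F) // Anti p.1 p.2} = Nat.card SL(2, F) := by
  classical
  obtain ⟨k, hk⟩ := exists_K0 h2 (F := F)
  choose σ hσ using fun g : {g : SL(2, F) // g * g = -1} => exists_conj_J0 h2 g.2
  have hconjJ : ∀ u : SL(2, F), u * J0 * u⁻¹ * (u * J0 * u⁻¹) = -1 := fun u => by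
    rw [show u * J0 * u⁻¹ * (u * J0 * u⁻¹) = u * (J0 * J0) * u⁻¹ by group, J0_sq]; simp
  have hd : ∀ p : {p : SL(2, F) × SL(2, F) // Anti p.1 p.2},
      (σ ⟨p.1.1, p.2.1⟩)⁻¹ * p.1.2 * σ ⟨p.1.1, p.2.1⟩ * k⁻¹ ∈ CJ F := fun p => by
    refine anti_mul_mem hk ?_
    have := p.2.conj (σ ⟨p.1.1, p.2.1⟩)⁻¹
    rw [inv_inv] at this
    rwa [show (σ ⟨p.1.1, p.2.1⟩)⁻¹ * p.1.1 * σ ⟨p.1.1, p.2.1⟩ = J0 by
      have e := hσ ⟨p.1.1, p.2.1⟩
      calc _ = (σ ⟨p.1.1, p.2.1⟩)⁻¹ * (σ ⟨p.1.1, p.2.1⟩ * J0 * (σ ⟨p.1.1, p.2.1⟩)⁻¹) *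
          σ ⟨p.1.1, p.2.1⟩ := by rw [e]
        _ = J0 := by group] at this
  have hc : ∀ u, (σ ⟨u * J0 * u⁻¹, hconjJ u⟩)⁻¹ * u ∈ CJ F := fun u => by
    rw [CJ, Subgroup.mem_centralizer_singleton_iff]
    have e : σ ⟨u * J0 * u⁻¹, hconjJ u⟩ * J0 * (σ ⟨u * J0 * u⁻¹, hconjJ u⟩)⁻¹ = u * J0 * u⁻¹ :=
      hσ ⟨_, hconjJ u⟩
    generalize σ ⟨u * J0 * u⁻¹, hconjJ u⟩ = s at e ⊢
    calc s⁻¹ * u * J0 = s⁻¹ * (u * J0 * u⁻¹) * u := by group
      _ = s⁻¹ * (s * J0 * s⁻¹) * u := by rw [e]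
      _ = J0 * (s⁻¹ * u) := by group
  let f : {p : SL(2, F) × SL(2, F) // Anti p.1 p.2} → SL(2, F) := fun p =>
    σ ⟨p.1.1, p.2.1⟩ * ((σ ⟨p.1.1, p.2.1⟩)⁻¹ * p.1.2 * σ ⟨p.1.1, p.2.1⟩ * k⁻¹)
  have hfJ : ∀ p, f p * J0 * (f p)⁻¹ = p.1.1 := fun p => by
    simp only [f]
    have e := Subgroup.mem_centralizer_singleton_iff.1 (hd p)
    have e2 := hσ ⟨p.1.1, p.2.1⟩
    generalize (σ ⟨p.1.1, p.2.1⟩)⁻¹ * p.1.2 * σ ⟨p.1.1, p.2.1⟩ * k⁻¹ = d at e ⊢
    generalize σ ⟨p.1.1, p.2.1⟩ = s at e2 ⊢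
    calc s * d * J0 * (s * d)⁻¹ = s * (d * J0) * (s * d)⁻¹ := by group
      _ = s * (J0 * d) * (s * d)⁻¹ := by rw [e]
      _ = s * J0 * s⁻¹ := by group
      _ = _ := e2
  refine Nat.card_congr (Equiv.ofBijective f ⟨?_, ?_⟩)
  · intro p p' e
    have e1 : p.1.1 = p'.1.1 := by rw [← hfJ p, e, hfJ p']
    simp only [f] at e
    have e2 : (⟨p.1.1, p.2.1⟩ : {g : SL(2, F) // g * g = -1}) = ⟨p'.1.1, p'.2.1⟩ := Subtype.ext e1
    rw [e2] at e
    exact Subtype.ext (Prod.ext e1 (mul_left_cancel (mul_right_cancel (mul_right_cancel (mul_left_cancel e)))))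
  · intro u
    have hu : Anti (u * J0 * u⁻¹)
        (σ ⟨_, hconjJ u⟩ * (((σ ⟨_, hconjJ u⟩)⁻¹ * u) * k) * (σ ⟨_, hconjJ u⟩)⁻¹) := by
      have h' := (mul_anti hk (hc u)).conj (σ ⟨_, hconjJ u⟩)
      have e : σ ⟨u * J0 * u⁻¹, hconjJ u⟩ * J0 * (σ ⟨u * J0 * u⁻¹, hconjJ u⟩)⁻¹ = u * J0 * u⁻¹ :=
        hσ ⟨_, hconjJ u⟩
      rwa [e] at h'
    refine ⟨⟨(_, _), hu⟩, ?_⟩
    simp only [f]
    group

omit [Finite F] in
/-- Lifts of commuting distinct involutions of `PSL_2`. -/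
theorem anti_of_involutions (h2 : (2 : F) ≠ 0) {g h : SL(2, F)} (hg : g ∉ Subgroup.center SL(2, F))
    (hh : h ∉ Subgroup.center SL(2, F)) (hne : g⁻¹ * h ∉ Subgroup.center SL(2, F))
    (hgg : g * g ∈ Subgroup.center SL(2, F)) (hhh : h * h ∈ Subgroup.center SL(2, F))
    (hghg : g * h * (g * h) ∈ Subgroup.center SL(2, F)) : Anti g h := by
  have sq : ∀ x : SL(2, F), x ∉ Subgroup.center SL(2, F) → x * x ∈ Subgroup.center SL(2, F) → x * x = -1 :=
    fun x hx hxx => ((mem_center_iff_sign h2).1 hxx).resolve_left fun e =>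
      hx ((mem_center_iff_sign h2).2 (eq_or_eq_neg_of_sq_one h2 e))
  have gg := sq g hg hgg
  have hh' := sq h hh hhh
  have hgh : g * h ∉ Subgroup.center SL(2, F) := fun e => hne (by
    have : g⁻¹ * h = -1 * (g * h) := by rw [inv_eq_neg gg]; simp
    rw [this]; exact mul_mem ((mem_center_iff_sign h2).2 (Or.inr rfl)) e)
  have kk := sq _ hgh hghg
  refine ⟨gg, hh', ?_⟩
  have e : (g * h)⁻¹ = -(g * h) := inv_eq_neg kk
  rw [_root_.mul_inv_rev, inv_eq_neg gg, inv_eq_neg hh', neg_mul_neg] at e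
  rw [e, neg_neg]

/-- The image in `PSL_2`. -/
def pr : SL(2, F) →* PSL2 := QuotientGroup.mk' (Subgroup.center SL(2, F))

omit [Finite F] in
theorem pr_eq_one {x : SL(2, F)} : (pr x : PSL2) = 1 ↔ x ∈ Subgroup.center SL(2, F) :=
  QuotientGroup.eq_one_iff x

omit [Finite F] in
theorem pr_surjective : Function.Surjective (pr : SL(2, F) → PSL2) := QuotientGroup.mk'_surjective _

omit [Finite F] in
theorem pr_neg (h2 : (2 : F) ≠ 0) (x : SL(2, F)) : (pr (-x) : PSL2) = pr x := by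
  rw [show -x = -1 * x by simp, map_mul, pr_eq_one.2 ((mem_center_iff_sign h2).2 (Or.inr rfl)), one_mul]

omit [Finite F] in
theorem pr_eq_iff (h2 : (2 : F) ≠ 0) {x y : SL(2, F)} : (pr x : PSL2) = pr y ↔ x = y ∨ x = -y := by
  refine ⟨fun h => ?_, ?_⟩
  · have : y⁻¹ * x ∈ Subgroup.center SL(2, F) := pr_eq_one.1 (by rw [map_mul, map_inv, h, inv_mul_cancel])
    rcases (mem_center_iff_sign h2).1 this with e | e
    · exact Or.inl (inv_mul_eq_one.1 e).symm
    · exact Or.inr (by rw [inv_mul_eq_iff_eq_mul.1 e]; simp)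
  · rintro (rfl | rfl)
    · rfl
    · exact pr_neg h2 _

omit [Finite F] in
theorem Anti.pr_ne_one (h2 : (2 : F) ≠ 0) {g h : SL(2, F)} (a : Anti g h) : (pr g : PSL2) ≠ 1 := by
  intro e
  rcases (mem_center_iff_sign h2).1 (pr_eq_one.1 e) with rfl | rfl <;>
    exact one_ne_neg_one h2 (by simpa using a.1)

omit [Finite F] in
theorem Anti.pr_ne (h2 : (2 : F) ≠ 0) {g h : SL(2, F)} (a : Anti g h) : (pr g : PSL2) ≠ pr h := by
  intro e
  have hc : g * h = h * g := by
    rcases (pr_eq_iff h2).1 e with rfl | rfl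
    · rfl
    · simp
  have hm := a.2.2
  rw [← hc] at hm
  refine one_ne_neg_one h2 (mul_left_cancel (a := g * h) ?_)
  rw [mul_one, mul_neg, mul_one]
  exact hm

/-- The four-group attached to a pair. -/
def VP (g h : SL(2, F)) : Subgroup PSL2 := Subgroup.closure {pr g, pr h}

omit [Finite F] in
theorem pr_mul_self_of_sq (h2 : (2 : F) ≠ 0) {g : SL(2, F)} (h : g * g = -1) : (pr g : PSL2) * pr g = 1 := by
  rw [← map_mul, h, pr_neg h2, map_one]

omit [Finite F] in
theorem mem_VP (h2 : (2 : F) ≠ 0) {g h : SL(2, F)} (a : Anti g h) {x : PSL2} :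
    x ∈ VP g h ↔ x = 1 ∨ x = pr g ∨ x = pr h ∨ x = pr (g * h) := by
  refine ⟨fun hx => ?_, ?_⟩
  · have e1 := pr_mul_self_of_sq h2 a.1
    have e2 := pr_mul_self_of_sq h2 a.2.1
    have ec : (pr h : PSL2) * pr g = pr g * pr h := by
      rw [← map_mul, ← map_mul, a.swap.2.2, pr_neg h2]
    induction hx using Subgroup.closure_induction with
    | mem y hy => rcases hy with rfl | rfl <;> simp
    | one => simp
    | mul y z _ _ iy iz =>
      simp only [map_mul] at iy iz ⊢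
      have a1 : (pr g : PSL2) * (pr g * pr h) = pr h := by rw [← mul_assoc, e1, one_mul]
      have a2 : (pr h : PSL2) * (pr g * pr h) = pr g := by rw [← mul_assoc, ec, mul_assoc, e2, mul_one]
      have a3 : (pr g : PSL2) * pr h * pr g = pr h := by rw [mul_assoc, ec, ← mul_assoc, e1, one_mul]
      have a4 : (pr g : PSL2) * pr h * pr h = pr g := by rw [mul_assoc, e2, mul_one]
      have a5 : (pr g : PSL2) * pr h * (pr g * pr h) = 1 := by rw [← mul_assoc, a3, e2]
      rcases iy with rfl | rfl | rfl | rfl <;> rcases iz with rfl | rfl | rfl | rfl <;>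
        simp [e1, e2, ec, a1, a2, a3, a4, a5]
    | inv y _ iy =>
      rcases iy with rfl | rfl | rfl | rfl
      · simp
      · exact Or.inr (Or.inl (inv_eq_of_mul_eq_one_right e1))
      · exact Or.inr (Or.inr (Or.inl (inv_eq_of_mul_eq_one_right e2)))
      · refine Or.inr (Or.inr (Or.inr (inv_eq_of_mul_eq_one_right ?_)))
        exact pr_mul_self_of_sq h2 a.mul_sq
  · have hg : (pr g : PSL2) ∈ VP g h := Subgroup.subset_closure (by simp)
    have hh : (pr h : PSL2) ∈ VP g h := Subgroup.subset_closure (by simp)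
    rintro (rfl | rfl | rfl | rfl)
    · exact one_mem _
    · exact hg
    · exact hh
    · rw [map_mul]; exact mul_mem hg hh

omit [Finite F] in
theorem card_VP (h2 : (2 : F) ≠ 0) {g h : SL(2, F)} (a : Anti g h) : Nat.card (VP g h) = 4 := by
  classical
  have e : ((VP g h : Subgroup PSL2) : Set PSL2) =
      (({1, pr g, pr h, pr (g * h)} : Finset PSL2) : Set PSL2) := by
    ext x; simp [mem_VP h2 a]
  rw [← SetLike.coe_sort_coe, e, Nat.card_coe_set_eq, Set.ncard_coe_finset]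
  have n1 := (a.pr_ne_one h2).symm
  have n2 := (a.swap.pr_ne_one h2).symm
  have n3 := (a.mul_right.swap.pr_ne_one h2).symm
  rw [Finset.card_insert_of_notMem (by
      simp only [Finset.mem_insert, Finset.mem_singleton, not_or]; exact ⟨n1, n2, n3⟩),
    Finset.card_insert_of_notMem (by
      simp only [Finset.mem_insert, Finset.mem_singleton, not_or]
      exact ⟨a.pr_ne h2, a.mul_right.pr_ne h2⟩),
    Finset.card_insert_of_notMem (by
      simp only [Finset.mem_singleton]; exact a.rot.pr_ne h2), Finset.card_singleton]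

omit [Finite F] in
theorem isKleinFour_VP (h2 : (2 : F) ≠ 0) {g h : SL(2, F)} (a : Anti g h) : IsKleinFour (VP g h) := by
  refine ⟨card_VP h2 a, ?_⟩
  have : Finite (VP g h) := Nat.finite_of_card_ne_zero (by rw [card_VP h2 a]; omega)
  have : Nontrivial (VP g h) :=
    ⟨⟨pr g, (mem_VP h2 a).2 (Or.inr (Or.inl rfl))⟩, 1, fun e => a.pr_ne_one h2 (congrArg Subtype.val e)⟩
  refine (Monoid.exponent_eq_prime_iff Nat.prime_two).2 ?_
  intro x hx
  refine orderOf_eq_prime (Subtype.ext ?_) hx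
  show x.1 ^ 2 = 1
  rcases (mem_VP h2 a).1 x.2 with e | e | e | e <;> rw [e, sq]
  · exact mul_one 1
  · exact pr_mul_self_of_sq h2 a.1
  · exact pr_mul_self_of_sq h2 a.2.1
  · exact pr_mul_self_of_sq h2 a.mul_sq

omit [Finite F] in
theorem exists_pair_of_klein (h2 : (2 : F) ≠ 0) (V : Subgroup PSL2) [IsKleinFour V] {x y : PSL2}
    (hx : x ∈ V) (hy : y ∈ V) (hx1 : x ≠ 1) (hy1 : y ≠ 1) (hxy : x ≠ y) {g h : SL(2, F)}
    (eg : pr g = x) (eh : pr h = y) : Anti g h ∧ VP g h = V := by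
  have hsq : ∀ z ∈ V, z * z = 1 := fun z hz =>
    congrArg Subtype.val (IsKleinFour.mul_self (⟨z, hz⟩ : V))
  have a : Anti g h := by
    refine anti_of_involutions h2 (fun e => hx1 (eg ▸ pr_eq_one.2 e)) (fun e => hy1 (eh ▸ pr_eq_one.2 e))
      (fun e => hxy ?_) (pr_eq_one.1 ?_) (pr_eq_one.1 ?_) (pr_eq_one.1 ?_)
    · have h3 := pr_eq_one.2 e
      rw [map_mul, map_inv, eg, eh] at h3
      exact inv_mul_eq_one.1 h3
    · rw [map_mul, eg]; exact hsq x hx
    · rw [map_mul, eh]; exact hsq y hy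
    · rw [map_mul, map_mul, eg, eh]; exact hsq _ (mul_mem hx hy)
  have : Finite V := Nat.finite_of_card_ne_zero (by rw [IsKleinFour.card_four]; omega)
  refine ⟨a, Subgroup.eq_of_le_of_card_ge ?_ (by rw [card_VP h2 a, IsKleinFour.card_four])⟩
  rw [VP, Subgroup.closure_le]
  rintro z (rfl | rfl)
  · rw [eg]; exact hx
  · rw [eh]; exact hy

omit [Finite F] in
theorem exists_pair (h2 : (2 : F) ≠ 0) (V : Subgroup PSL2) [IsKleinFour V] :
    ∃ g h, Anti g h ∧ VP g h = V := by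
  classical
  have : Finite V := Nat.finite_of_card_ne_zero (by rw [IsKleinFour.card_four]; omega)
  have : Fintype V := Fintype.ofFinite _
  obtain ⟨x, hx⟩ := Fintype.exists_ne_of_one_lt_card
    (by rw [← Nat.card_eq_fintype_card, IsKleinFour.card_four]; norm_num) (1 : V)
  obtain ⟨y, -, hy⟩ := Finset.exists_mem_notMem_of_card_lt_card (s := ({1, x} : Finset V))
    (t := Finset.univ) (lt_of_le_of_lt Finset.card_le_two
      (by rw [Finset.card_univ, ← Nat.card_eq_fintype_card, IsKleinFour.card_four]; norm_num))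
  simp only [Finset.mem_insert, Finset.mem_singleton, not_or] at hy
  obtain ⟨g, hg⟩ := pr_surjective x.1
  obtain ⟨h, hh⟩ := pr_surjective y.1
  exact ⟨g, h, exists_pair_of_klein h2 V x.2 y.2 (fun e => hx (Subtype.ext e))
    (fun e => hy.1 (Subtype.ext e)) (fun e => hy.2 (Subtype.ext e.symm)) hg hh⟩

omit [Finite F] in
theorem VP_conj (s g h : SL(2, F)) :
    (VP g h).map (MulAut.conj (pr s)).toMonoidHom = VP (s * g * s⁻¹) (s * h * s⁻¹) := by
  rw [VP, MonoidHom.map_closure, Set.image_pair, VP]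
  simp

omit [Finite F] in
theorem VP_eq_of_rel {g h g' h' : SL(2, F)} (r : Rel (g, h) (g', h')) :
    ∃ x : PSL2, VP g' h' = (VP g h).map (MulAut.conj x).toMonoidHom := by
  obtain ⟨s, e1, e2⟩ := r
  exact ⟨pr s, by rw [VP_conj, show s * g * s⁻¹ = g' from e1, show s * h * s⁻¹ = h' from e2]⟩

omit [Finite F] in
theorem VP_mul_right (h2 : (2 : F) ≠ 0) {g h : SL(2, F)} (a : Anti g h) : VP g (g * h) = VP g h := by
  have : Finite (VP g h) := Nat.finite_of_card_ne_zero (by rw [card_VP h2 a]; omega)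
  refine Subgroup.eq_of_le_of_card_ge ?_ (by rw [card_VP h2 a, card_VP h2 a.mul_right])
  rw [VP, Subgroup.closure_le]
  rintro z (rfl | rfl)
  · exact (mem_VP h2 a).2 (Or.inr (Or.inl rfl))
  · exact (mem_VP h2 a).2 (Or.inr (Or.inr (Or.inr rfl)))

omit [Finite F] in
/-- When two is a square, all ordered generating pairs of a four-group are conjugate. -/
theorem rel_of_VP_eq (hsq : IsSquare (2 : F)) (h2 : (2 : F) ≠ 0) {g h g' h' : SL(2, F)} (a : Anti g h)
    (a' : Anti g' h') (hV : VP g' h' = VP g h) : Rel (g, h) (g', h') := by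
  have hg : (pr g' : PSL2) ∈ VP g h := hV ▸ (mem_VP h2 a').2 (Or.inr (Or.inl rfl))
  have hh : (pr h' : PSL2) ∈ VP g h := hV ▸ (mem_VP h2 a').2 (Or.inr (Or.inr (Or.inl rfl)))
  have key : ∀ u v : SL(2, F), Anti u v → (pr g' : PSL2) = pr u → (pr h' : PSL2) = pr v → Rel (u, v) (g', h') := by
    intro u v auv e1 e2
    rcases (pr_eq_iff h2).1 e1 with rfl | rfl <;> rcases (pr_eq_iff h2).1 e2 with rfl | rfl
    · exact Rel.refl _
    · exact auv.rel_neg_right
    · exact auv.rel_neg_left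
    · exact auv.rel_neg_left.trans auv.neg_left.rel_neg_right
  have r1 := a.rel_flip hsq h2
  have r2 := a.rel_rot h2
  have r3 := r2.trans (a.rot.rel_rot h2)
  have r4 := r2.trans (a.rot.rel_flip hsq h2)
  have r5 := r3.trans (a.rot.rot.rel_flip hsq h2)
  have e3 : h * (g * h) = g := by
    rw [← mul_assoc, a.swap.2.2, neg_mul, mul_assoc, a.2.1, mul_neg, mul_one, neg_neg]
  have e4 : g * h * g = h := by
    rw [mul_assoc, a.swap.2.2, mul_neg, ← mul_assoc, a.1, neg_mul, one_mul, neg_neg]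
  rw [e3] at r3 r4 r5
  rw [e4] at r5
  rcases (mem_VP h2 a).1 hg with e1 | e1 | e1 | e1 <;> rcases (mem_VP h2 a).1 hh with e2 | e2 | e2 | e2
  all_goals first
    | exact absurd e1 (a'.pr_ne_one h2)
    | exact absurd e2 (a'.swap.pr_ne_one h2)
    | exact absurd (e1.trans e2.symm) (a'.pr_ne h2)
    | exact key g h a e1 e2
    | exact r1.trans (key g (g * h) a.mul_right e1 e2)
    | exact r2.trans (key h (g * h) a.rot e1 e2)
    | exact r3.trans (key (g * h) g a.mul_right.swap e1 e2)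
    | exact r4.trans (key h g a.swap e1 e2)
    | exact r5.trans (key (g * h) h a.rot.swap e1 e2)

/-- The centraliser of a four-group is itself. -/
theorem centralizer_VP (h2 : (2 : F) ≠ 0) {g h : SL(2, F)} (a : Anti g h) :
    Subgroup.centralizer ((VP g h : Subgroup PSL2) : Set PSL2) = VP g h := by
  have hmem : ∀ x : PSL2, x ∈ Subgroup.centralizer ((VP g h : Subgroup PSL2) : Set PSL2) → x ∈ VP g h := by
    intro x hx
    obtain ⟨s, rfl⟩ := pr_surjective x
    have cg := (Subgroup.mem_centralizer_iff.1 hx) _ ((mem_VP h2 a).2 (Or.inr (Or.inl rfl)))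
    have ch := (Subgroup.mem_centralizer_iff.1 hx) _ ((mem_VP h2 a).2 (Or.inr (Or.inr (Or.inl rfl))))
    rw [← map_mul, ← map_mul] at cg ch
    -- adjust by an element of the four-group so that the lift commutes with both
    have fix : ∀ t : SL(2, F), g * t = t * g → h * t = t * h → (pr t : PSL2) = 1 := by
      intro t tg th
      refine pr_eq_one.2 ((mem_center_iff_sign h2).2 (eq_or_eq_neg_of_sq_one h2 ?_))
      obtain ⟨u, hu⟩ := exists_conj_J0 h2 a.1
      set t' := u⁻¹ * t * u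
      set k := u⁻¹ * h * u
      have hk : Anti J0 k := by
        have := a.conj u⁻¹
        rw [inv_inv, show u⁻¹ * g * u = J0 by rw [← hu]; group] at this
        exact this
      have ht' : t' ∈ CJ F := by
        rw [CJ, Subgroup.mem_centralizer_singleton_iff]
        calc u⁻¹ * t * u * J0 = u⁻¹ * (t * g) * u := by rw [← hu]; group
          _ = u⁻¹ * (g * t) * u := by rw [tg]
          _ = J0 * (u⁻¹ * t * u) := by rw [← hu]; group
      have hkt : k * t' = t' * k := by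
        calc u⁻¹ * h * u * (u⁻¹ * t * u) = u⁻¹ * (h * t) * u := by group
          _ = u⁻¹ * (t * h) * u := by rw [th]
          _ = _ := by simp only [t', k]; group
      rw [inv_of_anti hk ht'] at hkt
      have hinv : t'⁻¹ = t' := mul_right_cancel hkt
      calc t * t = u * (t' * t') * u⁻¹ := by simp only [t']; group
        _ = 1 := by nth_rewrite 1 [← hinv]; group
    have hg0 : (pr g : PSL2) ∈ VP g h := (mem_VP h2 a).2 (Or.inr (Or.inl rfl))
    have hh0 : (pr h : PSL2) ∈ VP g h := (mem_VP h2 a).2 (Or.inr (Or.inr (Or.inl rfl)))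
    rcases (pr_eq_iff h2).1 cg with e1 | e1 <;> rcases (pr_eq_iff h2).1 ch with e2 | e2
    · rw [fix s e1 e2]; exact one_mem _
    · have := fix (g * s) (by rw [← mul_assoc, mul_assoc g s g, ← e1, ← mul_assoc])
        (by rw [← mul_assoc, a.swap.2.2, neg_mul, mul_assoc g h s, e2, mul_neg, neg_neg, ← mul_assoc])
      rw [map_mul, mul_eq_one_iff_eq_inv'] at this
      rw [this]; exact inv_mem hg0
    · have := fix (h * s) (by rw [← mul_assoc, a.2.2, neg_mul, mul_assoc h g s, e1, mul_neg, neg_neg, ← mul_assoc])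
        (by rw [← mul_assoc, mul_assoc h s h, ← e2, ← mul_assoc])
      rw [map_mul, mul_eq_one_iff_eq_inv'] at this
      rw [this]; exact inv_mem hh0
    · have := fix (g * h * s)
        (by
          rw [← mul_assoc g (g * h), show g * (g * h) = -(g * h * g) from a.mul_right.2.2, neg_mul,
            mul_assoc (g * h) g s, e1, mul_neg, neg_neg, ← mul_assoc])
        (by
          rw [← mul_assoc h (g * h), show h * (g * h) = -(g * h * h) from a.rot.2.2, neg_mul,
            mul_assoc (g * h) h s, e2, mul_neg, neg_neg, ← mul_assoc])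
      rw [map_mul, mul_eq_one_iff_eq_inv'] at this
      rw [this]; exact inv_mem ((mem_VP h2 a).2 (Or.inr (Or.inr (Or.inr rfl))))
  refine le_antisymm hmem fun x hx => Subgroup.mem_centralizer_iff.2 fun y hy => ?_
  have := (isKleinFour_VP h2 a)
  have hall : ∀ z : VP g h, z⁻¹ = z := fun z => inv_eq_of_mul_eq_one_right (IsKleinFour.mul_self z)
  refine congrArg Subtype.val (show (⟨y, hy⟩ : VP g h) * ⟨x, hx⟩ = ⟨x, hx⟩ * ⟨y, hy⟩ from ?_)
  calc _ = ((⟨y, hy⟩ : VP g h) * ⟨x, hx⟩)⁻¹ := (hall _).symm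
    _ = _ := by rw [_root_.mul_inv_rev, hall, hall]

end CfsgLib.Geom.SL2Anti
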