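import Mathlib
import Cfsg.Agent.Lib.Geom.DicksonPSL

set_option autoImplicit false

/-!
Dickson's list of subgroups of `PSL_2(q)`.
-/

namespace CfsgLib.Geom.Moebius

open Matrix
open scoped MatrixGroups
open MulAction (orbit)

variable {F : Type*} [Field F] [Fintype F]

/-- Divides `(q + 1)/d` or `(q - 1)/d`. -/
def TorusDvd (F : Type*) [Fintype F] (k : ℕ) : Prop :=
  k ∣ (Fintype.card F + 1) / Nat.gcd 2 (Fintype.card F - 1) ∨
    k ∣ (Fintype.card F - 1) / Nat.gcd 2 (Fintype.card F - 1)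

/-- The list of subgroups. -/
inductive DicksonType (H : Subgroup (ProjectiveSpecialLinearGroup (Fin 2) F)) : Prop
  | cyclic (k : ℕ) (hk : TorusDvd F k) (hc : IsCyclic H) (hcard : Nat.card H = k)
  | borel (P : Line F) (h : ∀ x ∈ H, Matrix.ProjectiveSpecialLinearGroup.toPGL x • P = P)
  | dihedral (n : ℕ) (hn : 2 ≤ n) (hk : TorusDvd F n) (hc : Nonempty (H ≃* DihedralGroup n))
      (hcard : Nat.card H = 2 * n)
  | tetrahedral (h : Nonempty (H ≃* alternatingGroup (Fin 4))) (hcard : Nat.card H = 12)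
  | octahedral (h : Nonempty (H ≃* Equiv.Perm (Fin 4))) (hcard : Nat.card H = 24)
  | icosahedral (h : Nonempty (H ≃* alternatingGroup (Fin 5))) (hcard : Nat.card H = 60)
  | subfieldPGL (K : Subfield F) (u : ℕ) (hu : 3 ≤ u) (hK : Nat.card K = u)
      (h : Nonempty (H ≃* ProjGenLinGroup (Fin 2) K)) (hcard : Nat.card H = (u + 1) * (u * (u - 1)))
  | subfieldPSL (K : Subfield F) (u : ℕ) (hu : 3 ≤ u) (hK : Nat.card K = u)
      (h : Nonempty (H ≃* ProjectiveSpecialLinearGroup (Fin 2) K))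
      (hcard : 2 * Nat.card H = (u + 1) * (u * (u - 1)))

theorem torusDvd_of_two_fixed {E : Type*} [Field E] (f : F →+* E)
    {x : ProjectiveSpecialLinearGroup (Fin 2) F} {P Q : Line E} (hPQ : P ≠ Q)
    (hP : pslExt f x • P = P) (hQ : pslExt f x • Q = Q) : TorusDvd F (orderOf x) := by
  rcases pow_eq_one_of_two_fixed f x hPQ hP hQ with e | e
  · exact Or.inl (orderOf_dvd_of_pow_eq_one e)
  · exact Or.inr (orderOf_dvd_of_pow_eq_one e)

theorem dickson (H : Subgroup (ProjectiveSpecialLinearGroup (Fin 2) F)) : DicksonType H := by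
  classical
  obtain ⟨p, hp⟩ := CharP.exists F
  obtain ⟨n, hprime, hq⟩ := FiniteField.card F p
  have := Fact.mk hprime
  set E := FiniteField.Extension F p 2
  set f := algebraMap F E
  have : CharP E p := charP_of_injective_ringHom f.injective p
  let _ : Fintype (Line E) := Fintype.ofFinite _
  have hE : QuadClosed f := quadClosed_extension p
  set G := H.map (pslExt f)
  let e : H ≃* G := H.equivMapOfInjective _ (pslExt_injective f)
  have : Finite G := Finite.of_equiv _ e.toEquiv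
  have hle : G ≤ (extHom f).range := by
    rintro _ ⟨x, -, rfl⟩
    exact ⟨_, rfl⟩
  have hfix : ∀ g ∈ G, ∃ P : Line E, g • P = P := by
    rintro _ ⟨x, -, rfl⟩
    exact exists_fixed f hE _
  have hcard : Nat.card H = Nat.card G := Nat.card_congr e.toEquiv
  have hinj : Function.Injective (extPt f) := fun a b h => by
    rcases point_cases a with rfl | ⟨s, rfl⟩ <;> rcases point_cases b with rfl | ⟨t, rfl⟩ <;>
      simp only [extPt_inf, extPt_pt] at h
    · rfl
    · exact absurd h.symm (pt_ne_inf _)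
    · exact absurd h (pt_ne_inf _)
    · rw [f.injective (pt_injective h)]
  cases orbit_cases G p hfix with
  | fixedPoint P hP =>
    by_cases hpara : paraAt G P = ∅
    · obtain ⟨hcyc, Q, hQP, hQ⟩ := stabAt_cyclic G P hpara
      have hst : stabAt G P = G := le_antisymm inf_le_left fun g hg => (mem_stabAt G).2 ⟨hg, hP g hg⟩
      rw [hst] at hcyc hQ
      have hcH : IsCyclic H := e.isCyclic.2 hcyc
      obtain ⟨⟨r, hr⟩, hr'⟩ := hcH.exists_ofOrder_eq_natCard
      refine .cyclic (Nat.card H) ?_ hcH rfl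
      rw [← hr', Subgroup.orderOf_mk]
      exact torusDvd_of_two_fixed f hQP.symm (hP _ ⟨r, hr, rfl⟩) (hQ _ ⟨r, hr, rfl⟩)
    · obtain ⟨g, hgG, -, hgu⟩ := Set.nonempty_iff_ne_empty.2 hpara
      obtain ⟨g', rfl⟩ := hle hgG
      obtain ⟨P', rfl⟩ := rational_of_unique f hE hgu
      refine .borel P' fun x hx => hinj ?_
      rw [← extHom_smul]
      exact hP _ ⟨x, hx, rfl⟩
  | dihedral P h1 h2 h3 =>
    obtain ⟨k, hk, hk2, ⟨i⟩, hG, r, hr, hrk⟩ := dihedral_type hfix P h1 h2 h3
    refine .dihedral k hk2 ?_ ⟨e.trans i⟩ (hcard.trans hG)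
    obtain ⟨hrG, hrP⟩ := (mem_stabAt G).1 hr
    obtain ⟨x, hx, rfl⟩ := hrG
    obtain ⟨-, Q, hQP, hQ⟩ := stabAt_cyclic G P h1
    rw [orderOf_injective _ (pslExt_injective f)] at hrk
    rw [← hrk]
    exact torusDvd_of_two_fixed f hQP.symm hrP (hQ _ hr)
  | tetrahedral P h hP =>
    obtain ⟨i⟩ := tetrahedral_type h hP
    exact .tetrahedral ⟨e.trans i⟩ (hcard.trans h)
  | octahedral P h hP =>
    obtain ⟨i⟩ := octahedral_type hfix h hP
    exact .octahedral ⟨e.trans i⟩ (hcard.trans h)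
  | icosahedral P Q R h hP hQ hR hcov =>
    obtain ⟨i⟩ := icosahedral_type p hfix h (Or.inl ⟨P, Q, R, hP, hQ, hR, hcov⟩)
    exact .icosahedral ⟨e.trans i⟩ (hcard.trans h)
  | icosahedralThree P Q h hP hQ hcov =>
    obtain ⟨i⟩ := icosahedral_type p hfix h (Or.inr ⟨P, Q, hP, hQ, hcov⟩)
    exact .icosahedral ⟨e.trans i⟩ (hcard.trans h)
  | subline P u k hu hP hk =>
    obtain ⟨K, hK, ⟨⟨i⟩, hc⟩ | ⟨⟨i⟩, hc⟩⟩ := subfield_of_subline f hle p hE hu hP hk
    · exact .subfieldPGL K u hu hK ⟨e.trans i⟩ (hcard.trans hc)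
    · exact .subfieldPSL K u hu hK ⟨e.trans i⟩ (hcard ▸ hc)

/-- A subfield has a power equal to the field order. -/
theorem subfield_card_pow (K : Subfield F) {u : ℕ} (hK : Nat.card K = u) :
    ∃ m, 1 ≤ m ∧ u ^ m = Fintype.card F :=
  ⟨Module.finrank K F, Module.finrank_pos, by
    rw [← Nat.card_eq_fintype_card, Module.natCard_eq_pow_finrank (K := K), hK]⟩

end CfsgLib.Geom.Moebius
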