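import Mathlib
import Cfsg.Agent.Lib.Geom.MoebiusBasic
import Cfsg.Agent.Lib.Classical.PSLTwoPerm

set_option autoImplicit false

/-!
Involutions of the projective line in characteristic two.
-/

namespace CfsgLib.Geom.Moebius

open Matrix
open scoped MatrixGroups

variable {E : Type*} [Field E] [Finite E]

omit [Finite E] in
theorem sq_eq_one_charTwo (h2 : (2 : E) = 0) {a : Eˣ} (h : a * a = 1) : a = 1 := by
  have e : (a : E) * (a : E) = 1 := by rw [← Units.val_mul, h, Units.val_one]
  refine Units.ext (sub_eq_zero.1 (mul_self_eq_zero.1 ?_))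
  rw [Units.val_one]
  linear_combination e + ((1 : E) - a) * h2

theorem involution_unique_fixed (h2 : (2 : E) = 0) {g : PGL(2, E)} (hg : g * g = 1) (hne : g ≠ 1) :
    ∃ P : Line E, g • P = P ∧ ∀ Q : Line E, g • Q = Q → Q = P := by
  classical
  have : Fintype E := Fintype.ofFinite _
  have : Fintype (Line E) := Fintype.ofFinite _
  have heven : Even (Fintype.card E) := by
    rw [Nat.even_iff]
    refine FiniteField.even_card_iff_char_two.1 ?_
    have hd : ringChar E ∣ 2 := (ringChar.spec E 2).1 (by exact_mod_cast h2)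
    exact ((Nat.dvd_prime Nat.prime_two).1 hd).resolve_left CharP.ringChar_ne_one
  have hcard : ¬ 2 ∣ Fintype.card (Line E) := by
    rw [← Nat.card_eq_fintype_card, CfsgLib.Classical.card_line]
    obtain ⟨j, hj⟩ := heven
    omega
  have hσ : (MulAction.toPerm g : Equiv.Perm (Line E)) ^ 2 ^ 1 = 1 := by
    refine Equiv.ext fun P => ?_
    show g • g • P = P
    rw [← mul_smul, hg, one_smul]
  have : Fact (Nat.Prime 2) := ⟨Nat.prime_two⟩
  obtain ⟨P, hP⟩ := Equiv.Perm.exists_fixed_point_of_prime hcard hσ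
  have hP' : g • P = P := hP
  refine ⟨P, hP', fun Q hQ => ?_⟩
  obtain ⟨m, rfl⟩ := exists_map1 P
  have hfix : (m⁻¹ * g * m) • (inf : Line E) = inf := by rw [mul_smul, mul_smul, hP', inv_smul_smul]
  obtain ⟨a, b, hab⟩ := exists_aff_of_fix hfix
  have hsq : aff (a * a) (a * b + b) = aff (1 : Eˣ) 0 := by
    rw [← aff_mul, ← hab, aff_one, show m⁻¹ * g * m * (m⁻¹ * g * m) = m⁻¹ * (g * g) * m by group, hg]
    group
  have ha := sq_eq_one_charTwo h2 (aff_inj hsq).1
  have hQ' : aff a b • (m⁻¹ • Q) = m⁻¹ • Q := by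
    rw [← hab, mul_smul, mul_smul, smul_inv_smul, hQ]
  rcases fixed_aff_cases hQ' with e | ⟨e, -⟩ | ⟨-, e⟩
  · rw [← e, smul_inv_smul]
  · exact absurd ha e
  · exfalso
    rw [ha, e, aff_one, mul_eq_one_iff_eq_inv, inv_mul_eq_iff_eq_mul, mul_inv_cancel] at hab
    exact hne hab

end CfsgLib.Geom.Moebius
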