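import Mathlib
import Cfsg.Agent.Lib.Geom.DicksonPSL
import Cfsg.Agent.Lib.Classical.PSLTwoPerm

set_option autoImplicit false

/-!
Subfield subgroups of `PSL_2`.
-/

namespace CfsgLib.Geom.Moebius

open Matrix
open scoped MatrixGroups

theorem exists_ringHom_of_card_pow (K F : Type*) [Field K] [Fintype K] [Field F] [Fintype F] (m : ℕ)
    (hm : 1 ≤ m) (h : Fintype.card K ^ m = Fintype.card F) : Nonempty (K →+* F) := by
  obtain ⟨p, hp⟩ := CharP.exists K
  obtain ⟨a, hprime, ha⟩ := FiniteField.card K p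
  have := Fact.mk hprime
  obtain ⟨r, hr⟩ := CharP.exists F
  obtain ⟨b, rprime, hb⟩ := FiniteField.card F r
  have hpr : p = r := by
    refine ((Nat.prime_dvd_prime_iff_eq rprime hprime).1 (rprime.dvd_of_dvd_pow (n := (a : ℕ) * m) ?_)).symm
    rw [pow_mul, ← ha, h, hb]
    exact dvd_pow_self r b.ne_zero
  subst hpr
  let _ := ZMod.algebra K p
  let _ := ZMod.algebra F p
  have hdvd : Module.finrank (ZMod p) K ∣ Module.finrank (ZMod p) F := by
    refine ⟨m, Nat.pow_right_injective hprime.two_le ?_⟩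
    show p ^ Module.finrank (ZMod p) F = p ^ (Module.finrank (ZMod p) K * m)
    have e1 := Module.card_eq_pow_finrank (K := ZMod p) (V := K)
    have e2 := Module.card_eq_pow_finrank (K := ZMod p) (V := F)
    rw [ZMod.card] at e1 e2
    rw [pow_mul, ← e1, ← e2, h]
  obtain ⟨φ⟩ := FiniteField.nonempty_algHom_of_finrank_dvd (F := ZMod p) (K := K) (L := F) hdvd
  exact ⟨φ.toRingHom⟩

variable {K F : Type*} [Field K] [Field F] (f : K →+* F)

/-- A subgroup of `PSL_2(F)` matching a group that embeds in `PGL_2(F)` inside the image of `PSL_2(F)`. -/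
theorem exists_subgroup_of_range {A : Type*} [Group A] (φ : A →* PGL(2, F)) (hφ : Function.Injective φ)
    (h : φ.range ≤ (Matrix.ProjectiveSpecialLinearGroup.toPGL (n := Fin 2) (R := F)).range) :
    ∃ H : Subgroup (ProjectiveSpecialLinearGroup (Fin 2) F), Nonempty (H ≃* A) := by
  refine ⟨φ.range.comap Matrix.ProjectiveSpecialLinearGroup.toPGL, ⟨?_⟩⟩
  refine ((φ.range.comap _).equivMapOfInjective _ Matrix.ProjectiveSpecialLinearGroup.toPGL_injective).trans ?_
  exact (MulEquiv.subgroupCongr (Subgroup.map_comap_eq_self h)).trans (MonoidHom.ofInjective hφ).symm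

theorem mk_mem_range_of_sq (A : GL (Fin 2) F) {c : F} (h : (A : Matrix (Fin 2) (Fin 2) F).det = c * c) :
    ProjGenLinGroup.mk A ∈ (Matrix.ProjectiveSpecialLinearGroup.toPGL (n := Fin 2) (R := F)).range := by
  have hc : c ≠ 0 := by
    intro e
    have := A.det.ne_zero
    rw [GeneralLinearGroup.val_det_apply, h, e, mul_zero] at this
    exact this rfl
  let x : SL(2, F) := ⟨c⁻¹ • (A : Matrix (Fin 2) (Fin 2) F), by
    rw [Matrix.det_smul, h, Fintype.card_fin]; field_simp⟩
  refine ⟨QuotientGroup.mk x, (ProjGenLinGroup.mk_eq_mk_iff).2 ⟨Units.mk0 c hc, Units.ext ?_⟩⟩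
  show (c⁻¹ • (A : Matrix (Fin 2) (Fin 2) F)) * Matrix.scalar (Fin 2) c = _
  rw [Matrix.scalar_apply, ← Matrix.smul_one_eq_diagonal, Matrix.mul_smul, mul_one, smul_smul,
    mul_inv_cancel₀ hc, one_smul]

theorem exists_psl_subfield (f : K →+* F) : ∃ H : Subgroup (ProjectiveSpecialLinearGroup (Fin 2) F),
    Nonempty (H ≃* ProjectiveSpecialLinearGroup (Fin 2) K) := by
  refine exists_subgroup_of_range (pslExt f) (pslExt_injective f) ?_
  rintro _ ⟨x, rfl⟩
  obtain ⟨y, rfl⟩ := QuotientGroup.mk_surjective x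
  exact ⟨QuotientGroup.mk (Matrix.SpecialLinearGroup.map f y), congrArg ProjGenLinGroup.mk (Units.ext rfl)⟩

theorem exists_pgl_subfield (hsq : ∀ a : K, IsSquare (f a)) :
    ∃ H : Subgroup (ProjectiveSpecialLinearGroup (Fin 2) F), Nonempty (H ≃* ProjGenLinGroup (Fin 2) K) := by
  refine exists_subgroup_of_range (extHom f) (extHom_injective f) ?_
  rintro _ ⟨x, rfl⟩
  obtain ⟨A, rfl⟩ := ProjGenLinGroup.mk_surjective x
  obtain ⟨c, hc⟩ := hsq (A : Matrix (Fin 2) (Fin 2) K).det
  exact mk_mem_range_of_sq _ (c := c) (by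
    rw [← hc, RingHom.map_det]; rfl)

theorem isSquare_of_even_degree [Fintype K] [Fintype F] (h2 : (2 : F) ≠ 0) {m : ℕ} (hm : Even m)
    (h : Fintype.card K ^ m = Fintype.card F) (a : K) : IsSquare (f a) := by
  rcases eq_or_ne a 0 with rfl | ha
  · rw [map_zero]; exact IsSquare.zero
  obtain ⟨t, rfl⟩ := hm
  have hodd := FiniteField.odd_card_of_char_ne_two (ringChar_ne_two_of_ne h2)
  rw [FiniteField.isSquare_iff (ringChar_ne_two_of_ne h2) ((map_ne_zero f).2 ha), ← map_pow]
  have hk : Odd (Fintype.card K) := by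
    rcases Nat.even_or_odd (Fintype.card K) with he | he
    · exfalso
      rcases Nat.eq_zero_or_pos t with rfl | ht
      · have := Fintype.one_lt_card (α := F); simp at h; omega
      · have := (Nat.even_pow' (by omega : t + t ≠ 0)).2 he
        rw [h] at this
        exact Nat.not_even_iff_odd.2 (Nat.odd_iff.2 hodd) this
    · exact he
  obtain ⟨s, hs⟩ : Fintype.card K ^ 2 - 1 ∣ Fintype.card F - 1 := by
    rw [← h, show t + t = 2 * t by ring, pow_mul]
    simpa only [one_pow] using Nat.sub_dvd_pow_sub_pow (Fintype.card K ^ 2) 1 t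
  obtain ⟨j, hj⟩ := hk
  have hdiv : Fintype.card F / 2 = (Fintype.card K - 1) * ((j + 1) * s) := by
    have h1 : Fintype.card K ^ 2 - 1 = 2 * ((Fintype.card K - 1) * (j + 1)) := by
      rw [hj, Nat.add_sub_cancel]; exact Nat.sub_eq_of_eq_add (by ring)
    rw [h1, mul_assoc, mul_assoc] at hs
    omega
  rw [hdiv, pow_mul, FiniteField.pow_card_sub_one_eq_one a ha, one_pow, map_one]

theorem odd_geom (a t : ℕ) (ha : Odd a) :
    ∃ S, Odd S ∧ a ^ (2 * t + 1) = (a - 1) * S + 1 := by
  obtain ⟨b, rfl⟩ : ∃ b, a = b + 1 := ⟨a - 1, by have := ha.pos; omega⟩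
  have hb : Even b := by rcases Nat.even_or_odd b with h | h
                         · exact h
                         · exact absurd ha (Nat.not_odd_iff_even.2 h.add_one)
  induction t with
  | zero => exact ⟨1, odd_one, by simp⟩
  | succ t ih =>
    obtain ⟨S, hS, e⟩ := ih
    refine ⟨(b + 1) ^ 2 * S + (b + 2), ?_, ?_⟩
    · have h1 : Odd ((b + 1) ^ 2 * S) := (ha.pow).mul hS
      exact h1.add_even (hb.add even_two)
    · rw [show 2 * (t + 1) + 1 = 2 * t + 1 + 2 by ring, pow_add, e, Nat.add_sub_cancel]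
      ring

theorem not_pgl_subfield [Fintype K] [Fintype F] (hodd : Odd (Fintype.card F)) {m : ℕ} (hm : Odd m)
    (h : Fintype.card K ^ m = Fintype.card F)
    (H : Subgroup (ProjectiveSpecialLinearGroup (Fin 2) F)) (e : H ≃* ProjGenLinGroup (Fin 2) K) : False := by
  have hdvd := H.card_subgroup_dvd_card
  rw [Nat.card_congr e.toEquiv, CfsgLib.Classical.card_pgl, CfsgLib.Classical.card_sl_two_eq] at hdvd
  have hpsl := CfsgLib.Classical.card_psl_two_mul (F := F)
  have hq : 1 < Fintype.card F := Fintype.one_lt_card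
  have hgcd : Nat.gcd 2 (Fintype.card F - 1) = 2 := Nat.gcd_eq_left (by
    rcases hodd with ⟨j, hj⟩; exact ⟨j, by omega⟩)
  rw [hgcd, ← h] at hpsl
  have hk : Odd (Fintype.card K) := by
    rcases Nat.even_or_odd (Fintype.card K) with he | he
    · exact absurd ((Nat.even_pow' hm.pos.ne').2 he) (by rw [h]; exact Nat.not_even_iff_odd.2 hodd)
    · exact he
  obtain ⟨t, rfl⟩ := hm
  obtain ⟨S, hS, eS⟩ := odd_geom (Fintype.card K ^ 2) t hk.pow
  rw [show (Fintype.card K ^ (2 * t + 1)) ^ 2 - 1 = (Fintype.card K ^ 2 - 1) * S by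
    rw [← pow_mul, mul_comm, pow_mul, eS, Nat.add_sub_cancel]] at hpsl
  obtain ⟨c, hc⟩ := hdvd
  rw [hc] at hpsl
  have hpos : 0 < Fintype.card K ^ 2 - 1 := by
    have := Nat.one_lt_pow two_ne_zero (Fintype.one_lt_card (α := K))
    omega
  have h2 : 2 * (Fintype.card K * c) = Fintype.card K ^ (2 * t + 1) * S := by
    refine Nat.eq_of_mul_eq_mul_left hpos ?_
    linear_combination hpsl
  have ho : Odd (Fintype.card K ^ (2 * t + 1) * S) := hk.pow.mul hS
  exact Nat.not_even_iff_odd.2 ho ⟨Fintype.card K * c, by omega⟩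

end CfsgLib.Geom.Moebius
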