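import Mathlib
import Cfsg.Agent.Lib.Geom.DicksonPSL
import Cfsg.Agent.Lib.Geom.SubfieldPSL

set_option autoImplicit false

/-!
Stabilisers in `PGL_2(F)` of a pair of points defined over a quadratic extension: the normalisers of the two tori.
-/

namespace CfsgLib.Geom.Moebius

open Matrix
open scoped MatrixGroups Pointwise
open MulAction (orbit stabilizer)

variable {F E : Type*} [Field F] [Field E] (f : F →+* E)

theorem extPt_injective : Function.Injective (extPt f) := fun a b h => by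
  rcases point_cases a with rfl | ⟨s, rfl⟩ <;> rcases point_cases b with rfl | ⟨t, rfl⟩ <;>
    simp only [extPt_inf, extPt_pt] at h
  · rfl
  · exact absurd h.symm (pt_ne_inf _)
  · exact absurd h (pt_ne_inf _)
  · rw [f.injective (pt_injective h)]

/-- The elements fixing a point over the extension. -/
noncomputable def fixExt (P : Line E) : Subgroup PGL(2, F) := (stabilizer PGL(2, E) P).comap (extHom f)

theorem mem_fixExt {P : Line E} {g : PGL(2, F)} : g ∈ fixExt f P ↔ extHom f g • P = P := Iff.rfl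

/-- The elements stabilising a pair of points over the extension. -/
noncomputable def pairStab (P Q : Line E) : Subgroup PGL(2, F) :=
  (stabilizer PGL(2, E) ({P, Q} : Set (Line E))).comap (extHom f)

theorem mem_pairStab {P Q : Line E} {g : PGL(2, F)} : g ∈ pairStab f P Q ↔
    (extHom f g • P = P ∧ extHom f g • Q = Q) ∨ (extHom f g • P = Q ∧ extHom f g • Q = P) := by
  show extHom f g • ({P, Q} : Set (Line E)) = {P, Q} ↔ _
  rw [Set.smul_set_insert, Set.smul_set_singleton, Set.pair_eq_pair_iff]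

/-- The image of `SL_2`. -/
theorem range_toGL_eq : (Matrix.ProjGenLinGroup.mk.comp Matrix.SpecialLinearGroup.toGL).range =
    (Matrix.ProjectiveSpecialLinearGroup.toPGL (n := Fin 2) (R := F)).range := by
  ext x
  constructor
  · rintro ⟨y, rfl⟩; exact ⟨QuotientGroup.mk y, rfl⟩
  · rintro ⟨y, rfl⟩
    obtain ⟨z, rfl⟩ := QuotientGroup.mk_surjective y
    exact ⟨z, rfl⟩

/-- Abbreviation for the image of `PSL_2` in `PGL_2`. -/
abbrev imL (F : Type*) [Field F] : Subgroup PGL(2, F) :=
  (Matrix.ProjectiveSpecialLinearGroup.toPGL (n := Fin 2) (R := F)).range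

theorem isSquare_det_of_mem_imL {A : GL (Fin 2) F} (h : ProjGenLinGroup.mk A ∈ imL F) :
    IsSquare (A : Matrix (Fin 2) (Fin 2) F).det := by
  obtain ⟨x, hx⟩ := h
  obtain ⟨y, rfl⟩ := QuotientGroup.mk_surjective x
  obtain ⟨c, hc⟩ := (ProjGenLinGroup.mk_eq_mk_iff).1 (show ProjGenLinGroup.mk (Matrix.SpecialLinearGroup.toGL y) =
    ProjGenLinGroup.mk A from hx)
  refine ⟨(c : F), ?_⟩
  have h := congrArg (fun B : GL (Fin 2) F => (B : Matrix (Fin 2) (Fin 2) F).det) hc
  simp only [Units.val_mul, Matrix.det_mul] at h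
  rw [← h]
  show (y : Matrix (Fin 2) (Fin 2) F).det * (Matrix.scalar (Fin 2) (c : F)).det = _
  rw [y.2, one_mul, Matrix.scalar_apply, Matrix.det_diagonal, Fin.prod_univ_two]

theorem imL_normal : (imL F).Normal := by
  refine ⟨fun n hn g => ?_⟩
  obtain ⟨A, rfl⟩ := ProjGenLinGroup.mk_surjective g
  obtain ⟨B, rfl⟩ := ProjGenLinGroup.mk_surjective n
  obtain ⟨c, hc⟩ := isSquare_det_of_mem_imL hn
  rw [← map_inv, ← map_mul, ← map_mul]
  refine mk_mem_range_of_sq _ (c := c) ?_
  rw [← hc, Units.val_mul, Units.val_mul, Matrix.det_mul, Matrix.det_mul, mul_right_comm, ← Matrix.det_mul,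
    Units.mul_inv, Matrix.det_one, one_mul]

variable [Fintype F]

theorem card_pgl_two :
    Nat.card PGL(2, F) = (Fintype.card F + 1) * (Fintype.card F * (Fintype.card F - 1)) := by
  rw [CfsgLib.Classical.card_pgl, CfsgLib.Classical.card_sl_two_eq,
    show Fintype.card F ^ 2 - 1 = (Fintype.card F + 1) * (Fintype.card F - 1) from by rw [← Nat.sq_sub_sq, one_pow]]
  ring

theorem finite_pgl_two : Finite PGL(2, F) := Finite.of_surjective _ ProjGenLinGroup.mk_surjective

theorem card_imL_two :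
    Nat.gcd 2 (Fintype.card F - 1) * Nat.card (imL F) = (Fintype.card F + 1) * (Fintype.card F * (Fintype.card F - 1)) := by
  rw [← Nat.card_congr (MonoidHom.ofInjective Matrix.ProjectiveSpecialLinearGroup.toPGL_injective).toEquiv]
  have h := CfsgLib.Classical.card_psl_two_mul (F := F)
  rw [show Fintype.card F ^ 2 - 1 = (Fintype.card F + 1) * (Fintype.card F - 1) from by rw [← Nat.sq_sub_sq, one_pow]] at h
  linarith [h]

theorem gcd_two_of_odd (hodd : Odd (Fintype.card F)) : Nat.gcd 2 (Fintype.card F - 1) = 2 := by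
  obtain ⟨j, hj⟩ := hodd
  exact Nat.gcd_eq_left ⟨j, by omega⟩

theorem gcd_two_of_even (heven : Even (Fintype.card F)) : Nat.gcd 2 (Fintype.card F - 1) = 1 := by
  obtain ⟨j, hj⟩ := heven
  have := Fintype.one_lt_card (α := F)
  rcases (Nat.dvd_prime Nat.prime_two).1 (Nat.gcd_dvd_left 2 (Fintype.card F - 1)) with h | h
  · exact h
  · have := Nat.gcd_dvd_right 2 (Fintype.card F - 1)
    rw [h] at this
    omega

theorem imL_index (hodd : Odd (Fintype.card F)) : (imL F).index = 2 := by
  have := finite_pgl_two (F := F)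
  have h := (imL F).index_mul_card
  have h2 := card_imL_two (F := F)
  rw [gcd_two_of_odd hodd] at h2
  rw [card_pgl_two, ← h2] at h
  exact Nat.eq_of_mul_eq_mul_right Nat.card_pos h

theorem imL_eq_top (heven : Even (Fintype.card F)) : imL F = ⊤ := by
  have := finite_pgl_two (F := F)
  have h2 := card_imL_two (F := F)
  rw [gcd_two_of_even heven, one_mul, ← card_pgl_two] at h2
  exact Subgroup.eq_top_of_card_eq _ h2

/-- Elements fixing a point that is not rational. -/
theorem card_fixExt (hE : Nat.card E = Fintype.card F ^ 2) {α : E} (hα : ∀ x, f x ≠ α) :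
    Nat.card (fixExt f (pt α)) = Fintype.card F + 1 := by
  classical
  have : Finite E := Nat.finite_of_card_ne_zero (by rw [hE]; exact pow_ne_zero _ Fintype.card_ne_zero)
  have := finite_pgl_two (F := F)
  let act : MulAction PGL(2, F) (Line E) := MulAction.compHom _ (extHom f)
  -- the affine maps are simply transitive on the points off the line
  have hinj : Function.Injective (fun p : F × F => f p.1 * α + f p.2) := by
    rintro ⟨a, b⟩ ⟨c, d⟩ h
    simp only at h
    by_cases hac : a = c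
    · subst hac
      simp only [Prod.mk.injEq, true_and]
      exact f.injective (add_left_cancel h)
    · refine absurd ?_ (hα ((d - b) / (a - c)))
      rw [map_div₀, map_sub, map_sub, div_eq_iff (sub_ne_zero.2 fun e => hac (f.injective e))]
      linear_combination -h
  have hsurj : Function.Surjective (fun p : F × F => f p.1 * α + f p.2) :=
    ((Nat.bijective_iff_injective_and_card _).2 ⟨hinj, by
      rw [Nat.card_prod, hE, Nat.card_eq_fintype_card, sq]⟩).2
  have horb : MulAction.orbit PGL(2, F) (pt α : Line E) = pt '' (Set.range f)ᶜ := by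
    ext P
    constructor
    · rintro ⟨g, rfl⟩
      have hno : ∀ R : Line F, extHom f g • (pt α : Line E) ≠ extPt f R := by
        intro R e
        have e' : (pt α : Line E) = extPt f (g⁻¹ • R) := by
          rw [← extHom_smul, map_inv, ← e, inv_smul_smul]
        rcases point_cases (g⁻¹ • R) with h | ⟨x, h⟩ <;> rw [h] at e'
        · exact pt_ne_inf _ (e'.trans (extPt_inf f))
        · exact hα x (pt_injective (e'.trans (extPt_pt f x))).symm
      rcases point_cases (extHom f g • (pt α : Line E)) with h | ⟨x, h⟩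
      · exact absurd (h.trans (extPt_inf f).symm) (hno inf)
      · exact ⟨x, fun ⟨y, hy⟩ => hno (pt y) (by rw [h, extPt_pt, hy]), h.symm⟩
    · rintro ⟨β, hβ, rfl⟩
      obtain ⟨⟨a, b⟩, hab⟩ := hsurj β
      have ha : a ≠ 0 := fun e => hβ ⟨b, by rw [← hab]; simp [e]⟩
      refine ⟨aff (Units.mk0 a ha) b, ?_⟩
      show extHom f _ • pt α = pt β
      rw [extHom_aff, aff_smul_pt, ← hab]
      rfl
  have h := (MulAction.stabilizer PGL(2, F) (pt α : Line E)).index_mul_card
  rw [MulAction.index_stabilizer, horb, Set.ncard_image_of_injective _ pt_injective, Set.ncard_compl,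
    Set.ncard_range_of_injective f.injective, hE, Nat.card_eq_fintype_card, card_pgl_two] at h
  have e : fixExt f (pt α) = MulAction.stabilizer PGL(2, F) (pt α : Line E) := rfl
  rw [e]
  have hq := Fintype.one_lt_card (α := F)
  rw [show Fintype.card F ^ 2 - Fintype.card F = Fintype.card F * (Fintype.card F - 1) by
    rw [Nat.mul_sub, mul_one, sq], mul_comm (Fintype.card F + 1)] at h
  exact Nat.eq_of_mul_eq_mul_left (Nat.mul_pos (by omega) (by omega)) h

/-- The torus of a point off the line and its second fixed point. -/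
theorem torus_nonrational [Fintype (Line E)] (hE : Nat.card E = Fintype.card F ^ 2) (hQC : QuadClosed f) {P : Line E}
    (hP : ∀ R, extPt f R ≠ P) : ∃ Q, Q ≠ P ∧ fixExt f P ≤ fixExt f Q ∧ IsCyclic (fixExt f P) ∧
      Nat.card (fixExt f P) = Fintype.card F + 1 ∧ ∃ s, extHom f s • P = Q ∧ extHom f s • Q = P := by
  classical
  obtain ⟨α, rfl⟩ : ∃ α, P = pt α := (point_cases P).resolve_left fun e => hP inf (by rw [e, extPt_inf])
  have hα : ∀ x, f x ≠ α := fun x e => hP (pt x) (by rw [extPt_pt, e])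
  have := finite_pgl_two (F := F)
  set T := fixExt f (pt α)
  have hcard := card_fixExt f hE hα
  set G := T.map (extHom f) with hG
  have : Finite G := Finite.of_equiv _ (T.equivMapOfInjective _ (extHom_injective f)).toEquiv
  have hGP : stabAt G (pt α) = G := le_antisymm inf_le_left fun g hg => (mem_stabAt G).2 ⟨hg, by
    obtain ⟨x, hx, rfl⟩ := hg; exact hx⟩
  have hpara : paraAt G (pt α) = ∅ := Set.eq_empty_iff_forall_notMem.2 fun g ⟨hg, hgP, hu⟩ => by
    obtain ⟨x, -, rfl⟩ := hg
    obtain ⟨R, hR⟩ := rational_of_unique f hQC hu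
    first
      | exact hP R hR.symm
      | exact hP R hR
  obtain ⟨hcyc, Q, hQP, hQ⟩ := stabAt_cyclic G _ hpara
  rw [hGP] at hcyc hQ
  refine ⟨Q, hQP, fun g hg => hQ _ ⟨g, hg, rfl⟩, (T.equivMapOfInjective _ (extHom_injective f)).isCyclic.2 hcyc,
    hcard, ?_⟩
  obtain ⟨t, htT, ht1⟩ : ∃ t ∈ T, t ≠ 1 := by
    refine (Subgroup.bot_or_exists_ne_one T).resolve_left fun e => ?_
    change Nat.card T = _ at hcard
    rw [e, Subgroup.card_bot] at hcard
    have := Fintype.one_lt_card (α := F)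
    omega
  obtain ⟨β, rfl⟩ : ∃ β, Q = pt β := by
    refine (point_cases Q).resolve_left fun e => ?_
    have hfix : t • (inf : Line F) = inf := extPt_injective f (by
      rw [← extHom_smul, extPt_inf, ← e]; exact hQ _ ⟨t, htT, rfl⟩)
    obtain ⟨a, b, rfl⟩ := exists_aff_of_fix hfix
    have h1 : extHom f (aff a b) • (pt α : Line E) = pt α := htT
    rw [extHom_aff, aff_smul_pt] at h1
    have h2 : f (a : F) * α + f b = α := pt_injective h1
    by_cases ha : (a : F) = 1
    · rw [ha, map_one, one_mul, add_eq_left] at h2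
      refine ht1 ?_
      rw [show a = 1 from Units.ext ha, show b = 0 from f.injective (h2.trans (map_zero f).symm), aff_one]
    · refine hα (b / (1 - a)) ?_
      rw [map_div₀, map_sub, map_one, div_eq_iff (sub_ne_zero.2 fun e => ha (f.injective (by rw [map_one, ← e])))]
      linear_combination h2
  obtain ⟨A, rfl⟩ := ProjGenLinGroup.mk_surjective t
  have hv : ∀ γ : E, (![γ, 1] : Fin 2 → E) ≠ 0 := fun γ h => one_ne_zero (congrFun h 1)
  obtain ⟨μ, hμ⟩ := fixed_iff_eigen f A (hv α) htT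
  obtain ⟨ν, hν⟩ := fixed_iff_eigen f A (hv β) (hQ _ ⟨_, htT, rfl⟩)
  have r1 := congrFun hμ 0; have r2 := congrFun hμ 1
  have r3 := congrFun hν 0; have r4 := congrFun hν 1
  rw [map_mulVec_two] at r1 r2 r3 r4
  simp at r1 r2 r3 r4
  set a := (A : Matrix (Fin 2) (Fin 2) F) 0 0 with ha
  set b := (A : Matrix (Fin 2) (Fin 2) F) 0 1 with hb
  set c := (A : Matrix (Fin 2) (Fin 2) F) 1 0 with hc
  set d := (A : Matrix (Fin 2) (Fin 2) F) 1 1 with hd
  have hβα : β ≠ α := fun e => hQP (by rw [e])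
  have key : f c * (α + β) = f (a - d) := by
    refine mul_left_cancel₀ (sub_ne_zero.2 hβα) ?_
    rw [map_sub]
    linear_combination r1 + α * (-r2) - r3 + β * r4
  have hc0 : c ≠ 0 := by
    intro e
    rw [e, map_zero, zero_mul] at key
    have had : a = d := sub_eq_zero.1 (f.injective (key.symm.trans (map_zero f).symm))
    rw [e, map_zero, zero_mul, zero_add] at r2
    rw [← r2, had, add_comm] at r1
    have hb0 : b = 0 := f.injective (by rw [map_zero]; linear_combination r1)
    refine ht1 (ProjGenLinGroup.mk_eq_one.2 ?_)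
    rw [GeneralLinearGroup.center_eq_range_scalar]
    refine ⟨Units.mk0 d fun h => ?_, Units.ext ?_⟩
    · have := A.det.ne_zero
      rw [GeneralLinearGroup.val_det_apply, det_fin_two, ← ha, ← hb, ← hc, ← hd, had, h, hb0] at this
      simp at this
    · ext i j
      fin_cases i <;> fin_cases j <;> simp [← ha, ← hb, ← hc, ← hd, had, hb0, e]
  refine ⟨aff (-1) ((a - d) / c), ?_, ?_⟩ <;>
    rw [extHom_aff, aff_smul_pt, map_div₀, ← key, mul_div_cancel_left₀ _ ((map_ne_zero f).2 hc0)] <;>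
    congr 1 <;> simp

/-- The split torus: elements fixing two rational points. -/
theorem torus_rational {P Q : Line F} (hPQ : P ≠ Q) :
    IsCyclic (fixExt f (extPt f P) ⊓ fixExt f (extPt f Q) : Subgroup PGL(2, F)) ∧
      Nat.card (fixExt f (extPt f P) ⊓ fixExt f (extPt f Q) : Subgroup PGL(2, F)) = Fintype.card F - 1 ∧
      ∃ s, extHom f s • extPt f P = extPt f Q ∧ extHom f s • extPt f Q = extPt f P := by
  obtain ⟨g, hg1, hg2⟩ := exists_map2 hPQ
  let φ : Fˣ →* PGL(2, F) :=
    MonoidHom.mk' (fun a => g * aff a 0 * g⁻¹) fun a b => by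
      rw [show g * aff a 0 * g⁻¹ * (g * aff b 0 * g⁻¹) = g * (aff a 0 * aff b 0) * g⁻¹ by group, aff_mul]
      simp
  have hinj : Function.Injective φ := fun a b h => (aff_inj (mul_left_cancel (mul_right_cancel h))).1
  have hmem : ∀ (x : PGL(2, F)) (R : Line F), x ∈ fixExt f (extPt f R) ↔ x • R = R := fun x R => by
    rw [mem_fixExt, extHom_smul]
    exact (extPt_injective f).eq_iff
  have e : (fixExt f (extPt f P) ⊓ fixExt f (extPt f Q) : Subgroup PGL(2, F)) = φ.range := by
    ext x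
    rw [Subgroup.mem_inf, hmem, hmem]
    constructor
    · rintro ⟨hP, hQ⟩
      have hP' : (g⁻¹ * x * g) • (inf : Line F) = inf := by rw [mul_smul, mul_smul, hg1, hP, ← hg1, inv_smul_smul]
      obtain ⟨a, b, hab⟩ := exists_aff_of_fix hP'
      have hQ' : (g⁻¹ * x * g) • pt (0 : F) = pt 0 := by rw [mul_smul, mul_smul, hg2, hQ, ← hg2, inv_smul_smul]
      rw [hab, aff_smul_pt, mul_zero, zero_add] at hQ'
      refine ⟨a, ?_⟩
      show g * aff a 0 * g⁻¹ = x
      rw [← pt_injective hQ', ← hab]; group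
    · rintro ⟨a, rfl⟩
      show (g * aff a 0 * g⁻¹) • P = P ∧ (g * aff a 0 * g⁻¹) • Q = Q
      rw [mul_smul, mul_smul, mul_smul, mul_smul, ← hg1, ← hg2, inv_smul_smul, inv_smul_smul, aff_smul_inf,
        aff_smul_pt]
      simp
  rw [e]
  refine ⟨isCyclic_of_surjective φ.rangeRestrict φ.rangeRestrict_surjective, ?_, g * swapElem * g⁻¹, ?_, ?_⟩
  · rw [← Nat.card_congr (MonoidHom.ofInjective hinj).toEquiv, Nat.card_units, Nat.card_eq_fintype_card]
  · rw [extHom_smul, mul_smul, mul_smul, ← hg1, inv_smul_smul, swap_smul_inf, hg2]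
  · rw [extHom_smul, mul_smul, mul_smul, ← hg2, inv_smul_smul, swap_smul_zero, hg1]

/-- The torus of any pair of points fixed by a non-trivial element. -/
theorem torus_pair [Fintype (Line E)] (hE : Nat.card E = Fintype.card F ^ 2) (hQC : QuadClosed f) {P Q : Line E}
    (hPQ : P ≠ Q) {g : PGL(2, F)} (hg : g ≠ 1) (hgP : extHom f g • P = P) (hgQ : extHom f g • Q = Q) :
    IsCyclic (fixExt f P ⊓ fixExt f Q : Subgroup PGL(2, F)) ∧
      (Nat.card (fixExt f P ⊓ fixExt f Q : Subgroup PGL(2, F)) = Fintype.card F - 1 ∨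
        Nat.card (fixExt f P ⊓ fixExt f Q : Subgroup PGL(2, F)) = Fintype.card F + 1) ∧
      ∃ s, extHom f s • P = Q ∧ extHom f s • Q = P := by
  have hsame : ∀ {P Q : Line E}, P ≠ Q → extHom f g • P = P → extHom f g • Q = Q → (∀ R, extPt f R ≠ P) →
      fixExt f P ≤ fixExt f Q ∧ IsCyclic (fixExt f P) ∧ Nat.card (fixExt f P) = Fintype.card F + 1 ∧
        ∃ s, extHom f s • P = Q ∧ extHom f s • Q = P := by
    intro P Q hne h1 h2 hP
    obtain ⟨Q', hne', hle, hc, hcard, hs⟩ := torus_nonrational f hE hQC hP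
    obtain rfl : Q' = Q := by
      by_contra hne''
      exact hg (extHom_injective f (by
        rw [map_one]; exact eq_one_of_three hne'.symm hne (Ne.intro hne'') h1 (hle h1) h2))
    exact ⟨hle, hc, hcard, hs⟩
  by_cases hP : ∀ R, extPt f R ≠ P
  · obtain ⟨hle, hc, hcard, hs⟩ := hsame hPQ hgP hgQ hP
    rw [inf_eq_left.2 hle]
    exact ⟨hc, Or.inr hcard, hs⟩
  by_cases hQ : ∀ R, extPt f R ≠ Q
  · obtain ⟨hle, hc, hcard, s, hs1, hs2⟩ := hsame hPQ.symm hgQ hgP hQ
    rw [inf_eq_right.2 hle]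
    exact ⟨hc, Or.inr hcard, s, hs2, hs1⟩
  push Not at hP hQ
  obtain ⟨P, rfl⟩ := hP
  obtain ⟨Q, rfl⟩ := hQ
  obtain ⟨hc, hcard, hs⟩ := torus_rational f (fun e => hPQ (by rw [e]) : P ≠ Q)
  exact ⟨hc, Or.inl hcard, hs⟩

/-- The stabiliser of a pair in an ambient subgroup containing a swap is dihedral over the torus. -/
theorem pairStab_dihedral [Fintype (Line E)] (hQC : QuadClosed f) {P Q : Line E} (hPQ : P ≠ Q)
    (L : Subgroup PGL(2, F)) {s : PGL(2, F)} (hsL : s ∈ L) (hsP : extHom f s • P = Q) (hsQ : extHom f s • Q = P)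
    (h2 : 2 ≤ Nat.card (fixExt f P ⊓ fixExt f Q ⊓ L : Subgroup PGL(2, F))) :
    Nonempty ((pairStab f P Q ⊓ L : Subgroup PGL(2, F)) ≃*
        DihedralGroup (Nat.card (fixExt f P ⊓ fixExt f Q ⊓ L : Subgroup PGL(2, F)))) ∧
      Nat.card (pairStab f P Q ⊓ L : Subgroup PGL(2, F)) =
        2 * Nat.card (fixExt f P ⊓ fixExt f Q ⊓ L : Subgroup PGL(2, F)) := by
  have := finite_pgl_two (F := F)
  set S := (pairStab f P Q ⊓ L : Subgroup PGL(2, F))
  set G := S.map (extHom f)
  let e : S ≃* G := S.equivMapOfInjective _ (extHom_injective f)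
  have : Finite G := Finite.of_equiv _ e.toEquiv
  have hfix : ∀ g ∈ G, ∃ R : Line E, g • R = R := by
    rintro _ ⟨x, -, rfl⟩; exact exists_fixed f hQC x
  have horb : orbit G P = {P, Q} := by
    ext R
    constructor
    · rintro ⟨⟨_, ⟨x, ⟨hx, -⟩, rfl⟩⟩, rfl⟩
      rcases (mem_pairStab f).1 hx with ⟨h, -⟩ | ⟨h, -⟩
      · exact Or.inl h
      · exact Or.inr h
    · rintro (rfl | rfl)
      · exact MulAction.mem_orbit_self _
      · exact ⟨⟨extHom f s, s, ⟨(mem_pairStab f).2 (Or.inr ⟨hsP, hsQ⟩), hsL⟩, rfl⟩, hsP⟩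
  have hst : stabAt G P = (fixExt f P ⊓ fixExt f Q ⊓ L : Subgroup PGL(2, F)).map (extHom f) := by
    ext y
    rw [mem_stabAt]
    constructor
    · rintro ⟨⟨x, ⟨hx, hxL⟩, rfl⟩, hy⟩
      rcases (mem_pairStab f).1 hx with h | ⟨h, -⟩
      · exact ⟨x, ⟨h, hxL⟩, rfl⟩
      · exact absurd (hy.symm.trans h) hPQ
    · rintro ⟨x, ⟨⟨hxP, hxQ⟩, hxL⟩, rfl⟩
      exact ⟨⟨x, ⟨(mem_pairStab f).2 (Or.inl ⟨hxP, hxQ⟩), hxL⟩, rfl⟩, hxP⟩
  have hpara : paraAt G P = ∅ := Set.eq_empty_iff_forall_notMem.2 fun y ⟨hyG, hyP, hu⟩ => by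
    obtain ⟨x, ⟨⟨-, hxQ⟩, -⟩, rfl⟩ := hst.le ((mem_stabAt G).2 ⟨hyG, hyP⟩)
    exact hPQ (hu Q hxQ).symm
  have hcst : Nat.card (stabAt G P) = Nat.card (fixExt f P ⊓ fixExt f Q ⊓ L : Subgroup PGL(2, F)) := by
    rw [hst]; exact (Nat.card_congr (Subgroup.equivMapOfInjective _ _ (extHom_injective f)).toEquiv).symm
  obtain ⟨n, hn, -, ⟨i⟩, hG, -⟩ := dihedral_type hfix P hpara (by rw [horb, Set.ncard_pair hPQ])
    (by rw [hcst]; exact h2)
  rw [hn, hcst] at i hG
  exact ⟨⟨e.trans i⟩, (Nat.card_congr e.toEquiv).trans hG⟩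

/-- In odd characteristic half of each torus lies in the image of `SL_2`, and a swap does. -/
theorem torus_inf_imL [Fintype (Line E)] (hE : Nat.card E = Fintype.card F ^ 2) (hQC : QuadClosed f)
    (hodd : Odd (Fintype.card F)) (h4 : 4 ≤ Fintype.card F) {P Q : Line E} (hPQ : P ≠ Q) {g : PGL(2, F)} (hg : g ≠ 1)
    (hgP : extHom f g • P = P) (hgQ : extHom f g • Q = Q) :
    2 * Nat.card (fixExt f P ⊓ fixExt f Q ⊓ imL F : Subgroup PGL(2, F)) =
        Nat.card (fixExt f P ⊓ fixExt f Q : Subgroup PGL(2, F)) ∧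
      ∃ s ∈ imL F, extHom f s • P = Q ∧ extHom f s • Q = P := by
  classical
  obtain ⟨hc, hcard, s, hsP, hsQ⟩ := torus_pair f hE hQC hPQ hg hgP hgQ
  set T := (fixExt f P ⊓ fixExt f Q : Subgroup PGL(2, F))
  have := imL_normal (F := F)
  have hi := imL_index hodd
  have := finite_pgl_two (F := F)
  -- the torus is not contained in the image
  obtain ⟨t, htT, htL⟩ : ∃ t ∈ T, t ∉ imL F := by
    by_contra hall
    push Not at hall
    obtain ⟨⟨t, ht⟩, htord⟩ := hc.exists_ofOrder_eq_natCard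
    rw [Subgroup.orderOf_mk] at htord
    obtain ⟨x, rfl⟩ := hall t ht
    rw [orderOf_injective _ Matrix.ProjectiveSpecialLinearGroup.toPGL_injective] at htord
    have hq := Fintype.one_lt_card (α := F)
    have hd := gcd_two_of_odd hodd
    obtain ⟨j, hj⟩ := hodd
    have hdvd : orderOf x ∣ (Fintype.card F + 1) / 2 ∨ orderOf x ∣ (Fintype.card F - 1) / 2 := by
      rcases pow_eq_one_of_two_fixed f x hPQ ht.1 ht.2 with e | e <;> rw [hd] at e
      · exact Or.inl (orderOf_dvd_of_pow_eq_one e)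
      · exact Or.inr (orderOf_dvd_of_pow_eq_one e)
    rw [htord] at hdvd
    rcases hdvd with h | h <;> have := Nat.le_of_dvd (by omega) h <;> omega
  have hrel : ((imL F).subgroupOf T).index = 2 := by
    rcases (Nat.dvd_prime Nat.prime_two).1 (hi ▸ Subgroup.relIndex_dvd_index_of_normal (imL F) T) with h | h
    · exact absurd ((Subgroup.relIndex_eq_one.1 h) htT) htL
    · exact h
  refine ⟨?_, ?_⟩
  · have h := ((imL F).subgroupOf T).index_mul_card
    rw [hrel, Nat.card_congr (show ((imL F).subgroupOf T) ≃ (T ⊓ imL F : Subgroup PGL(2, F)) from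
      ⟨fun x => ⟨x.1.1, x.1.2, x.2⟩, fun y => ⟨⟨y.1, y.2.1⟩, y.2.2⟩, fun _ => rfl, fun _ => rfl⟩)] at h
    exact h
  · by_cases hs : s ∈ imL F
    · exact ⟨s, hs, hsP, hsQ⟩
    · exact ⟨t * s, (Subgroup.mul_mem_iff_of_index_two hi).2 (iff_of_false htL hs),
        by rw [map_mul, mul_smul, hsP]; exact htT.2, by rw [map_mul, mul_smul, hsQ]; exact htT.1⟩

end CfsgLib.Geom.Moebius
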