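import Mathlib
import Cfsg.Agent.Lib.Geom.DicksonCases
import Cfsg.Agent.Lib.Geom.MoebiusCharTwo
import Cfsg.Agent.Lib.Geom.PairStab

set_option autoImplicit false

/-!
Dickson's list for subgroups of `PGL_2(F)`, with the containments needed for maximality.
-/

namespace CfsgLib.Geom.Moebius

open Matrix
open scoped MatrixGroups Pointwise
open MulAction (orbit stabilizer)

variable {F E : Type*} [Field F] [Field E] (f : F →+* E)

/-- Conjugates of `PGL_2(K)` inside `PGL_2(F)`. -/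
noncomputable def subfieldPGL (K : Subfield F) (m : PGL(2, F)) : Subgroup PGL(2, F) :=
  (extHom K.subtype).range.map (MulAut.conj m).toMonoidHom

theorem mem_subfieldPGL {K : Subfield F} {m g : PGL(2, F)} :
    g ∈ subfieldPGL K m ↔ m⁻¹ * g * m ∈ (extHom K.subtype).range := by
  rw [subfieldPGL, Subgroup.mem_map]
  constructor
  · rintro ⟨x, hx, rfl⟩
    simpa [MulAut.conj_apply, mul_assoc] using hx
  · intro h
    exact ⟨_, h, by simp [MulAut.conj_apply, mul_assoc]⟩

theorem extHom_comp {K : Type*} [Field K] (g : K →+* F) (x : PGL(2, K)) :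
    extHom (f.comp g) x = extHom f (extHom g x) := by
  obtain ⟨A, rfl⟩ := ProjGenLinGroup.mk_surjective x
  show ProjGenLinGroup.mk _ = ProjGenLinGroup.mk _
  exact congrArg _ (Units.ext (Matrix.ext fun i j => rfl))

/-- Where a subgroup of `PGL_2(F)` lives. -/
inductive PGLCase (M : Subgroup PGL(2, F)) : Prop
  | point (P : Line F) (h : ∀ x ∈ M, x • P = P)
  | pair (P Q : Line E) (hPQ : P ≠ Q) (hle : M ≤ pairStab f P Q)
      (hg : ∃ g ∈ M, g ≠ 1 ∧ extHom f g • P = P ∧ extHom f g • Q = Q)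
  | tetrahedral (h : Nonempty (M ≃* alternatingGroup (Fin 4))) (hcard : Nat.card M = 12)
  | octahedral (h : Nonempty (M ≃* Equiv.Perm (Fin 4))) (hcard : Nat.card M = 24)
  | icosahedral (h2 : (2 : F) ≠ 0) (h : Nonempty (M ≃* alternatingGroup (Fin 5))) (hcard : Nat.card M = 60)
  | subfieldGroup (K : Subfield F) (u : ℕ) (hu : 3 ≤ u) (hK : Nat.card K = u) (m : PGL(2, F))
      (hle : M ≤ subfieldPGL K m)
      (hcard : Nat.card M = (u + 1) * (u * (u - 1)) ∨ 2 * Nat.card M = (u + 1) * (u * (u - 1)))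

variable [Fintype (Line E)]

theorem card_of_subline {G : Subgroup PGL(2, E)} {P : Line E} {u k : ℕ} (hP : PointData G P (u + 1) u k)
    (hk : k = u - 1 ∨ 2 * k = u - 1) :
    Nat.card G = (u + 1) * (u * (u - 1)) ∨ 2 * Nat.card G = (u + 1) * (u * (u - 1)) := by
  rcases hk with rfl | hk
  · exact Or.inl hP.mul_eq.symm
  · exact Or.inr (by rw [← hP.mul_eq, ← hk]; ring)

/-- A subline group over `F` lies in a conjugate of the group over the subfield. -/
theorem subline_containment [Fintype F] {G : Subgroup PGL(2, E)} [Finite G] (hle : G ≤ (extHom f).range) (p : ℕ)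
    [Fact p.Prime] [CharP E p] (hE : QuadClosed f) {P : Line E} {u k : ℕ} (hu : 3 ≤ u)
    (hP : PointData G P (u + 1) u k) :
    ∃ (K : Subfield F) (m : PGL(2, F)), Nat.card K = u ∧
      ∀ g : PGL(2, F), extHom f g ∈ G → g ∈ subfieldPGL K m := by
  obtain ⟨g, hgG, hgP, hgu⟩ : (paraAt G P).Nonempty := by
    rw [Set.nonempty_iff_ne_empty]
    intro e
    have := hP.para_eq
    rw [e, Set.ncard_empty] at this
    omega
  obtain ⟨g', rfl⟩ := hle hgG
  obtain ⟨P', rfl⟩ := rational_of_unique f hE hgu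
  have hrat : ∀ Q ∈ orbit G (extPt f P'), ∃ Q' : Line F, extPt f Q' = Q := by
    rintro _ ⟨⟨h, hh⟩, rfl⟩
    obtain ⟨h', rfl⟩ := hle hh
    exact ⟨h' • P', (extHom_smul f h' P').symm⟩
  obtain ⟨Q0, hQ0, hne0⟩ := Set.exists_ne_of_one_lt_ncard (s := orbit G (extPt f P'))
    (by rw [hP.orb_eq]; omega) (extPt f P')
  obtain ⟨Q1, hQ1, hne1⟩ : ∃ Q1 ∈ orbit G (extPt f P'), Q1 ∉ ({extPt f P', Q0} : Set (Line E)) :=
    Set.exists_mem_notMem_of_ncard_lt_ncard
      (by rw [hP.orb_eq, Set.ncard_pair hne0.symm]; omega) (Set.toFinite _)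
  simp only [Set.mem_insert_iff, Set.mem_singleton_iff, not_or] at hne1
  obtain ⟨A, rfl⟩ := hrat Q0 hQ0
  obtain ⟨B, rfl⟩ := hrat Q1 hQ1
  obtain ⟨m, hm1, hm2, hm3⟩ := exists_map3 (P := P') (Q := A) (R := B)
    (fun e => hne0 (by rw [e])) (fun e => hne1.1 (by rw [e])) (fun e => hne1.2 (by rw [e]))
  set M := (extHom f m)⁻¹
  have e1 : M • extPt f P' = inf := by rw [inv_smul_eq_iff, ← extPt_inf f, extHom_smul, hm1]
  have e2 : M • extPt f A = pt 0 := by
    rw [inv_smul_eq_iff, show pt (0 : E) = extPt f (pt 0) by rw [extPt_pt, map_zero], extHom_smul, hm2]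
  have e3 : M • extPt f B = pt 1 := by
    rw [inv_smul_eq_iff, show pt (1 : E) = extPt f (pt 1) by rw [extPt_pt, map_one], extHom_smul, hm3]
  have hP' := pointData_conjBy G M hP
  rw [e1] at hP'
  have horb : orbit (conjBy G M) (inf : Line E) = (fun Q => M • Q) '' orbit G (extPt f P') := by
    rw [← e1, orbit_conjBy]
  have h0 : pt (0 : E) ∈ orbit (conjBy G M) (inf : Line E) := by rw [horb]; exact ⟨_, hQ0, e2⟩
  have h1 : pt (1 : E) ∈ orbit (conjBy G M) (inf : Line E) := by rw [horb]; exact ⟨_, hQ1, e3⟩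
  obtain ⟨K, -, hKu, hKorb, -⟩ := exists_subfield (conjBy G M) p hP' h0 h1
  -- the orbit is rational, so the subfield is inside the base field
  have hKF : ∀ x ∈ K, ∃ t : F, f t = x := by
    intro x hx
    obtain ⟨Q, hQ, hQx⟩ := horb ▸ (hKorb x).2 hx
    obtain ⟨Q', rfl⟩ := hrat Q hQ
    simp only [M] at hQx
    rw [← map_inv, extHom_smul] at hQx
    rcases point_cases (m⁻¹ • Q') with e | ⟨t, e⟩ <;> rw [e] at hQx
    · rw [extPt_inf] at hQx; exact absurd hQx.symm (pt_ne_inf x)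
    · rw [extPt_pt] at hQx; exact ⟨t, pt_injective hQx⟩
  let e : (K.comap f) ≃+* K := RingEquiv.ofBijective
    ((f.comp (K.comap f).subtype).codRestrict K fun x => x.2)
    ⟨fun a b h => Subtype.ext (f.injective (congrArg Subtype.val h)), fun y => by
      obtain ⟨t, ht⟩ := hKF y.1 y.2
      exact ⟨⟨t, show f t ∈ K from ht.symm ▸ y.2⟩, Subtype.ext ht⟩⟩
  refine ⟨K.comap f, m, (Nat.card_congr e.toEquiv).trans hKu, fun g hg => ?_⟩
  have hconj : M * extHom f g * M⁻¹ ∈ conjBy G M := (mem_conjBy G).2 (by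
    rw [show M⁻¹ * (M * extHom f g * M⁻¹) * M = extHom f g by group]; exact hg)
  have hline : ∀ Q ∈ orbit (conjBy G M) (inf : Line E), ∃ Q' : Line (K.comap f),
      extPt f (extPt (K.comap f).subtype Q') = Q := by
    intro Q hQ
    rcases point_cases Q with rfl | ⟨x, rfl⟩
    · exact ⟨inf, by rw [extPt_inf, extPt_inf]⟩
    · obtain ⟨t, ht⟩ := hKF x ((hKorb x).1 hQ)
      exact ⟨pt ⟨t, show f t ∈ K from ht.symm ▸ (hKorb x).1 hQ⟩, by rw [extPt_pt, extPt_pt]; exact congrArg pt ht⟩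
  have mv : ∀ Q ∈ orbit (conjBy G M) (inf : Line E),
      (M * extHom f g * M⁻¹) • Q ∈ orbit (conjBy G M) (inf : Line E) := fun Q hQ =>
    MulAction.mem_orbit_of_mem_orbit (⟨_, hconj⟩ : conjBy G M) hQ
  obtain ⟨a, ha⟩ := hline _ (mv _ (MulAction.mem_orbit_self _))
  obtain ⟨b, hb⟩ := hline _ (mv _ h0)
  obtain ⟨c, hc⟩ := hline _ (mv _ h1)
  have d1 : a ≠ b := fun e => pt_ne_inf (0 : E) (smul_left_cancel _ (by rw [← ha, ← hb, e]))
  have d2 : a ≠ c := fun e => pt_ne_inf (1 : E) (smul_left_cancel _ (by rw [← ha, ← hc, e]))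
  have d3 : b ≠ c := fun e => zero_ne_one (α := E)
    (pt_injective (smul_left_cancel _ (show (M * extHom f g * M⁻¹) • pt (0 : E) = _ • pt 1 by rw [← hb, ← hc, e])))
  obtain ⟨h, f1, f2, f3⟩ := exists_map3 d1 d2 d3
  rw [mem_subfieldPGL]
  refine ⟨h, extHom_injective f ?_⟩
  rw [map_mul, map_mul, map_inv, show (extHom f m)⁻¹ * extHom f g * extHom f m = M * extHom f g * M⁻¹ by
    simp only [M, inv_inv]]
  refine eq_of_agree ?_ ?_ ?_
  · rw [← ha, ← f1, ← extHom_smul, ← extHom_smul, extPt_inf, extPt_inf]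
  · rw [← hb, ← f2, ← extHom_smul, ← extHom_smul, extPt_pt, extPt_pt, map_zero, map_zero]
  · rw [← hc, ← f3, ← extHom_smul, ← extHom_smul, extPt_pt, extPt_pt, map_one, map_one]

/-- Dickson's list in `PGL_2(F)`. -/
theorem dicksonPGL [Fintype F] (p : ℕ) [Fact p.Prime] [CharP F p] (hE : QuadClosed f) (M : Subgroup PGL(2, F))
    (hM : M ≠ ⊥) : PGLCase f M := by
  classical
  have := finite_pgl_two (F := F)
  have : CharP E p := charP_of_injective_ringHom f.injective p
  set G := M.map (extHom f)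
  let e : M ≃* G := M.equivMapOfInjective _ (extHom_injective f)
  have : Finite G := Finite.of_equiv _ e.toEquiv
  have hle : G ≤ (extHom f).range := by rintro _ ⟨x, -, rfl⟩; exact ⟨_, rfl⟩
  have hfix : ∀ g ∈ G, ∃ P : Line E, g • P = P := by
    rintro _ ⟨x, -, rfl⟩
    exact exists_fixed f hE x
  have hcard : Nat.card M = Nat.card G := Nat.card_congr e.toEquiv
  obtain ⟨g0, hg0, hg01⟩ := (Subgroup.bot_or_exists_ne_one M).resolve_left hM
  cases orbit_cases G p hfix with
  | fixedPoint P hP =>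
    by_cases hpara : paraAt G P = ∅
    · obtain ⟨-, Q, hQP, hQ⟩ := stabAt_cyclic G P hpara
      have hst : stabAt G P = G := le_antisymm inf_le_left fun g hg => (mem_stabAt G).2 ⟨hg, hP g hg⟩
      rw [hst] at hQ
      exact .pair P Q hQP.symm (fun x hx => (mem_pairStab f).2 (Or.inl ⟨hP _ ⟨x, hx, rfl⟩, hQ _ ⟨x, hx, rfl⟩⟩))
        ⟨g0, hg0, hg01, hP _ ⟨g0, hg0, rfl⟩, hQ _ ⟨g0, hg0, rfl⟩⟩
    · obtain ⟨g, hgG, -, hgu⟩ := Set.nonempty_iff_ne_empty.2 hpara
      obtain ⟨g', rfl⟩ := hle hgG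
      obtain ⟨P', rfl⟩ := rational_of_unique f hE hgu
      refine .point P' fun x hx => extPt_injective f ?_
      rw [← extHom_smul]
      exact hP _ ⟨x, hx, rfl⟩
  | dihedral P h1 h2 h3 =>
    obtain ⟨P', hP', hne⟩ := Set.exists_ne_of_one_lt_ncard (s := orbit G P) (by omega) P
    have horb := fixed_of_orbit_pair h2.le hP' hne
    have hmv : ∀ x ∈ M, ∀ R ∈ ({P, P'} : Set (Line E)), extHom f x • R ∈ ({P, P'} : Set (Line E)) := by
      intro x hx R hR
      rw [← horb] at hR ⊢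
      exact MulAction.mem_orbit_of_mem_orbit (⟨extHom f x, x, hx, rfl⟩ : G) hR
    refine .pair P P' hne.symm (fun x hx => (mem_pairStab f).2 ?_) ?_
    · rcases hmv x hx P (Or.inl rfl) with a | a <;> rcases hmv x hx P' (Or.inr rfl) with b | b
      · exact absurd (smul_left_cancel _ (a.trans b.symm)) hne.symm
      · exact Or.inl ⟨a, b⟩
      · exact Or.inr ⟨a, b⟩
      · exact absurd (smul_left_cancel _ (a.trans b.symm)) hne.symm
    · obtain ⟨y, hy, hy1⟩ : ∃ y ∈ stabAt G P, y ≠ 1 := by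
        refine (Subgroup.bot_or_exists_ne_one _).resolve_left fun hb => ?_
        rw [hb, Subgroup.card_bot] at h3
        omega
      obtain ⟨hyG, hyP⟩ := (mem_stabAt G).1 hy
      obtain ⟨x, hx, rfl⟩ := hyG
      refine ⟨x, hx, fun ex => hy1 (by rw [ex, map_one]), hyP, ?_⟩
      rcases hmv x hx P' (Or.inr rfl) with b | b
      · exact absurd (smul_left_cancel _ (b.trans hyP.symm)) hne
      · exact b
  | tetrahedral P h hP =>
    obtain ⟨i⟩ := tetrahedral_type h hP
    exact .tetrahedral ⟨e.trans i⟩ (hcard.trans h)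
  | octahedral P h hP =>
    obtain ⟨i⟩ := octahedral_type hfix h hP
    exact .octahedral ⟨e.trans i⟩ (hcard.trans h)
  | icosahedral P Q R h hP hQ hR hcov =>
    obtain ⟨i⟩ := icosahedral_type p hfix h (Or.inl ⟨P, Q, R, hP, hQ, hR, hcov⟩)
    refine .icosahedral (fun h2 => ?_) ⟨e.trans i⟩ (hcard.trans h)
    -- an involution fixing `P` would be parabolic
    have h2E : (2 : E) = 0 := by
      have := congrArg f h2
      rwa [map_ofNat, map_zero] at this
    obtain ⟨⟨y, hy⟩, hy1⟩ := exists_prime_orderOf_dvd_card' (G := stabAt G P) 2 (by rw [hP.stab_eq])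
    rw [Subgroup.orderOf_mk] at hy1
    have hne : y ≠ 1 := fun e => by rw [e, orderOf_one] at hy1; omega
    have hyy : y * y = 1 := (sq y).symm.trans ((congrArg (y ^ ·) hy1.symm).trans (pow_orderOf_eq_one y))
    obtain ⟨hyG, hyP⟩ := (mem_stabAt G).1 hy
    have hp : y ∈ paraAt G P :=
      ⟨hyG, hyP, fun S hS => by
        have : Finite E := Finite.of_injective _ (pt_injective (E := E))
        obtain ⟨R0, -, hR0⟩ := involution_unique_fixed h2E hyy hne
        rw [hR0 S hS, hR0 P hyP]⟩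
    have := Set.ncard_pos ((Set.toFinite (G : Set PGL(2, E))).subset fun _ h => h.1) |>.2 ⟨y, hp⟩
    have := hP.para_eq
    omega
  | icosahedralThree P Q h hP hQ hcov =>
    obtain ⟨i⟩ := icosahedral_type p hfix h (Or.inr ⟨P, Q, hP, hQ, hcov⟩)
    refine .icosahedral (fun h2 => ?_) ⟨e.trans i⟩ (hcard.trans h)
    -- three is a power of the characteristic
    have hp2 : p = 2 := by
      have := (CharP.cast_eq_zero_iff F p 2).1 (by exact_mod_cast h2)
      exact ((Nat.prime_dvd_prime_iff_eq Fact.out Nat.prime_two).1 this)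
    obtain ⟨u, k, r, a1, a2, hu, -⟩ := stabAt_data G p P
    have := hP.para_eq
    rw [hp2, show u = 3 by omega] at hu
    rcases r with - | r
    · simp at hu
    · rw [pow_succ] at hu; omega
  | subline P u k hu hP hk =>
    obtain ⟨K, m, hK, hmem⟩ := subline_containment f hle p hE hu hP
    exact .subfieldGroup K u hu hK m (fun x hx => hmem x ⟨x, hx, rfl⟩) (by rw [hcard]; exact card_of_subline hP hk)

end CfsgLib.Geom.Moebius
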