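import Mathlib
import Cfsg.Agent.Lib.Geom.DicksonPGL
import Cfsg.Agent.Lib.Classical.StdQuad

set_option autoImplicit false

/-!
Orders, position and nesting of the conjugates of `PGL_2(K)` and `PSL_2(K)` in `PGL_2(F)`.
-/

namespace CfsgLib.Geom.Moebius

open Matrix
open scoped MatrixGroups

variable {F : Type*} [Field F] [Fintype F]

noncomputable instance subfieldFintype (K : Subfield F) : Fintype K := Fintype.ofFinite K

/-- Conjugates of the image of `PSL_2(K)`. -/
noncomputable def subfieldPSL (K : Subfield F) (m : PGL(2, F)) : Subgroup PGL(2, F) :=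
  (imL K).map ((MulAut.conj m).toMonoidHom.comp (extHom K.subtype))

theorem conj_extHom_injective (K : Subfield F) (m : PGL(2, F)) :
    Function.Injective ((MulAut.conj m).toMonoidHom.comp (extHom K.subtype)) :=
  (MulAut.conj m).injective.comp (extHom_injective _)

theorem subfieldPGL_eq (K : Subfield F) (m : PGL(2, F)) :
    subfieldPGL K m = ((MulAut.conj m).toMonoidHom.comp (extHom K.subtype)).range := by
  rw [subfieldPGL, MonoidHom.range_comp]

theorem subfieldPGL_equiv (K : Subfield F) (m : PGL(2, F)) : Nonempty (subfieldPGL K m ≃* PGL(2, K)) :=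
  ⟨(MulEquiv.subgroupCongr (subfieldPGL_eq K m)).trans (MonoidHom.ofInjective (conj_extHom_injective K m)).symm⟩

theorem subfieldPSL_equiv (K : Subfield F) (m : PGL(2, F)) :
    Nonempty (subfieldPSL K m ≃* ProjectiveSpecialLinearGroup (Fin 2) K) :=
  ⟨((imL K).equivMapOfInjective _ (conj_extHom_injective K m)).symm.trans
    (MonoidHom.ofInjective Matrix.ProjectiveSpecialLinearGroup.toPGL_injective).symm⟩

theorem subfieldPSL_le (K : Subfield F) (m : PGL(2, F)) : subfieldPSL K m ≤ subfieldPGL K m ⊓ imL F := by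
  refine le_inf ?_ ?_
  · rw [subfieldPGL_eq]; exact Subgroup.map_le_range _ _
  · rintro _ ⟨_, ⟨x, rfl⟩, rfl⟩
    obtain ⟨y, rfl⟩ := QuotientGroup.mk_surjective x
    refine (imL_normal (F := F)).conj_mem _ ?_ m
    exact ⟨QuotientGroup.mk (Matrix.SpecialLinearGroup.map K.subtype y), congrArg ProjGenLinGroup.mk (Units.ext rfl)⟩

theorem card_subfield_eq {K : Subfield F} {u : ℕ} (hK : Nat.card K = u) : Fintype.card K = u := by
  rw [← Nat.card_eq_fintype_card, hK]

theorem card_subfieldPGL {K : Subfield F} {u : ℕ} (hK : Nat.card K = u) (m : PGL(2, F)) :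
    Nat.card (subfieldPGL K m) = (u + 1) * (u * (u - 1)) := by
  obtain ⟨e⟩ := subfieldPGL_equiv K m
  rw [Nat.card_congr e.toEquiv, card_pgl_two, card_subfield_eq hK]

theorem card_subfieldPSL {K : Subfield F} {u : ℕ} (hK : Nat.card K = u) (m : PGL(2, F)) :
    Nat.gcd 2 (u - 1) * Nat.card (subfieldPSL K m) = (u + 1) * (u * (u - 1)) := by
  rw [subfieldPSL, ← Nat.card_congr ((imL K).equivMapOfInjective _ (conj_extHom_injective K m)).toEquiv,
    ← card_subfield_eq hK]
  exact card_imL_two

theorem subfieldPGL_le_imL (hodd : Odd (Fintype.card F)) {K : Subfield F} {u d : ℕ} (hK : Nat.card K = u)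
    (hd : Even d) (hud : u ^ d = Fintype.card F) (m : PGL(2, F)) : subfieldPGL K m ≤ imL F := by
  rw [subfieldPGL_eq]
  rintro _ ⟨x, rfl⟩
  obtain ⟨A, rfl⟩ := ProjGenLinGroup.mk_surjective x
  obtain ⟨c, hc⟩ := isSquare_of_even_degree K.subtype (CfsgLib.Classical.two_ne_zero_of_odd hodd) hd
    (by rw [card_subfield_eq hK, hud]) (A : Matrix (Fin 2) (Fin 2) K).det
  exact (imL_normal (F := F)).conj_mem _ (mk_mem_range_of_sq _ (c := c) (by rw [← hc, RingHom.map_det]; rfl)) m

theorem subfieldPGL_not_le_imL (hodd : Odd (Fintype.card F)) {K : Subfield F} {u d : ℕ} (hK : Nat.card K = u)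
    (hd : Odd d) (hud : u ^ d = Fintype.card F) (m : PGL(2, F)) : ¬ subfieldPGL K m ≤ imL F := by
  intro hle
  obtain ⟨e⟩ := subfieldPGL_equiv K m
  let ψ := Matrix.ProjectiveSpecialLinearGroup.toPGL (n := Fin 2) (R := F)
  have i := ((subfieldPGL K m).comap ψ).equivMapOfInjective ψ Matrix.ProjectiveSpecialLinearGroup.toPGL_injective
  exact not_pgl_subfield hodd hd (by rw [card_subfield_eq hK, hud]) _
    (i.trans ((MulEquiv.subgroupCongr (Subgroup.map_comap_eq_self hle)).trans e))

theorem gcd_two_subfield {K : Subfield F} {u d : ℕ} (hud : u ^ d = Fintype.card F) (hd0 : d ≠ 0)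
    (hK : Nat.card K = u) : Nat.gcd 2 (u - 1) = Nat.gcd 2 (Fintype.card F - 1) := by
  rcases Nat.even_or_odd (Fintype.card F) with he | ho
  · rw [gcd_two_of_even he, ← card_subfield_eq hK, gcd_two_of_even]
    rw [card_subfield_eq hK]
    exact ((Nat.even_pow' hd0).1 (hud ▸ he))
  · rw [gcd_two_of_odd ho, ← card_subfield_eq hK, gcd_two_of_odd]
    rw [card_subfield_eq hK]
    exact (Nat.odd_pow_iff hd0).1 (hud ▸ ho)

theorem subfieldPGL_inf_imL {K : Subfield F} {u d : ℕ} (hK : Nat.card K = u) (hud : u ^ d = Fintype.card F)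
    (h : Odd d ∨ Even (Fintype.card F)) (hd0 : d ≠ 0) (m : PGL(2, F)) :
    subfieldPGL K m ⊓ imL F = subfieldPSL K m := by
  have := finite_pgl_two (F := F)
  refine (Subgroup.eq_of_le_of_card_ge (subfieldPSL_le K m) ?_).symm
  have h2 := card_subfieldPSL hK m
  rw [gcd_two_subfield hud hd0 hK] at h2
  rcases Nat.even_or_odd (Fintype.card F) with he | ho
  · rw [gcd_two_of_even he, one_mul, ← card_subfieldPGL hK m] at h2
    rw [imL_eq_top he, inf_top_eq, h2]
  · have hdodd : Odd d := h.resolve_right (Nat.not_even_iff_odd.2 ho)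
    rw [gcd_two_of_odd ho, ← card_subfieldPGL hK m] at h2
    have := imL_normal (F := F)
    have hrel : ((imL F).subgroupOf (subfieldPGL K m)).index = 2 := by
      rcases (Nat.dvd_prime Nat.prime_two).1
        (imL_index ho ▸ Subgroup.relIndex_dvd_index_of_normal (imL F) (subfieldPGL K m)) with h | h
      · exact absurd (Subgroup.relIndex_eq_one.1 h) (subfieldPGL_not_le_imL ho hK hdodd hud m)
      · exact h
    have h3 := ((imL F).subgroupOf (subfieldPGL K m)).index_mul_card
    rw [hrel, Nat.card_congr (show ((imL F).subgroupOf (subfieldPGL K m)) ≃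
        (subfieldPGL K m ⊓ imL F : Subgroup PGL(2, F)) from
      ⟨fun x => ⟨x.1.1, x.1.2, x.2⟩, fun y => ⟨⟨y.1, y.2.1⟩, y.2.2⟩, fun _ => rfl, fun _ => rfl⟩)] at h3
    omega

theorem subfieldPGL_mono {K K' : Subfield F} (h : K ≤ K') (m : PGL(2, F)) : subfieldPGL K m ≤ subfieldPGL K' m := by
  refine Subgroup.map_mono ?_
  rintro _ ⟨x, rfl⟩
  exact ⟨extHom (Subfield.inclusion h) x, (extHom_comp K'.subtype (Subfield.inclusion h) x).symm⟩

/-- A subfield of each degree over a given one dividing the full degree. -/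
theorem exists_intermediate {K : Subfield F} {u d : ℕ} (hK : Nat.card K = u) (hud : u ^ d = Fintype.card F)
    {s : ℕ} (hs : s ∣ d) (hs0 : 0 < s) : ∃ K' : Subfield F, K ≤ K' ∧ Nat.card K' = u ^ s := by
  obtain ⟨p, hp⟩ := CharP.exists K
  obtain ⟨a, hprime, -⟩ := FiniteField.card K p
  have := Fact.mk hprime
  have : NeZero s := ⟨hs0.ne'⟩
  have hfr : Module.finrank K F = d := Nat.pow_right_injective (Fintype.one_lt_card (α := K)) (by
    show Fintype.card K ^ Module.finrank K F = Fintype.card K ^ d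
    rw [← Module.card_eq_pow_finrank (K := K) (V := F), card_subfield_eq hK, hud])
  obtain ⟨φ⟩ : Nonempty (FiniteField.Extension K p s →ₐ[K] F) :=
    FiniteField.nonempty_algHom_of_finrank_dvd (by rw [FiniteField.finrank_extension, hfr]; exact hs)
  refine ⟨φ.toRingHom.fieldRange, fun x hx => ⟨algebraMap K _ ⟨x, hx⟩, φ.commutes ⟨x, hx⟩⟩, ?_⟩
  rw [show Nat.card φ.toRingHom.fieldRange = Nat.card (FiniteField.Extension K p s) from
      (Nat.card_range_of_injective φ.toRingHom.injective), Module.natCard_eq_pow_finrank (K := K),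
    FiniteField.finrank_extension, hK]

/-- The prime field. -/
theorem exists_primeSubfield (p : ℕ) [Fact p.Prime] [CharP F p] :
    ∃ K : Subfield F, Nat.card K = p ∧ ∀ K' : Subfield F, K ≤ K' :=
  ⟨(ZMod.castHom (dvd_refl p) F).fieldRange, by
    rw [show Nat.card (ZMod.castHom (dvd_refl p) F).fieldRange = Nat.card (ZMod p) from
      Nat.card_range_of_injective (ZMod.castHom (dvd_refl p) F).injective, Nat.card_zmod],
    fun K' => by
      rintro _ ⟨x, rfl⟩
      obtain ⟨k, rfl⟩ := ZMod.intCast_surjective x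
      rw [map_intCast]
      exact intCast_mem K' k⟩

theorem two_mul_card_subfieldPGL_lt {K : Subfield F} {u d : ℕ} (hK : Nat.card K = u)
    (hud : u ^ d = Fintype.card F) (hd : 2 ≤ d) (m : PGL(2, F)) :
    2 * Nat.card (subfieldPGL K m) < (Fintype.card F + 1) * (Fintype.card F * (Fintype.card F - 1)) := by
  rw [card_subfieldPGL hK]
  have hu : 2 ≤ u := by rw [← hK, Nat.card_eq_fintype_card]; exact Fintype.one_lt_card
  have hq : u ^ 2 ≤ Fintype.card F := hud ▸ Nat.pow_le_pow_right (by omega) hd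
  rw [sq] at hq
  have h2 : 2 * u ≤ Fintype.card F := (Nat.mul_le_mul_right u hu).trans hq
  calc 2 * ((u + 1) * (u * (u - 1))) = (u + 1) * ((2 * u) * (u - 1)) := by ring
    _ ≤ (u + 1) * (Fintype.card F * (Fintype.card F - 1)) :=
        Nat.mul_le_mul_left _ (Nat.mul_le_mul h2 (by omega))
    _ < _ := Nat.mul_lt_mul_of_pos_right (by omega) (Nat.mul_pos (by omega) (by omega))

end CfsgLib.Geom.Moebius
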