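import Mathlib
import Cfsg.Agent.Lib.Geom.SL2Klein
import Cfsg.Agent.Lib.Geom.SubfieldGroups

set_option autoImplicit false

/-!
Traces of elements of order five and the golden number in a finite field.
-/

namespace CfsgLib.Geom.Golden

open Matrix
open scoped MatrixGroups

variable {F : Type*} [Field F]

local notation "M2" => Matrix (Fin 2) (Fin 2) F

theorem sq_eq (y : SL(2, F)) :
    (y : M2) * (y : M2) = (y : M2).trace • (y : M2) - 1 := by
  have hd : (y : M2) 0 0 * (y : M2) 1 1 - (y : M2) 0 1 * (y : M2) 1 0 = 1 := by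
    rw [← det_fin_two]; exact y.2
  ext i j
  fin_cases i <;> fin_cases j <;> simp [Matrix.mul_apply, Fin.sum_univ_two, trace_fin_two] <;>
    first
      | ring1
      | linear_combination -hd
      | linear_combination hd

theorem cube_eq (y : SL(2, F)) :
    (y : M2) ^ 3 = ((y : M2).trace ^ 2 - 1) • (y : M2) - (y : M2).trace • (1 : M2) := by
  rw [pow_succ, sq, sq_eq, sub_mul, smul_mul_assoc, sq_eq, one_mul]
  module

theorem fifth_eq (y : SL(2, F)) :
    (y : M2) ^ 5 = ((y : M2).trace ^ 4 - 3 * (y : M2).trace ^ 2 + 1) • (y : M2) -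
      ((y : M2).trace ^ 3 - 2 * (y : M2).trace) • (1 : M2) := by
  rw [show (y : M2) ^ 5 = (y : M2) ^ 3 * ((y : M2) * (y : M2)) by rw [← sq, ← pow_add], cube_eq, sq_eq]
  simp only [sub_mul, mul_sub, smul_mul_assoc, mul_smul_comm, mul_one, one_mul, sq_eq]
  module

/-- Off the scalars, `a • y + b = c` forces `a = 0`. -/
theorem coeff_eq_zero {y : SL(2, F)} (hy : y ∉ Subgroup.center SL(2, F)) {a b c : F}
    (h : a • (y : M2) - b • (1 : M2) = c • (1 : M2)) : a = 0 := by
  by_contra ha
  have hy' : (y : M2) = ((b + c) / a) • (1 : M2) := by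
    rw [sub_eq_iff_eq_add, ← add_smul] at h
    rw [div_eq_inv_mul, ← smul_smul, add_comm b c, ← h, smul_smul, inv_mul_cancel₀ ha, one_smul]
  refine hy (Matrix.SpecialLinearGroup.mem_center_iff.2 ⟨(b + c) / a, ?_, ?_⟩)
  · have := congrArg Matrix.det hy'
    rw [y.2, Matrix.det_smul, Matrix.det_one, mul_one] at this
    exact this.symm
  · rw [hy', Matrix.scalar_apply, Matrix.smul_one_eq_diagonal]

theorem scalar_of_center (h2 : (2 : F) ≠ 0) {z : SL(2, F)} (hz : z ∈ Subgroup.center SL(2, F)) :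
    ∃ c : F, (z : M2) = c • (1 : M2) ∧ (c = 1 ∨ c = -1) := by
  rcases (SL2Anti.mem_center_iff_sign h2).1 hz with rfl | rfl
  · exact ⟨1, by simp, Or.inl rfl⟩
  · exact ⟨-1, by simp, Or.inr rfl⟩

theorem trace_of_pow_three (h2 : (2 : F) ≠ 0) {y : SL(2, F)} (hy : y ∉ Subgroup.center SL(2, F))
    (h : y ^ 3 ∈ Subgroup.center SL(2, F)) : (y : M2).trace = 1 ∨ (y : M2).trace = -1 := by
  obtain ⟨c, hc, -⟩ := scalar_of_center h2 h
  rw [Matrix.SpecialLinearGroup.coe_pow, cube_eq] at hc
  exact mul_self_eq_one_iff.1 (by linear_combination coeff_eq_zero hy hc)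

theorem trace_of_pow_five {y : SL(2, F)} (hy : y ∉ Subgroup.center SL(2, F)) {c : F}
    (hc : (y : M2) ^ 5 = c • (1 : M2)) :
    (y : M2).trace * (y : M2).trace = (y : M2).trace + 1 ∨
      (-(y : M2).trace) * (-(y : M2).trace) = -(y : M2).trace + 1 := by
  rw [fifth_eq] at hc
  have h := coeff_eq_zero hy hc
  set t := (y : M2).trace
  rcases mul_eq_zero.1 (show (t * t - t - 1) * (t * t + t - 1) = 0 by linear_combination h) with e | e
  · left; linear_combination e
  · right; linear_combination e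

variable [Fintype F]

theorem exists_golden (h5 : 5 ∣ (Fintype.card F + 1) * (Fintype.card F * (Fintype.card F - 1))) :
    ∃ φ : F, φ * φ = φ + 1 := by
  have := Fact.mk (show Nat.Prime 5 by norm_num)
  have hc : 5 ∣ Nat.card SL(2, F) := by
    rwa [CfsgLib.Classical.card_sl_two_eq,
      show Fintype.card F ^ 2 - 1 = (Fintype.card F + 1) * (Fintype.card F - 1) from by
        rw [← Nat.sq_sub_sq, one_pow], mul_left_comm]
  obtain ⟨y, hy⟩ := exists_prime_orderOf_dvd_card' 5 hc
  have hy5 : y ^ 5 = 1 := hy ▸ pow_orderOf_eq_one y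
  have hny : y ∉ Subgroup.center SL(2, F) := by
    intro hm
    obtain ⟨r, hr, he⟩ := Matrix.SpecialLinearGroup.mem_center_iff.1 hm
    have hsq : y ^ 2 = 1 := by
      refine Subtype.ext ?_
      rw [Matrix.SpecialLinearGroup.coe_pow, ← he, ← map_pow, Matrix.SpecialLinearGroup.coe_one]
      rw [Fintype.card_fin] at hr
      rw [hr, map_one]
    have := orderOf_dvd_of_pow_eq_one hsq
    rw [hy] at this
    norm_num at this
  have := trace_of_pow_five hny (c := 1) (by rw [← Matrix.SpecialLinearGroup.coe_pow, hy5, one_smul]; rfl)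
  exact this.elim (fun h => ⟨_, h⟩) (fun h => ⟨_, h⟩)

theorem other_root {φ t : F} (hφ : φ * φ = φ + 1) (ht : t * t = t + 1) : t = φ ∨ t = 1 - φ := by
  rcases mul_eq_zero.1 (show (t - φ) * (t - (1 - φ)) = 0 by linear_combination ht - hφ) with h | h
  · exact Or.inl (sub_eq_zero.1 h)
  · exact Or.inr (sub_eq_zero.1 h)

theorem pow_char_sq (p : ℕ) [Fact p.Prime] [CharP F p] {φ : F} (hφ : φ * φ = φ + 1) :
    φ ^ p ^ 2 = φ := by
  have h : ∀ x : F, x * x = x + 1 → x ^ p * x ^ p = x ^ p + 1 := fun x hx => by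
    rw [← mul_pow, hx, add_pow_char, one_pow]
  rw [sq p, pow_mul]
  rcases other_root hφ (h φ hφ) with e | e <;> rw [e]
  · exact e
  · rw [sub_pow_char, one_pow, e]; ring

open Polynomial in
theorem mem_subfield_of_pow_eq {K : Subfield F} {v : ℕ} (hK : Nat.card K = v) {x : F} (hx : x ^ v = x) :
    x ∈ K := by
  classical
  have hKv : ∀ y ∈ K, y ^ v = y := fun y hy => by
    have := FiniteField.pow_card (⟨y, hy⟩ : K)
    rw [Moebius.card_subfield_eq hK] at this
    exact congrArg Subtype.val this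
  have hv : 2 ≤ v := by rw [← hK, Nat.card_eq_fintype_card]; exact Fintype.one_lt_card
  by_contra hxK
  let S : Finset F := insert x (Finset.univ.map ⟨Subtype.val, Subtype.val_injective (p := (· ∈ K))⟩)
  have hS : S.card = v + 1 := by
    rw [Finset.card_insert_of_notMem (by simpa using hxK), Finset.card_map, Finset.card_univ,
      Moebius.card_subfield_eq hK]
  have hroots : S ⊆ (X ^ v - X : F[X]).roots.toFinset := by
    intro y hy
    rw [Multiset.mem_toFinset, mem_roots (FiniteField.X_pow_card_sub_X_ne_zero F (by omega))]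
    simp only [S, Finset.mem_insert, Finset.mem_map, Finset.mem_univ, true_and,
      Function.Embedding.coeFn_mk] at hy
    rcases hy with rfl | ⟨y, rfl⟩
    · simp [hx]
    · simp [hKv _ y.2]
  have h := ((Finset.card_le_card hroots).trans (Multiset.toFinset_card_le _)).trans (card_roots' _)
  rw [FiniteField.X_pow_card_sub_X_natDegree_eq F (by omega)] at h
  omega

theorem five_dvd_iff {p : ℕ} (hp : p.Prime) (h2 : p ≠ 2) (h5 : p ≠ 5) :
    5 ∣ (p + 1) * (p * (p - 1)) ↔ p % 10 = 1 ∨ p % 10 = 9 := by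
  have hp5 : Nat.Prime 5 := by norm_num
  have hodd := hp.eq_two_or_odd.resolve_left h2
  have hnd : ¬ 5 ∣ p := fun h => h5 ((Nat.prime_dvd_prime_iff_eq hp5 hp).1 h).symm
  rw [hp5.dvd_mul, hp5.dvd_mul]
  constructor
  · rintro (h | h | h)
    · omega
    · exact absurd h hnd
    · have := hp.two_le; omega
  · rintro (h | h)
    · exact Or.inr (Or.inr (by omega))
    · exact Or.inl (by omega)

end CfsgLib.Geom.Golden
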