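import Mathlib
import Cfsg.Prelude.Def_GeometricClasses
import Cfsg.Agent.Lib.Classical.OrthOmega

set_option autoImplicit false

/-!
Maximality of stabilisers in `Cfsg.Geo.omegaGL`, from statements about the abstract isometry group.
-/

namespace CfsgLib.Geom

open CfsgLib.Classical
open QuadraticMap (polar)
open Matrix

variable {F : Type*} [Field F] {ι : Type} [Fintype ι] [DecidableEq ι]

/-- The Mathlib quadratic form of a function satisfying `Cfsg.Geo.IsNondegenerateQuadraticForm`. -/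
def quadFormOf {f : (ι → F) → F} (h : Cfsg.Geo.IsNondegenerateQuadraticForm f) : QuadraticForm F (ι → F) :=
  QuadraticMap.ofPolar f (fun a x => by rw [h.smul, smul_eq_mul]; ring)
    (fun x x' y => h.polar_bilinear.add_left x x' y) (fun a x y => h.polar_bilinear.smul_left a x y)

@[simp] theorem quadFormOf_coe {f : (ι → F) → F} (h : Cfsg.Geo.IsNondegenerateQuadraticForm f) :
    ⇑(quadFormOf h) = f := rfl

theorem quadFormOf_sep {f : (ι → F) → F} (h : Cfsg.Geo.IsNondegenerateQuadraticForm f) (x : ι → F)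
    (hx : ∀ y, polar (quadFormOf h) x y = 0) : x = 0 := by
  by_contra hne
  obtain ⟨y, hy⟩ := (h.nondegenerate x hne).2
  exact hy (hx y)

/-- The map to matrices. -/
noncomputable def isomsToGL (Q : QuadraticForm F (ι → F)) : quadIsoms Q →* Matrix.GeneralLinearGroup ι F :=
  glOfEquiv.comp (quadIsoms Q).subtype

theorem isomsToGL_mulVec (Q : QuadraticForm F (ι → F)) (g : quadIsoms Q) (v : ι → F) :
    (isomsToGL Q g : Matrix ι ι F) *ᵥ v = g.1 v :=
  glOfEquiv_mulVec g.1 v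

theorem omegaGL_eq_map [Fintype F] (Q : QuadraticForm F (ι → F)) :
    Cfsg.Geo.omegaGL (⇑Q) = (commutator (quadIsoms Q)).map (isomsToGL Q) := by
  have h : Cfsg.Omega F (⇑Q) = (commutator (quadIsoms Q)).map (orEquiv Q).toMonoidHom := by
    rw [commutator_def, Subgroup.map_commutator,
      Subgroup.map_top_of_surjective (orEquiv Q).toMonoidHom (orEquiv Q).surjective, ← commutator_def]
  show (Cfsg.Omega F (⇑Q)).map _ = _
  rw [h, Subgroup.map_map]
  rfl

theorem isomsToGL_mem_stabilizer [Fintype F] (Q : QuadraticForm F (ι → F)) (g : quadIsoms Q)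
    (W : Submodule F (ι → F)) :
    isomsToGL Q g ∈ Cfsg.Geo.subspaceStabilizer W ↔ ∀ x ∈ W, g.1 x ∈ W := by
  show (∀ v, v ∈ (W : Set (ι → F)) ↔ (isomsToGL Q g : Matrix ι ι F) *ᵥ v ∈ (W : Set (ι → F))) ↔ _
  simp only [isomsToGL_mulVec, SetLike.mem_coe]
  refine ⟨fun h x hx => (h x).1 hx, fun h v => ⟨h v, fun hv => ?_⟩⟩
  obtain ⟨⟨w, hw⟩, hwv⟩ := Finite.surjective_of_injective (α := ↥W)
    (f := fun x => ⟨g.1 x.1, h x.1 x.2⟩) (fun a b e => Subtype.ext (g.1.injective (congrArg Subtype.val e)))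
    ⟨_, hv⟩
  have : g.1 w = g.1 v := congrArg Subtype.val hwv
  rwa [← g.1.injective this]

/-- Maximality in `Ω` from a moved element and the dichotomy. -/
theorem omega_isMaximalIn [Fintype F] (Q : QuadraticForm F (ι → F)) {f : (ι → F) → F} (hf : ⇑Q = f)
    (W : Submodule F (ι → F))
    (hmove : ∃ g ∈ commutator (quadIsoms Q), ∃ x ∈ W, g.1 x ∉ W)
    (hdich : ∀ M : Subgroup (quadIsoms Q),
      (∀ g ∈ commutator (quadIsoms Q), (∀ x ∈ W, g.1 x ∈ W) → g ∈ M) →
        (∀ g ∈ M, ∀ x ∈ W, g.1 x ∈ W) ∨ commutator (quadIsoms Q) ≤ M) :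
    Cfsg.Geo.IsMaximalIn (Cfsg.Geo.omegaGL f)
      (Cfsg.Geo.subspaceStabilizer W ⊓ Cfsg.Geo.omegaGL f) := by
  subst hf
  rw [omegaGL_eq_map]
  refine ⟨lt_of_le_not_ge inf_le_right fun hle => ?_, fun M hHM hMK => ?_⟩
  · obtain ⟨g, hg, x, hx, hgx⟩ := hmove
    exact hgx ((isomsToGL_mem_stabilizer Q g W).1 (hle (Subgroup.mem_map_of_mem _ hg)).1 x hx)
  rcases hdich (M.comap (isomsToGL Q)) fun g hg hs =>
      hHM ⟨(isomsToGL_mem_stabilizer Q g W).2 hs, Subgroup.mem_map_of_mem _ hg⟩ with hst | hle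
  · refine Or.inl (le_antisymm (fun m hm => ⟨?_, hMK hm⟩) hHM)
    obtain ⟨g, -, rfl⟩ := hMK hm
    exact (isomsToGL_mem_stabilizer Q g W).2 (hst g hm)
  · exact Or.inr (le_antisymm hMK (by rintro _ ⟨g, hg, rfl⟩; exact hle hg))

end CfsgLib.Geom
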