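import Mathlib
import Cfsg.Agent.Lib.Geom.FormClass
import Cfsg.Agent.Lib.Geom.StdForms

set_option autoImplicit false

/-!
Forms of plus type over finite fields of odd characteristic: a totally singular subspace of half dimension exists
exactly when `(-1)^m` times the discriminant is a square.
-/

namespace CfsgLib.Geom

open QuadraticMap (polar)

variable {F V : Type*} [Field F] [AddCommGroup V] [Module F V]

theorem det_fromBlocks_zero_symm (m : ℕ) (A D : Matrix (Fin m) (Fin m) F) :
    (Matrix.fromBlocks 0 A A.transpose D).det * (-1) ^ m = A.det * A.det := by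
  rw [← det_fromBlocks_swap m, ← Matrix.det_mul, Matrix.fromBlocks_multiply]
  simp [Matrix.det_fromBlocks_zero₁₂]

/-- A totally singular half forces the square condition. -/
theorem isSquare_of_totallySingular [FiniteDimensional F V] (Q : QuadraticForm F V) {m : ℕ}
    (hdim : Module.finrank F V = 2 * m) (W : Submodule F V) (hW : Module.finrank F W = m)
    (hWQ : ∀ w ∈ W, Q w = 0) {ι : Type*} [Fintype ι] [DecidableEq ι] (b : Module.Basis ι F V) :
    IsSquare ((-1 : F) ^ m * (LinearMap.toMatrix₂ b b Q.polarBilin).det) := by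
  classical
  obtain ⟨C, hC⟩ := Submodule.exists_isCompl W
  have hCd : Module.finrank F C = m := by
    have := Submodule.finrank_add_eq_of_isCompl hC
    omega
  let bW := Module.finBasisOfFinrankEq F W hW
  let bC := Module.finBasisOfFinrankEq F C hCd
  let c : Module.Basis (Fin m ⊕ Fin m) F V :=
    (bW.prod bC).map (Submodule.prodEquivOfIsCompl W C hC)
  let σ : ι ≃ Fin m ⊕ Fin m := b.indexEquiv c
  obtain ⟨t, ht, hdet⟩ := disc_change Q (b.reindex σ) c
  have hb : (LinearMap.toMatrix₂ (b.reindex σ) (b.reindex σ) Q.polarBilin).det =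
      (LinearMap.toMatrix₂ b b Q.polarBilin).det := by
    rw [show LinearMap.toMatrix₂ (b.reindex σ) (b.reindex σ) Q.polarBilin =
      (LinearMap.toMatrix₂ b b Q.polarBilin).submatrix σ.symm σ.symm by
        ext i j; simp [LinearMap.toMatrix₂_apply]]
    exact Matrix.det_submatrix_equiv_self _ _
  obtain ⟨M, hM⟩ : ∃ M, M = LinearMap.toMatrix₂ c c Q.polarBilin := ⟨_, rfl⟩
  have h11 : M.toBlocks₁₁ = 0 := by
    ext i j
    simp only [Matrix.toBlocks₁₁, Matrix.of_apply, hM, LinearMap.toMatrix₂_apply, Matrix.zero_apply,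
      QuadraticMap.polarBilin_apply_apply]
    have hi : c (Sum.inl i) ∈ W := by simp [c]
    have hj : c (Sum.inl j) ∈ W := by simp [c]
    simp [QuadraticMap.polar, hWQ _ hi, hWQ _ hj, hWQ _ (W.add_mem hi hj)]
  have h21 : M.toBlocks₂₁ = M.toBlocks₁₂.transpose := by
    ext i j
    simp only [Matrix.toBlocks₂₁, Matrix.toBlocks₁₂, Matrix.of_apply, Matrix.transpose_apply, hM,
      LinearMap.toMatrix₂_apply, QuadraticMap.polarBilin_apply_apply]
    exact QuadraticMap.polar_comm Q _ _
  have h := det_fromBlocks_zero_symm m M.toBlocks₁₂ M.toBlocks₂₂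
  rw [← h11, ← h21, Matrix.fromBlocks_toBlocks, hM, hdet, hb] at h
  refine ⟨(M.toBlocks₁₂).det / t, ?_⟩
  rw [hM]
  field_simp
  linear_combination h

/-- The square condition gives a totally singular half. -/
theorem exists_totallySingular [Finite F] [FiniteDimensional F V] (Q : QuadraticForm F V)
    (h2 : (2 : F) ≠ 0) (hQ : ∀ x, (∀ y, polar Q x y = 0) → x = 0) {m : ℕ}
    (hdim : Module.finrank F V = 2 * m) {ι : Type*} [Fintype ι] [DecidableEq ι]
    (b : Module.Basis ι F V)
    (hsq : IsSquare ((-1 : F) ^ m * (LinearMap.toMatrix₂ b b Q.polarBilin).det)) :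
    ∃ W : Submodule F V, Module.finrank F W = m ∧ ∀ w ∈ W, Q w = 0 := by
  classical
  have hcard : Fintype.card ι = Fintype.card (Fin m ⊕ Fin m) := by
    rw [← Module.finrank_eq_card_basis b, hdim]; simp; ring
  let σ : ι ≃ Fin m ⊕ Fin m := Fintype.equivOfCardEq hcard
  have hb : (LinearMap.toMatrix₂ (b.reindex σ) (b.reindex σ) Q.polarBilin).det =
      (LinearMap.toMatrix₂ b b Q.polarBilin).det := by
    rw [show LinearMap.toMatrix₂ (b.reindex σ) (b.reindex σ) Q.polarBilin =
      (LinearMap.toMatrix₂ b b Q.polarBilin).submatrix σ.symm σ.symm by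
        ext i j; simp [LinearMap.toMatrix₂_apply]]
    exact Matrix.det_submatrix_equiv_self _ _
  have hplus : (LinearMap.toMatrix₂ (Pi.basisFun F (Fin m ⊕ Fin m)) (Pi.basisFun F (Fin m ⊕ Fin m))
      (plusForm m F).polarBilin).det = (-1) ^ m := by
    rw [← plusForm_disc (F := F) m]
    congr 1
  obtain ⟨e, he⟩ := exists_isometry_of_disc (plusForm m F) Q h2
    (fun x hx => (plusForm_nondeg m).1 x fun y => by simpa using hx y) hQ
    (Pi.basisFun F (Fin m ⊕ Fin m)) (b.reindex σ) (by rwa [hplus, hb])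
  refine ⟨(LinearMap.range (LinearMap.pi fun s : Fin m ⊕ Fin m =>
    (Sum.elim (fun i => LinearMap.proj i) (fun _ => 0) s : (Fin m → F) →ₗ[F] F))).map
      (e : (Fin m ⊕ Fin m → F) →ₗ[F] V), ?_, ?_⟩
  · rw [LinearEquiv.finrank_map_eq, LinearMap.finrank_range_of_inj, Module.finrank_fintype_fun_eq_card,
      Fintype.card_fin]
    intro x y h
    funext i
    simpa using congrFun h (Sum.inl i)
  · rintro _ ⟨_, ⟨x, rfl⟩, rfl⟩
    rw [LinearEquiv.coe_coe, he, plusForm_apply]
    simp

/-- The quadratic map of a symmetric bilinear form: its polar form. -/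
theorem polarBilin_toQuadraticMap (B : LinearMap.BilinForm F V) (hS : B.IsSymm) :
    (LinearMap.BilinMap.toQuadraticMap B).polarBilin = (2 : F) • B := by
  ext x y
  simp only [QuadraticMap.polarBilin_apply_apply, QuadraticMap.polar,
    LinearMap.BilinMap.toQuadraticMap_apply, map_add, LinearMap.add_apply, LinearMap.smul_apply,
    smul_eq_mul, hS.eq y x]
  ring

theorem sep_toQuadraticMap (B : LinearMap.BilinForm F V) (hS : B.IsSymm) (h2 : (2 : F) ≠ 0)
    (hB : ∀ x, (∀ y, B x y = 0) → x = 0) (x : V)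
    (hx : ∀ y, polar (LinearMap.BilinMap.toQuadraticMap B) x y = 0) : x = 0 := by
  refine hB x fun y => ?_
  have h := hx y
  rw [← QuadraticMap.polarBilin_apply_apply, polarBilin_toQuadraticMap B hS] at h
  simpa [h2] using h

theorem isotropic_of_totallySingular (B : LinearMap.BilinForm F V) (hS : B.IsSymm) (h2 : (2 : F) ≠ 0)
    (W : Submodule F V) (hW : ∀ w ∈ W, LinearMap.BilinMap.toQuadraticMap B w = 0) :
    ∀ x ∈ W, ∀ y ∈ W, B x y = 0 := by
  intro x hx y hy
  have h : polar (LinearMap.BilinMap.toQuadraticMap B) x y = 0 := by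
    rw [QuadraticMap.polar, hW _ hx, hW _ hy, hW _ (W.add_mem hx hy)]; ring
  rw [← QuadraticMap.polarBilin_apply_apply, polarBilin_toQuadraticMap B hS] at h
  simpa [h2] using h

end CfsgLib.Geom
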