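import Mathlib
import Cfsg.Agent.Lib.Geom.StdForms
import Cfsg.Agent.Lib.Geom.MaxTS

set_option autoImplicit false

/-!
Coordinate maximal totally singular subspaces of `plusForm`.
-/

namespace CfsgLib.Geom

variable {F : Type*} [Field F]

/-- Vectors supported on one index out of each hyperbolic pair. -/
noncomputable def coordTS (m : ℕ) (s : Fin m → Bool) : Submodule F (Fin m ⊕ Fin m → F) :=
  ⨅ i : Fin m, LinearMap.ker (LinearMap.proj (R := F) (φ := fun _ => F)
    (if s i then Sum.inl i else Sum.inr i : Fin m ⊕ Fin m))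

theorem mem_coordTS {m : ℕ} {s : Fin m → Bool} {v : Fin m ⊕ Fin m → F} :
    v ∈ coordTS m s ↔ ∀ i, v (if s i then Sum.inl i else Sum.inr i) = 0 := by
  simp [coordTS]

/-- Free coordinates of `coordTS`. -/
noncomputable def coordTSEquiv (m : ℕ) (s : Fin m → Bool) :
    coordTS (F := F) m s ≃ₗ[F] (Fin m → F) where
  toFun v i := v.1 (if s i then Sum.inr i else Sum.inl i)
  map_add' _ _ := rfl
  map_smul' _ _ := rfl
  invFun f := ⟨fun j => Sum.elim (fun i => if s i then 0 else f i) (fun i => if s i then f i else 0) j,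
    mem_coordTS.2 fun i => by cases h : s i <;> simp [h]⟩
  left_inv v := by
    refine Subtype.ext (funext fun j => ?_)
    rcases j with i | i <;> have := mem_coordTS.1 v.2 i <;> cases h : s i <;> simp_all
  right_inv f := funext fun i => by cases h : s i <;> simp [h]

theorem isMaxTS_coordTS (m : ℕ) (s : Fin m → Bool) :
    IsMaxTS (plusForm m F) m (coordTS m s) := by
  refine ⟨by rw [(coordTSEquiv m s).finrank_eq]; simp, fun v hv => ?_⟩
  rw [plusForm_apply]
  refine Finset.sum_eq_zero fun i _ => ?_
  have := mem_coordTS.1 hv i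
  cases h : s i <;> simp_all

end CfsgLib.Geom
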