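import Mathlib
import Cfsg.Agent.Lib.Geom.DicksonPSL
import Cfsg.Agent.Lib.Classical.SLTwoSylow

set_option autoImplicit false

/-!
Stabilisers of points normalise Sylow subgroups in the defining characteristic.
-/

namespace CfsgLib.Geom.Moebius

open Matrix
open scoped MatrixGroups

variable {F : Type*} [Field F]

theorem toPGL_uElt (t : F) :
    Matrix.ProjectiveSpecialLinearGroup.toPGL
      (QuotientGroup.mk (CfsgLib.Classical.uElt t) : ProjectiveSpecialLinearGroup (Fin 2) F) = aff 1 t :=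
  mk_transvection_zero_one t

/-- `PSL_2` is transitive on points. -/
theorem exists_psl_to (P : Line F) : ∃ g : ProjectiveSpecialLinearGroup (Fin 2) F,
    Matrix.ProjectiveSpecialLinearGroup.toPGL g • (inf : Line F) = P := by
  let s : SL(2, F) := ⟨!![0, -1; 1, 0], by simp [det_fin_two_of]⟩
  have hs : Matrix.ProjectiveSpecialLinearGroup.toPGL
      (QuotientGroup.mk s : ProjectiveSpecialLinearGroup (Fin 2) F) • (inf : Line F) = pt 0 :=
    gl_smul_mk_eq _ _ _ ⟨1, by ext i; fin_cases i <;> simp [s, mulVec, dotProduct] <;> rfl⟩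
  rcases point_cases P with rfl | ⟨x, rfl⟩
  · exact ⟨1, by rw [map_one, one_smul]⟩
  · refine ⟨QuotientGroup.mk (CfsgLib.Classical.uElt x) * QuotientGroup.mk s, ?_⟩
    rw [map_mul, mul_smul, hs, toPGL_uElt, aff_smul_pt]
    simp

theorem exists_normalizer_image [Fintype F] (p : ℕ) [Fact p.Prime] [CharP F p]
    (H : Subgroup (ProjectiveSpecialLinearGroup (Fin 2) F)) (P : Line F)
    (hP : ∀ x ∈ H, Matrix.ProjectiveSpecialLinearGroup.toPGL x • P = P) :
    ∃ (S : Sylow p (ProjectiveSpecialLinearGroup (Fin 2) F))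
      (K : Subgroup (ProjectiveSpecialLinearGroup (Fin 2) F)),
      K ≤ Subgroup.normalizer ((S : Subgroup (ProjectiveSpecialLinearGroup (Fin 2) F)) : Set (ProjectiveSpecialLinearGroup (Fin 2) F)) ∧
        Nonempty (H ≃* K) := by
  obtain ⟨S0, hS0⟩ := CfsgLib.Classical.exists_sylow_uSL (F := F) (p := p)
  set π := QuotientGroup.mk' (Subgroup.center SL(2, F))
  have hsurj : Function.Surjective π := QuotientGroup.mk'_surjective _
  set S : Sylow p (ProjectiveSpecialLinearGroup (Fin 2) F) := S0.mapSurjective hsurj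
  have hS : (S : Subgroup (ProjectiveSpecialLinearGroup (Fin 2) F)) = (CfsgLib.Classical.uSL F).map π := by
    rw [← hS0]; rfl
  obtain ⟨g, hg⟩ := exists_psl_to P
  refine ⟨S, H.map (MulAut.conj g⁻¹).toMonoidHom, ?_, ⟨H.equivMapOfInjective _ (MulAut.conj g⁻¹).injective⟩⟩
  rintro _ ⟨x, hx, rfl⟩
  set y := (MulAut.conj g⁻¹).toMonoidHom x
  have hy : Matrix.ProjectiveSpecialLinearGroup.toPGL y • (inf : Line F) = inf := by
    show Matrix.ProjectiveSpecialLinearGroup.toPGL (g⁻¹ * x * g⁻¹⁻¹) • _ = _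
    rw [inv_inv, map_mul, map_mul, mul_smul, mul_smul, hg, hP x hx, ← hg, map_inv, inv_smul_smul]
  obtain ⟨a, b, hab⟩ := exists_aff_of_fix hy
  have hle : ∀ z ∈ (S : Subgroup (ProjectiveSpecialLinearGroup (Fin 2) F)),
      y * z * y⁻¹ ∈ (S : Subgroup (ProjectiveSpecialLinearGroup (Fin 2) F)) := by
    intro z hz
    rw [hS] at hz ⊢
    obtain ⟨_, ⟨t, rfl⟩, rfl⟩ := hz
    refine ⟨CfsgLib.Classical.uElt ((a : F) * t), ⟨_, rfl⟩, Matrix.ProjectiveSpecialLinearGroup.toPGL_injective ?_⟩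
    rw [map_mul, map_mul, map_inv, hab]
    show Matrix.ProjectiveSpecialLinearGroup.toPGL (QuotientGroup.mk _) = _ *
      Matrix.ProjectiveSpecialLinearGroup.toPGL (QuotientGroup.mk _) * _
    rw [toPGL_uElt, toPGL_uElt, aff_conj_trans]
  refine Subgroup.mem_normalizer_iff.2 fun z => ⟨hle z, fun hz => ?_⟩
  have : (S : Subgroup (ProjectiveSpecialLinearGroup (Fin 2) F)).map (MulAut.conj y).toMonoidHom =
      (S : Subgroup (ProjectiveSpecialLinearGroup (Fin 2) F)) :=
    Subgroup.eq_of_le_of_card_ge (by rintro _ ⟨w, hw, rfl⟩; exact hle w hw)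
      (Nat.card_congr ((S : Subgroup (ProjectiveSpecialLinearGroup (Fin 2) F)).equivMapOfInjective _
        (MulAut.conj y).injective).toEquiv).le
  obtain ⟨w, hw, e⟩ := this.symm ▸ hz
  have : w = z := mul_left_cancel (mul_right_cancel (show y * w * y⁻¹ = y * z * y⁻¹ from e))
  exact this ▸ hw

end CfsgLib.Geom.Moebius
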