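import Mathlib

set_option autoImplicit false

/-!
A product of three linear factors takes a non-square value when the number of elements is `3` modulo `4`.
-/

namespace CfsgLib.Geom.CubicNonSquare

open Polynomial

variable {F : Type*} [Field F] [Fintype F]

theorem coeff_add_C_pow (r : F) (n j : ℕ) :
    ((X + C r : F[X]) ^ n).coeff j = r ^ (n - j) * (n.choose j : F) :=
  coeff_X_add_C_pow r n j

theorem choose_succ_cast (n j : ℕ) (hj : j ≤ n) :
    (n.choose (j + 1) : F) * ((j : F) + 1) = (n.choose j : F) * ((n : F) - j) := by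
  have h := congrArg (Nat.cast : ℕ → F) (Nat.choose_succ_right_eq n j)
  push_cast [Nat.cast_sub hj] at h
  linear_combination h

/-- Some `t` makes `t * (a * t + b) * (c * t + e)` a non-square. -/
theorem exists_not_square (h11 : 11 ≤ Fintype.card F) (h4 : Fintype.card F % 4 = 3) {a b c e : F} (ha : a ≠ 0)
    (hb : b ≠ 0) (hc : c ≠ 0) (he : e ≠ 0) (hne : a * e ≠ b * c) :
    ∃ t : F, ¬ IsSquare (t * (a * t + b) * (c * t + e)) := by
  classical
  by_contra hall
  push Not at hall
  obtain ⟨m, hm⟩ : ∃ m, Fintype.card F = 2 * m + 1 := ⟨Fintype.card F / 2, by omega⟩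
  have hchar : ringChar F ≠ 2 := fun h => by
    have := FiniteField.even_card_iff_char_two.1 h
    omega
  set r := -b / a with hr
  have hr0 : r ≠ 0 := div_ne_zero (neg_ne_zero.2 hb) ha
  set s := -e / c with hs
  have hra : a * r + b = 0 := by rw [hr, mul_div_cancel₀ _ ha, neg_add_cancel]
  have hsc : c * s + e = 0 := by rw [hs, mul_div_cancel₀ _ hc, neg_add_cancel]
  have hrs : r - s ≠ 0 := by
    intro h
    refine hne ?_
    rw [sub_eq_zero.1 h] at hra
    linear_combination a * hsc - c * hra
  set Q : F[X] := (X - C r) * (X - C s) with hQ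
  set h : F[X] := ((C a * X + C b) * (C c * X + C e)) ^ m with hh
  set D : F[X] := (h - X ^ m) * (X * Q) with hD
  -- the polynomial vanishes everywhere
  have hv : ∀ t : F, D.IsRoot t := by
    intro t
    simp only [hD, hQ, hh, IsRoot, eval_mul, eval_sub, eval_pow, eval_add, eval_X, eval_C]
    by_cases ht : t = 0
    · simp [ht]
    by_cases htr : t = r
    · simp [htr]
    by_cases hts : t = s
    · simp [hts]
    have hu : t * (a * t + b) * (c * t + e) ≠ 0 := by
      refine mul_ne_zero (mul_ne_zero ht fun h0 => htr ?_) fun h0 => hts ?_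
      · exact mul_left_cancel₀ ha (by linear_combination h0 - hra)
      · exact mul_left_cancel₀ hc (by linear_combination h0 - hsc)
    have h1 := (FiniteField.isSquare_iff hchar hu).1 (hall t)
    rw [show Fintype.card F / 2 = m by omega, mul_assoc, mul_pow] at h1
    have h2 : t ^ m * t ^ m = 1 := by
      rw [← pow_add, show m + m = Fintype.card F - 1 by omega]
      exact FiniteField.pow_card_sub_one_eq_one t ht
    have h3 : ((a * t + b) * (c * t + e)) ^ m - t ^ m = 0 := by
      linear_combination t ^ m * h1 - ((a * t + b) * (c * t + e)) ^ m * h2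
    rw [h3, zero_mul]
  have hdeg : D.natDegree ≤ Fintype.card F + 2 := by
    simp only [hD, hQ, hh]
    have h1 : ((C a * X + C b) * (C c * X + C e) : F[X]).natDegree ≤ 2 := by compute_degree
    have h2 : (X * ((X - C r) * (X - C s)) : F[X]).natDegree ≤ 3 := by compute_degree
    have h3 := natDegree_pow_le_of_le m h1
    have h4 := (natDegree_sub_le (((C a * X + C b) * (C c * X + C e)) ^ m) (X ^ m : F[X]))
    have h5 := natDegree_X_pow_le (R := F) m
    have h6 := natDegree_mul_le (p := ((C a * X + C b) * (C c * X + C e)) ^ m - X ^ m) (q := X * ((X - C r) * (X - C s)))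
    omega
  have hdvd : (X ^ Fintype.card F - X : F[X]) ∣ D := by
    have h0 : (X ^ Fintype.card F - X : F[X]) = ∏ x : F, (X - C x) := by
      have h1 := Polynomial.prod_multiset_X_sub_C_of_monic_of_roots_card_eq
        (p := (X ^ Fintype.card F - X : F[X]))
        (monic_X_pow_sub (by rw [degree_X]; exact_mod_cast Fintype.one_lt_card))
        (by rw [FiniteField.roots_X_pow_card_sub_X, FiniteField.X_pow_card_sub_X_natDegree_eq F Fintype.one_lt_card]
            rfl)
      rw [FiniteField.roots_X_pow_card_sub_X] at h1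
      exact h1.symm
    rw [h0]
    exact Finset.prod_dvd_of_coprime ((pairwise_coprime_X_sub_C Function.injective_id).set_pairwise _)
      fun x _ => dvd_iff_isRoot.2 (hv x)
  obtain ⟨R, hR⟩ := hdvd
  have hRdeg : R.natDegree ≤ 2 := by
    by_cases hR0 : R = 0
    · simp [hR0]
    have := natDegree_mul (FiniteField.X_pow_card_sub_X_ne_zero F (Fintype.one_lt_card (α := F))) hR0
    rw [← hR, FiniteField.X_pow_card_sub_X_natDegree_eq F Fintype.one_lt_card] at this
    omega
  -- move `r` to the origin
  set τ : F[X] →+* F[X] := compRingHom (X + C r)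
  have hτX : τ X = X + C r := X_comp
  have hτC : ∀ x : F, τ (C x) = C x := fun x => C_comp
  have key := congrArg τ hR
  have hfrob : (X + C r : F[X]) ^ Fintype.card F = X ^ Fintype.card F + C r := by
    obtain ⟨p, hp⟩ := CharP.exists F
    obtain ⟨n, hprime, hn⟩ := FiniteField.card F p
    have := Fact.mk hprime
    rw [hn, add_pow_char_pow, ← C_pow, ← hn, FiniteField.pow_card]
  simp only [hD, hQ, map_mul, map_sub, map_pow, hτX, hτC] at key
  rw [hfrob, show (X + C r - C r : F[X]) = X by ring, show X + C r - C s = X + C (r - s) by rw [C_sub]; ring,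
    show (X ^ Fintype.card F + C r - (X + C r) : F[X]) = X ^ Fintype.card F - X by ring] at key
  have hτh : X ^ m ∣ τ h := by
    refine ⟨(C a * (C c * X + C (c * r + e))) ^ m, ?_⟩
    simp only [hh, map_pow, map_mul, map_add, hτX, hτC]
    rw [← mul_pow]
    congr 1
    have hb' : (C b : F[X]) = - (C a * C r) := by rw [← C_mul, ← C_neg]; congr 1; linear_combination hra
    rw [hb']
    ring
  obtain ⟨w, hw⟩ := hτh
  set δ := r - s
  have main : ∀ j, 3 ≤ j → j < m →
      δ * (((m + 1).choose j : ℕ) : F) + r * (((m + 1).choose (j - 1) : ℕ) : F) = 0 := by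
    intro j hj hjm
    have h0 : ((X + C r : F[X]) ^ (m + 1) * (X + C δ)).coeff j = 0 := by
      have e : ((X + C r : F[X]) ^ (m + 1) * (X + C δ)) * X =
          X ^ (m + 1) * (w * (X + C r) * (X + C δ)) - (X ^ Fintype.card F - X) * τ R := by
        rw [← key, hw]; ring
      have e2 := congrArg (fun P : F[X] => P.coeff (j + 1)) e
      simp only [coeff_mul_X, coeff_sub] at e2
      rw [e2, sub_mul, coeff_sub, coeff_X_pow_mul', if_neg (by omega), coeff_X_pow_mul', if_neg (by omega),
        coeff_X_mul, coeff_eq_zero_of_natDegree_lt, sub_zero, sub_zero]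
      have h1 : (τ R).natDegree ≤ 2 := by
        show (R.comp (X + C r)).natDegree ≤ 2
        rw [natDegree_comp, natDegree_X_add_C, mul_one]
        exact hRdeg
      omega
    obtain ⟨i, rfl⟩ : ∃ i, j = i + 1 := ⟨j - 1, by omega⟩
    rw [mul_add, coeff_add, coeff_mul_X, coeff_mul_C, coeff_add_C_pow, coeff_add_C_pow,
      show m + 1 - i = m + 1 - (i + 1) + 1 by omega, pow_succ] at h0
    rw [Nat.add_sub_cancel]
    refine (mul_eq_zero.1 (?_ : r ^ (m + 1 - (i + 1)) * _ = 0)).resolve_left (pow_ne_zero _ hr0)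
    linear_combination h0
  obtain ⟨p, hp⟩ := CharP.exists F
  obtain ⟨n, hprime, hn⟩ := FiniteField.card F p
  by_cases h3 : p = 3
  · subst h3
    have := Fact.mk hprime
    have hn3 : 3 ≤ (n : ℕ) := by
      by_contra hlt
      have hn' : (n : ℕ) = 1 ∨ (n : ℕ) = 2 := by have := n.pos; omega
      rcases hn' with e | e <;> rw [e] at hn <;> omega
    obtain ⟨i, hi⟩ : 27 ∣ Fintype.card F := by
      rw [hn, show (27 : ℕ) = 3 ^ 3 by norm_num]
      exact pow_dvd_pow 3 hn3
    obtain ⟨l, hl⟩ : ∃ l, m + 1 = 27 * l + 14 := ⟨(m + 1) / 27, by omega⟩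
    have lucas : ∀ k, ((((m + 1).choose k) : ℕ) : F) =
        ((((m + 1) % 3).choose (k % 3) * ((m + 1) / 3).choose (k / 3) : ℕ) : F) := fun k =>
      (CharP.natCast_eq_natCast F 3).2 Choose.choose_modEq_choose_mod_mul_choose_div_nat
    have lucas' : ∀ k, ((((m + 1) / 3).choose k : ℕ) : F) =
        ((((m + 1) / 3 % 3).choose (k % 3) * ((m + 1) / 3 / 3).choose (k / 3) : ℕ) : F) := fun k =>
      (CharP.natCast_eq_natCast F 3).2 Choose.choose_modEq_choose_mod_mul_choose_div_nat
    have h := main 6 (by norm_num) (by omega)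
    rw [lucas, lucas, show (m + 1) % 3 = 2 by omega] at h
    simp only [show (6 : ℕ) % 3 = 0 by norm_num, show (6 : ℕ) / 3 = 2 by norm_num,
      show (6 - 1 : ℕ) % 3 = 2 by norm_num, show (6 - 1 : ℕ) / 3 = 1 by norm_num, Nat.choose_self,
      Nat.choose_zero_right, one_mul] at h
    rw [lucas' 2, lucas' 1, show (m + 1) / 3 % 3 = 1 by omega] at h
    norm_num at h
    exact hr0 h
  · have h3' : (3 : F) ≠ 0 := fun e => h3 ((Nat.prime_dvd_prime_iff_eq hprime Nat.prime_three).1
      ((CharP.cast_eq_zero_iff F p 3).1 (by exact_mod_cast e)))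
    have h2 : (2 : F) ≠ 0 := Ring.two_ne_zero hchar
    have hN : (((m + 1 : ℕ) : F)) * 2 = 1 := by
      have hq : ((2 * m + 1 : ℕ) : F) = 0 := by rw [← hm]; exact FiniteField.cast_card_eq_zero F
      push_cast at hq ⊢
      linear_combination hq
    set N := ((m + 1 : ℕ) : F) with hNdef
    have e1 := choose_succ_cast (F := F) (m + 1) 0 (Nat.zero_le _)
    have e2 := choose_succ_cast (F := F) (m + 1) 1 (by omega)
    have e3 := choose_succ_cast (F := F) (m + 1) 2 (by omega)
    have e4 := choose_succ_cast (F := F) (m + 1) 3 (by omega)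
    have a3 := main 3 le_rfl (by omega)
    have a4 := main 4 (by norm_num) (by omega)
    norm_num only [Nat.choose_zero_right, Nat.cast_one, Nat.cast_zero, Nat.cast_ofNat, zero_add, Nat.reduceAdd,
      Nat.reduceSub, sub_zero, one_mul, mul_one, ← hNdef] at e1 e2 e3 e4 a3 a4
    set C2 := (((m + 1).choose 2 : ℕ) : F)
    set C3 := (((m + 1).choose 3 : ℕ) : F)
    set C4 := (((m + 1).choose 4 : ℕ) : F)
    rw [e1] at e2
    have c2 : C2 * 8 = -1 := by linear_combination 4 * e2 + (2 * N - 1) * hN
    have c3 : C3 * 2 = -C2 :=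
      mul_left_cancel₀ h3' (by linear_combination 2 * e3 + C2 * hN)
    have c4 : C4 * 16 = 5 * C2 := by linear_combination 4 * e4 + 2 * C3 * hN - 5 * c3
    have hz : C2 * C2 * r = 0 := by
      linear_combination 16 * C4 * a3 - 16 * C3 * a4 - r * C2 * c4 + r * (4 * (2 * C3 - C2)) * c3
    have hC2 : C2 ≠ 0 := fun e0 => by rw [e0, zero_mul] at c2; exact one_ne_zero (neg_eq_zero.1 c2.symm)
    exact hr0 ((mul_eq_zero.1 hz).resolve_left (mul_ne_zero hC2 hC2))

/-- `v` is a fixed line of the matrix `!![m₁, m₂; m₃, m₄]`: a finite point `t` or the point at infinity. -/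
def FixesSome {K : Type*} [CommRing K] (m₁ m₂ m₃ m₄ : K) : Prop :=
  m₃ = 0 ∨ ∃ t : K, m₁ * t + m₂ = t * (m₃ * t + m₄)

instance decidableFixesSome {K : Type*} [CommRing K] [Fintype K] [DecidableEq K] (m₁ m₂ m₃ m₄ : K) :
    Decidable (FixesSome m₁ m₂ m₃ m₄) :=
  inferInstanceAs (Decidable (m₃ = 0 ∨ ∃ t : K, m₁ * t + m₂ = t * (m₃ * t + m₄)))

theorem exists_seven : ∀ a b c : ZMod 7, a * a + b * c = -1 →
    ∃ e f g : ZMod 7, e * e + f * g = -1 ∧
      FixesSome (-g) e e f ∧
      FixesSome (a * e + b * g) (a * f - b * e) (c * e - a * g) (c * f + a * e) := by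
  decide +kernel

end CfsgLib.Geom.CubicNonSquare
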