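import Mathlib

set_option autoImplicit false

/-!
The icosahedral group inside `PSL_2` of a field with a golden ratio and a solution of `r^2 + s^2 = -1`.
-/

namespace CfsgLib.Geom.Icosahedral

open Matrix
open scoped MatrixGroups

/-- Elements `a + b φ` of the ring of the golden ratio. -/
def zmul (x y : ℤ × ℤ) : ℤ × ℤ := (x.1 * y.1 + x.2 * y.2, x.1 * y.2 + x.2 * y.1 + x.2 * y.2)

/-- Quaternions over the ring of the golden ratio. -/
abbrev Quad : Type := (ℤ × ℤ) × (ℤ × ℤ) × (ℤ × ℤ) × (ℤ × ℤ)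

def qmul : Quad → Quad → Quad
  | (a, b, c, d), (e, f, g, h) =>
    (zmul a e - zmul b f - zmul c g - zmul d h, zmul a f + zmul b e + zmul c h - zmul d g,
      zmul a g - zmul b h + zmul c e + zmul d f, zmul a h + zmul b g - zmul c f + zmul d e)

def qnorm : Quad → ℤ × ℤ
  | (a, b, c, d) => zmul a a + zmul b b + zmul c c + zmul d d

/-- Twice the unit quaternions above the even permutations of five letters. -/
def table : List Quad :=
  [
    ((0,0), (0,0), (0,0), (0,0)), ((0,0), (0,0), (0,0), (0,0)), ((0,0), (0,0), (0,0), (0,0)),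
    ((0,0), (0,0), (0,0), (0,0)), ((0,0), (0,0), (0,0), (0,0)), ((0,0), (0,0), (0,0), (0,0)),
    ((0,0), (0,0), (0,0), (0,0)), ((2,0), (0,0), (0,0), (0,0)), ((1,0), (-1,0), (-1,0), (-1,0)),
    ((1,0), (1,0), (1,0), (1,0)), ((0,0), (0,0), (0,0), (0,0)), ((0,0), (0,0), (0,0), (2,0)),
    ((0,0), (0,0), (0,0), (0,0)), ((1,0), (1,0), (-1,0), (-1,0)), ((1,0), (1,0), (-1,0), (1,0)),
    ((0,0), (0,0), (0,0), (0,0)), ((1,0), (-1,0), (1,0), (1,0)), ((1,0), (-1,0), (-1,0), (1,0)),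
    ((0,0), (0,0), (0,0), (0,0)), ((0,0), (0,0), (2,0), (0,0)), ((0,0), (0,0), (0,0), (0,0)),
    ((1,0), (-1,0), (1,0), (-1,0)), ((1,0), (1,0), (1,0), (-1,0)), ((0,0), (2,0), (0,0), (0,0)),
    ((0,0), (0,0), (0,0), (0,0)), ((0,0), (0,0), (0,0), (0,0)), ((0,0), (0,0), (0,0), (0,0)),
    ((0,0), (1,-1), (0,1), (-1,0)), ((0,0), (1,0), (-1,1), (0,-1)), ((0,0), (0,1), (-1,0), (1,-1)),
    ((0,0), (0,0), (0,0), (0,0)), ((0,0), (0,0), (0,0), (0,0)), ((0,0), (0,0), (0,0), (0,0)),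
    ((0,0), (0,0), (0,0), (0,0)), ((0,0), (0,0), (0,0), (0,0)), ((1,0), (0,1), (-1,1), (0,0)),
    ((0,0), (0,0), (0,0), (0,0)), ((0,0), (0,0), (0,0), (0,0)), ((0,1), (0,0), (-1,1), (-1,0)),
    ((1,-1), (0,1), (0,0), (1,0)), ((0,1), (-1,1), (-1,0), (0,0)), ((0,0), (0,0), (0,0), (0,0)),
    ((1,0), (-1,1), (0,0), (0,1)), ((0,0), (0,0), (0,0), (0,0)), ((1,-1), (0,0), (1,0), (0,1)),
    ((1,-1), (1,0), (0,1), (0,0)), ((0,0), (0,0), (0,0), (0,0)), ((1,0), (0,0), (0,1), (-1,1)),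
    ((0,1), (-1,0), (0,0), (-1,1)), ((0,0), (0,0), (0,0), (0,0)), ((0,0), (0,0), (0,0), (0,0)),
    ((1,0), (0,-1), (1,-1), (0,0)), ((0,0), (0,0), (0,0), (0,0)), ((1,-1), (-1,0), (0,-1), (0,0)),
    ((0,1), (1,-1), (1,0), (0,0)), ((0,0), (1,-1), (0,1), (1,0)), ((0,0), (0,0), (0,0), (0,0)),
    ((0,0), (0,0), (0,0), (0,0)), ((1,0), (0,0), (0,-1), (-1,1)), ((1,0), (1,-1), (0,0), (0,1)),
    ((0,0), (0,0), (0,0), (0,0)), ((0,0), (0,0), (0,0), (0,0)), ((0,0), (0,0), (0,0), (0,0)),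
    ((0,0), (0,0), (0,0), (0,0)), ((0,0), (0,0), (0,0), (0,0)), ((0,0), (0,1), (-1,0), (-1,1)),
    ((1,-1), (0,-1), (0,0), (1,0)), ((0,0), (0,0), (0,0), (0,0)), ((0,0), (0,0), (0,0), (0,0)),
    ((1,-1), (0,0), (-1,0), (0,1)), ((0,0), (1,0), (-1,1), (0,1)), ((0,1), (0,0), (1,-1), (-1,0)),
    ((0,0), (0,0), (0,0), (0,0)), ((0,1), (1,0), (0,0), (-1,1)), ((0,0), (0,0), (0,0), (0,0)),
    ((0,0), (0,0), (0,0), (0,0)), ((1,-1), (0,-1), (0,0), (-1,0)), ((1,0), (1,-1), (0,0), (0,-1)),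
    ((0,0), (0,0), (0,0), (0,0)), ((0,1), (1,0), (0,0), (1,-1)), ((1,0), (0,0), (0,1), (1,-1)),
    ((0,0), (0,0), (0,0), (0,0)), ((1,0), (0,-1), (-1,1), (0,0)), ((0,0), (0,0), (0,0), (0,0)),
    ((0,0), (0,1), (1,0), (1,-1)), ((0,1), (0,0), (-1,1), (1,0)), ((0,0), (1,-1), (0,-1), (-1,0)),
    ((0,0), (0,0), (0,0), (0,0)), ((0,0), (0,0), (0,0), (0,0)), ((0,1), (1,-1), (-1,0), (0,0)),
    ((0,0), (0,0), (0,0), (0,0)), ((0,0), (0,0), (0,0), (0,0)), ((0,0), (0,0), (0,0), (0,0)),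
    ((0,0), (0,0), (0,0), (0,0)), ((0,0), (0,0), (0,0), (0,0)), ((1,-1), (0,0), (1,0), (0,-1)),
    ((1,-1), (-1,0), (0,1), (0,0)), ((0,0), (1,0), (1,-1), (0,-1)), ((0,0), (0,0), (0,0), (0,0)),
    ((0,0), (0,0), (0,0), (0,0)), ((0,0), (0,0), (0,0), (0,0)), ((0,1), (0,0), (1,-1), (1,0)),
    ((1,0), (0,0), (0,-1), (1,-1)), ((1,-1), (0,0), (-1,0), (0,-1)), ((0,0), (0,0), (0,0), (0,0)),
    ((1,0), (-1,1), (0,0), (0,-1)), ((0,0), (0,0), (0,0), (0,0)), ((1,0), (0,1), (1,-1), (0,0)),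
    ((0,0), (1,0), (1,-1), (0,1)), ((0,0), (0,0), (0,0), (0,0)), ((1,-1), (0,1), (0,0), (-1,0)),
    ((0,0), (1,-1), (0,-1), (1,0)), ((0,0), (0,0), (0,0), (0,0)), ((1,-1), (1,0), (0,-1), (0,0)),
    ((0,0), (0,0), (0,0), (0,0)), ((0,1), (-1,0), (0,0), (1,-1)), ((0,1), (-1,1), (1,0), (0,0)),
    ((0,0), (0,1), (1,0), (-1,1)), ((0,0), (0,0), (0,0), (0,0)), ((0,0), (0,0), (0,0), (0,0)),
    ((0,0), (0,0), (0,0), (0,0)), ((0,0), (0,0), (0,0), (0,0)), ((0,0), (0,0), (0,0), (0,0)),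
    ((0,0), (0,0), (0,0), (0,0)), ((0,0), (0,0), (0,0), (0,0))]

def quadOf (σ : Equiv.Perm (Fin 5)) : Quad :=
  table.getD (25 * (σ 0 : ℕ) + 5 * (σ 1 : ℕ) + (σ 2 : ℕ)) ((0, 0), (0, 0), (0, 0), (0, 0))

def genA : Equiv.Perm (Fin 5) := ⟨![0, 1, 3, 4, 2], ![0, 1, 4, 2, 3], by decide, by decide⟩

def genB : Equiv.Perm (Fin 5) := ⟨![2, 3, 4, 0, 1], ![3, 4, 0, 1, 2], by decide, by decide⟩

theorem genA_mem : genA ∈ alternatingGroup (Fin 5) :=
  Equiv.Perm.mem_alternatingGroup.2 (by decide +kernel)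

theorem genB_mem : genB ∈ alternatingGroup (Fin 5) :=
  Equiv.Perm.mem_alternatingGroup.2 (by decide +kernel)

theorem table_mul' : ∀ σ : Equiv.Perm (Fin 5), Equiv.Perm.sign σ = 1 →
    ((qmul (quadOf σ) (quadOf genA) = quadOf (σ * genA) + quadOf (σ * genA)) ∨
      (qmul (quadOf σ) (quadOf genA) = -(quadOf (σ * genA) + quadOf (σ * genA)))) ∧
    ((qmul (quadOf σ) (quadOf genB) = quadOf (σ * genB) + quadOf (σ * genB)) ∨
      (qmul (quadOf σ) (quadOf genB) = -(quadOf (σ * genB) + quadOf (σ * genB)))) := by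
  decide +kernel

theorem table_norm' : ∀ σ : Equiv.Perm (Fin 5), Equiv.Perm.sign σ = 1 → qnorm (quadOf σ) = (4, 0) := by
  decide +kernel

theorem table_norm (σ : alternatingGroup (Fin 5)) : qnorm (quadOf σ.1) = (4, 0) :=
  table_norm' σ.1 (Equiv.Perm.mem_alternatingGroup.1 σ.2)

theorem quadOf_one : quadOf 1 = ((2, 0), (0, 0), (0, 0), (0, 0)) := by decide +kernel

theorem genA_order : genA ^ 3 = 1 ∧ genA ≠ 1 := by decide +kernel

theorem genB_order : genB ^ 5 = 1 ∧ genB ≠ 1 := by decide +kernel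

theorem genAB_order : (genA * genB) ^ 2 = 1 ∧ genA * genB ≠ 1 := by decide +kernel

theorem closure_gen :
    Subgroup.closure {(⟨genA, genA_mem⟩ : alternatingGroup (Fin 5)), ⟨genB, genB_mem⟩} = ⊤ := by
  set A : alternatingGroup (Fin 5) := ⟨genA, genA_mem⟩
  set B : alternatingGroup (Fin 5) := ⟨genB, genB_mem⟩
  set K := Subgroup.closure {A, B}
  have hA : A ∈ K := Subgroup.subset_closure (Or.inl rfl)
  have hB : B ∈ K := Subgroup.subset_closure (Or.inr rfl)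
  have hord : ∀ (p : ℕ) (x : alternatingGroup (Fin 5)), p.Prime → x ∈ K → x ^ p = 1 → x ≠ 1 →
      p ∣ Nat.card K := by
    intro p x hp hx h1 h2
    have := Fact.mk hp
    have hd : orderOf (⟨x, hx⟩ : K) ∣ Nat.card K := orderOf_dvd_natCard _
    rwa [Subgroup.orderOf_mk, orderOf_eq_prime h1 h2] at hd
  have h30 : 30 ∣ Nat.card K := by
    have h2 := hord 2 (A * B) Nat.prime_two (mul_mem hA hB) (Subtype.ext genAB_order.1)
      (fun e => genAB_order.2 (congrArg Subtype.val e))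
    have h3 := hord 3 A Nat.prime_three hA (Subtype.ext genA_order.1)
      (fun e => genA_order.2 (congrArg Subtype.val e))
    have h5 := hord 5 B (by norm_num) hB (Subtype.ext genB_order.1)
      (fun e => genB_order.2 (congrArg Subtype.val e))
    exact Nat.Coprime.mul_dvd_of_dvd_of_dvd (by norm_num : Nat.Coprime 6 5)
      (Nat.Coprime.mul_dvd_of_dvd_of_dvd (by norm_num : Nat.Coprime 2 3) h2 h3) h5
  have h60 : Nat.card (alternatingGroup (Fin 5)) = 60 := by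
    rw [nat_card_alternatingGroup, Nat.card_fin]; rfl
  have hidx := K.card_mul_index
  obtain ⟨c, hc⟩ := h30
  rw [hc, h60] at hidx
  have hi : K.index ∣ 2 := ⟨c, by linarith⟩
  rcases (Nat.dvd_prime Nat.prime_two).1 hi with e | e
  · exact Subgroup.index_eq_one.1 e
  · have := Subgroup.normal_of_index_eq_two e
    refine (IsSimpleGroup.eq_bot_or_eq_top_of_normal K this).resolve_left fun e' => genA_order.2 ?_
    have hA1 : A = 1 := Subgroup.mem_bot.1 (by rw [← e']; exact hA)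
    exact congrArg Subtype.val hA1

universe u

variable {F : Type u} [Field F] (φ r s : F)

def zev (x : ℤ × ℤ) : F := (x.1 : F) + (x.2 : F) * φ

theorem zev_add (x y : ℤ × ℤ) : zev φ (x + y) = zev φ x + zev φ y := by simp [zev]; ring

theorem zev_sub (x y : ℤ × ℤ) : zev φ (x - y) = zev φ x - zev φ y := by simp [zev]; ring

theorem zev_neg (x : ℤ × ℤ) : zev φ (-x) = -zev φ x := by simp [zev]; ring

theorem zev_mul (hφ : φ * φ = φ + 1) (x y : ℤ × ℤ) : zev φ (zmul x y) = zev φ x * zev φ y := by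
  simp [zev, zmul]
  linear_combination -(x.2 : F) * (y.2 : F) * hφ

/-- The matrix of a quaternion. -/
def qev : Quad → Matrix (Fin 2) (Fin 2) F
  | (a, b, c, d) => !![zev φ a + zev φ c * r - zev φ d * s, -zev φ b + zev φ c * s + zev φ d * r;
      zev φ b + zev φ c * s + zev φ d * r, zev φ a - zev φ c * r + zev φ d * s]

theorem qev_add (x y : Quad) : qev φ r s (x + y) = qev φ r s x + qev φ r s y := by
  obtain ⟨a, b, c, d⟩ := x
  obtain ⟨e, f, g, h⟩ := y
  ext i j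
  fin_cases i <;> fin_cases j <;> simp [qev, zev_add] <;> ring

theorem qev_neg (x : Quad) : qev φ r s (-x) = -qev φ r s x := by
  obtain ⟨a, b, c, d⟩ := x
  ext i j
  fin_cases i <;> fin_cases j <;> simp [qev, zev_neg] <;> ring

theorem qev_mul (hφ : φ * φ = φ + 1) (hrs : r * r + s * s = -1) (x y : Quad) :
    qev φ r s (qmul x y) = qev φ r s x * qev φ r s y := by
  obtain ⟨a, b, c, d⟩ := x
  obtain ⟨e, f, g, h⟩ := y
  ext i j
  fin_cases i <;> fin_cases j <;>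
    simp [qev, qmul, Matrix.mul_apply, zev_mul φ hφ, zev_add, zev_sub]
  · linear_combination -(zev φ c * zev φ g + zev φ d * zev φ h) * hrs
  · linear_combination -(zev φ c * zev φ h - zev φ d * zev φ g) * hrs
  · linear_combination (zev φ c * zev φ h - zev φ d * zev φ g) * hrs
  · linear_combination -(zev φ c * zev φ g + zev φ d * zev φ h) * hrs

theorem det_qev (hφ : φ * φ = φ + 1) (hrs : r * r + s * s = -1) (x : Quad) :
    (qev φ r s x).det = zev φ (qnorm x) := by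
  obtain ⟨a, b, c, d⟩ := x
  simp [qev, qnorm, det_fin_two_of, zev_mul φ hφ, zev_add]
  linear_combination -(zev φ c * zev φ c + zev φ d * zev φ d) * hrs

/-- A nontrivial map of `A_5` to `PSL_2`. -/
theorem exists_altFive [Finite F] (h2 : (2 : F) ≠ 0) (hφ : φ * φ = φ + 1) (hrs : r * r + s * s = -1) :
    ∃ H : Subgroup (ProjectiveSpecialLinearGroup (Fin 2) F), Nonempty (H ≃* alternatingGroup (Fin 5)) := by
  let X : alternatingGroup (Fin 5) → SL(2, F) := fun σ => ⟨(2 : F)⁻¹ • qev φ r s (quadOf σ.1), by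
    rw [Matrix.det_smul, det_qev φ r s hφ hrs, table_norm σ, Fintype.card_fin]
    simp [zev]
    field_simp
    norm_num⟩
  let π : SL(2, F) →* ProjectiveSpecialLinearGroup (Fin 2) F := QuotientGroup.mk' (Subgroup.center SL(2, F))
  let f : alternatingGroup (Fin 5) → ProjectiveSpecialLinearGroup (Fin 2) F := fun σ => π (X σ)
  have hneg : ∀ x : SL(2, F), π (-x) = π x := fun x => by
    rw [← neg_one_mul x, map_mul]
    have : π (-1) = 1 := (QuotientGroup.eq_one_iff _).2 (Subgroup.mem_center_iff.2 fun y => by simp)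
    rw [this, one_mul]
  have step : ∀ (σ τ : alternatingGroup (Fin 5)),
      (qmul (quadOf σ.1) (quadOf τ.1) = quadOf (σ.1 * τ.1) + quadOf (σ.1 * τ.1) ∨
        qmul (quadOf σ.1) (quadOf τ.1) = -(quadOf (σ.1 * τ.1) + quadOf (σ.1 * τ.1))) →
      f (σ * τ) = f σ * f τ := by
    intro σ τ h
    show π (X (σ * τ)) = π (X σ) * π (X τ)
    rw [← map_mul]
    rcases h with h | h
    · congr 1
      apply Subtype.ext
      show (2 : F)⁻¹ • qev φ r s (quadOf (σ.1 * τ.1)) =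
        ((2 : F)⁻¹ • qev φ r s (quadOf σ.1)) * ((2 : F)⁻¹ • qev φ r s (quadOf τ.1))
      rw [Matrix.smul_mul, Matrix.mul_smul, ← qev_mul φ r s hφ hrs, h, qev_add, ← two_smul F,
        smul_smul, smul_smul, mul_assoc, inv_mul_cancel₀ h2, mul_one]
    · rw [← hneg (X (σ * τ))]
      congr 1
      apply Subtype.ext
      rw [Matrix.SpecialLinearGroup.coe_neg]
      show -((2 : F)⁻¹ • qev φ r s (quadOf (σ.1 * τ.1))) =
        ((2 : F)⁻¹ • qev φ r s (quadOf σ.1)) * ((2 : F)⁻¹ • qev φ r s (quadOf τ.1))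
      rw [Matrix.smul_mul, Matrix.mul_smul, ← qev_mul φ r s hφ hrs, h, qev_neg, qev_add, smul_neg,
        smul_neg, ← two_smul F, smul_smul, smul_smul, mul_assoc, inv_mul_cancel₀ h2, mul_one]
  have h1 : f 1 = 1 := by
    show π (X 1) = 1
    rw [show X 1 = 1 from Subtype.ext (by
      show (2 : F)⁻¹ • qev φ r s (quadOf 1) = 1
      rw [quadOf_one]
      ext i j
      fin_cases i <;> fin_cases j <;> simp [qev, zev, inv_mul_cancel₀ h2]), map_one]
  let M : Submonoid (alternatingGroup (Fin 5)) :=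
    { carrier := {τ | ∀ σ, f (σ * τ) = f σ * f τ}
      one_mem' := fun σ => by rw [mul_one, h1, mul_one]
      mul_mem' := fun {a b} ha hb σ => by rw [← mul_assoc, hb, ha, hb a, mul_assoc] }
  have hM : ∀ τ, τ ∈ M := by
    intro τ
    have hτ : τ ∈ Subgroup.closure {(⟨genA, genA_mem⟩ : alternatingGroup (Fin 5)), ⟨genB, genB_mem⟩} := by
      rw [closure_gen]; trivial
    rw [← Subgroup.mem_toSubmonoid, Subgroup.closure_toSubmonoid_of_finite] at hτ
    refine (Submonoid.closure_le.2 ?_ : _ ≤ M) hτ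
    rintro x (rfl | rfl) σ
    · exact step σ _ (table_mul' σ.1 (Equiv.Perm.mem_alternatingGroup.1 σ.2)).1
    · exact step σ _ (table_mul' σ.1 (Equiv.Perm.mem_alternatingGroup.1 σ.2)).2
  let ψ : alternatingGroup (Fin 5) →* ProjectiveSpecialLinearGroup (Fin 2) F :=
    MonoidHom.mk' f fun σ τ => hM τ σ
  have hne : ψ.ker ≠ ⊤ := by
    intro e
    have hmem : (⟨genA, genA_mem⟩ : alternatingGroup (Fin 5)) ∈ ψ.ker := e ▸ Subgroup.mem_top _
    have hc : X ⟨genA, genA_mem⟩ ∈ Subgroup.center SL(2, F) := (QuotientGroup.eq_one_iff _).1 hmem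
    have hb : ∀ i j, i ≠ j → ((2 : F)⁻¹ • qev φ r s (quadOf genA)) i j = 0 := fun i j hij => by
      obtain ⟨t, -, ht⟩ := Matrix.SpecialLinearGroup.mem_center_iff.1 hc
      rw [show ((2 : F)⁻¹ • qev φ r s (quadOf genA)) = Matrix.scalar (Fin 2) t from ht.symm]
      simp [Matrix.scalar_apply, Matrix.diagonal_apply_ne _ hij]
    have e01 := hb 0 1 (by decide)
    have e10 := hb 1 0 (by decide)
    have hA : quadOf genA = ((1,0), (-1,0), (-1,0), (-1,0)) := by decide +kernel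
    rw [hA] at e01 e10
    simp [qev, zev, h2] at e01 e10
    exact h2 (by linear_combination e01 - e10)
  have hinj : Function.Injective ψ := (MonoidHom.ker_eq_bot_iff _).1
    ((MonoidHom.normal_ker ψ).eq_bot_or_eq_top.resolve_right hne)
  exact ⟨ψ.range, ⟨(MonoidHom.ofInjective hinj).symm⟩⟩

end CfsgLib.Geom.Icosahedral
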