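import Mathlib
import Cfsg.Agent.Lib.Geom.SL2Klein
import Cfsg.Agent.Lib.Geom.DicksonPGL

set_option autoImplicit false

/-!
Four-groups of `PSL_2` are conjugate under `PGL_2` to one over any subfield, and so are their normalisers and the
subgroups with traces in the subfield.
-/

namespace CfsgLib.Geom.SL2Anti

open Matrix
open scoped MatrixGroups
open Moebius (subfieldPGL mem_subfieldPGL extHom imL)

variable {F : Type*} [Field F]

local notation "M2" => Matrix (Fin 2) (Fin 2) F

/-- Entries in a subfield give an element over the subfield. -/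
theorem mk_mem_extHom_range (K : Subfield F) (A : GL (Fin 2) F) (hA : ∀ i j, (A : M2) i j ∈ K) :
    ProjGenLinGroup.mk A ∈ (extHom K.subtype).range := by
  let B : Matrix (Fin 2) (Fin 2) K := Matrix.of fun i j => ⟨(A : M2) i j, hA i j⟩
  have hB : B.map K.subtype = (A : M2) := by ext i j; rfl
  have hdet : B.det ≠ 0 := fun e => A.det.ne_zero (by
    rw [GeneralLinearGroup.val_det_apply, ← hB, ← RingHom.mapMatrix_apply, ← RingHom.map_det, e, map_zero])
  exact ⟨ProjGenLinGroup.mk (GeneralLinearGroup.mkOfDetNeZero B hdet), congrArg ProjGenLinGroup.mk (Units.ext hB)⟩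

theorem toGL_mul_eq {A : GL (Fin 2) F} {g h : SL(2, F)}
    (e : A * Matrix.SpecialLinearGroup.toGL g * A⁻¹ = Matrix.SpecialLinearGroup.toGL h) :
    (A : M2) * (g : M2) = (h : M2) * (A : M2) := by
  have := congrArg Units.val (mul_inv_eq_iff_eq_mul.1 e)
  simpa using this

theorem Anti.map {K : Type*} [Field K] {g h : SL(2, K)} (a : Anti g h) (φ : K →+* F) :
    Anti (Matrix.SpecialLinearGroup.map φ g) (Matrix.SpecialLinearGroup.map φ h) := by
  have hneg : ∀ x : SL(2, K), Matrix.SpecialLinearGroup.map φ (-x) = -Matrix.SpecialLinearGroup.map φ x :=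
    fun x => Subtype.ext (by ext i j; simp)
  refine ⟨?_, ?_, ?_⟩
  · rw [← map_mul, a.1, hneg, map_one]
  · rw [← map_mul, a.2.1, hneg, map_one]
  · rw [← map_mul, a.2.2, hneg, map_mul]

theorem entries_of_anti_J0 {k : SL(2, F)} (hk : Anti J0 k) :
    (k : M2) 1 1 = -(k : M2) 0 0 ∧ (k : M2) 1 0 = (k : M2) 0 1 ∧
      (k : M2) 0 0 * (k : M2) 0 0 + (k : M2) 0 1 * (k : M2) 0 1 = -1 := by
  have e00 := congrArg (fun x : SL(2, F) => (x : M2) 0 0) hk.2.2
  have e01 := congrArg (fun x : SL(2, F) => (x : M2) 0 1) hk.2.2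
  simp [Matrix.mul_apply, Fin.sum_univ_two] at e00 e01
  have hd : (k : M2) 0 0 * (k : M2) 1 1 - (k : M2) 0 1 * (k : M2) 1 0 = 1 := by
    rw [← det_fin_two]; exact k.2
  have a : (k : M2) 1 1 = -(k : M2) 0 0 := by
    first | linear_combination e01 | linear_combination -e01
  have b : (k : M2) 1 0 = (k : M2) 0 1 := by
    first | linear_combination e00 | linear_combination -e00
  exact ⟨a, b, by rw [a, b] at hd; linear_combination -hd⟩

/-- Commuting with both members of a standard pair means being scalar. -/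
theorem scalar_of_commute (h2 : (2 : F) ≠ 0) {k : SL(2, F)} (hk : Anti J0 k) (A : M2)
    (e1 : A * ((J0 : SL(2, F)) : M2) = ((J0 : SL(2, F)) : M2) * A) (e2 : A * (k : M2) = (k : M2) * A) :
    A 0 1 = 0 ∧ A 1 0 = 0 ∧ A 0 0 = A 1 1 := by
  obtain ⟨a, b, hn⟩ := entries_of_anti_J0 hk
  have p00 := congrFun (congrFun e1 0) 0
  have p01 := congrFun (congrFun e1 0) 1
  have q00 := congrFun (congrFun e2 0) 0
  have q01 := congrFun (congrFun e2 0) 1
  simp [Matrix.mul_apply, Fin.sum_univ_two, a, b] at p00 p01 q00 q01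
  have hd : A 0 0 = A 1 1 := by first | linear_combination p01 | linear_combination -p01
  have hbc : A 1 0 = -A 0 1 := by first | linear_combination p00 | linear_combination -p00
  have z1 : (2 : F) * (A 0 1 * (k : M2) 0 1) = 0 := by
    rw [hbc] at q00; first | linear_combination q00 | linear_combination -q00
  have z2 : (2 : F) * (A 0 1 * (k : M2) 0 0) = 0 := by
    rw [hd] at q01; first | linear_combination q01 | linear_combination -q01
  have w1 := (mul_eq_zero.1 z1).resolve_left h2
  have w2 := (mul_eq_zero.1 z2).resolve_left h2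
  have h01 : A 0 1 = 0 := by
    linear_combination (A 0 1) * hn - (k : M2) 0 0 * w2 - (k : M2) 0 1 * w1
  exact ⟨h01, by rw [hbc, h01, neg_zero], hd⟩

variable [Finite F]

/-- Any two anticommuting pairs are conjugate by an invertible matrix. -/
theorem exists_gl_conj_pair (h2 : (2 : F) ≠ 0) {g h g' h' : SL(2, F)} (a : Anti g h) (a' : Anti g' h') :
    ∃ A : GL (Fin 2) F, A * Matrix.SpecialLinearGroup.toGL g * A⁻¹ = Matrix.SpecialLinearGroup.toGL g' ∧
      A * Matrix.SpecialLinearGroup.toGL h * A⁻¹ = Matrix.SpecialLinearGroup.toGL h' := by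
  obtain ⟨k0, hk0⟩ := exists_K0 h2 (F := F)
  -- every pair is the image of the standard one
  have key : ∀ {g h : SL(2, F)}, Anti g h →
      ∃ A : GL (Fin 2) F, A * Matrix.SpecialLinearGroup.toGL J0 * A⁻¹ = Matrix.SpecialLinearGroup.toGL g ∧
        A * Matrix.SpecialLinearGroup.toGL k0 * A⁻¹ = Matrix.SpecialLinearGroup.toGL h := by
    intro g h a
    obtain ⟨s, hs⟩ := exists_conj_J0 h2 a.1
    set k : SL(2, F) := s⁻¹ * h * s with hk
    have ak : Anti J0 k := by
      have := a.conj s⁻¹
      rwa [inv_inv, show s⁻¹ * g * s = J0 by rw [← hs]; group] at this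
    obtain ⟨c, hc⟩ : ∃ c : SL(2, F), c = k * k0⁻¹ := ⟨_, rfl⟩
    have hcm : c ∈ CJ F := hc ▸ anti_mul_mem hk0 ak
    obtain ⟨c1, c2⟩ := mem_CJ.1 hcm
    obtain ⟨ka, kb, -⟩ := entries_of_anti_J0 hk0
    have hkc : k = c * k0 := by rw [hc, inv_mul_cancel_right]
    have hcd : (c : M2) 0 0 * (c : M2) 0 0 + (c : M2) 1 0 * (c : M2) 1 0 = 1 := by
      have := det_fin_two (c : M2)
      rw [c.2, c1, c2] at this
      linear_combination -this
    -- a matrix commuting with `J0` and carrying `k0` to `c * k0`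
    obtain ⟨B, hBdet, hB1, hB2⟩ : ∃ B : M2, B.det ≠ 0 ∧ B * ((J0 : SL(2, F)) : M2) = ((J0 : SL(2, F)) : M2) * B ∧
        B * (k0 : M2) = ((c * k0 : SL(2, F)) : M2) * B := by
      by_cases hone : (c : M2) 0 0 = -1
      · have h10 : (c : M2) 1 0 = 0 := by
          have : (c : M2) 1 0 * (c : M2) 1 0 = 0 := by rw [hone] at hcd; linear_combination hcd
          exact mul_self_eq_zero.1 this
        refine ⟨((J0 : SL(2, F)) : M2), by rw [(J0 : SL(2, F)).2]; exact one_ne_zero, rfl, ?_⟩
        have hce : (c : SL(2, F)) = -1 := Subtype.ext (by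
          ext i j; fin_cases i <;> fin_cases j <;> simp [c1, c2, hone, h10])
        have := congrArg Subtype.val hk0.2.2
        rw [hce, neg_mul, one_mul]
        simpa using this
      · refine ⟨1 + (c : M2), ?_, ?_, ?_⟩
        · intro e
          simp [det_fin_two, c1, c2] at e
          exact hone (mul_left_cancel₀ h2 (by linear_combination e - hcd))
        · ext i j; fin_cases i <;> fin_cases j <;>
            simp [Matrix.mul_apply, Fin.sum_univ_two, c1, c2] <;> ring
        · rw [Matrix.SpecialLinearGroup.coe_mul]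
          ext i j
          fin_cases i <;> fin_cases j <;>
            simp [Matrix.mul_apply, Fin.sum_univ_two, c1, c2, ka, kb] <;>
            first
              | ring1
              | linear_combination (k0 : M2) 0 0 * hcd
              | linear_combination -(k0 : M2) 0 0 * hcd
              | linear_combination (k0 : M2) 0 1 * hcd
              | linear_combination -(k0 : M2) 0 1 * hcd
    let G := GeneralLinearGroup.mkOfDetNeZero B hBdet
    refine ⟨Matrix.SpecialLinearGroup.toGL s * G, ?_, ?_⟩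
    · have e : G * Matrix.SpecialLinearGroup.toGL J0 * G⁻¹ = Matrix.SpecialLinearGroup.toGL J0 :=
        mul_inv_eq_iff_eq_mul.2 (Units.ext hB1)
      rw [_root_.mul_inv_rev, ← hs, map_mul, map_mul, map_inv]
      calc _ = Matrix.SpecialLinearGroup.toGL s * (G * Matrix.SpecialLinearGroup.toGL J0 * G⁻¹) *
            (Matrix.SpecialLinearGroup.toGL s)⁻¹ := by group
        _ = _ := by rw [e]
    · have e : G * Matrix.SpecialLinearGroup.toGL k0 * G⁻¹ = Matrix.SpecialLinearGroup.toGL k :=
        mul_inv_eq_iff_eq_mul.2 (Units.ext (by rw [hkc]; exact hB2))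
      rw [_root_.mul_inv_rev, show h = s * k * s⁻¹ by rw [hk]; group, map_mul, map_mul, map_inv]
      calc _ = Matrix.SpecialLinearGroup.toGL s * (G * Matrix.SpecialLinearGroup.toGL k0 * G⁻¹) *
            (Matrix.SpecialLinearGroup.toGL s)⁻¹ := by group
        _ = _ := by rw [e]
  obtain ⟨A, A1, A2⟩ := key a
  obtain ⟨B, B1, B2⟩ := key a'
  refine ⟨B * A⁻¹, ?_, ?_⟩
  · rw [← A1, ← B1]; group
  · rw [← A2, ← B2]; group

/-- The image of a four-group in `PGL_2`. -/
abbrev VPGL (g h : SL(2, F)) : Subgroup PGL(2, F) :=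
  (VP g h).map (Matrix.ProjectiveSpecialLinearGroup.toPGL (n := Fin 2) (R := F))

theorem toPGL_pr (x : SL(2, F)) :
    Matrix.ProjectiveSpecialLinearGroup.toPGL (pr x : ProjectiveSpecialLinearGroup (Fin 2) F) =
      ProjGenLinGroup.mk (Matrix.SpecialLinearGroup.toGL x) := rfl

/-- The normaliser of a four-group and the subgroups with traces in a subfield are defined over the subfield. -/
theorem klein_subfield (h2 : (2 : F) ≠ 0) {g h : SL(2, F)} (a : Anti g h) (K : Subfield F) :
    ∃ m : PGL(2, F),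
      (∀ x ∈ Subgroup.normalizer ((VPGL g h : Subgroup PGL(2, F)) : Set PGL(2, F)), x ∈ subfieldPGL K m) ∧
      ∀ y : SL(2, F), (y : M2).trace ∈ K → ((y * g : SL(2, F)) : M2).trace ∈ K →
        ((y * h : SL(2, F)) : M2).trace ∈ K → ((y * (g * h) : SL(2, F)) : M2).trace ∈ K →
        Matrix.ProjectiveSpecialLinearGroup.toPGL (pr y : ProjectiveSpecialLinearGroup (Fin 2) F) ∈ subfieldPGL K m := by
  classical
  have : Finite K := Finite.of_injective _ Subtype.val_injective
  have h2K : (2 : K) ≠ 0 := fun e => h2 (by have := congrArg K.subtype e; rwa [map_ofNat, map_zero] at this)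
  obtain ⟨k1, hk1⟩ := exists_K0 h2K (F := K)
  set ι := Matrix.SpecialLinearGroup.map (n := Fin 2) K.subtype
  have hJ : ι J0 = J0 := Subtype.ext (by
    ext i j; fin_cases i <;> fin_cases j <;> simp [ι])
  set k := ι k1
  have hk : Anti J0 k := by
    have := hk1.map K.subtype
    rwa [hJ] at this
  obtain ⟨P, P1, P2⟩ := exists_gl_conj_pair h2 a hk
  refine ⟨(ProjGenLinGroup.mk P)⁻¹, fun x hx => ?_, fun y t0 t1 t2 t3 => ?_⟩
  · obtain ⟨A, rfl⟩ := ProjGenLinGroup.mk_surjective x
    rw [mem_subfieldPGL, inv_inv, ← map_inv, ← map_mul, ← map_mul]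
    set C := P * A * P⁻¹ with hC
    have hcong : ∀ y, (P * A * P⁻¹) * (P * y * P⁻¹) * (P * A * P⁻¹)⁻¹ = P * (A * y * A⁻¹) * P⁻¹ := fun y => by group
    -- the image of a member of the pair is again one over the subfield
    have himg : ∀ z : SL(2, F), (pr z : ProjectiveSpecialLinearGroup (Fin 2) F) ∈ VP g h →
        ∃ w : SL(2, K), C * (P * Matrix.SpecialLinearGroup.toGL z * P⁻¹) * C⁻¹ =
          Matrix.SpecialLinearGroup.toGL (ι w) := by
      intro z hz
      obtain ⟨v, hv, hv'⟩ := (Subgroup.mem_normalizer_iff.1 hx _).1 ⟨_, hz, rfl⟩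
      obtain ⟨v', rfl⟩ := pr_surjective v
      rw [toPGL_pr, toPGL_pr, ← map_inv, ← map_mul, ← map_mul] at hv'
      obtain ⟨c, hc⟩ := ProjGenLinGroup.mk_eq_mk_iff.1 hv'
      have hdet := congrArg (fun B : GL (Fin 2) F => (B : M2).det) hc
      simp only [Units.val_mul, Matrix.det_mul] at hdet
      rw [Matrix.SpecialLinearGroup.coe_GL_coe_matrix, v'.2, Matrix.SpecialLinearGroup.coe_GL_coe_matrix, z.2,
        one_mul, mul_one, ← Matrix.det_mul, Units.mul_inv, Matrix.det_one] at hdet
      have hc1 : (c : F) = 1 ∨ (c : F) = -1 := by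
        simpa [Matrix.det_diagonal, Fin.prod_univ_two] using hdet
      obtain ⟨w0, hw0⟩ : ∃ w0 : SL(2, K), P * Matrix.SpecialLinearGroup.toGL v' * P⁻¹ =
          Matrix.SpecialLinearGroup.toGL (ι w0) := by
        have hneg : ∀ x : SL(2, K), ι (-x) = -ι x := fun x => Subtype.ext (by ext i j; simp [ι])
        have hnegP : ∀ x x' : SL(2, F), P * Matrix.SpecialLinearGroup.toGL x * P⁻¹ = Matrix.SpecialLinearGroup.toGL x' →
            P * Matrix.SpecialLinearGroup.toGL (-x) * P⁻¹ = Matrix.SpecialLinearGroup.toGL (-x') := fun x x' e => by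
          have hn : ∀ y : SL(2, F), Matrix.SpecialLinearGroup.toGL (-y) = -Matrix.SpecialLinearGroup.toGL y :=
            fun y => Units.ext (by simp)
          rw [hn, hn, ← e, mul_neg, neg_mul]
        have hex : ∀ x : SL(2, F), (∃ w, P * Matrix.SpecialLinearGroup.toGL x * P⁻¹ = Matrix.SpecialLinearGroup.toGL (ι w)) →
            ∀ y : SL(2, F), y = x ∨ y = -x →
              ∃ w, P * Matrix.SpecialLinearGroup.toGL y * P⁻¹ = Matrix.SpecialLinearGroup.toGL (ι w) := by
          rintro x ⟨w, hw⟩ y (rfl | rfl)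
          · exact ⟨w, hw⟩
          · exact ⟨-w, by rw [hneg]; exact hnegP _ _ hw⟩
        rcases (mem_VP h2 a).1 hv with e | e | e | e
        · exact hex 1 ⟨1, by simp⟩ _ ((pr_eq_iff h2).1 (e.trans (map_one _).symm))
        · exact hex g ⟨J0, by rw [P1, hJ]⟩ _ ((pr_eq_iff h2).1 e)
        · exact hex h ⟨k1, P2⟩ _ ((pr_eq_iff h2).1 e)
        · refine hex (g * h) ⟨J0 * k1, ?_⟩ _ ((pr_eq_iff h2).1 e)
          rw [map_mul, map_mul, map_mul, hJ, ← P1, ← P2]
          group
      rw [hcong, ← hc]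
      rcases hc1 with e | e
      · refine ⟨w0, ?_⟩
        rw [show GeneralLinearGroup.scalar (Fin 2) c = 1 from Units.ext (by simp [e]), mul_one, hw0]
      · refine ⟨-w0, Units.ext ?_⟩
        have h' := congrArg Units.val hw0
        have hs : ((GeneralLinearGroup.scalar (Fin 2) c : GL (Fin 2) F) : M2) = -1 := by
          ext i j; fin_cases i <;> fin_cases j <;> simp [e]
        simp only [Units.val_mul, hs, mul_neg, mul_one, neg_mul] at h' ⊢
        rw [h']
        ext i j; simp [ι]
    obtain ⟨wg, hwg⟩ := himg g ((mem_VP h2 a).2 (Or.inr (Or.inl rfl)))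
    obtain ⟨wh, hwh⟩ := himg h ((mem_VP h2 a).2 (Or.inr (Or.inr (Or.inl rfl))))
    rw [P1] at hwg
    rw [P2] at hwh
    have hwa : Anti wg wh := by
      have hinj : Function.Injective ι := fun u v e => Subtype.ext
        (Matrix.map_injective K.subtype.injective (congrArg Subtype.val e))
      have hgl : ∀ u v : SL(2, F), C * Matrix.SpecialLinearGroup.toGL u * C⁻¹ *
          (C * Matrix.SpecialLinearGroup.toGL v * C⁻¹) = C * Matrix.SpecialLinearGroup.toGL (u * v) * C⁻¹ :=
        fun u v => by rw [map_mul]; group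
      have hneg : ∀ x : SL(2, K), ι (-x) = -ι x := fun x => Subtype.ext (by ext i j; simp [ι])
      have hn1 : C * Matrix.SpecialLinearGroup.toGL (-1 : SL(2, F)) * C⁻¹ = Matrix.SpecialLinearGroup.toGL (ι (-1)) := by
        rw [hneg, map_one, show Matrix.SpecialLinearGroup.toGL (-1 : SL(2, F)) = -1 from Units.ext (by simp), mul_neg,
          mul_one, neg_mul, mul_inv_cancel]
      refine ⟨hinj (Matrix.SpecialLinearGroup.toGL_injective ?_), hinj (Matrix.SpecialLinearGroup.toGL_injective ?_),
        hinj (Matrix.SpecialLinearGroup.toGL_injective ?_)⟩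
      · rw [map_mul, map_mul, ← hwg, hgl, J0_sq, hn1]
      · rw [map_mul, map_mul, ← hwh, hgl, hk.2.1, hn1]
      · rw [hneg, map_mul, map_mul, ← hwg, ← hwh, hgl, hk.2.2]
        have hn : ∀ y : SL(2, F), Matrix.SpecialLinearGroup.toGL (-y) = -Matrix.SpecialLinearGroup.toGL y :=
          fun y => Units.ext (by simp)
        rw [hn, mul_neg, neg_mul, hn, ← hgl, map_mul, map_mul, ← hwg, ← hwh]
    obtain ⟨B, B1, B2⟩ := exists_gl_conj_pair h2K hk1 hwa
    set B' := Matrix.GeneralLinearGroup.map K.subtype B with hB'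
    have hmap : ∀ u : SL(2, K), Matrix.SpecialLinearGroup.toGL (ι u) =
        Matrix.GeneralLinearGroup.map K.subtype (Matrix.SpecialLinearGroup.toGL u) := fun u => Units.ext rfl
    have c1 : B' * Matrix.SpecialLinearGroup.toGL (ι J0) * B'⁻¹ = Matrix.SpecialLinearGroup.toGL (ι wg) := by
      rw [hmap, hmap, ← map_inv, ← map_mul, ← map_mul, ← B1]
    have c2 : B' * Matrix.SpecialLinearGroup.toGL (ι k1) * B'⁻¹ = Matrix.SpecialLinearGroup.toGL (ι wh) := by
      rw [hmap, hmap, ← map_inv, ← map_mul, ← map_mul, ← B2]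
    rw [hJ] at c1
    change B' * Matrix.SpecialLinearGroup.toGL k * B'⁻¹ = _ at c2
    have d1 : B'⁻¹ * C * Matrix.SpecialLinearGroup.toGL J0 * (B'⁻¹ * C)⁻¹ = Matrix.SpecialLinearGroup.toGL (J0 : SL(2, F)) := by
      calc _ = B'⁻¹ * (C * Matrix.SpecialLinearGroup.toGL J0 * C⁻¹) * B' := by group
        _ = _ := by rw [hwg, ← c1]; group
    have d2 : B'⁻¹ * C * Matrix.SpecialLinearGroup.toGL k * (B'⁻¹ * C)⁻¹ = Matrix.SpecialLinearGroup.toGL k := by
      calc _ = B'⁻¹ * (C * Matrix.SpecialLinearGroup.toGL k * C⁻¹) * B' := by group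
        _ = _ := by rw [hwh, ← c2]; group
    obtain ⟨z1, z2, z3⟩ := scalar_of_commute h2 hk ((B'⁻¹ * C : GL (Fin 2) F) : M2) (toGL_mul_eq d1) (toGL_mul_eq d2)
    refine ⟨ProjGenLinGroup.mk B, ?_⟩
    show ProjGenLinGroup.mk B' = ProjGenLinGroup.mk C
    have hone : ProjGenLinGroup.mk (B'⁻¹ * C) = 1 := by
      rw [ProjGenLinGroup.mk_eq_one, GeneralLinearGroup.center_eq_range_scalar]
      set D := B'⁻¹ * C
      refine ⟨Units.mk0 ((D : M2) 0 0) (fun e => D.det.ne_zero ?_), Units.ext ?_⟩
      · rw [GeneralLinearGroup.val_det_apply, det_fin_two, e, z1, zero_mul, zero_mul, sub_zero]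
      · ext i j; fin_cases i <;> fin_cases j <;> simp [z1, z2, ← z3]
    rw [map_mul, map_inv, inv_mul_eq_one] at hone
    exact hone
  · rw [mem_subfieldPGL, inv_inv, toPGL_pr, ← map_inv, ← map_mul, ← map_mul]
    set Y := P * Matrix.SpecialLinearGroup.toGL y * P⁻¹ with hY
    have htr : ∀ z z' : SL(2, F), P * Matrix.SpecialLinearGroup.toGL z * P⁻¹ = Matrix.SpecialLinearGroup.toGL z' →
        ((Y : GL (Fin 2) F) : M2) * (z' : M2) = ((P * Matrix.SpecialLinearGroup.toGL (y * z) * P⁻¹ : GL (Fin 2) F) : M2) := by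
      intro z z' e
      rw [← Matrix.SpecialLinearGroup.coe_GL_coe_matrix z', ← e, ← Units.val_mul, hY]
      congr 1
      rw [map_mul]; group
    have hconj : ∀ z : SL(2, F), ((P * Matrix.SpecialLinearGroup.toGL z * P⁻¹ : GL (Fin 2) F) : M2).trace = (z : M2).trace := by
      intro z
      rw [Units.val_mul, Units.val_mul, Matrix.trace_mul_cycle, Units.inv_mul, one_mul]
      rfl
    have e0 : (Y : M2).trace ∈ K := by rw [hY, hconj]; exact t0
    have e1 : ((Y : M2) * ((J0 : SL(2, F)) : M2)).trace ∈ K := by rw [htr g J0 P1, hconj]; exact t1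
    have e2 : ((Y : M2) * (k : M2)).trace ∈ K := by rw [htr h k P2, hconj]; exact t2
    have e3 : ((Y : M2) * ((J0 * k : SL(2, F)) : M2)).trace ∈ K := by
      rw [htr (g * h) (J0 * k) (by rw [map_mul, map_mul, ← P1, ← P2]; group), hconj]; exact t3
    obtain ⟨ka, kb, hn⟩ := entries_of_anti_J0 hk
    have hr : (k : M2) 0 0 ∈ K := SetLike.coe_mem ((k1 : Matrix (Fin 2) (Fin 2) K) 0 0)
    have hs : (k : M2) 0 1 ∈ K := SetLike.coe_mem ((k1 : Matrix (Fin 2) (Fin 2) K) 0 1)
    simp [Matrix.trace_fin_two, Matrix.mul_apply, Matrix.vecMul, dotProduct, Fin.sum_univ_two, ka, kb] at e0 e1 e2 e3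
    set a' := (Y : M2) 0 0; set b' := (Y : M2) 0 1; set c' := (Y : M2) 1 0; set d' := (Y : M2) 1 1
    set r := (k : M2) 0 0; set s := (k : M2) 0 1
    have h2m : (2 : F)⁻¹ ∈ K := inv_mem (natCast_mem K 2)
    -- recover the sum and difference of the diagonal and off-diagonal entries
    have f1 : a' - d' ∈ K := by
      have h' := add_mem (neg_mem (mul_mem hr e2)) (mul_mem hs e3)
      convert h' using 1
      linear_combination (a' - d') * hn
    have f2 : b' + c' ∈ K := by
      have h' := sub_mem (neg_mem (mul_mem hs e2)) (mul_mem hr e3)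
      convert h' using 1
      linear_combination (b' + c') * hn
    have f3 : b' - c' ∈ K := by
      first
        | (convert e1 using 1; ring1)
        | (convert neg_mem e1 using 1; ring1)
    refine mk_mem_extHom_range K Y fun i j => ?_
    fin_cases i <;> fin_cases j
    · show a' ∈ K
      convert mul_mem (add_mem e0 f1) h2m using 1; field_simp; ring
    · show b' ∈ K
      convert mul_mem (add_mem f2 f3) h2m using 1; field_simp; ring
    · show c' ∈ K
      convert mul_mem (sub_mem f2 f3) h2m using 1; field_simp; ring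
    · show d' ∈ K
      convert mul_mem (sub_mem e0 f1) h2m using 1; field_simp; ring

end CfsgLib.Geom.SL2Anti
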