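import Mathlib
import Cfsg.Agent.Lib.Geom.SubfieldGroups
import Cfsg.Agent.Lib.Geom.DicksonBorel
import Cfsg.Agent.Lib.ClassK.SmallSimple

set_option autoImplicit false

/-!
Maximal subgroups of a subgroup: general facts, and facts on `PGL_2(F)` and small groups used for Dickson's list.
-/

namespace CfsgLib.Geom

open Matrix
open scoped MatrixGroups

universe v

section MaxIn

variable {G : Type*} [Group G]

/-- `M` is maximal among the subgroups properly inside `L`. -/
def MaxIn (M L : Subgroup G) : Prop := M < L ∧ ∀ N, M < N → N ≤ L → N = L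

theorem maxIn_top {M : Subgroup G} (h : IsCoatom M) : MaxIn M ⊤ := ⟨h.lt_top, fun N h1 _ => h.2 N h1⟩

theorem MaxIn.eq_of_le {M N L : Subgroup G} (h : MaxIn M L) (hle : M ≤ N) (hlt : N < L) : M = N :=
  hle.eq_or_lt.resolve_right fun h' => hlt.ne (h.2 N h' hlt.le)

theorem maxIn_map {H : Type*} [Group H] {M : Subgroup H} (ψ : H →* G) (hψ : Function.Injective ψ)
    (hM : IsCoatom M) : MaxIn (M.map ψ) ψ.range := by
  refine ⟨?_, fun N h1 h2 => ?_⟩
  · rw [MonoidHom.range_eq_map]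
    exact (Subgroup.map_lt_map_iff_of_injective hψ).2 hM.lt_top
  · have e := Subgroup.map_comap_eq_self h2
    rw [← e] at h1 ⊢
    rw [hM.2 _ ((Subgroup.map_lt_map_iff_of_injective hψ).1 h1), MonoidHom.range_eq_map]

theorem isCoatom_comap {H : Type*} [Group H] (ψ : H →* G) (hψ : Function.Injective ψ) {N : Subgroup G}
    (h : MaxIn N ψ.range) : IsCoatom (N.comap ψ) := by
  have e := Subgroup.map_comap_eq_self h.1.le
  refine ⟨fun he => h.1.ne (by rw [← e, he, MonoidHom.range_eq_map]), fun X hX => ?_⟩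
  apply Subgroup.map_injective hψ
  rw [← MonoidHom.range_eq_map]
  refine h.2 _ ?_ (Subgroup.map_le_range _ _)
  rw [← e]
  exact (Subgroup.map_lt_map_iff_of_injective hψ).2 hX

theorem isCoatom_subgroupOf {N L : Subgroup G} (h : MaxIn N L) : IsCoatom (N.subgroupOf L) :=
  isCoatom_comap L.subtype L.subtype_injective (by rwa [Subgroup.range_subtype])

theorem exists_maxIn_ge [Finite G] {K L : Subgroup G} (h : K < L) : ∃ N, MaxIn N L ∧ K ≤ N := by
  obtain ⟨N, hKN, hN⟩ := (Set.toFinite {N : Subgroup G | N < L}).exists_le_maximal h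
  exact ⟨N, ⟨hN.1, fun X h1 h2 => h2.eq_or_lt.resolve_right fun h3 => h1.not_ge (hN.2 h3 h1.le)⟩, hKN⟩

end MaxIn

/-! ### Small alternating and symmetric groups -/

theorem altFour_noncomm : ∃ x y : alternatingGroup (Fin 4), x * y ≠ y * x := by decide +kernel

theorem altFour_two_squares : ∀ x : alternatingGroup (Fin 4), ∃ g h, x = g * g * (h * h) := by decide +kernel

theorem altFive_two_squares : ∀ x : alternatingGroup (Fin 5), ∃ g h, x = g * g * (h * h) := by decide +kernel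

/-- Two commuting involutions, products of two squares, which with their product are permuted by conjugation. -/
def KleinNormal {G : Type*} [Group G] (M : Subgroup G) : Prop :=
  ∃ a b : G, (∃ g ∈ M, ∃ h ∈ M, a = g * g * (h * h)) ∧ (∃ g ∈ M, ∃ h ∈ M, b = g * g * (h * h)) ∧ a * a = 1 ∧ b * b = 1 ∧ a * b = b * a ∧ a ≠ 1 ∧ b ≠ 1 ∧ a ≠ b ∧
    ∀ g ∈ M, (g * a * g⁻¹ = a ∨ g * a * g⁻¹ = b ∨ g * a * g⁻¹ = a * b) ∧
      (g * b * g⁻¹ = a ∨ g * b * g⁻¹ = b ∨ g * b * g⁻¹ = a * b)

theorem klein_permFour : ∀ g : Equiv.Perm (Fin 4),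
    let a := Equiv.swap (0 : Fin 4) 1 * Equiv.swap 2 3
    let b := Equiv.swap (0 : Fin 4) 2 * Equiv.swap 1 3
    (a * a = 1 ∧ b * b = 1 ∧ a * b = b * a ∧ a ≠ 1 ∧ b ≠ 1 ∧ a ≠ b) ∧
      (g * a * g⁻¹ = a ∨ g * a * g⁻¹ = b ∨ g * a * g⁻¹ = a * b) ∧
      (g * b * g⁻¹ = a ∨ g * b * g⁻¹ = b ∨ g * b * g⁻¹ = a * b) := by
  decide +kernel

theorem kleinNormal_of_hom {G : Type*} [Group G] {M : Subgroup G} (χ : M →* Equiv.Perm (Fin 4))
    (hχ : Function.Injective χ)
    (h : ∀ σ : Equiv.Perm (Fin 4), σ ∈ alternatingGroup (Fin 4) → σ ∈ χ.range) : KleinNormal M := by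
  obtain ⟨A, hA⟩ := h (Equiv.swap 0 1 * Equiv.swap 2 3)
    (Equiv.Perm.mem_alternatingGroup.2 (by decide +kernel))
  obtain ⟨B, hB⟩ := h (Equiv.swap 0 2 * Equiv.swap 1 3)
    (Equiv.Perm.mem_alternatingGroup.2 (by decide +kernel))
  obtain ⟨h1, h2, h3, h4, h5, h6⟩ := (klein_permFour 1).1
  have tr : ∀ x y : M, χ x = χ y → (x : G) = y := fun x y e => congrArg Subtype.val (hχ e)
  have hsq : ∀ σ : Equiv.Perm (Fin 4), σ ∈ alternatingGroup (Fin 4) → ∀ x : M, χ x = σ →
      ∃ g ∈ M, ∃ h ∈ M, (x : G) = g * g * (h * h) := by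
    intro σ hσ x hx
    obtain ⟨g, k, hgk⟩ := altFour_two_squares ⟨σ, hσ⟩
    obtain ⟨g', hg'⟩ := h g.1 g.2
    obtain ⟨k', hk'⟩ := h k.1 k.2
    refine ⟨g', g'.2, k', k'.2, tr x (g' * g' * (k' * k')) ?_⟩
    rw [map_mul, map_mul, map_mul, hg', hk', hx]
    exact congrArg Subtype.val hgk
  refine ⟨A, B, hsq _ (Equiv.Perm.mem_alternatingGroup.2 (by decide +kernel)) A hA,
    hsq _ (Equiv.Perm.mem_alternatingGroup.2 (by decide +kernel)) B hB, ?_, ?_, ?_, ?_, ?_, ?_, fun g hg => ?_⟩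
  · exact tr (A * A) 1 (by rw [map_mul, map_one, hA]; exact h1)
  · exact tr (B * B) 1 (by rw [map_mul, map_one, hB]; exact h2)
  · exact tr (A * B) (B * A) (by rw [map_mul, map_mul, hA, hB]; exact h3)
  · exact fun e => h4 (by rw [← hA, show A = 1 from Subtype.ext e, map_one])
  · exact fun e => h5 (by rw [← hB, show B = 1 from Subtype.ext e, map_one])
  · exact fun e => h6 (by rw [← hA, ← hB, show A = B from Subtype.ext e])
  · obtain ⟨-, c1, c2⟩ := klein_permFour (χ ⟨g, hg⟩)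
    rw [← hA, ← hB, ← map_mul, ← map_inv, ← map_mul, ← map_mul] at c1 c2
    exact ⟨c1.imp (tr (⟨g, hg⟩ * A * ⟨g, hg⟩⁻¹) A) (Or.imp (tr _ B) (tr _ (A * B))),
      c2.imp (tr (⟨g, hg⟩ * B * ⟨g, hg⟩⁻¹) A) (Or.imp (tr _ B) (tr _ (A * B)))⟩

theorem kleinNormal_altFour {G : Type*} [Group G] {M : Subgroup G} (e : M ≃* alternatingGroup (Fin 4)) :
    KleinNormal M :=
  kleinNormal_of_hom ((alternatingGroup (Fin 4)).subtype.comp e.toMonoidHom)
    (Subtype.val_injective.comp e.injective) fun σ hσ => ⟨e.symm ⟨σ, hσ⟩, by simp⟩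

theorem kleinNormal_permFour {G : Type*} [Group G] {M : Subgroup G} (e : M ≃* Equiv.Perm (Fin 4)) :
    KleinNormal M :=
  kleinNormal_of_hom e.toMonoidHom e.injective fun σ _ => ⟨e.symm σ, by simp⟩

theorem finset_card_altFour : Nat.card (alternatingGroup (Fin 4)) = 12 := by
  rw [nat_card_alternatingGroup, Nat.card_fin]; rfl

/-- A copy of `A_4` inside a subgroup. -/
def HasAltFour {G : Type*} [Group G] (H : Subgroup G) : Prop :=
  ∃ j : alternatingGroup (Fin 4) →* G, Function.Injective j ∧ ∀ x, j x ∈ H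

theorem hasAltFour_of_hom {G B : Type*} [Group G] [Group B] {H : Subgroup G} (e : H ≃* B)
    (i : alternatingGroup (Fin 4) →* B) (hi : Function.Injective i) : HasAltFour H :=
  ⟨H.subtype.comp (e.symm.toMonoidHom.comp i), Subtype.val_injective.comp (e.symm.injective.comp hi),
    fun _ => SetLike.coe_mem _⟩

theorem hasAltFour_altFour {G : Type*} [Group G] {H : Subgroup G} (e : H ≃* alternatingGroup (Fin 4)) :
    HasAltFour H :=
  hasAltFour_of_hom e (MonoidHom.id _) Function.injective_id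

theorem hasAltFour_permFour {G : Type*} [Group G] {H : Subgroup G} (e : H ≃* Equiv.Perm (Fin 4)) :
    HasAltFour H :=
  hasAltFour_of_hom e (alternatingGroup (Fin 4)).subtype Subtype.val_injective

theorem exists_altFour_hom_altFive :
    ∃ i : alternatingGroup (Fin 4) →* alternatingGroup (Fin 5), Function.Injective i := by
  let f : Fin 4 ≃ {x : Fin 5 // x ≠ 4} :=
    ⟨fun x => ⟨x.castSucc, by revert x; decide⟩, fun y => ⟨y.1.val, by
      have := y.1.isLt
      have h : (y.1 : ℕ) ≠ 4 := fun e => y.2 (Fin.ext e)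
      omega⟩, fun x => rfl, fun y => rfl⟩
  refine ⟨((Equiv.Perm.extendDomainHom f).comp (alternatingGroup (Fin 4)).subtype).codRestrict _ fun x => ?_, ?_⟩
  · rw [Equiv.Perm.mem_alternatingGroup]
    exact (Equiv.Perm.sign_extendDomain _ f).trans x.2
  · intro x y h
    exact Subtype.ext (Equiv.Perm.extendDomainHom_injective f (congrArg Subtype.val h))

theorem hasAltFour_altFive {G : Type*} [Group G] {H : Subgroup G} (e : H ≃* alternatingGroup (Fin 5)) :
    HasAltFour H := by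
  obtain ⟨i, hi⟩ := exists_altFour_hom_altFive
  exact hasAltFour_of_hom e i hi

namespace Moebius

open MulAction (orbit stabilizer)

variable {F : Type v} [Field F]

theorem exists_quadExt (F : Type v) [Field F] [Fintype F] :
    ∃ (E : Type) (_ : Field E) (_ : Fintype (Line E)) (f : F →+* E),
      Nat.card E = Fintype.card F ^ 2 ∧ QuadClosed f := by
  obtain ⟨p, hp⟩ := CharP.exists F
  obtain ⟨n, hprime, -⟩ := FiniteField.card F p
  have := Fact.mk hprime
  exact ⟨FiniteField.Extension F p 2, inferInstance, Fintype.ofFinite _, algebraMap F _,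
    by rw [FiniteField.natCard_extension, Nat.card_eq_fintype_card], quadClosed_extension p⟩

variable [Fintype F]

theorem sq_sub_one_split (u : ℕ) : u * (u ^ 2 - 1) = (u + 1) * (u * (u - 1)) := by
  rw [show u ^ 2 - 1 = (u + 1) * (u - 1) from by rw [← Nat.sq_sub_sq, one_pow]]; ring

theorem card_pgl_le_two_mul {L0 : Subgroup PGL(2, F)} (hL0 : imL F ≤ L0) :
    (Fintype.card F + 1) * (Fintype.card F * (Fintype.card F - 1)) ≤ 2 * Nat.card L0 := by
  have := finite_pgl_two (F := F)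
  have h := card_imL_two (F := F)
  have hd : Nat.gcd 2 (Fintype.card F - 1) ≤ 2 := Nat.le_of_dvd two_pos (Nat.gcd_dvd_left _ _)
  rw [← h]
  exact Nat.mul_le_mul hd (Nat.le_of_dvd Nat.card_pos (Subgroup.card_dvd_of_le hL0))

theorem card_pgl_ge (h4 : 4 ≤ Fintype.card F) :
    20 * 3 ≤ (Fintype.card F + 1) * (Fintype.card F * (Fintype.card F - 1)) :=
  le_trans (by norm_num : 20 * 3 ≤ 5 * (4 * 3)) (Nat.mul_le_mul (by omega) (Nat.mul_le_mul h4 (by omega)))

/-- A normal subgroup contains the image of `SL_2` or has at most two elements. -/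
theorem normal_cases (h4 : 4 ≤ Fintype.card F) (N : Subgroup PGL(2, F)) [N.Normal] :
    imL F ≤ N ∨ Nat.card N ≤ 2 := by
  have := CfsgLib.ClassK.isSimpleGroup_psl_two h4
  have := finite_pgl_two (F := F)
  have := imL_normal (F := F)
  let ψ := Matrix.ProjectiveSpecialLinearGroup.toPGL (n := Fin 2) (R := F)
  rcases IsSimpleGroup.eq_bot_or_eq_top_of_normal (N.comap ψ) inferInstance with e | e
  · refine Or.inr ?_
    have hb : (imL F).subgroupOf N = ⊥ := by
      rw [Subgroup.eq_bot_iff_forall]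
      rintro ⟨x, hx⟩ ⟨y, rfl⟩
      have hy : y ∈ N.comap ψ := hx
      rw [e, Subgroup.mem_bot] at hy
      exact Subtype.ext (by simp [hy])
    have hi := Subgroup.relIndex_dvd_index_of_normal (imL F) N
    rw [Subgroup.relIndex, hb, Subgroup.index_bot] at hi
    refine (Nat.le_of_dvd ?_ hi).trans ?_
    · exact Nat.pos_of_ne_zero Subgroup.index_ne_zero_of_finite
    · rcases Nat.even_or_odd (Fintype.card F) with h | h
      · rw [imL_eq_top h, Subgroup.index_top]; norm_num
      · rw [imL_index h]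
  · refine Or.inl ?_
    rintro _ ⟨y, rfl⟩
    exact (e ▸ Subgroup.mem_top y : y ∈ N.comap ψ)

theorem normalizer_ne_top (h4 : 4 ≤ Fintype.card F) {V : Subgroup PGL(2, F)} (hV : 3 ≤ Nat.card V)
    (hLV : ¬ imL F ≤ V) : Subgroup.normalizer (V : Set PGL(2, F)) ≠ ⊤ := by
  intro e
  have : V.Normal := Subgroup.normalizer_eq_top_iff.1 e
  rcases normal_cases h4 V with h | h
  · exact hLV h
  · omega

theorem pglTransitive {L0 : Subgroup PGL(2, F)} (hL0 : imL F ≤ L0) (P : Line F) :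
    orbit L0 P = Set.univ := by
  refine Set.eq_univ_of_forall fun Q => ?_
  obtain ⟨a, ha⟩ := exists_psl_to P
  obtain ⟨b, hb⟩ := exists_psl_to Q
  refine ⟨⟨_, hL0 ⟨b * a⁻¹, rfl⟩⟩, ?_⟩
  show Matrix.ProjectiveSpecialLinearGroup.toPGL (b * a⁻¹) • P = Q
  rw [map_mul, map_inv, mul_smul, ← ha, inv_smul_smul, hb]

theorem card_pointStab_mul {L0 : Subgroup PGL(2, F)} (hL0 : imL F ≤ L0) (P : Line F) :
    (Fintype.card F + 1) * Nat.card (stabilizer PGL(2, F) P ⊓ L0 : Subgroup PGL(2, F)) = Nat.card L0 := by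
  have := finite_pgl_two (F := F)
  have h := (stabilizer L0 P).index_mul_card
  rw [MulAction.index_stabilizer, pglTransitive hL0, Set.ncard_univ, CfsgLib.Classical.card_line] at h
  rw [← h]
  congr 1
  exact Nat.card_congr ⟨fun x => ⟨⟨x.1, x.2.2⟩, x.2.1⟩, fun y => ⟨y.1.1, y.2, y.1.2⟩, fun _ => rfl, fun _ => rfl⟩

theorem pointStab_lt {L0 : Subgroup PGL(2, F)} (hL0 : imL F ≤ L0) (P : Line F) :
    stabilizer PGL(2, F) P ⊓ L0 < L0 := by
  refine lt_of_le_of_ne inf_le_right fun e => ?_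
  have := finite_pgl_two (F := F)
  have h := card_pointStab_mul hL0 P
  rw [e] at h
  have := Fintype.one_lt_card (α := F)
  have : 0 < Nat.card L0 := Nat.card_pos
  nlinarith

/-- In odd characteristic distinct commuting involutions have no common fixed point. -/
theorem eq_of_commuting_fix (h2 : (2 : F) ≠ 0) {x y : PGL(2, F)} {P : Line F} (hx : x • P = P) (hy : y • P = P)
    (hxx : x * x = 1) (hyy : y * y = 1) (hc : x * y = y * x) (hx1 : x ≠ 1) (hy1 : y ≠ 1) : x = y := by
  obtain ⟨m, rfl⟩ := exists_map1 P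
  have key : ∀ z : PGL(2, F), z • m • (inf : Line F) = m • inf → z * z = 1 → z ≠ 1 →
      ∃ b, m⁻¹ * z * m = aff (-1) b := by
    intro z hz hzz hz1
    obtain ⟨a, b, hab⟩ := exists_aff_of_fix (g := m⁻¹ * z * m) (by rw [mul_smul, mul_smul, hz, inv_smul_smul])
    have hsq : aff (a * a) (a * b + b) = aff (1 : Fˣ) 0 := by
      rw [← aff_mul, ← hab, aff_one, show m⁻¹ * z * m * (m⁻¹ * z * m) = m⁻¹ * (z * z) * m by group, hzz]
      group
    obtain ⟨ha, hb⟩ := aff_inj hsq
    have hor : (a : F) = 1 ∨ (a : F) = -1 := mul_self_eq_one_iff.1 (by rw [← Units.val_mul, ha, Units.val_one])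
    rcases hor with e | e
    · exfalso
      rw [e, one_mul, ← two_mul] at hb
      rw [show a = 1 from Units.ext e, (mul_eq_zero.1 hb).resolve_left h2, aff_one, mul_eq_one_iff_eq_inv,
        inv_mul_eq_iff_eq_mul, mul_inv_cancel] at hab
      exact hz1 hab
    · exact ⟨b, by rw [hab, show a = -1 from Units.ext (by simp [e])]⟩
  obtain ⟨b, hb⟩ := key x hx hxx hx1
  obtain ⟨d, hd⟩ := key y hy hyy hy1
  have h := congrArg (fun z => m⁻¹ * z * m) hc
  simp only [show m⁻¹ * (x * y) * m = (m⁻¹ * x * m) * (m⁻¹ * y * m) by group,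
    show m⁻¹ * (y * x) * m = (m⁻¹ * y * m) * (m⁻¹ * x * m) by group, hb, hd, aff_mul] at h
  have h' := (aff_inj h).2
  simp only [Units.val_neg, Units.val_one] at h'
  have hbd : b = d := by
    refine mul_left_cancel₀ h2 ?_
    linear_combination h'
  rw [hbd, ← hd] at hb
  exact mul_left_cancel (mul_right_cancel hb)

theorem altFour_not_fix_point (h2 : (2 : F) ≠ 0) {H : Subgroup PGL(2, F)} (hA : HasAltFour H) (P : Line F) :
    ¬ H ≤ stabilizer PGL(2, F) P := by
  intro hle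
  obtain ⟨j, hj, hjm⟩ := hA
  obtain ⟨a, b, -, -, haa, hbb, hab, ha1, hb1, hne, -⟩ :
      KleinNormal (⊤ : Subgroup (alternatingGroup (Fin 4))) := kleinNormal_altFour Subgroup.topEquiv
  refine hne (hj (eq_of_commuting_fix h2 (hle (hjm a)) (hle (hjm b)) (by rw [← map_mul, haa, map_one])
    (by rw [← map_mul, hbb, map_one]) (by rw [← map_mul, hab, map_mul]) ?_ ?_))
  · exact fun e => ha1 (hj (e.trans (map_one j).symm))
  · exact fun e => hb1 (hj (e.trans (map_one j).symm))

/-- In characteristic two the elements normalising a four-group fix a point. -/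
theorem exists_fixed_of_klein_charTwo (h2 : (2 : F) = 0) {M : Subgroup PGL(2, F)} (hK : KleinNormal M) :
    ∃ P : Line F, M ≤ stabilizer PGL(2, F) P := by
  obtain ⟨a, b, -, -, haa, hbb, hab, ha1, hb1, hne, hconj⟩ := hK
  obtain ⟨P, haP, hau⟩ := involution_unique_fixed h2 haa ha1
  obtain ⟨Q, hbQ, hbu⟩ := involution_unique_fixed h2 hbb hb1
  have hbP : b • P = P := hau _ (by rw [← mul_smul, hab, mul_smul, haP])
  have hQP : P = Q := hbu P hbP
  obtain ⟨R, habR, habu⟩ := involution_unique_fixed h2 (g := a * b)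
    (by rw [show a * b * (a * b) = a * (b * a) * b by group, ← hab,
      show a * (a * b) * b = (a * a) * (b * b) by group, haa, hbb, one_mul])
    (fun e => hne (by rw [eq_inv_of_mul_eq_one_left e, inv_eq_of_mul_eq_one_right hbb]))
  have habP : (a * b) • P = P := by rw [mul_smul, hbP, haP]
  refine ⟨P, fun g hg => ?_⟩
  have hfix : (g * a * g⁻¹) • (g • P) = g • P := by rw [mul_smul, inv_smul_smul, mul_smul, haP]
  show g • P = P
  rcases (hconj g hg).1 with e | e | e <;> rw [e] at hfix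
  · exact hau _ hfix
  · exact (hbu _ hfix).trans hQP.symm
  · exact (habu _ hfix).trans (habu P habP).symm

variable {E : Type*} [Field E] [Fintype (Line E)] (f : F →+* E)

theorem altFour_not_pair (hE : Nat.card E = Fintype.card F ^ 2) (hQC : QuadClosed f) {H : Subgroup PGL(2, F)}
    (hA : HasAltFour H) {P Q : Line E} (hPQ : P ≠ Q) : ¬ H ≤ pairStab f P Q := by
  intro hle
  obtain ⟨j, hj, hjm⟩ := hA
  have hsq : ∀ x, j x ∈ (fixExt f P ⊓ fixExt f Q : Subgroup PGL(2, F)) := by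
    intro x
    obtain ⟨g, h, rfl⟩ := altFour_two_squares x
    have : ∀ g, j (g * g) ∈ (fixExt f P ⊓ fixExt f Q : Subgroup PGL(2, F)) := by
      intro g
      rcases (mem_pairStab f).1 (hle (hjm g)) with ⟨a, b⟩ | ⟨a, b⟩
      · rw [map_mul]
        exact mul_mem ⟨a, b⟩ ⟨a, b⟩
      · rw [map_mul]
        exact ⟨show extHom f (j g * j g) • P = P by rw [map_mul, mul_smul, a, b],
          show extHom f (j g * j g) • Q = Q by rw [map_mul, mul_smul, b, a]⟩
    rw [map_mul]
    exact mul_mem (this g) (this h)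
  obtain ⟨x, y, hxy⟩ := altFour_noncomm
  have hx1 : j x ≠ 1 := fun e => hxy (by rw [show x = 1 from hj (e.trans (map_one j).symm), one_mul, mul_one])
  obtain ⟨hc, -, -⟩ := torus_pair f hE hQC hPQ hx1 (hsq x).1 (hsq x).2
  have := hc.commGroup.mul_comm (⟨j x, hsq x⟩ : (fixExt f P ⊓ fixExt f Q : Subgroup PGL(2, F))) ⟨j y, hsq y⟩
  exact hxy (hj (by rw [map_mul, map_mul]; exact congrArg Subtype.val this))

omit [Fintype (Line E)] in
theorem no_fixed_point {P Q : Line E} (hPQ : P ≠ Q) {g s : PGL(2, F)} (hg : g ≠ 1)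
    (hgP : extHom f g • P = P) (hgQ : extHom f g • Q = Q) (hsP : extHom f s • P = Q) (hsQ : extHom f s • Q = P)
    {R : Line E} (hgR : extHom f g • R = R) (hsR : extHom f s • R = R) : False := by
  by_cases h1 : R = P
  · subst h1; exact hPQ (hsR.symm.trans hsP)
  by_cases h2 : R = Q
  · subst h2; exact hPQ (hsR.symm.trans hsQ).symm
  exact hg (extHom_injective f (by
    rw [map_one]; exact eq_one_of_three hPQ (Ne.symm h1) (Ne.symm h2) hgP hgQ hgR))

omit [Fintype (Line E)] in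
theorem fix_conj_mem {P Q : Line E} {L : Subgroup PGL(2, F)} {x t : PGL(2, F)}
    (hx : x ∈ (pairStab f P Q ⊓ L : Subgroup PGL(2, F)))
    (ht : t ∈ (fixExt f P ⊓ fixExt f Q ⊓ L : Subgroup PGL(2, F))) :
    x * t * x⁻¹ ∈ (fixExt f P ⊓ fixExt f Q ⊓ L : Subgroup PGL(2, F)) := by
  obtain ⟨⟨hP, hQ⟩, htL⟩ := ht
  refine ⟨?_, L.mul_mem (L.mul_mem hx.2 htL) (L.inv_mem hx.2)⟩
  have mv : ∀ A B : Line E, extHom f x • A = B → extHom f t • A = A → extHom f (x * t * x⁻¹) • B = B := by
    intro A B e h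
    rw [map_mul, map_mul, map_inv, mul_smul, mul_smul, ← e, inv_smul_smul, h]
  rcases (mem_pairStab f).1 hx.1 with ⟨a, b⟩ | ⟨a, b⟩
  · exact ⟨mv P P a hP, mv Q Q b hQ⟩
  · exact ⟨mv Q P b hQ, mv P Q a hP⟩

omit [Fintype (Line E)] in
theorem pairStab_self (P Q : Line E) : fixExt f P ⊓ fixExt f Q ≤ pairStab f P Q :=
  fun _ h => (mem_pairStab f).2 (Or.inl ⟨h.1, h.2⟩)

end Moebius

end CfsgLib.Geom
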