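import Mathlib
import Cfsg.Agent.Lib.Geom.MaxSetup
import Cfsg.Agent.Lib.Geom.KleinConj

set_option autoImplicit false

/-!
Maximal subgroups of `PGL_2(F)` and of the image of `SL_2(F)`: the first reduction of Dickson's list.
-/

namespace CfsgLib.Geom.Moebius

open Matrix
open scoped MatrixGroups
open MulAction (stabilizer)

variable {F E : Type*} [Field F] [Fintype F] [Field E] [Fintype (Line E)] (f : F →+* E)

/-- The possible shapes of a maximal subgroup. -/
inductive BaseCase (M L0 : Subgroup PGL(2, F)) : Prop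
  | point (P : Line F) (h : M = stabilizer PGL(2, F) P ⊓ L0)
  | pair (P Q : Line E) (hPQ : P ≠ Q) (g : PGL(2, F)) (hg : g ≠ 1) (hgP : extHom f g • P = P)
      (hgQ : extHom f g • Q = Q) (h : M = pairStab f P Q ⊓ L0)
  | tetrahedral (h : Nonempty (M ≃* alternatingGroup (Fin 4))) (hcard : Nat.card M = 12)
  | octahedral (h : Nonempty (M ≃* Equiv.Perm (Fin 4))) (hcard : Nat.card M = 24)
  | icosahedral (h2 : (2 : F) ≠ 0) (h : Nonempty (M ≃* alternatingGroup (Fin 5))) (hcard : Nat.card M = 60)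
  | subfieldGroup (K : Subfield F) (u r : ℕ) (hu : 3 ≤ u) (hK : Nat.card K = u) (hr : r.Prime)
      (hur : u ^ r = Fintype.card F) (m : PGL(2, F)) (h : M = subfieldPGL K m ⊓ L0)

variable {M L0 : Subgroup PGL(2, F)}

omit [Fintype (Line E)] in
theorem exists_degree {K : Subfield F} {u : ℕ} (hK : Nat.card K = u) :
    ∃ d, 0 < d ∧ u ^ d = Fintype.card F := by
  refine ⟨Module.finrank K F, Module.finrank_pos, ?_⟩
  rw [Module.card_eq_pow_finrank (K := K) (V := F), card_subfield_eq hK]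

omit [Fintype (Line E)] in
theorem subfieldPGL_inf_lt (hL0 : imL F ≤ L0) {K : Subfield F} {u d : ℕ} (hK : Nat.card K = u)
    (hud : u ^ d = Fintype.card F) (hd : 2 ≤ d) (m : PGL(2, F)) : subfieldPGL K m ⊓ L0 < L0 := by
  refine lt_of_le_of_ne inf_le_right fun e => ?_
  have := finite_pgl_two (F := F)
  have h1 := two_mul_card_subfieldPGL_lt hK hud hd m
  have h2 := card_pgl_le_two_mul hL0
  have h3 : Nat.card L0 ≤ Nat.card (subfieldPGL K m) :=
    Nat.le_of_dvd Nat.card_pos (e ▸ Subgroup.card_dvd_of_le inf_le_left)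
  omega

omit [Fintype (Line E)] in
theorem subfieldPSL_le_of (hL0 : imL F ≤ L0) (K : Subfield F) (m : PGL(2, F)) :
    subfieldPSL K m ≤ subfieldPGL K m ⊓ L0 :=
  le_inf ((subfieldPSL_le K m).trans inf_le_left) ((subfieldPSL_le K m).trans (inf_le_right.trans hL0))

omit [Fintype (Line E)] in
/-- A subgroup inside a proper subfield group is the intersection and has one of the two orders. -/
theorem of_le_subfield (hL0 : imL F ≤ L0) (hM : MaxIn M L0) {K : Subfield F} {u d : ℕ} (hK : Nat.card K = u)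
    (hd : 2 ≤ d) (hud : u ^ d = Fintype.card F) {m : PGL(2, F)} (hle : M ≤ subfieldPGL K m) :
    M = subfieldPGL K m ⊓ L0 ∧
      (Nat.card M = (u + 1) * (u * (u - 1)) ∨ 2 * Nat.card M = (u + 1) * (u * (u - 1))) := by
  have := finite_pgl_two (F := F)
  have e := hM.eq_of_le (le_inf hle hM.1.le) (subfieldPGL_inf_lt hL0 hK hud hd m)
  refine ⟨e, ?_⟩
  have h1 := Subgroup.card_dvd_of_le (subfieldPSL_le_of hL0 K m)
  rw [← e] at h1
  have h2 := Subgroup.card_dvd_of_le hle
  rw [card_subfieldPGL hK] at h2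
  have h3 := card_subfieldPSL hK m
  obtain ⟨b, hb⟩ := h1
  obtain ⟨c, hc⟩ := h2
  have hpos : 0 < Nat.card (subfieldPSL K m) := Nat.card_pos
  rw [hc, hb, mul_assoc, mul_comm] at h3
  have hbc : Nat.gcd 2 (u - 1) = b * c := Nat.eq_of_mul_eq_mul_left hpos h3
  rcases (Nat.dvd_prime Nat.prime_two).1 (dvd_trans (Dvd.intro_left b hbc.symm) (Nat.gcd_dvd_left 2 (u - 1))) with
    h | h
  · left; rw [hc, h, mul_one]
  · right; rw [hc, h, mul_comm]

omit [Fintype (Line E)] in
theorem subfield_case (h4 : 4 ≤ Fintype.card F) (hL0 : imL F ≤ L0) (hM : MaxIn M L0) (hne : ¬ imL F ≤ M)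
    {K : Subfield F} {u : ℕ} (hu : 3 ≤ u) (hK : Nat.card K = u) {m : PGL(2, F)} (hle : M ≤ subfieldPGL K m)
    (hcard : Nat.card M = (u + 1) * (u * (u - 1)) ∨ 2 * Nat.card M = (u + 1) * (u * (u - 1))) :
    ∃ r, r.Prime ∧ u ^ r = Fintype.card F ∧ M = subfieldPGL K m ⊓ L0 := by
  have := finite_pgl_two (F := F)
  obtain ⟨d, hd0, hud⟩ := exists_degree hK
  rcases Nat.eq_or_lt_of_le hd0 with h1 | h1
  · exfalso
    rw [← h1, pow_one] at hud
    rw [hud, ← card_pgl_two] at hcard
    have hlt : M ≠ ⊤ := (hM.1.trans_le le_top).ne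
    have h20 := card_pgl_ge h4
    rw [← card_pgl_two] at h20
    have hi := M.index_mul_card
    have hi1 : M.index ≠ 1 := fun e => hlt (Subgroup.index_eq_one.1 e)
    have hi0 : M.index ≠ 0 := Subgroup.index_ne_zero_of_finite
    have hpos : 0 < Nat.card M := Nat.card_pos
    have hi2 : M.index = 2 := by
      rcases hcard with h | h
      · rw [← h] at hi
        exact absurd (Nat.eq_of_mul_eq_mul_right hpos (hi.trans (one_mul _).symm)) hi1
      · exact Nat.eq_of_mul_eq_mul_right hpos (hi.trans h.symm)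
    have := Subgroup.normal_of_index_eq_two hi2
    rcases normal_cases h4 M with h | h
    · exact hne h
    · rw [hi2] at hi; omega
  · have e := hM.eq_of_le (le_inf hle hM.1.le) (subfieldPGL_inf_lt hL0 hK hud h1 m)
    refine ⟨d, ?_, hud, e⟩
    by_contra hp
    obtain ⟨r, hrd, hr2, hrlt⟩ : ∃ r, r ∣ d ∧ 2 ≤ r ∧ r < d := by
      refine ⟨d.minFac, d.minFac_dvd, (Nat.minFac_prime (by omega)).two_le, ?_⟩
      exact lt_of_le_of_ne (Nat.minFac_le (by omega)) fun h => hp (h ▸ Nat.minFac_prime (by omega))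
    obtain ⟨K', hKK', hK'⟩ := exists_intermediate hK hud hrd (by omega)
    obtain ⟨d', rfl⟩ := hrd
    have hd' : 2 ≤ d' := by
      by_contra h
      interval_cases d' <;> omega
    have hle' : M ≤ subfieldPGL K' m := hle.trans (subfieldPGL_mono hKK' m)
    obtain ⟨-, hc'⟩ := of_le_subfield hL0 hM hK' hd' (by rw [← pow_mul, hud]) hle'
    have hu2 : 2 * u ≤ u ^ r := le_trans (Nat.mul_le_mul_right u (by omega : 2 ≤ u))
      ((sq u).symm.le.trans (Nat.pow_le_pow_right (by omega) hr2))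
    have hlt : 2 * ((u + 1) * (u * (u - 1))) < (u ^ r + 1) * (u ^ r * (u ^ r - 1)) :=
      calc 2 * ((u + 1) * (u * (u - 1))) = (u + 1) * ((2 * u) * (u - 1)) := by ring
        _ ≤ (u + 1) * (u ^ r * (u ^ r - 1)) := Nat.mul_le_mul_left _ (Nat.mul_le_mul hu2 (by omega))
        _ < _ := Nat.mul_lt_mul_of_pos_right (by omega) (Nat.mul_pos (by omega) (by omega))
    rcases hc' with h | h <;> rcases hcard with h' | h' <;> omega

/-- Dickson's list for a maximal subgroup. -/
theorem baseCase (p : ℕ) [Fact p.Prime] [CharP F p] (hE : Nat.card E = Fintype.card F ^ 2) (hQC : QuadClosed f)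
    (h4 : 4 ≤ Fintype.card F) (hL0 : imL F ≤ L0) (hM : MaxIn M L0) (hne : ¬ imL F ≤ M) : BaseCase f M L0 := by
  have := finite_pgl_two (F := F)
  have h20 := card_pgl_le_two_mul hL0
  have hbot : M ≠ ⊥ := by
    intro e
    have e' := hM.eq_of_le (N := stabilizer PGL(2, F) (inf : Line F) ⊓ L0) (e ▸ bot_le) (pointStab_lt hL0 inf)
    have h := card_pointStab_mul hL0 (inf : Line F)
    rw [← e', e, Subgroup.card_bot, mul_one] at h
    rw [← h, mul_comm 2] at h20
    have : 4 * 3 ≤ Fintype.card F * (Fintype.card F - 1) := Nat.mul_le_mul h4 (by omega)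
    have := Nat.le_of_mul_le_mul_left h20 (by omega)
    omega
  cases dicksonPGL f p hQC M hbot with
  | point P h => exact .point P (hM.eq_of_le (le_inf h hM.1.le) (pointStab_lt hL0 P))
  | pair P Q hPQ hle hg =>
    obtain ⟨g, -, hg1, hgP, hgQ⟩ := hg
    refine .pair P Q hPQ g hg1 hgP hgQ (hM.eq_of_le (le_inf hle hM.1.le) (lt_of_le_of_ne inf_le_right fun e => ?_))
    obtain ⟨-, hcard, s, hsP, hsQ⟩ := torus_pair f hE hQC hPQ hg1 hgP hgQ
    have h2 := (pairStab_dihedral f hQC hPQ ⊤ (Subgroup.mem_top s) hsP hsQ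
      (by rw [inf_top_eq]; omega)).2
    rw [inf_top_eq, inf_top_eq] at h2
    have h3 : Nat.card L0 ≤ Nat.card (pairStab f P Q) :=
      Nat.le_of_dvd Nat.card_pos (e ▸ Subgroup.card_dvd_of_le inf_le_left)
    have h5 : (Fintype.card F + 1) * 12 ≤ (Fintype.card F + 1) * (Fintype.card F * (Fintype.card F - 1)) :=
      Nat.mul_le_mul_left _ (le_trans (by norm_num) (Nat.mul_le_mul h4 (Nat.le_sub_one_of_lt h4)))
    omega
  | tetrahedral h hcard => exact .tetrahedral h hcard
  | octahedral h hcard => exact .octahedral h hcard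
  | icosahedral h2 h hcard => exact .icosahedral h2 h hcard
  | subfieldGroup K u hu hK m hle hcard =>
    obtain ⟨r, hr, hur, e⟩ := subfield_case h4 hL0 hM hne hu hK hle hcard
    exact .subfieldGroup K u r hu hK hr hur m e

omit [Fintype (Line E)] in
theorem mem_imL_of_sq (hodd : Odd (Fintype.card F)) {g h : PGL(2, F)} : g * g * (h * h) ∈ imL F :=
  mul_mem (Subgroup.mul_self_mem_of_index_two (imL_index hodd) g)
    (Subgroup.mul_self_mem_of_index_two (imL_index hodd) h)

open SL2Anti in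
omit [Fintype (Line E)] in
/-- A subgroup normalising commuting involutions normalises the four-group of an anticommuting pair. -/
theorem exists_VPGL_of_klein (hodd : Odd (Fintype.card F)) (hK : KleinNormal M) :
    ∃ g h : SL(2, F), Anti g h ∧ VPGL g h ≤ M ∧
      M ≤ Subgroup.normalizer ((VPGL g h : Subgroup PGL(2, F)) : Set PGL(2, F)) := by
  have h2 := CfsgLib.Classical.two_ne_zero_of_odd hodd
  obtain ⟨a, b, ⟨g1, hg1, g2, hg2, ha⟩, ⟨g3, hg3, g4, hg4, hb⟩, haa, hbb, hab, ha1, hb1, hne, hconj⟩ := hK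
  have haM : a ∈ M := ha ▸ mul_mem (mul_mem hg1 hg1) (mul_mem hg2 hg2)
  have hbM : b ∈ M := hb ▸ mul_mem (mul_mem hg3 hg3) (mul_mem hg4 hg4)
  let ψ := Matrix.ProjectiveSpecialLinearGroup.toPGL (n := Fin 2) (R := F)
  have hinj : Function.Injective ψ := Matrix.ProjectiveSpecialLinearGroup.toPGL_injective
  obtain ⟨x, hx⟩ : a ∈ imL F := ha ▸ mem_imL_of_sq hodd
  obtain ⟨y, hy⟩ : b ∈ imL F := hb ▸ mem_imL_of_sq hodd
  obtain ⟨g, rfl⟩ := pr_surjective x
  obtain ⟨h, rfl⟩ := pr_surjective y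
  change ψ (pr g) = a at hx
  change ψ (pr h) = b at hy
  have tr : ∀ z : SL(2, F), ψ (pr z) = 1 → z ∈ Subgroup.center SL(2, F) := fun z e =>
    pr_eq_one.1 (hinj (e.trans (map_one ψ).symm))
  have hA : Anti g h := by
    refine anti_of_involutions h2 (fun e => ha1 (by rw [← hx, pr_eq_one.2 e, map_one]))
      (fun e => hb1 (by rw [← hy, pr_eq_one.2 e, map_one])) (fun e => hne ?_) (tr _ ?_) (tr _ ?_) (tr _ ?_)
    · have h3 := congrArg ψ (pr_eq_one.2 e)
      rw [map_mul, map_mul, map_inv, map_inv, hx, hy, map_one] at h3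
      exact inv_mul_eq_one.1 h3
    · rw [map_mul, map_mul, hx, haa]
    · rw [map_mul, map_mul, hy, hbb]
    · rw [map_mul, map_mul, map_mul, map_mul, hx, hy, show a * b * (a * b) = a * (b * a) * b by group, ← hab,
        show a * (a * b) * b = a * a * (b * b) by group, haa, hbb, one_mul]
  have hle : VPGL g h ≤ M := by
    rw [VPGL, VP, MonoidHom.map_closure, Set.image_pair, Subgroup.closure_le]
    rintro z (rfl | rfl)
    · exact hx.symm ▸ haM
    · exact hy.symm ▸ hbM
  refine ⟨g, h, hA, hle, fun n hn => ?_⟩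
  have hin : a ∈ VPGL g h ∧ b ∈ VPGL g h :=
    ⟨⟨_, (mem_VP h2 hA).2 (Or.inr (Or.inl rfl)), hx⟩, ⟨_, (mem_VP h2 hA).2 (Or.inr (Or.inr (Or.inl rfl))), hy⟩⟩
  have key : ∀ n ∈ M, VPGL g h ≤ (VPGL g h).comap (MulAut.conj n).toMonoidHom := by
    intro n hn
    conv_lhs => rw [VPGL, VP, MonoidHom.map_closure, Set.image_pair]
    rw [Subgroup.closure_le]
    rintro z (rfl | rfl)
    · show n * ψ (pr g) * n⁻¹ ∈ VPGL g h
      rw [hx]
      rcases (hconj n hn).1 with e | e | e <;> rw [e]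
      exacts [hin.1, hin.2, mul_mem hin.1 hin.2]
    · show n * ψ (pr h) * n⁻¹ ∈ VPGL g h
      rw [hy]
      rcases (hconj n hn).2 with e | e | e <;> rw [e]
      exacts [hin.1, hin.2, mul_mem hin.1 hin.2]
  refine Subgroup.mem_normalizer_iff.2 fun z => ⟨fun hz => key n hn hz, fun hz => ?_⟩
  have := key n⁻¹ (inv_mem hn) hz
  simpa [mul_assoc] using this

end CfsgLib.Geom.Moebius
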