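import Mathlib
import Cfsg.Agent.Lib.Geom.MaxClass
import Cfsg.Agent.Lib.Geom.Golden
import Cfsg.Agent.Lib.Classical.PSLTwoDihedral

set_option autoImplicit false

/-!
The shapes of maximal subgroups, with the arithmetic conditions of the exceptional ones.
-/

namespace CfsgLib.Geom.Moebius

open Matrix
open scoped MatrixGroups
open MulAction (stabilizer)

variable {F E : Type*} [Field F] [Fintype F] [Field E] [Fintype (Line E)] (f : F →+* E)
variable {M L0 : Subgroup PGL(2, F)}

/-- A subfield subgroup of prime degree. -/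
def IsSubfieldCase (M L0 : Subgroup PGL(2, F)) : Prop :=
  ∃ (K : Subfield F) (u r : ℕ) (m : PGL(2, F)), 3 ≤ u ∧ Nat.card K = u ∧ r.Prime ∧ u ^ r = Fintype.card F ∧
    M = subfieldPGL K m ⊓ L0

omit [Fintype F] [Fintype (Line E)] in
theorem odd_of_two_ne_zero [Fintype F] (h2 : (2 : F) ≠ 0) : Odd (Fintype.card F) :=
  Nat.odd_iff.2 (FiniteField.odd_card_of_char_ne_two (ringChar_ne_two_of_ne h2))

omit [Fintype (Line E)] in
theorem klein_case (p : ℕ) [Fact p.Prime] [CharP F p] (hodd : Odd (Fintype.card F)) (h4 : 4 ≤ Fintype.card F)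
    (hL0 : imL F ≤ L0) (hM : MaxIn M L0) (hne : ¬ imL F ≤ M) (hK : KleinNormal M) :
    Fintype.card F = p ∨ IsSubfieldCase M L0 := by
  obtain ⟨g, h, ha, -, hn⟩ := exists_VPGL_of_klein hodd hK
  obtain ⟨K, hK', -⟩ := exists_primeSubfield (F := F) p
  obtain ⟨d, hd0, hud⟩ := exists_degree hK'
  rcases Nat.eq_or_lt_of_le hd0 with h1 | h1
  · left; rw [← hud, ← h1, pow_one]
  · right
    obtain ⟨m, hm, -⟩ := SL2Anti.klein_subfield (CfsgLib.Classical.two_ne_zero_of_odd hodd) ha K
    have hle : M ≤ subfieldPGL K m := fun x hx => hm x (hn hx)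
    obtain ⟨-, hcard⟩ := of_le_subfield hL0 hM hK' h1 hud hle
    have hp3 : 3 ≤ p := by
      have := (Fact.out : p.Prime).two_le
      by_contra hlt
      have hev : Even (Fintype.card F) := hud ▸ (Nat.even_pow' hd0.ne').2 (by rw [show p = 2 by omega]; exact even_two)
      exact Nat.not_even_iff_odd.2 hodd hev
    obtain ⟨r, hr, hur, e⟩ := subfield_case h4 hL0 hM hne hp3 hK' hle hcard
    exact ⟨K, p, r, m, hp3, hK', hr, hur, e⟩

omit [Fintype (Line E)] in
open SL2Anti in
/-- All lifts of an icosahedral group have traces in a subfield containing a golden number. -/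
theorem trace_mem_of_altFive (h2 : (2 : F) ≠ 0) (e : M ≃* alternatingGroup (Fin 5)) (K : Subfield F) {φ : F}
    (hφ : φ * φ = φ + 1) (hφK : φ ∈ K) (y : SL(2, F))
    (hy : Matrix.ProjectiveSpecialLinearGroup.toPGL (pr y : ProjectiveSpecialLinearGroup (Fin 2) F) ∈ M) :
    (y : Matrix (Fin 2) (Fin 2) F).trace ∈ K := by
  have hinj := Matrix.ProjectiveSpecialLinearGroup.toPGL_injective (n := Fin 2) (R := F)
  by_cases hc : y ∈ Subgroup.center SL(2, F)
  · rcases (mem_center_iff_sign h2).1 hc with rfl | rfl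
    · rw [Matrix.SpecialLinearGroup.coe_one, Matrix.trace_one, Fintype.card_fin]; exact natCast_mem K 2
    · rw [Matrix.SpecialLinearGroup.coe_neg, Matrix.SpecialLinearGroup.coe_one, Matrix.trace_neg, Matrix.trace_one,
        Fintype.card_fin]
      exact neg_mem (natCast_mem K 2)
  have hpow : ∀ k : ℕ, (e ⟨_, hy⟩) ^ k = 1 → y ^ k ∈ Subgroup.center SL(2, F) := by
    intro k hk
    rw [← map_pow, MulEquiv.map_eq_one_iff] at hk
    have := congrArg Subtype.val hk
    rw [SubmonoidClass.coe_pow, ← map_pow, ← map_pow, OneMemClass.coe_one] at this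
    exact pr_eq_one.1 (hinj (this.trans (map_one _).symm))
  rcases CfsgLib.Classical.altFive_pow' (e ⟨_, hy⟩) with h | h | h
  · rcases (mem_center_iff_sign h2).1 (hpow 2 h) with h' | h'
    · exact absurd ((mem_center_iff_sign h2).2 (eq_or_eq_neg_of_sq_one h2 (by rw [← sq]; exact h'))) hc
    · rw [trace_eq_zero_of_sq (by rw [← sq]; exact h')]; exact zero_mem K
  · rcases Golden.trace_of_pow_three h2 hc (hpow 3 h) with h' | h' <;> rw [h']
    · exact one_mem K
    · exact neg_mem (one_mem K)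
  · obtain ⟨c, hc', -⟩ := Golden.scalar_of_center h2 (hpow 5 h)
    rw [Matrix.SpecialLinearGroup.coe_pow] at hc'
    rcases Golden.trace_of_pow_five hc hc' with h' | h' <;> rcases Golden.other_root hφ h' with h'' | h''
    · rw [h'']; exact hφK
    · rw [h'']; exact sub_mem (one_mem K) hφK
    · rw [neg_eq_iff_eq_neg.1 h'']; exact neg_mem hφK
    · rw [neg_eq_iff_eq_neg.1 h'']; exact neg_mem (sub_mem (one_mem K) hφK)

omit [Fintype (Line E)] in
theorem icosa_case (p : ℕ) [Fact p.Prime] [CharP F p] (h2 : (2 : F) ≠ 0) (h4 : 4 ≤ Fintype.card F)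
    (hL0 : imL F ≤ L0) (hM : MaxIn M L0) (hne : ¬ imL F ≤ M) (e : M ≃* alternatingGroup (Fin 5))
    (hcard : Nat.card M = 60) :
    (Fintype.card F = p ∧ (p % 10 = 1 ∨ p % 10 = 9)) ∨ (Fintype.card F = p ^ 2 ∧ (p % 10 = 3 ∨ p % 10 = 7)) ∨
      IsSubfieldCase M L0 := by
  classical
  have := finite_pgl_two (F := F)
  have hodd := odd_of_two_ne_zero h2
  have hp : p.Prime := Fact.out
  -- an icosahedral group lies in the image of `SL_2`
  have hML : M ≤ imL F := by
    intro x hx
    obtain ⟨g, h, hgh⟩ := altFive_two_squares (e ⟨x, hx⟩)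
    have : (⟨x, hx⟩ : M) = e.symm g * e.symm g * (e.symm h * e.symm h) := by
      rw [← map_mul, ← map_mul, ← map_mul, ← hgh, MulEquiv.symm_apply_apply]
    have := congrArg Subtype.val this
    rw [show x = _ from this]
    exact mem_imL_of_sq hodd
  have h5 : 5 ∣ (Fintype.card F + 1) * (Fintype.card F * (Fintype.card F - 1)) := by
    rw [← card_pgl_two]
    exact (dvd_trans (by norm_num) (dvd_of_eq hcard.symm)).trans M.card_subgroup_dvd_card
  obtain ⟨φ, hφ⟩ := Golden.exists_golden h5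
  obtain ⟨j, hj, hjM⟩ := hasAltFour_altFive e
  let A := j.range
  obtain ⟨g, h, ha, hVA, -⟩ := exists_VPGL_of_klein (M := A) hodd
    (kleinNormal_altFour (MonoidHom.ofInjective hj).symm)
  have hVM : SL2Anti.VPGL g h ≤ M := hVA.trans (by rintro _ ⟨x, rfl⟩; exact hjM x)
  have hmem : ∀ z : SL(2, F), (SL2Anti.pr z : ProjectiveSpecialLinearGroup (Fin 2) F) ∈ SL2Anti.VP g h →
      Matrix.ProjectiveSpecialLinearGroup.toPGL (SL2Anti.pr z : ProjectiveSpecialLinearGroup (Fin 2) F) ∈ M :=
    fun z hz => hVM ⟨_, hz, rfl⟩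
  have inK : ∀ K : Subfield F, φ ∈ K → ∃ m, M ≤ subfieldPGL K m := by
    intro K hK
    obtain ⟨m, -, hm⟩ := SL2Anti.klein_subfield h2 ha K
    refine ⟨m, fun x hx => ?_⟩
    obtain ⟨w, rfl⟩ := hML hx
    obtain ⟨y, rfl⟩ := SL2Anti.pr_surjective w
    have tr : ∀ z : SL(2, F), (SL2Anti.pr z : ProjectiveSpecialLinearGroup (Fin 2) F) ∈ SL2Anti.VP g h →
        ((y * z : SL(2, F)) : Matrix (Fin 2) (Fin 2) F).trace ∈ K := fun z hz =>
      trace_mem_of_altFive h2 e K hφ hK _ (by rw [map_mul, map_mul]; exact mul_mem hx (hmem z hz))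
    exact hm y (trace_mem_of_altFive h2 e K hφ hK _ hx) (tr g ((SL2Anti.mem_VP h2 ha).2 (Or.inr (Or.inl rfl))))
      (tr h ((SL2Anti.mem_VP h2 ha).2 (Or.inr (Or.inr (Or.inl rfl)))))
      (tr (g * h) ((SL2Anti.mem_VP h2 ha).2 (Or.inr (Or.inr (Or.inr rfl)))))
  have step : ∀ (K : Subfield F) (u d : ℕ), φ ∈ K → Nat.card K = u → 2 ≤ d → u ^ d = Fintype.card F →
      u = 5 ∧ IsSubfieldCase M L0 := by
    intro K u d hK hKu hd hud
    obtain ⟨m, hm⟩ := inK K hK
    obtain ⟨-, hc⟩ := of_le_subfield hL0 hM hKu hd hud hm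
    have hu : u = 5 := by
      have hlt : u < 7 := by
        by_contra hge
        have : 8 * (7 * 6) ≤ (u + 1) * (u * (u - 1)) :=
          Nat.mul_le_mul (by omega) (Nat.mul_le_mul (by omega) (by omega))
        omega
      have huo : Odd u := (Nat.odd_pow_iff (by omega : d ≠ 0)).1 (hud ▸ hodd)
      rw [Nat.odd_iff] at huo
      interval_cases u <;> omega
    obtain ⟨r, hr, hur, he⟩ := subfield_case h4 hL0 hM hne (by omega) hKu hm hc
    exact ⟨hu, K, u, r, m, by omega, hKu, hr, hur, he⟩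
  have hp2 : p ≠ 2 := by
    rintro rfl
    exact h2 (by exact_mod_cast CharP.cast_eq_zero F 2)
  obtain ⟨K, hK, -⟩ := exists_primeSubfield (F := F) p
  obtain ⟨d, hd0, hud⟩ := exists_degree hK
  by_cases hφK : φ ∈ K
  · rcases Nat.eq_or_lt_of_le hd0 with h1 | h1
    · left
      rw [← h1, pow_one] at hud
      refine ⟨hud.symm, (Golden.five_dvd_iff hp hp2 fun h5' => hne ?_).1 (hud ▸ h5)⟩
      -- for five elements the whole image has order sixty
      refine (Subgroup.eq_of_le_of_card_ge hML ?_).ge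
      have h := card_imL_two (F := F)
      rw [gcd_two_of_odd hodd, ← hud, h5'] at h
      omega
    · exact Or.inr (Or.inr (step K p d hφK hK h1 hud).2)
  · have hφp : φ ^ p ≠ φ := fun h => hφK (Golden.mem_subfield_of_pow_eq hK h)
    have hsq := Golden.pow_char_sq p hφ
    have hdeven : 2 ∣ d := by
      by_contra hd
      obtain ⟨k, rfl⟩ : Odd d := Nat.odd_iff.2 (by omega)
      refine hφp ?_
      have hq := FiniteField.pow_card φ
      rw [← hud, pow_succ, pow_mul, pow_mul] at hq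
      rw [show ∀ k, φ ^ (p ^ 2) ^ k = φ from fun k => by
        induction k with
        | zero => simp
        | succ k ih => rw [pow_succ, pow_mul, ih, hsq]] at hq
      exact hq
    obtain ⟨K2, hKK2, hK2⟩ := exists_intermediate hK hud hdeven two_pos
    have hφK2 : φ ∈ K2 := Golden.mem_subfield_of_pow_eq hK2 hsq
    obtain ⟨d', rfl⟩ := hdeven
    rcases Nat.lt_or_ge d' 2 with h1 | h1
    · right; left
      rw [show d' = 1 by omega, mul_one] at hud
      refine ⟨hud.symm, ?_⟩
      have hp5 : p ≠ 5 := by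
        rintro rfl
        refine hφK ?_
        have h5F : (5 : F) = 0 := by exact_mod_cast CharP.cast_eq_zero F 5
        have h0 : φ * 2 - 1 = 0 := mul_self_eq_zero.1 (by linear_combination 4 * hφ + h5F)
        rw [eq_div_iff_mul_eq h2 |>.2 (sub_eq_zero.1 h0)]
        exact div_mem (one_mem K) (natCast_mem K 2)
      have h19 : ¬ (p % 10 = 1 ∨ p % 10 = 9) := by
        intro h19
        obtain ⟨ψ, hψ⟩ := Golden.exists_golden (F := K)
          (by rw [card_subfield_eq hK]; exact (Golden.five_dvd_iff hp hp2 hp5).2 h19)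
        rcases Golden.other_root (show (ψ : F) * ψ = ψ + 1 from congrArg Subtype.val hψ) hφ with h | h
        · exact hφK (h ▸ ψ.2)
        · exact hφK (h ▸ sub_mem (one_mem K) ψ.2)
      have := hp.eq_two_or_odd.resolve_left hp2
      have h5p : p % 5 ≠ 0 := fun h0 =>
        hp5 ((Nat.prime_dvd_prime_iff_eq (by norm_num) hp).1 (Nat.dvd_of_mod_eq_zero h0)).symm
      omega
    · obtain ⟨hu, hc⟩ := step K2 (p ^ 2) d' hφK2 hK2 h1 (by rw [← pow_mul, hud])
      exact absurd (hu ▸ Nat.Prime.not_prime_pow le_rfl : ¬ Nat.Prime 5) (by norm_num)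

/-- The possible maximal subgroups. -/
inductive MaxCase (p : ℕ) (M L0 : Subgroup PGL(2, F)) : Prop
  | point (P : Line F) (h : M = stabilizer PGL(2, F) P ⊓ L0)
  | pair (P Q : Line E) (hPQ : P ≠ Q) (g : PGL(2, F)) (hg : g ≠ 1) (hgP : extHom f g • P = P)
      (hgQ : extHom f g • Q = Q) (h : M = pairStab f P Q ⊓ L0)
  | tetrahedral (hodd : Odd (Fintype.card F)) (hq : Fintype.card F = p)
      (h : Nonempty (M ≃* alternatingGroup (Fin 4))) (hcard : Nat.card M = 12)
  | octahedral (hodd : Odd (Fintype.card F)) (hq : Fintype.card F = p) (h : Nonempty (M ≃* Equiv.Perm (Fin 4)))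
      (hcard : Nat.card M = 24)
  | icosahedral (hodd : Odd (Fintype.card F))
      (hq : (Fintype.card F = p ∧ (p % 10 = 1 ∨ p % 10 = 9)) ∨
        (Fintype.card F = p ^ 2 ∧ (p % 10 = 3 ∨ p % 10 = 7)))
      (h : Nonempty (M ≃* alternatingGroup (Fin 5))) (hcard : Nat.card M = 60)
  | subfieldGroup (K : Subfield F) (u r : ℕ) (hu : 3 ≤ u) (hK : Nat.card K = u) (hr : r.Prime)
      (hur : u ^ r = Fintype.card F) (m : PGL(2, F)) (h : M = subfieldPGL K m ⊓ L0)

theorem maxCase (p : ℕ) [Fact p.Prime] [CharP F p] (hE : Nat.card E = Fintype.card F ^ 2) (hQC : QuadClosed f)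
    (h4 : 4 ≤ Fintype.card F) (hL0 : imL F ≤ L0) (hM : MaxIn M L0) (hne : ¬ imL F ≤ M) : MaxCase f p M L0 := by
  have klein : KleinNormal M → MaxCase f p M L0 ∨ (Odd (Fintype.card F) ∧ Fintype.card F = p) := by
    intro hK
    by_cases h2 : (2 : F) = 0
    · obtain ⟨P, hP⟩ := exists_fixed_of_klein_charTwo h2 hK
      exact Or.inl (.point P (hM.eq_of_le (le_inf hP hM.1.le) (pointStab_lt hL0 P)))
    · have hodd := odd_of_two_ne_zero h2
      rcases klein_case p hodd h4 hL0 hM hne hK with h | ⟨K, u, r, m, hu, hKu, hr, hur, e⟩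
      · exact Or.inr ⟨hodd, h⟩
      · exact Or.inl (.subfieldGroup K u r hu hKu hr hur m e)
  cases baseCase f p hE hQC h4 hL0 hM hne with
  | point P h => exact .point P h
  | pair P Q hPQ g hg hgP hgQ h => exact .pair P Q hPQ g hg hgP hgQ h
  | tetrahedral h hcard =>
    rcases klein (kleinNormal_altFour h.some) with c | ⟨hodd, hq⟩
    · exact c
    · exact .tetrahedral hodd hq h hcard
  | octahedral h hcard =>
    rcases klein (kleinNormal_permFour h.some) with c | ⟨hodd, hq⟩
    · exact c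
    · exact .octahedral hodd hq h hcard
  | icosahedral h2 h hcard =>
    rcases icosa_case p h2 h4 hL0 hM hne h.some hcard with c | c | ⟨K, u, r, m, hu, hK, hr, hur, e⟩
    · exact .icosahedral (odd_of_two_ne_zero h2) (Or.inl c) h hcard
    · exact .icosahedral (odd_of_two_ne_zero h2) (Or.inr c) h hcard
    · exact .subfieldGroup K u r hu hK hr hur m e
  | subfieldGroup K u r hu hK hr hur m h => exact .subfieldGroup K u r hu hK hr hur m h

end CfsgLib.Geom.Moebius
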