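import Mathlib
import Cfsg.Agent.Lib.Geom.MaxCases

set_option autoImplicit false

/-!
The dihedral shapes, and a Sylow criterion against maximality.
-/

namespace CfsgLib.Geom

open Matrix
open scoped MatrixGroups

/-- A normaliser of a Sylow subgroup is not maximal if a larger proper subgroup has as large a normaliser. -/
theorem not_coatom_of_sylow {G : Type*} [Group G] [Finite G] (p : ℕ) [Fact p.Prime] {M C H : Subgroup G}
    (hM : IsCoatom M) (hCM : M ≤ Subgroup.normalizer (C : Set G)) (hN : Subgroup.normalizer (C : Set G) ≠ ⊤)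
    (n : ℕ) (hcard : Nat.card C = p ^ n) (hfull : ¬ p ^ (n + 1) ∣ Nat.card G) (hH : H ≠ ⊤)
    (hdvd : p ^ n ∣ Nat.card H) (hbound : ∀ k, k ∣ Nat.card H → k % p = 1 % p → k * Nat.card M ≤ Nat.card H)
    (hlt : Nat.card M < Nat.card H) : False := by
  classical
  have hp : p.Prime := Fact.out
  have hMN : M = Subgroup.normalizer (C : Set G) :=
    hCM.eq_or_lt.resolve_right fun h => hN (hM.2 _ h)
  have fact_eq : ∀ m, p ^ n ∣ m → m ≠ 0 → ¬ p ^ (n + 1) ∣ m → p ^ n = p ^ m.factorization p := by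
    intro m h1 h0 h2
    rw [hp.pow_dvd_iff_le_factorization h0] at h1 h2
    rw [show m.factorization p = n by omega]
  obtain ⟨D, hD⟩ := Sylow.exists_subgroup_card_pow_prime p hdvd
  let DS : Sylow p H := Sylow.ofCard D (hD.trans (fact_eq _ hdvd Nat.card_pos.ne'
    fun h => hfull (h.trans H.card_subgroup_dvd_card)))
  set C' := D.map H.subtype
  have hC' : Nat.card C' = p ^ n := by
    rw [← hD]; exact (Nat.card_congr (D.equivMapOfInjective _ H.subtype_injective).toEquiv).symm
  have hG : p ^ n = p ^ (Nat.card G).factorization p :=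
    fact_eq _ (hcard ▸ C.card_subgroup_dvd_card) Nat.card_pos.ne' hfull
  obtain ⟨x, hx⟩ := MulAction.exists_smul_eq G (Sylow.ofCard C (hcard.trans hG) : Sylow p G)
    (Sylow.ofCard C' (hC'.trans hG))
  have hxC : C.map (MulAut.conj x).toMonoidHom = C' := congrArg Sylow.toSubgroup hx
  set N' := Subgroup.normalizer (C' : Set G)
  have hN' : N' = M.map (MulAut.conj x).toMonoidHom := by
    rw [hMN]
    show _ = (Subgroup.normalizer (C : Set G)).map (MulAut.conj x).toMonoidHom
    rw [Subgroup.map_equiv_normalizer_eq C (MulAut.conj x), hxC]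
  have hcardN : Nat.card N' = Nat.card M := by
    rw [hN']
    exact (Nat.card_congr (M.equivMapOfInjective _ (MulAut.conj x).injective).toEquiv).symm
  have hle : (Subgroup.normalizer (D : Set H)).map H.subtype ≤ N' :=
    Subgroup.le_normalizer_map H.subtype
  have hidx := (Subgroup.normalizer (D : Set H)).index_mul_card
  have hk : (Subgroup.normalizer (D : Set H)).index % p = 1 % p := by
    have h : Nat.card (Sylow p H) = (Subgroup.normalizer (D : Set H)).index := Sylow.card_eq_index_normalizer DS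
    rw [← h]
    exact card_sylow_modEq_one p H
  have hb := hbound _ ⟨_, hidx.symm⟩ hk
  have hge : Nat.card M ≤ Nat.card (Subgroup.normalizer (D : Set H)) :=
    Nat.le_of_mul_le_mul_left (hidx ▸ hb) (Nat.pos_of_ne_zero Subgroup.index_ne_zero_of_finite)
  have heq : (Subgroup.normalizer (D : Set H)).map H.subtype = N' := by
    refine Subgroup.eq_of_le_of_card_ge hle ?_
    rw [hcardN, ← Nat.card_congr ((Subgroup.normalizer (D : Set H)).equivMapOfInjective _ H.subtype_injective).toEquiv]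
    exact hge
  have hle' : M.map (MulAut.conj x).toMonoidHom ≤ H := by
    rw [← hN', ← heq]
    exact Subgroup.map_subtype_le _
  have hlt' : M < H.comap (MulAut.conj x).toMonoidHom := by
    refine lt_of_le_of_ne (Subgroup.map_le_iff_le_comap.1 hle') fun e => ?_
    have : Nat.card M = Nat.card H := by
      rw [e]
      exact Nat.card_congr ((MulAut.conj x).toEquiv.subtypeEquiv fun _ => Iff.rfl)
    omega
  refine hH (Subgroup.comap_injective (f := (MulAut.conj x).toMonoidHom) (MulAut.conj x).surjective ?_)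
  rw [hM.2 _ hlt', Subgroup.comap_top]

namespace Moebius

variable {F E : Type*} [Field F] [Fintype F] [Field E] [Fintype (Line E)] (f : F →+* E)

theorem pair_top (hE : Nat.card E = Fintype.card F ^ 2) (hQC : QuadClosed f) (h4 : 4 ≤ Fintype.card F)
    {P Q : Line E} (hPQ : P ≠ Q) {g : PGL(2, F)} (hg : g ≠ 1) (hgP : extHom f g • P = P)
    (hgQ : extHom f g • Q = Q) :
    ∃ k, (k = Fintype.card F - 1 ∨ k = Fintype.card F + 1) ∧
      Nonempty (pairStab f P Q ≃* DihedralGroup k) ∧ Nat.card (pairStab f P Q) = 2 * k := by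
  obtain ⟨-, hcard, s, hsP, hsQ⟩ := torus_pair f hE hQC hPQ hg hgP hgQ
  obtain ⟨he, h2⟩ := pairStab_dihedral f hQC hPQ ⊤ (Subgroup.mem_top s) hsP hsQ (by rw [inf_top_eq]; omega)
  simp only [inf_top_eq] at h2
  rw [inf_top_eq, inf_top_eq] at he
  exact ⟨_, hcard, he, h2⟩

theorem pair_imL (hE : Nat.card E = Fintype.card F ^ 2) (hQC : QuadClosed f) (h4 : 4 ≤ Fintype.card F)
    (hodd : Odd (Fintype.card F)) {P Q : Line E} (hPQ : P ≠ Q) {g : PGL(2, F)} (hg : g ≠ 1)
    (hgP : extHom f g • P = P) (hgQ : extHom f g • Q = Q) :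
    ∃ k, (2 * k = Fintype.card F - 1 ∨ 2 * k = Fintype.card F + 1) ∧
      Nat.card (fixExt f P ⊓ fixExt f Q ⊓ imL F : Subgroup PGL(2, F)) = k ∧
      Nonempty ((pairStab f P Q ⊓ imL F : Subgroup PGL(2, F)) ≃* DihedralGroup k) ∧
      Nat.card (pairStab f P Q ⊓ imL F : Subgroup PGL(2, F)) = 2 * k ∧
      ∃ s ∈ imL F, extHom f s • P = Q ∧ extHom f s • Q = P := by
  obtain ⟨-, hcard, -⟩ := torus_pair f hE hQC hPQ hg hgP hgQ
  obtain ⟨hh, s, hsL, hsP, hsQ⟩ := torus_inf_imL f hE hQC hodd h4 hPQ hg hgP hgQ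
  obtain ⟨j, hj⟩ := hodd
  obtain ⟨e, h2⟩ := pairStab_dihedral f hQC hPQ (imL F) hsL hsP hsQ (by omega)
  exact ⟨_, hcard.imp hh.trans hh.trans, rfl, e, h2, s, hsL, hsP, hsQ⟩

end Moebius

end CfsgLib.Geom
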