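import Mathlib
import Cfsg.Agent.S0228
import Cfsg.Agent.S1012

set_option autoImplicit false

/-!
A finite group with a normal self-centralising four-group embeds modulo it in the symmetric group on three letters.
-/

namespace CfsgLib.Geom.FourGroup

theorem perm_three_cube : ∀ σ : Equiv.Perm (Fin 3), σ ^ 3 = 1 → σ ≠ 1 → ∀ i, σ i ≠ i := by decide +kernel

theorem perm_three_sq_or_cube : ∀ σ : Equiv.Perm (Fin 3), σ ^ 2 = 1 ∨ σ ^ 3 = 1 := by decide +kernel

theorem perm_three_sign : ∀ σ : Equiv.Perm (Fin 3), σ ^ 3 = 1 → Equiv.Perm.sign σ = 1 := by decide +kernel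

variable {G : Type*} [Group G] [Finite G] (V : Subgroup G) [V.Normal] [IsKleinFour V]

theorem exists_action (hc : Subgroup.centralizer (V : Set G) = V) :
    ∃ ψ : G →* Equiv.Perm (Fin 3), ψ.ker = V ∧
      ∀ g : G, ψ g ^ 3 = 1 → ψ g ≠ 1 → ∀ z ∈ V, z ≠ 1 → g * z * g⁻¹ ≠ z := by
  classical
  have : Fintype V := Fintype.ofFinite _
  have h4 : Fintype.card V = 4 := by rw [← Nat.card_eq_fintype_card]; exact IsKleinFour.card_four
  let T := {x : V // x ≠ 1}
  have h3 : Fintype.card T = 3 := by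
    rw [Fintype.card_subtype_compl, h4, Fintype.card_subtype_eq]
  let e := Fintype.equivFinOfCardEq h3
  let f : G → Equiv.Perm T := fun g => (MulAut.conjNormal g : MulAut V).toEquiv.subtypeEquiv fun x => by simp
  have hf : ∀ (g : G) (x : T), (((f g) x).1 : G) = g * (x.1 : G) * g⁻¹ := fun g x => rfl
  let φ : G →* Equiv.Perm T := MonoidHom.mk' f fun g h => Equiv.ext fun x =>
    Subtype.ext (Subtype.ext (by rw [Equiv.Perm.mul_apply, hf, hf, hf]; group))
  let ψ : G →* Equiv.Perm (Fin 3) := e.permCongrHom.toMonoidHom.comp φ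
  have hinj : Function.Injective e.permCongrHom := e.permCongrHom.injective
  refine ⟨ψ, ?_, fun g h3' hne z hz hz1 hfix => ?_⟩
  · ext g
    rw [MonoidHom.mem_ker]
    constructor
    · intro hg
      rw [← hc, Subgroup.mem_centralizer_iff]
      intro v hv
      have hφ : φ g = 1 := hinj (by rw [map_one]; exact hg)
      by_cases hv1 : v = 1
      · rw [hv1, one_mul, mul_one]
      · have := congrArg (fun σ : Equiv.Perm T => ((σ ⟨⟨v, hv⟩, fun e => hv1 (congrArg Subtype.val e)⟩).1 : G)) hφ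
        simp [φ, hf] at this
        exact (mul_inv_eq_iff_eq_mul.1 this).symm
    · intro hg
      have hφ : φ g = 1 := by
        rw [← hc, Subgroup.mem_centralizer_iff] at hg
        refine Equiv.ext fun x => Subtype.ext (Subtype.ext ?_)
        show ((f g x).1 : G) = _
        rw [hf, ← hg _ x.1.2, mul_inv_cancel_right]
        rfl
      show e.permCongrHom (φ g) = 1
      rw [hφ, map_one]
  · refine perm_three_cube _ h3' hne (e ⟨⟨z, hz⟩, fun e => hz1 (congrArg Subtype.val e)⟩) ?_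
    show e (φ g (e.symm (e _))) = e _
    rw [Equiv.symm_apply_apply]
    exact congrArg e (Subtype.ext (Subtype.ext ((hf g _).trans hfix)))

theorem card_dvd (hc : Subgroup.centralizer (V : Set G) = V) : Nat.card G ∣ 24 := by
  obtain ⟨ψ, hk, -⟩ := exists_action V hc
  have h := ψ.ker.card_mul_index
  rw [hk, IsKleinFour.card_four (G := V)] at h
  have h6 : Nat.card ψ.range ∣ 6 := by
    have := ψ.range.card_subgroup_dvd_card
    rwa [Nat.card_perm, Nat.card_fin] at this
  rw [← h, ← hk, Subgroup.index_ker]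
  exact Nat.mul_dvd_mul_left 4 h6

theorem equiv_altFour (hc : Subgroup.centralizer (V : Set G) = V) (h12 : Nat.card G = 12) :
    Nonempty (G ≃* alternatingGroup (Fin 4)) := by
  obtain ⟨ψ, hk, hfix⟩ := exists_action V hc
  refine Cfsg.Agent.S0228.result h12 fun z hz hzc => ?_
  have hz1 : z ≠ 1 := fun e => by rw [e, orderOf_one] at hz; omega
  have hzV : z ∈ V := by
    rw [← hc]
    exact Subgroup.mem_centralizer_iff.2 fun v _ => Subgroup.mem_center_iff.1 hzc v
  obtain ⟨g, hg⟩ := exists_prime_orderOf_dvd_card' (G := G) 3 (by rw [h12]; norm_num)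
  have h1 : ψ g ^ 3 = 1 := by
    have := pow_orderOf_eq_one g
    rw [hg] at this
    rw [← map_pow, this, map_one]
  have h2 : ψ g ≠ 1 := fun e => by
    have hgV : g ∈ V := hk ▸ (MonoidHom.mem_ker.2 e : g ∈ ψ.ker)
    have := orderOf_dvd_natCard (⟨g, hgV⟩ : V)
    rw [Subgroup.orderOf_mk, hg, IsKleinFour.card_four] at this
    omega
  refine hfix g h1 h2 z hzV hz1 ?_
  rw [Subgroup.mem_center_iff.1 hzc g, mul_inv_cancel_right]

theorem equiv_permFour (hc : Subgroup.centralizer (V : Set G) = V) (h24 : Nat.card G = 24) :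
    Nonempty (G ≃* Equiv.Perm (Fin 4)) := by
  obtain ⟨ψ, hk, hfix⟩ := exists_action V hc
  have hV : ∀ v ∈ V, v * v = 1 := fun v hv => congrArg Subtype.val (IsKleinFour.mul_self (⟨v, hv⟩ : V))
  refine Cfsg.Agent.S1012.result h24 fun g hg => ?_
  have hpow : ∀ j, j = 2 ∨ j = 3 → g ^ j ∉ V → ψ g ^ j ≠ 1 := fun j _ hj e =>
    hj (hk ▸ (MonoidHom.mem_ker.2 (by rw [map_pow]; exact e) : g ^ j ∈ ψ.ker))
  have hne : ∀ j, 0 < j → j < 6 → g ^ j ≠ 1 := fun j hj hj6 =>
    pow_ne_one_of_lt_orderOf (by omega) (by omega)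
  have h2 : g ^ 2 ∉ V := fun h => hne 4 (by norm_num) (by norm_num) (by
    rw [show (4 : ℕ) = 2 + 2 from rfl, pow_add]; exact hV _ h)
  rcases perm_three_sq_or_cube (ψ g) with e | e
  · exact hpow 2 (Or.inl rfl) h2 e
  · by_cases h3 : g ^ 3 ∈ V
    · refine hfix (g ^ 2) ?_ (fun e' => hpow 2 (Or.inl rfl) h2 (by rw [← map_pow]; exact e')) _ h3
        (hne 3 (by norm_num) (by norm_num)) (by group)
      rw [map_pow, ← pow_mul, show 2 * 3 = 3 * 2 from rfl, pow_mul, e, one_pow]
    · exact hpow 3 (Or.inr rfl) h3 e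

theorem card_eq_24 (hc : Subgroup.centralizer (V : Set G) = V) {t f : G} (ht : t ^ 3 = 1) (htV : t ∉ V)
    (hf : f * f ∈ V) (hfV : f ∉ V) : Nat.card G = 24 := by
  obtain ⟨ψ, hk, -⟩ := exists_action V hc
  have hmem : ∀ g, ψ g = 1 ↔ g ∈ V := fun g => by rw [← hk, MonoidHom.mem_ker]
  have h := ψ.ker.card_mul_index
  rw [Subgroup.index_ker, hk, IsKleinFour.card_four (G := V)] at h
  have h3 : 3 ∣ Nat.card ψ.range := by
    have e : orderOf (ψ t) = 3 := orderOf_eq_prime (by rw [← map_pow, ht, map_one]) fun e => htV ((hmem t).1 e)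
    have hd : orderOf (⟨ψ t, ⟨t, rfl⟩⟩ : (ψ.range : Subgroup _)) ∣ _ := orderOf_dvd_natCard _
    rwa [← Subgroup.orderOf_coe, e] at hd
  have h2 : 2 ∣ Nat.card ψ.range := by
    have e : orderOf (ψ f) = 2 := orderOf_eq_prime (by rw [← map_pow, sq]; exact (hmem _).2 hf)
      fun e => hfV ((hmem f).1 e)
    have hd : orderOf (⟨ψ f, ⟨f, rfl⟩⟩ : (ψ.range : Subgroup _)) ∣ _ := orderOf_dvd_natCard _
    rwa [← Subgroup.orderOf_coe, e] at hd
  have h6 : Nat.card ψ.range ∣ 6 := by
    have := ψ.range.card_subgroup_dvd_card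
    rwa [Nat.card_perm, Nat.card_fin] at this
  rw [← h, Nat.dvd_antisymm h6 (Nat.Coprime.mul_dvd_of_dvd_of_dvd (by norm_num : Nat.Coprime 2 3) h2 h3)]

omit [V.Normal] in
theorem data_restrict (hc : Subgroup.centralizer (V : Set G) = V) {H : Subgroup G} (hVH : V ≤ H) :
    IsKleinFour (V.subgroupOf H) ∧ Subgroup.centralizer ((V.subgroupOf H : Subgroup H) : Set H) = V.subgroupOf H := by
  have : IsKleinFour V := ‹_›
  let e := Subgroup.subgroupOfEquivOfLe hVH
  refine ⟨⟨(Nat.card_congr e.toEquiv).trans IsKleinFour.card_four, (Monoid.exponent_eq_of_mulEquiv e).trans IsKleinFour.exponent_two⟩, ?_⟩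
  ext x
  rw [Subgroup.mem_centralizer_iff, Subgroup.mem_subgroupOf]
  constructor
  · intro h
    rw [← hc, Subgroup.mem_centralizer_iff]
    intro v hv
    exact congrArg Subtype.val (h ⟨v, hVH hv⟩ hv)
  · intro h y hy
    rw [← hc, Subgroup.mem_centralizer_iff] at h
    exact Subtype.ext (h y.1 hy)

theorem exists_altFour (hc : Subgroup.centralizer (V : Set G) = V) {t : G} (ht : t ^ 3 = 1) (htV : t ∉ V) :
    ∃ H : Subgroup G, Nonempty (H ≃* alternatingGroup (Fin 4)) := by
  obtain ⟨ψ, hk, -⟩ := exists_action V hc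
  let χ := Equiv.Perm.sign.comp ψ
  let H := χ.ker
  have hVH : V ≤ H := fun v hv => by
    have : ψ v = 1 := MonoidHom.mem_ker.1 (hk.symm ▸ hv)
    show Equiv.Perm.sign (ψ v) = 1
    rw [this, map_one]
  have htH : t ∈ H := perm_three_sign _ (by rw [← map_pow, ht, map_one])
  obtain ⟨hK, hcen⟩ := data_restrict V hc hVH
  have hcard : Nat.card H = 12 := by
    have hker : (ψ.comp H.subtype).ker = V.subgroupOf H := by rw [← MonoidHom.comap_ker, hk]; rfl
    have h := (ψ.comp H.subtype).ker.card_mul_index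
    rw [Subgroup.index_ker, hker, IsKleinFour.card_four (G := V.subgroupOf H)] at h
    have hle : (ψ.comp H.subtype).range ≤ alternatingGroup (Fin 3) := by
      rintro _ ⟨x, rfl⟩
      exact x.2
    have h3 := Subgroup.card_dvd_of_le hle
    rw [show Nat.card (alternatingGroup (Fin 3)) = 3 by
      rw [nat_card_alternatingGroup, Nat.card_fin]; rfl] at h3
    rcases (Nat.dvd_prime Nat.prime_three).1 h3 with e | e
    · exfalso
      rw [Subgroup.card_eq_one] at e
      refine htV (hk ▸ (MonoidHom.mem_ker.2 ?_ : t ∈ ψ.ker))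
      exact Subgroup.mem_bot.1 (e ▸ (⟨⟨t, htH⟩, rfl⟩ : ψ t ∈ (ψ.comp H.subtype).range))
    · rw [← h, e]
  exact ⟨H, equiv_altFour (V.subgroupOf H) hcen hcard⟩

end CfsgLib.Geom.FourGroup
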