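import Mathlib
import Cfsg.Agent.Lib.Geom.SL2Klein
import Cfsg.Agent.Lib.Geom.FourGroupNormalizer

set_option autoImplicit false

/-!
Tetrahedral and octahedral subgroups of `PSL_2` in odd characteristic.
-/

namespace CfsgLib.Geom.SL2Anti

open Matrix
open scoped MatrixGroups

variable {F : Type*} [Field F] [Finite F]

local notation "PSL2" => ProjectiveSpecialLinearGroup (Fin 2) F

omit [Finite F] in
/-- Conjugation on the images of a pair. -/
theorem conj_pr (s x y : SL(2, F)) (e : s * x * s⁻¹ = y) : (pr s : PSL2) * pr x * (pr s)⁻¹ = pr y := by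
  rw [← map_inv, ← map_mul, ← map_mul, e]

theorem conj_pr_mem_normalizer (h2 : (2 : F) ≠ 0) {g h g' h' s : SL(2, F)} (a : Anti g h) (eg : s * g * s⁻¹ = g')
    (eh : s * h * s⁻¹ = h') (hg : (pr g' : PSL2) ∈ VP g h) (hh : (pr h' : PSL2) ∈ VP g h) :
    (pr s : PSL2) ∈ Subgroup.normalizer ((VP g h : Subgroup PSL2) : Set PSL2) := by
  have := isKleinFour_VP h2 a
  have hv : VP g' h' = VP g h := by
    refine Subgroup.eq_of_le_of_card_ge ((Subgroup.closure_le _).2 ?_) ?_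
    · rintro x (rfl | rfl) <;> assumption
    · rw [card_VP h2 a, card_VP h2 (eg ▸ eh ▸ a.conj s)]
  refine Subgroup.mem_normalizer_iff.2 fun z => ?_
  have hmap : (VP g h).map (MulAut.conj (pr s : PSL2)).toMonoidHom = VP g h := by rw [VP_conj, eg, eh, hv]
  conv_rhs => rw [← hmap]
  exact (Subgroup.mem_map_iff_mem (MulAut.conj (pr s : PSL2)).injective).symm

theorem exists_rot_psl (h2 : (2 : F) ≠ 0) {g h : SL(2, F)} (a : Anti g h) :
    ∃ t : PSL2, t ∈ Subgroup.normalizer ((VP g h : Subgroup PSL2) : Set PSL2) ∧ t ^ 3 = 1 ∧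
      t ∉ VP g h := by
  obtain ⟨s, e1, e2⟩ := exists_rot h2 a
  have hgm : (pr g : PSL2) ∈ VP g h := (mem_VP h2 a).2 (Or.inr (Or.inl rfl))
  have hhm : (pr h : PSL2) ∈ VP g h := (mem_VP h2 a).2 (Or.inr (Or.inr (Or.inl rfl)))
  have hghm : (pr (g * h) : PSL2) ∈ VP g h := (mem_VP h2 a).2 (Or.inr (Or.inr (Or.inr rfl)))
  set t : PSL2 := pr s
  have hg : t * pr g * t⁻¹ = pr h := conj_pr _ _ _ e1
  have hh : t * pr h * t⁻¹ = pr (g * h) := conj_pr _ _ _ e2
  have hgh : t * pr (g * h) * t⁻¹ = pr g := by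
    refine conj_pr _ _ _ ?_
    rw [show s * (g * h) * s⁻¹ = (s * g * s⁻¹) * (s * h * s⁻¹) by group, e1, e2, ← mul_assoc, a.swap.2.2,
      neg_mul, mul_assoc, a.2.1, mul_neg, mul_one, neg_neg]
  have ht3c : t ^ 3 ∈ VP g h := by
    rw [← centralizer_VP h2 a, Subgroup.mem_centralizer_iff]
    intro v hv'
    have key : t ^ 3 * v * (t ^ 3)⁻¹ = v := by
      rw [show t ^ 3 = t * t * t from pow_three' t,
        show t * t * t * v * (t * t * t)⁻¹ = t * (t * (t * v * t⁻¹) * t⁻¹) * t⁻¹ by group]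
      rcases (mem_VP h2 a).1 hv' with rfl | rfl | rfl | rfl
      · group
      · rw [hg, hh, hgh]
      · rw [hh, hgh, hg]
      · rw [hgh, hg, hh]
    exact (mul_inv_eq_iff_eq_mul.1 key).symm
  have htV : t ∉ VP g h := fun h' => by
    rw [← centralizer_VP h2 a] at h'
    have := Subgroup.mem_centralizer_iff.1 h' _ hgm
    rw [← this, mul_inv_cancel_right] at hg
    exact a.pr_ne h2 hg
  refine ⟨t, conj_pr_mem_normalizer h2 a e1 e2 hhm hghm, ?_, htV⟩
  -- the cube is fixed by `t`, hence trivial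
  have hfix : t * t ^ 3 * t⁻¹ = t ^ 3 := by group
  rcases (mem_VP h2 a).1 ht3c with e | e | e | e
  · exact e
  all_goals exfalso; rw [e] at hfix
  · exact a.pr_ne h2 (hfix.symm.trans hg)
  · exact a.rot.pr_ne h2 (hfix.symm.trans hh)
  · exact a.mul_right.pr_ne h2 (hgh.symm.trans hfix)

theorem exists_altFour_psl (h2 : (2 : F) ≠ 0) :
    ∃ H : Subgroup PSL2, Nonempty (H ≃* alternatingGroup (Fin 4)) := by
  obtain ⟨k, hk⟩ := exists_K0 h2 (F := F)
  have hV := isKleinFour_VP h2 hk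
  set V : Subgroup PSL2 := VP J0 k
  set N := Subgroup.normalizer ((V : Subgroup PSL2) : Set PSL2)
  have : (V.subgroupOf N).Normal := Subgroup.normal_in_normalizer
  obtain ⟨hV', hc'⟩ := FourGroup.data_restrict V (centralizer_VP h2 hk) (H := N) Subgroup.le_normalizer
  obtain ⟨t, htN, ht3, htV⟩ := exists_rot_psl h2 hk
  obtain ⟨H, ⟨i⟩⟩ := FourGroup.exists_altFour (V.subgroupOf N) hc' (t := ⟨t, htN⟩) (Subtype.ext ht3)
    (fun h => htV h)
  exact ⟨H.map N.subtype, ⟨(H.equivMapOfInjective _ N.subtype_injective).symm.trans i⟩⟩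

theorem exists_permFour_psl (h2 : (2 : F) ≠ 0) (hsq : IsSquare (2 : F)) :
    ∃ H : Subgroup PSL2, Nonempty (H ≃* Equiv.Perm (Fin 4)) := by
  obtain ⟨k, hk⟩ := exists_K0 h2 (F := F)
  have hV := isKleinFour_VP h2 hk
  set V : Subgroup PSL2 := VP J0 k with hVdef
  set N := Subgroup.normalizer ((V : Subgroup PSL2) : Set PSL2)
  have : (V.subgroupOf N).Normal := Subgroup.normal_in_normalizer
  obtain ⟨hV', hc'⟩ := FourGroup.data_restrict V (centralizer_VP h2 hk) (H := N) Subgroup.le_normalizer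
  obtain ⟨t, htN, ht3, htV⟩ := exists_rot_psl h2 hk
  obtain ⟨f, f1, f2⟩ := exists_flip hsq h2 hk
  have hgm : (pr J0 : PSL2) ∈ V := (mem_VP h2 hk).2 (Or.inr (Or.inl rfl))
  have hghm : (pr (J0 * k) : PSL2) ∈ V := (mem_VP h2 hk).2 (Or.inr (Or.inr (Or.inr rfl)))
  have hfN : (pr f : PSL2) ∈ N := conj_pr_mem_normalizer h2 hk f1 f2 hgm hghm
  have cg : (pr f : PSL2) * pr J0 * (pr f)⁻¹ = pr J0 := conj_pr _ _ _ f1
  have ck : (pr f : PSL2) * pr k * (pr f)⁻¹ = pr (J0 * k) := conj_pr _ _ _ f2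
  have cgk : (pr f : PSL2) * pr (J0 * k) * (pr f)⁻¹ = pr k := by
    rw [map_mul, show (pr f : PSL2) * (pr J0 * pr k) * (pr f)⁻¹ = (pr f * pr J0 * (pr f)⁻¹) * (pr f * pr k * (pr f)⁻¹) by group,
      cg, ck, map_mul, ← mul_assoc, pr_mul_self_of_sq h2 hk.1, one_mul]
  have hfV : (pr f : PSL2) ∉ V := fun h => by
    rw [hVdef, ← centralizer_VP h2 hk] at h
    have e := Subgroup.mem_centralizer_iff.1 h _ ((mem_VP h2 hk).2 (Or.inr (Or.inr (Or.inl rfl))))
    rw [← e, mul_inv_cancel_right] at ck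
    exact hk.rot.pr_ne h2 ck
  have hff : (pr f : PSL2) * pr f ∈ V := by
    rw [hVdef, ← centralizer_VP h2 hk, Subgroup.mem_centralizer_iff]
    intro v hv
    have key : (pr f : PSL2) * pr f * v * (pr f * pr f)⁻¹ = v := by
      rw [show (pr f : PSL2) * pr f * v * (pr f * pr f)⁻¹ = pr f * (pr f * v * (pr f)⁻¹) * (pr f)⁻¹ by group]
      rcases (mem_VP h2 hk).1 hv with rfl | rfl | rfl | rfl
      · group
      · rw [cg, cg]
      · rw [ck, cgk]
      · rw [cgk, ck]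
    exact (mul_inv_eq_iff_eq_mul.1 key).symm
  have h24 : Nat.card N = 24 := FourGroup.card_eq_24 (V.subgroupOf N) hc' (t := ⟨t, htN⟩)
    (f := ⟨pr f, hfN⟩) (Subtype.ext ht3) (fun h => htV h) hff (fun h => hfV h)
  exact ⟨N, FourGroup.equiv_permFour (V.subgroupOf N) hc' h24⟩

end CfsgLib.Geom.SL2Anti
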