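import Mathlib
import Cfsg.Agent.Lib.Geom.MaxPair
import Cfsg.Agent.Lib.Geom.PSLTwoTetra
import Cfsg.Agent.Lib.Geom.Icosahedral

set_option autoImplicit false

/-!
Arguments excluding exceptional candidates for maximal subgroups.
-/

namespace CfsgLib.Geom.Moebius

open Matrix
open scoped MatrixGroups
open SL2Anti (VP VPGL Anti pr)

variable {F : Type*} [Field F] [Fintype F]

local notation "PSL2" => ProjectiveSpecialLinearGroup (Fin 2) F
local notation "ψ" => Matrix.ProjectiveSpecialLinearGroup.toPGL (n := Fin 2) (R := F)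

theorem card_comap_toPGL {N : Subgroup PGL(2, F)} (h : N ≤ imL F) : Nat.card (N.comap ψ) = Nat.card N := by
  conv_rhs => rw [← Subgroup.map_comap_eq_self h]
  exact Nat.card_congr ((N.comap ψ).equivMapOfInjective _ Matrix.ProjectiveSpecialLinearGroup.toPGL_injective).toEquiv

theorem card_map_toPGL (N : Subgroup PSL2) : Nat.card (N.map ψ) = Nat.card N :=
  (Nat.card_congr (N.equivMapOfInjective _ Matrix.ProjectiveSpecialLinearGroup.toPGL_injective).toEquiv).symm

theorem card_psl_two_split :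
    Nat.gcd 2 (Fintype.card F - 1) * Nat.card PSL2 = (Fintype.card F + 1) * (Fintype.card F * (Fintype.card F - 1)) := by
  rw [Nat.card_congr (MonoidHom.ofInjective Matrix.ProjectiveSpecialLinearGroup.toPGL_injective).toEquiv]
  exact card_imL_two

/-- No proper non-trivial subgroup of the image of `SL_2` is normalised by all of it. -/
theorem imL_not_le_normalizer (h4 : 4 ≤ Fintype.card F) {V : Subgroup PGL(2, F)} (hV : V ≤ imL F) (h1 : V ≠ ⊥)
    (hne : V ≠ imL F) : ¬ imL F ≤ Subgroup.normalizer (V : Set PGL(2, F)) := by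
  intro hle
  have := CfsgLib.ClassK.isSimpleGroup_psl_two h4
  have hn : (V.comap ψ).Normal := ⟨fun x hx y => by
    have := (Subgroup.mem_normalizer_iff.1 (hle ⟨y, rfl⟩) (ψ x)).1 hx
    rwa [← map_inv, ← map_mul, ← map_mul] at this⟩
  have e := Subgroup.map_comap_eq_self hV
  rcases IsSimpleGroup.eq_bot_or_eq_top_of_normal _ hn with h | h <;> rw [h] at e
  · exact h1 (by rw [← e, Subgroup.map_bot])
  · exact hne (e.symm.trans (MonoidHom.range_eq_map _).symm)

theorem card_imL_ge (h4 : 4 ≤ Fintype.card F) : 30 ≤ Nat.card (imL F) := by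
  have h := card_pgl_le_two_mul (F := F) le_rfl
  have := card_pgl_ge h4
  omega

theorem card_VPGL (h2 : (2 : F) ≠ 0) {g h : SL(2, F)} (a : Anti g h) : Nat.card (VPGL g h) = 4 := by
  rw [card_map_toPGL, SL2Anti.card_VP h2 a]

theorem not_le_normalizer_VPGL (h4 : 4 ≤ Fintype.card F) (h2 : (2 : F) ≠ 0) {g h : SL(2, F)} (a : Anti g h) :
    ¬ imL F ≤ Subgroup.normalizer ((VPGL g h : Subgroup PGL(2, F)) : Set PGL(2, F)) := by
  refine imL_not_le_normalizer h4 (Subgroup.map_le_range _ _) (fun e => ?_) (fun e => ?_)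
  · have := card_VPGL h2 a; rw [e, Subgroup.card_bot] at this; omega
  · have := card_VPGL h2 a
    rw [e] at this
    have := card_imL_ge h4; omega

theorem normalizer_map_le (g h : SL(2, F)) :
    (Subgroup.normalizer ((VP g h : Subgroup PSL2) : Set PSL2)).map ψ ≤
      Subgroup.normalizer ((VPGL g h : Subgroup PGL(2, F)) : Set PGL(2, F)) ⊓ imL F :=
  le_inf (Subgroup.le_normalizer_map _) (Subgroup.map_le_range _ _)

/-- The normaliser of a four-group in `PSL_2` has order twenty-four when two is a square. -/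
theorem card_normalizer_VP (h2 : (2 : F) ≠ 0) (hsq : IsSquare (2 : F)) {g h : SL(2, F)} (a : Anti g h) :
    Nat.card (Subgroup.normalizer ((VP g h : Subgroup PSL2) : Set PSL2)) = 24 := by
  have := SL2Anti.isKleinFour_VP h2 a
  set V : Subgroup PSL2 := VP g h with hVdef
  set N := Subgroup.normalizer ((V : Subgroup PSL2) : Set PSL2)
  have : (V.subgroupOf N).Normal := Subgroup.normal_in_normalizer
  obtain ⟨hV', hc'⟩ := FourGroup.data_restrict V (SL2Anti.centralizer_VP h2 a) (H := N) Subgroup.le_normalizer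
  obtain ⟨t, htN, ht3, htV⟩ := SL2Anti.exists_rot_psl h2 a
  obtain ⟨f, f1, f2⟩ := SL2Anti.exists_flip hsq h2 a
  have hgm : (pr g : PSL2) ∈ V := (SL2Anti.mem_VP h2 a).2 (Or.inr (Or.inl rfl))
  have hghm : (pr (g * h) : PSL2) ∈ V := (SL2Anti.mem_VP h2 a).2 (Or.inr (Or.inr (Or.inr rfl)))
  have hfN : (pr f : PSL2) ∈ N := SL2Anti.conj_pr_mem_normalizer h2 a f1 f2 hgm hghm
  have cg : (pr f : PSL2) * pr g * (pr f)⁻¹ = pr g := SL2Anti.conj_pr _ _ _ f1
  have ck : (pr f : PSL2) * pr h * (pr f)⁻¹ = pr (g * h) := SL2Anti.conj_pr _ _ _ f2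
  have cgk : (pr f : PSL2) * pr (g * h) * (pr f)⁻¹ = pr h := by
    rw [map_mul, show (pr f : PSL2) * (pr g * pr h) * (pr f)⁻¹ =
        (pr f * pr g * (pr f)⁻¹) * (pr f * pr h * (pr f)⁻¹) by group,
      cg, ck, map_mul, ← mul_assoc, SL2Anti.pr_mul_self_of_sq h2 a.1, one_mul]
  have hfV : (pr f : PSL2) ∉ V := fun hm => by
    rw [hVdef, ← SL2Anti.centralizer_VP h2 a] at hm
    have e := Subgroup.mem_centralizer_iff.1 hm _ ((SL2Anti.mem_VP h2 a).2 (Or.inr (Or.inr (Or.inl rfl))))
    rw [← e, mul_inv_cancel_right] at ck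
    exact a.rot.pr_ne h2 ck
  have hff : (pr f : PSL2) * pr f ∈ V := by
    rw [hVdef, ← SL2Anti.centralizer_VP h2 a, Subgroup.mem_centralizer_iff]
    intro v hv
    have key : (pr f : PSL2) * pr f * v * (pr f * pr f)⁻¹ = v := by
      rw [show (pr f : PSL2) * pr f * v * (pr f * pr f)⁻¹ = pr f * (pr f * v * (pr f)⁻¹) * (pr f)⁻¹ by group]
      rcases (SL2Anti.mem_VP h2 a).1 hv with rfl | rfl | rfl | rfl
      · group
      · rw [cg, cg]
      · rw [ck, cgk]
      · rw [cgk, ck]
    exact (mul_inv_eq_iff_eq_mul.1 key).symm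
  exact FourGroup.card_eq_24 (V.subgroupOf N) hc' (t := ⟨t, htN⟩) (f := ⟨pr f, hfN⟩) (Subtype.ext ht3)
    (fun hm => htV hm) hff (fun hm => hfV hm)

variable {M : Subgroup PGL(2, F)}

theorem tetrahedral_not_sq (h4 : 4 ≤ Fintype.card F) (hodd : Odd (Fintype.card F)) (hM : MaxIn M (imL F))
    (hK : KleinNormal M) (hc : Nat.card M = 12) : ¬ IsSquare (2 : F) := by
  intro hsq
  have := finite_pgl_two (F := F)
  have h2 := CfsgLib.Classical.two_ne_zero_of_odd hodd
  obtain ⟨g, h, a, -, hn⟩ := exists_VPGL_of_klein hodd hK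
  have e := hM.eq_of_le (le_inf hn hM.1.le)
    (lt_of_le_of_ne inf_le_right fun e => not_le_normalizer_VPGL h4 h2 a (e ▸ inf_le_left))
  have h' := Subgroup.card_dvd_of_le (normalizer_map_le g h)
  rw [← e, card_map_toPGL, card_normalizer_VP h2 hsq a, hc] at h'
  norm_num at h'

theorem octahedral_top_not_sq (h4 : 4 ≤ Fintype.card F) (hodd : Odd (Fintype.card F)) (hM : MaxIn M ⊤)
    (hne : ¬ imL F ≤ M) (hK : KleinNormal M) (hc : Nat.card M = 24) : ¬ IsSquare (2 : F) := by
  intro hsq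
  have := finite_pgl_two (F := F)
  have h2 := CfsgLib.Classical.two_ne_zero_of_odd hodd
  obtain ⟨g, h, a, -, hn⟩ := exists_VPGL_of_klein hodd hK
  have e := hM.eq_of_le hn (lt_top_iff_ne_top.2 fun e => not_le_normalizer_VPGL h4 h2 a (e ▸ le_top))
  have hle := (normalizer_map_le g h).trans (inf_le_inf_right _ e.ge)
  have h' := Subgroup.card_dvd_of_le hle
  rw [card_map_toPGL, card_normalizer_VP h2 hsq a, ← hc] at h'
  have heq : M ⊓ imL F = M := Subgroup.eq_of_le_of_card_ge inf_le_left (Nat.le_of_dvd Nat.card_pos h')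
  exact hne ((hM.eq_of_le (inf_eq_left.1 heq) (lt_top_iff_ne_top.2 fun e => by
    have := imL_index hodd; rw [e, Subgroup.index_top] at this; omega)).ge)

theorem map_conj_imL (a : PGL(2, F)) : (imL F).map (MulAut.conj a).toMonoidHom = imL F := by
  ext x
  constructor
  · rintro ⟨y, hy, rfl⟩
    exact imL_normal.conj_mem _ hy a
  · intro hx
    exact ⟨a⁻¹ * x * a, by simpa using imL_normal.conj_mem _ hx a⁻¹, by simp [MulAut.conj_apply, mul_assoc]⟩

theorem exists_altFive_psl (hodd : Odd (Fintype.card F)) {φ : F} (hφ : φ * φ = φ + 1) :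
    ∃ H : Subgroup PSL2, Nonempty (H ≃* alternatingGroup (Fin 5)) := by
  have h2 := CfsgLib.Classical.two_ne_zero_of_odd hodd
  obtain ⟨k, hk⟩ := SL2Anti.exists_K0 h2 (F := F)
  exact Icosahedral.exists_altFive φ _ _ h2 hφ (SL2Anti.entries_of_anti_J0 hk).2.2

theorem tetrahedral_not_five (h4 : 4 ≤ Fintype.card F) (hodd : Odd (Fintype.card F)) (hM : MaxIn M (imL F))
    (hK : KleinNormal M) (hc : Nat.card M = 12) (hbig : 120 < (Fintype.card F + 1) * (Fintype.card F * (Fintype.card F - 1))) :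
    ¬ 5 ∣ (Fintype.card F + 1) * (Fintype.card F * (Fintype.card F - 1)) := by
  intro h5
  have := finite_pgl_two (F := F)
  have h2 := CfsgLib.Classical.two_ne_zero_of_odd hodd
  obtain ⟨φ, hφ⟩ := Golden.exists_golden h5
  obtain ⟨H0, ⟨e⟩⟩ := exists_altFive_psl hodd hφ
  set H := H0.map ψ with hH
  have hcH : Nat.card H = 60 := by
    rw [hH, card_map_toPGL, Nat.card_congr e.toEquiv, nat_card_alternatingGroup, Nat.card_fin]; rfl
  obtain ⟨j, hj, hjH⟩ := hasAltFour_altFive
    ((H0.equivMapOfInjective ψ Matrix.ProjectiveSpecialLinearGroup.toPGL_injective).symm.trans e)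
  obtain ⟨g', h', a', -, hn'⟩ := exists_VPGL_of_klein (M := j.range) hodd
    (kleinNormal_altFour (MonoidHom.ofInjective hj).symm)
  have hjle : j.range ≤ H := by rintro _ ⟨x, rfl⟩; exact hjH x
  obtain ⟨g, h, a, -, hn⟩ := exists_VPGL_of_klein hodd hK
  have eM := hM.eq_of_le (le_inf hn hM.1.le)
    (lt_of_le_of_ne inf_le_right fun e => not_le_normalizer_VPGL h4 h2 a (e ▸ inf_le_left))
  obtain ⟨A, A1, A2⟩ := SL2Anti.exists_gl_conj_pair h2 a a'
  set m := ProjGenLinGroup.mk A
  have hV : (VPGL g h).map (MulAut.conj m).toMonoidHom = VPGL g' h' := by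
    have h1 : ∀ x y : SL(2, F), A * Matrix.SpecialLinearGroup.toGL x * A⁻¹ = Matrix.SpecialLinearGroup.toGL y →
        (MulAut.conj m).toMonoidHom (ψ (pr x)) = ψ (pr y) := fun x y e => by
      show m * ProjGenLinGroup.mk (Matrix.SpecialLinearGroup.toGL x) * m⁻¹ = _
      rw [← map_inv, ← map_mul, ← map_mul, e]
      rfl
    simp only [VPGL, VP, MonoidHom.map_closure, Set.image_pair, h1 g g' A1, h1 h h' A2]
  have hMm : M.map (MulAut.conj m).toMonoidHom =
      Subgroup.normalizer ((VPGL g' h' : Subgroup PGL(2, F)) : Set PGL(2, F)) ⊓ imL F := by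
    conv_lhs => rw [eM, Subgroup.map_inf _ _ _ (MulAut.conj m).injective, map_conj_imL]
    rw [← hV, ← Subgroup.map_equiv_normalizer_eq]
  have hcm : Nat.card (M.map (MulAut.conj m).toMonoidHom) = 12 := by
    rw [← Nat.card_congr (M.equivMapOfInjective _ (MulAut.conj m).injective).toEquiv, hc]
  have hB : j.range = M.map (MulAut.conj m).toMonoidHom := by
    refine Subgroup.eq_of_le_of_card_ge (hMm ▸ le_inf hn' (hjle.trans (Subgroup.map_le_range _ _))) ?_
    rw [hcm, ← Nat.card_congr (MonoidHom.ofInjective hj).toEquiv, finset_card_altFour]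
  set N := H.map (MulAut.conj m⁻¹).toMonoidHom
  have hMN : M ≤ N := by
    intro x hx
    refine ⟨m * x * m⁻¹, hjle (hB ▸ ⟨x, hx, rfl⟩), ?_⟩
    show m⁻¹ * (m * x * m⁻¹) * m⁻¹⁻¹ = x
    group
  have hcN : Nat.card N = 60 := by
    rw [← Nat.card_congr (H.equivMapOfInjective _ (MulAut.conj m⁻¹).injective).toEquiv, hcH]
  have hNL : N < imL F := by
    refine lt_of_le_of_ne ?_ fun e => ?_
    · exact (Subgroup.map_mono (Subgroup.map_le_range _ _)).trans (map_conj_imL _).le
    · have := card_pgl_le_two_mul (F := F) le_rfl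
      rw [e] at hcN; omega
  have := hM.eq_of_le hMN hNL
  rw [this, hcN] at hc
  omega

variable {E : Type*} [Field E] [Fintype (Line E)] (f : F →+* E) {L0 : Subgroup PGL(2, F)}

/-- When the four-group of a pair is all of its intersection with the image of `SL_2`, it is not maximal. -/
theorem pair_klein_false (hQC : QuadClosed f) (h4 : 4 ≤ Fintype.card F) (hodd : Odd (Fintype.card F))
    (hL0 : imL F ≤ L0) {P Q : Line E} (hM : MaxIn (pairStab f P Q ⊓ L0) L0)
    (e : Nonempty ((pairStab f P Q ⊓ imL F : Subgroup PGL(2, F)) ≃* DihedralGroup 2)) : False := by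
  have := finite_pgl_two (F := F)
  have h2 := CfsgLib.Classical.two_ne_zero_of_odd hodd
  obtain ⟨e⟩ := e
  set V := (pairStab f P Q ⊓ imL F : Subgroup PGL(2, F)) with hVdef
  have hVL : V ≤ imL F := inf_le_right
  let i : V.comap ψ ≃* V :=
    ((V.comap ψ).equivMapOfInjective _ Matrix.ProjectiveSpecialLinearGroup.toPGL_injective).trans
      (MulEquiv.subgroupCongr (Subgroup.map_comap_eq_self hVL))
  have : IsKleinFour (V.comap ψ) :=
    ⟨(Nat.card_congr (i.trans e).toEquiv).trans DihedralGroup.nat_card,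
      (Monoid.exponent_eq_of_mulEquiv (i.trans e)).trans (by rw [DihedralGroup.exponent]; rfl)⟩
  obtain ⟨g, h, a, hgh⟩ := SL2Anti.exists_pair h2 (V.comap ψ)
  obtain ⟨t, htN, -, htV⟩ := SL2Anti.exists_rot_psl h2 a
  have hVP : VPGL g h = V := by rw [VPGL, hgh, Subgroup.map_comap_eq_self hVL]
  set N := Subgroup.normalizer (V : Set PGL(2, F))
  have hn : pairStab f P Q ⊓ L0 ≤ N := by
    intro x hx
    refine Subgroup.mem_normalizer_iff.2 fun z => ⟨fun hz => ?_, fun hz => ?_⟩
    · exact ⟨(pairStab f P Q).mul_mem ((pairStab f P Q).mul_mem hx.1 hz.1) ((pairStab f P Q).inv_mem hx.1),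
        imL_normal.conj_mem _ hz.2 x⟩
    · refine ⟨?_, ?_⟩
      · have := (pairStab f P Q).mul_mem ((pairStab f P Q).mul_mem ((pairStab f P Q).inv_mem hx.1) hz.1) hx.1
        simpa [mul_assoc] using this
      · have := imL_normal.conj_mem _ hz.2 x⁻¹
        simpa [mul_assoc] using this
  have hlt : N ⊓ L0 < L0 := lt_of_le_of_ne inf_le_right fun e' => by
    refine not_le_normalizer_VPGL h4 h2 a ?_
    rw [hVP]
    exact hL0.trans (e' ▸ inf_le_left)
  have he := hM.eq_of_le (le_inf hn inf_le_right) hlt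
  have ht : ψ t ∈ N ⊓ L0 :=
    ⟨by rw [show N = Subgroup.normalizer ((VPGL g h : Subgroup PGL(2, F)) : Set PGL(2, F)) by rw [hVP]];
        exact (normalizer_map_le g h ⟨t, htN, rfl⟩).1, hL0 ⟨t, rfl⟩⟩
  rw [← he] at ht
  refine htV ?_
  rw [hgh]
  exact ⟨ht.1, ⟨t, rfl⟩⟩

end CfsgLib.Geom.Moebius
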