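import Mathlib
import Cfsg.Agent.Lib.Geom.MaxExclude
import Cfsg.Agent.Lib.Geom.CubicNonSquare

set_option autoImplicit false

/-!
Products of involutions of `PSL_2` of odd order.
-/

namespace CfsgLib.Geom.Moebius

open Matrix
open scoped MatrixGroups
open MulAction (stabilizer)
open SL2Anti (pr J0)
open CubicNonSquare (FixesSome)

variable {F : Type*} [Field F] [Fintype F]

local notation "PSL2" => ProjectiveSpecialLinearGroup (Fin 2) F
local notation "ψ" => Matrix.ProjectiveSpecialLinearGroup.toPGL (n := Fin 2) (R := F)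

omit [Fintype F] in
theorem toPGL_eq_one_iff {x : PSL2} : ψ x = 1 ↔ x = 1 :=
  map_eq_one_iff _ Matrix.ProjectiveSpecialLinearGroup.toPGL_injective

omit [Fintype F] in
theorem exists_lift_involution (h2 : (2 : F) ≠ 0) {t : PSL2} (ht : orderOf t = 2) :
    ∃ y : SL(2, F), y * y = -1 ∧ pr y = t := by
  obtain ⟨y, rfl⟩ := SL2Anti.pr_surjective t
  have hne : (pr y : PSL2) ≠ 1 := fun e => by rw [e, orderOf_one] at ht; omega
  have h : (pr (y * y) : PSL2) = 1 := by
    have := pow_orderOf_eq_one (pr y : PSL2)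
    rw [ht, sq] at this
    rw [map_mul]; exact this
  refine ⟨y, ((SL2Anti.mem_center_iff_sign h2).1 (SL2Anti.pr_eq_one.1 h)).resolve_left fun e => hne ?_, rfl⟩
  exact SL2Anti.pr_eq_one.2 ((SL2Anti.mem_center_iff_sign h2).2 (SL2Anti.eq_or_eq_neg_of_sq_one h2 e))

/-- In odd characteristic two involutions with a common fixed point have product of odd order. -/
theorem odd_prod_of_common_fix (hodd : Odd (Fintype.card F)) {x z : PGL(2, F)} {R : Line F} (hx : x • R = R)
    (hz : z • R = R) (hxx : x * x = 1) (hzz : z * z = 1) (hx1 : x ≠ 1) (hz1 : z ≠ 1) : Odd (orderOf (x * z)) := by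
  have h2 := CfsgLib.Classical.two_ne_zero_of_odd hodd
  obtain ⟨m, rfl⟩ := exists_map1 R
  have key : ∀ y : PGL(2, F), y • m • (inf : Line F) = m • inf → y * y = 1 → y ≠ 1 →
      ∃ b, m⁻¹ * y * m = aff (-1) b := by
    intro y hy hyy hy1
    obtain ⟨a, b, hab⟩ := exists_aff_of_fix (g := m⁻¹ * y * m) (by rw [mul_smul, mul_smul, hy, inv_smul_smul])
    have hsq : aff (a * a) (a * b + b) = aff (1 : Fˣ) 0 := by
      rw [← aff_mul, ← hab, aff_one, show m⁻¹ * y * m * (m⁻¹ * y * m) = m⁻¹ * (y * y) * m by group, hyy]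
      group
    obtain ⟨ha, hb⟩ := aff_inj hsq
    rcases mul_self_eq_one_iff.1 (show (a : F) * a = 1 by rw [← Units.val_mul, ha, Units.val_one]) with e | e
    · exfalso
      rw [e, one_mul, ← two_mul] at hb
      rw [show a = 1 from Units.ext e, (mul_eq_zero.1 hb).resolve_left h2, aff_one, mul_eq_one_iff_eq_inv,
        inv_mul_eq_iff_eq_mul, mul_inv_cancel] at hab
      exact hy1 hab
    · exact ⟨b, by rw [hab, show a = -1 from Units.ext (by simp [e])]⟩
  obtain ⟨b, hb⟩ := key x hx hxx hx1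
  obtain ⟨d, hd⟩ := key z hz hzz hz1
  obtain ⟨p, hp⟩ := CharP.exists F
  obtain ⟨n, hprime, hn⟩ := FiniteField.card F p
  have hconj : m⁻¹ * (x * z) * m = aff 1 (b - d) := by
    rw [show m⁻¹ * (x * z) * m = (m⁻¹ * x * m) * (m⁻¹ * z * m) by group, hb, hd, aff_mul]
    simp [sub_eq_add_neg, add_comm]
  have hpow : ∀ k : ℕ, (aff (1 : Fˣ) (b - d)) ^ k = aff 1 (k • (b - d)) := by
    intro k
    induction k with
    | zero => simp [aff_one]
    | succ k ih =>
      rw [pow_succ, ih, aff_mul, succ_nsmul]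
      simp [add_comm]
  have hpodd : Odd p := hprime.odd_of_ne_two fun e => by
    subst e
    exact h2 (by exact_mod_cast CharP.cast_eq_zero F 2)
  have h : (m⁻¹ * (x * z) * m) ^ p = 1 := by
    rw [hconj, hpow, nsmul_eq_mul, CharP.cast_eq_zero, zero_mul, aff_one]
  refine hpodd.of_dvd_nat (orderOf_dvd_of_pow_eq_one ?_)
  have := conj_pow (a := m⁻¹) (b := x * z) (i := p)
  rw [inv_inv] at this
  rw [this, mul_eq_one_iff_eq_inv, inv_mul_eq_iff_eq_mul, mul_inv_cancel] at h
  exact h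

/-- For `q ≡ 3 (mod 4)` elements with a rational fixed point have odd order. -/
theorem odd_order_of_fix (h4 : 4 ≤ Fintype.card F) (hmod : Fintype.card F % 4 = 3) {g : PGL(2, F)}
    (hg : g ∈ imL F) {R : Line F} (hR : g • R = R) : Odd (orderOf g) := by
  have := finite_pgl_two (F := F)
  have ho : Odd (Fintype.card F) := Nat.odd_iff.2 (by omega)
  have h := card_pointStab_mul (F := F) le_rfl R
  have h2 := card_imL_two (F := F)
  rw [gcd_two_of_odd ho, ← h, mul_left_comm] at h2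
  have h3 := Nat.eq_of_mul_eq_mul_left (Nat.succ_pos _) h2
  have hs : Odd (Nat.card (stabilizer PGL(2, F) R ⊓ imL F : Subgroup PGL(2, F))) := by
    obtain ⟨t, ht⟩ : ∃ t, Fintype.card F = 4 * t + 3 := ⟨Fintype.card F / 4, by omega⟩
    rw [ht, show 4 * t + 3 - 1 = 2 * (2 * t + 1) by omega, mul_left_comm] at h3
    rw [Nat.eq_of_mul_eq_mul_left two_pos h3]
    exact (show Odd (4 * t + 3) from ⟨2 * t + 1, by ring⟩).mul ⟨t, rfl⟩
  rw [← Subgroup.orderOf_mk g (show g ∈ (stabilizer PGL(2, F) R ⊓ imL F : Subgroup PGL(2, F)) from ⟨hR, hg⟩)]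
  exact hs.of_dvd_nat (orderOf_dvd_natCard _)

omit [Fintype F] in
theorem exists_fix_of_fixesSome (A : GL (Fin 2) F) {m₁ m₂ m₃ m₄ : F}
    (hA : (A : Matrix (Fin 2) (Fin 2) F) = !![m₁, m₂; m₃, m₄]) (h : FixesSome m₁ m₂ m₃ m₄) :
    ∃ R : Line F, ProjGenLinGroup.mk A • R = R := by
  rcases h with h | ⟨t, ht⟩
  · exact ⟨inf, gl_smul_mk_eq _ _ _ ⟨m₁, by ext i; fin_cases i <;> simp [hA, h, mulVec, dotProduct]⟩⟩
  · refine ⟨pt t, gl_smul_mk_eq _ _ _ ⟨m₃ * t + m₄, ?_⟩⟩
    ext i
    fin_cases i <;> simp [hA, mulVec, dotProduct] <;> linear_combination ht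

/-- For `q ≡ 3 (mod 4)`: a matrix of square `-1` whose products with two given ones fix rational points. -/
theorem exists_common_matrix (hmod : Fintype.card F % 4 = 3) (h7 : 7 ≤ Fintype.card F) (a b c : F)
    (habc : a * a + b * c = -1) :
    ∃ e f g : F, e * e + f * g = -1 ∧ FixesSome (-g) e e f ∧
      FixesSome (a * e + b * g) (a * f - b * e) (c * e - a * g) (c * f + a * e) := by
  have hchar : ringChar F ≠ 2 := fun h => by
    have := FiniteField.even_card_iff_char_two.1 h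
    omega
  have hns : ¬ IsSquare (-1 : F) := fun h => FiniteField.isSquare_neg_one_iff.1 h hmod
  have hb : b ≠ 0 := fun e => hns ⟨a, by rw [e, zero_mul, add_zero] at habc; exact habc.symm⟩
  have hc : c ≠ 0 := fun e => hns ⟨a, by rw [e, mul_zero, add_zero] at habc; exact habc.symm⟩
  have main : ∀ t d : F, t ≠ 0 → d ≠ 0 → d * d * (c * t - a) = -(t * (a * t + b)) →
      ∃ e f g : F, e * e + f * g = -1 ∧ FixesSome (-g) e e f ∧
        FixesSome (a * e + b * g) (a * f - b * e) (c * e - a * g) (c * f + a * e) := by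
    intro t d ht hd h
    refine ⟨0, -d, d⁻¹, by field_simp; ring, Or.inl rfl, Or.inr ⟨-(d * d) / t, ?_⟩⟩
    field_simp
    first
      | linear_combination d * h
      | linear_combination -d * h
      | linear_combination h
      | linear_combination -h
  by_cases ha : a = 0
  · refine main 1 b one_ne_zero hb ?_
    rw [ha, zero_mul, zero_add] at habc
    rw [ha]
    linear_combination b * habc
  by_cases h11 : 11 ≤ Fintype.card F
  · obtain ⟨t, ht⟩ := CubicNonSquare.exists_not_square h11 hmod ha hb hc (neg_ne_zero.2 ha)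
      (fun e => one_ne_zero (α := F) (by linear_combination e + habc))
    have hu : t * (a * t + b) * (c * t + -a) ≠ 0 := fun e => ht (e ▸ IsSquare.zero)
    obtain ⟨w, hw⟩ : IsSquare (-(t * (a * t + b) * (c * t + -a))) := by
      rw [FiniteField.isSquare_iff hchar (neg_ne_zero.2 hu), neg_eq_neg_one_mul, mul_pow]
      have e1 : ∀ x : F, x ≠ 0 → ¬ IsSquare x → x ^ (Fintype.card F / 2) = -1 := fun x hx hx' =>
        (FiniteField.pow_dichotomy hchar hx).resolve_left fun e => hx' ((FiniteField.isSquare_iff hchar hx).2 e)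
      rw [e1 _ (neg_ne_zero.2 one_ne_zero) hns, e1 _ hu ht]
      ring
    have hct : c * t + -a ≠ 0 := right_ne_zero_of_mul hu
    have ht0 : t ≠ 0 := left_ne_zero_of_mul (left_ne_zero_of_mul hu)
    have hw0 : w ≠ 0 := fun e => hu (by rw [e, mul_zero] at hw; exact neg_eq_zero.1 hw)
    refine main t (w / (c * t + -a)) ht0 (div_ne_zero hw0 hct) ?_
    field_simp
    first
      | linear_combination -hw
      | linear_combination hw
      | linear_combination -(c * t - a) * hw
      | linear_combination (c * t - a) * hw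
  · have h7' : Fintype.card F = 7 := by omega
    have := Fact.mk (show Nat.Prime 7 by norm_num)
    have : CharP F 7 := charP_of_card_eq_prime h7'
    let φ : ZMod 7 →+* F := ZMod.castHom dvd_rfl F
    have hφ : Function.Bijective φ := (Fintype.bijective_iff_injective_and_card φ).2
      ⟨φ.injective, by rw [ZMod.card, h7']⟩
    obtain ⟨a', rfl⟩ := hφ.2 a
    obtain ⟨b', rfl⟩ := hφ.2 b
    obtain ⟨c', rfl⟩ := hφ.2 c
    obtain ⟨e, f, g, h1, h2, h3⟩ := CubicNonSquare.exists_seven a' b' c' (φ.injective (by simpa using habc))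
    have tr : ∀ {m₁ m₂ m₃ m₄ : ZMod 7}, FixesSome m₁ m₂ m₃ m₄ → FixesSome (φ m₁) (φ m₂) (φ m₃) (φ m₄) := by
      rintro m₁ m₂ m₃ m₄ (h | ⟨t, ht⟩)
      · exact Or.inl (by rw [h, map_zero])
      · exact Or.inr ⟨φ t, by simpa using congrArg φ ht⟩
    refine ⟨φ e, φ f, φ g, by simpa using congrArg φ h1, ?_, ?_⟩
    · simpa using tr h2
    · simpa using tr h3

/-- In even characteristic two involutions have product of odd order exactly off a common fixed point. -/
theorem odd_prod_charTwo (h2 : (2 : F) = 0) {x y : PGL(2, F)} (hx : x * x = 1) (hy : y * y = 1) (hx1 : x ≠ 1)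
    (hy1 : y ≠ 1) {P Q : Line F} (hP : x • P = P) (hQ : y • Q = Q) (hne : P ≠ Q) : Odd (orderOf (x * y)) := by
  have := finite_pgl_two (F := F)
  rcases Nat.even_or_odd (orderOf (x * y)) with ⟨k, hk⟩ | h
  swap
  · exact h
  exfalso
  set g := x * y with hg
  have hk0 : 0 < k := by have := orderOf_pos g; omega
  set w := g ^ k with hw
  have hww : w * w = 1 := by rw [hw, ← pow_add, ← hk, pow_orderOf_eq_one]
  have hw1 : w ≠ 1 := fun e => by
    have := Nat.le_of_dvd hk0 (orderOf_dvd_of_pow_eq_one e)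
    omega
  have hinv : w⁻¹ = w := inv_eq_of_mul_eq_one_right hww
  have hxi : x⁻¹ = x := inv_eq_of_mul_eq_one_right hx
  have hyi : y⁻¹ = y := inv_eq_of_mul_eq_one_right hy
  have hxg : x * g * x⁻¹ = g⁻¹ := by
    rw [hg, _root_.mul_inv_rev, hxi, hyi, ← mul_assoc x x y, hx, one_mul]
  have hyg : y * g * y⁻¹ = g⁻¹ := by
    rw [hg, _root_.mul_inv_rev, hxi, hyi, mul_assoc y (x * y) y, mul_assoc x y y, hy, mul_one]
  obtain ⟨R, hwR, hwu⟩ := involution_unique_fixed h2 hww hw1
  have key : ∀ (z : PGL(2, F)) (S : Line F), z * z = 1 → z ≠ 1 → z • S = S → z * g * z⁻¹ = g⁻¹ → S = R := by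
    intro z S hzz hz1 hzS hzg
    have hzw : z * w * z⁻¹ = w := by
      rw [hw, ← conj_pow, hzg, inv_pow, ← hw, hinv]
    obtain ⟨T, -, hTu⟩ := involution_unique_fixed h2 hzz hz1
    have h1 : w • S = S := by
      refine (hTu _ ?_).trans (hTu S hzS).symm
      rw [← mul_smul, mul_inv_eq_iff_eq_mul.1 hzw, mul_smul, hzS]
    exact hwu S h1
  exact hne ((key x P hx hx1 hP hxg).trans (key y Q hy hy1 hQ hyg).symm)

/-- Any two involutions of `PSL_2` are adjacent or have a common neighbour. -/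
theorem exists_common (h4 : 4 ≤ Fintype.card F) {x y : PSL2} (hx : orderOf x = 2) (hy : orderOf y = 2) :
    ∃ z : PSL2, orderOf z = 2 ∧ Odd (orderOf (x * z)) ∧ Odd (orderOf (z * y)) := by
  have hord : ∀ u : PSL2, orderOf u = orderOf (ψ u) := fun u =>
    (orderOf_injective _ Matrix.ProjectiveSpecialLinearGroup.toPGL_injective u).symm
  have hinv : ∀ u : PSL2, orderOf u = 2 → ψ u * ψ u = 1 ∧ ψ u ≠ 1 := fun u hu => by
    rw [hord] at hu
    have h := pow_orderOf_eq_one (ψ u)
    rw [hu, sq] at h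
    exact ⟨h, fun e => by rw [e, orderOf_one] at hu; omega⟩
  have hlift : ∀ z : PGL(2, F), z ∈ imL F → z * z = 1 → z ≠ 1 → ∃ u : PSL2, ψ u = z ∧ orderOf u = 2 := by
    rintro _ ⟨u, rfl⟩ h1 h2
    exact ⟨u, rfl, by rw [hord]; exact orderOf_eq_prime (by rw [sq]; exact h1) h2⟩
  obtain ⟨hxx, hx1⟩ := hinv x hx
  obtain ⟨hyy, hy1⟩ := hinv y hy
  suffices h : ∃ z ∈ imL F, z * z = 1 ∧ z ≠ 1 ∧ Odd (orderOf (ψ x * z)) ∧ Odd (orderOf (z * ψ y)) by
    obtain ⟨z, hz, hzz, hz1, h1, h2⟩ := h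
    obtain ⟨u, rfl, hu⟩ := hlift z hz hzz hz1
    exact ⟨u, hu, by rw [hord, map_mul]; exact h1, by rw [hord, map_mul]; exact h2⟩
  rcases Nat.even_or_odd (Fintype.card F) with heven | hodd
  · have h2 : (2 : F) = 0 := by
      obtain ⟨p, hp⟩ := CharP.exists F
      obtain ⟨n, hprime, hn⟩ := FiniteField.card F p
      have hp2 : p = 2 := by
        refine ((Nat.prime_dvd_prime_iff_eq Nat.prime_two hprime).1 (Nat.prime_two.dvd_of_dvd_pow (n := (n : ℕ)) ?_)).symm
        rw [← hn]; exact even_iff_two_dvd.1 heven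
      subst hp2
      exact_mod_cast CharP.cast_eq_zero F 2
    obtain ⟨P, hP, -⟩ := involution_unique_fixed h2 hxx hx1
    obtain ⟨Q, hQ, -⟩ := involution_unique_fixed h2 hyy hy1
    obtain ⟨R, hPR, hQR⟩ := exists_third P Q
    obtain ⟨m, hm⟩ := exists_map1 R
    set z := m * aff 1 1 * m⁻¹
    have hzz : z * z = 1 := by
      rw [show z * z = m * (aff 1 1 * aff 1 1) * m⁻¹ by simp only [z]; group, aff_mul]
      simp [← two_mul, h2, aff_one]
    have hz1 : z ≠ 1 := fun e => by
      rw [conj_eq_one_iff, ← aff_one] at e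
      exact one_ne_zero (aff_inj e).2
    have hzR : z • R = R := by
      simp only [z]
      rw [mul_smul, mul_smul, ← hm, inv_smul_smul, aff_smul_inf]
    exact ⟨z, imL_eq_top heven ▸ Subgroup.mem_top z, hzz, hz1,
      odd_prod_charTwo h2 hxx hzz hx1 hz1 hP hzR hPR, odd_prod_charTwo h2 hzz hyy hz1 hy1 hzR hQ hQR.symm⟩
  have h2 := CfsgLib.Classical.two_ne_zero_of_odd hodd
  obtain ⟨X, hX, rfl⟩ := exists_lift_involution h2 hx
  obtain ⟨Y, hY, rfl⟩ := exists_lift_involution h2 hy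
  by_cases hmod : Fintype.card F % 4 = 3
  · obtain ⟨s, rfl⟩ := SL2Anti.exists_conj_J0 h2 hX
    set Y' := s⁻¹ * Y * s with hY'
    have hY'' : Y' * Y' = -1 := by
      rw [hY', show s⁻¹ * Y * s * (s⁻¹ * Y * s) = s⁻¹ * (Y * Y) * s by group, hY]
      simp
    have htr := SL2Anti.trace_eq_zero_of_sq hY''
    rw [trace_fin_two] at htr
    set a := (Y' : Matrix (Fin 2) (Fin 2) F) 0 0
    set b := (Y' : Matrix (Fin 2) (Fin 2) F) 0 1
    set c := (Y' : Matrix (Fin 2) (Fin 2) F) 1 0
    have hd : (Y' : Matrix (Fin 2) (Fin 2) F) 1 1 = -a := by linear_combination htr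
    have hdet : (Y' : Matrix (Fin 2) (Fin 2) F).det = 1 := Y'.2
    rw [det_fin_two, hd] at hdet
    obtain ⟨e, f, g, h1, hJ, hYz⟩ := exists_common_matrix hmod (by omega) a b c (by linear_combination -hdet)
    obtain ⟨Z, hZ⟩ : ∃ Z : SL(2, F), (Z : Matrix (Fin 2) (Fin 2) F) = !![e, f; g, -e] :=
      ⟨⟨!![e, f; g, -e], by rw [det_fin_two_of]; linear_combination -h1⟩, rfl⟩
    have hZZ : Z * Z = -1 := SL2Anti.sq_eq_neg_one_of_trace (by simp [hZ, trace_fin_two])
    set z := ψ (pr (s * Z * s⁻¹) : PSL2) with hz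
    have hzz : z * z = 1 := by
      rw [hz, ← map_mul, toPGL_eq_one_iff, ← map_mul]
      rw [show s * Z * s⁻¹ * (s * Z * s⁻¹) = s * (Z * Z) * s⁻¹ by group, hZZ]
      exact SL2Anti.pr_eq_one.2 ((SL2Anti.mem_center_iff_sign h2).2 (Or.inr (by simp)))
    have hz1 : z ≠ 1 := by
      intro h0
      rw [hz, toPGL_eq_one_iff, SL2Anti.pr_eq_one, SL2Anti.mem_center_iff_sign h2] at h0
      have h00 : Z = 1 ∨ Z = -1 := by
        rcases h0 with h0 | h0
        · left
          exact conj_eq_one_iff.1 h0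
        · right
          calc Z = s⁻¹ * (s * Z * s⁻¹) * s := by group
            _ = -1 := by rw [h0]; simp
      rcases h00 with h0 | h0 <;> rw [h0] at hZZ <;> simp at hZZ <;>
        exact SL2Anti.one_ne_neg_one h2 hZZ
    have hodd' : ∀ W : SL(2, F), (∃ R : Line F, ψ (pr W : PSL2) • R = R) →
        Odd (orderOf (ψ (pr W : PSL2))) := fun W ⟨R, hR⟩ => odd_order_of_fix h4 hmod ⟨_, rfl⟩ hR
    have hconj : ∀ W : SL(2, F), orderOf (ψ (pr (s * W * s⁻¹) : PSL2)) = orderOf (ψ (pr W : PSL2)) := by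
      intro W
      rw [map_mul, map_mul, map_inv, map_mul, map_mul, map_inv]
      exact orderOf_injective (MulAut.conj (ψ (pr s : PSL2))).toMonoidHom (MulAut.conj _).injective _
    refine ⟨z, ⟨_, rfl⟩, hzz, hz1, ?_, ?_⟩
    · rw [hz, ← map_mul, ← map_mul, show s * J0 * s⁻¹ * (s * Z * s⁻¹) = s * (J0 * Z) * s⁻¹ by group, hconj]
      refine hodd' _ (exists_fix_of_fixesSome (Matrix.SpecialLinearGroup.toGL (J0 * Z)) ?_ hJ)
      show ((J0 * Z : SL(2, F)) : Matrix (Fin 2) (Fin 2) F) = _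
      rw [Matrix.SpecialLinearGroup.coe_mul, hZ]
      ext i j
      fin_cases i <;> fin_cases j <;> simp [Matrix.mul_apply, Fin.sum_univ_two]
    · rw [show z * ψ (pr Y : PSL2) = (ψ (pr Y : PSL2) * z)⁻¹ by
        rw [_root_.mul_inv_rev, inv_eq_of_mul_eq_one_right hzz, inv_eq_of_mul_eq_one_right hyy], orderOf_inv]
      rw [hz, ← map_mul, ← map_mul, show Y * (s * Z * s⁻¹) = s * (Y' * Z) * s⁻¹ by rw [hY']; group, hconj]
      refine hodd' _ (exists_fix_of_fixesSome (Matrix.SpecialLinearGroup.toGL (Y' * Z)) ?_ hYz)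
      show ((Y' * Z : SL(2, F)) : Matrix (Fin 2) (Fin 2) F) = _
      rw [Matrix.SpecialLinearGroup.coe_mul, hZ]
      ext i j
      fin_cases i <;> fin_cases j <;> simp [Matrix.mul_apply, Fin.sum_univ_two, hd] <;> first | exact Or.inl rfl | (simp only [a, b, c] <;> ring)
  · obtain ⟨i, hi⟩ : IsSquare (-1 : F) := FiniteField.isSquare_neg_one_iff.2 hmod
    have two : ∀ W : SL(2, F), W * W = -1 → ∃ A B : Line F, A ≠ B ∧ ψ (pr W : PSL2) • A = A ∧
        ψ (pr W : PSL2) • B = B := by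
      intro W hW
      obtain ⟨s, rfl⟩ := SL2Anti.exists_conj_J0 h2 hW
      have hi0 : i ≠ 0 := fun e => by rw [e, mul_zero] at hi; exact neg_ne_zero.2 one_ne_zero hi
      have hfix : ∀ t : F, t * t = -1 → ψ (pr J0 : PSL2) • pt t = pt t := fun t ht =>
        gl_smul_mk_eq _ _ _ ⟨t, by
          ext j
          fin_cases j <;> simp [mulVec, dotProduct] <;> linear_combination -ht⟩
      refine ⟨ψ (pr s : PSL2) • pt i, ψ (pr s : PSL2) • pt (-i), fun e => ?_, ?_, ?_⟩
      · have := pt_injective (smul_left_cancel _ e)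
        exact hi0 (mul_left_cancel₀ h2 (by linear_combination this))
      · rw [map_mul, map_mul, map_inv, map_mul, map_mul, map_inv, mul_smul, mul_smul, inv_smul_smul,
          hfix i hi.symm]
      · rw [map_mul, map_mul, map_inv, map_mul, map_mul, map_inv, mul_smul, mul_smul, inv_smul_smul,
          hfix (-i) (by rw [neg_mul_neg]; exact hi.symm)]
    obtain ⟨A, B, -, hA, -⟩ := two X hX
    obtain ⟨C, D, hCD, hC, hD⟩ := two Y hY
    obtain ⟨C, hAC, hC⟩ : ∃ C', A ≠ C' ∧ ψ (pr Y : PSL2) • C' = C' := by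
      by_cases h : A = C
      · exact ⟨D, h ▸ hCD, hD⟩
      · exact ⟨C, h, hC⟩
    obtain ⟨g, hg1, hg2⟩ := exists_map2 hAC
    set z := g * aff (-1) 0 * g⁻¹ with hz
    have hzz : z * z = 1 := by
      rw [hz, show g * aff (-1) 0 * g⁻¹ * (g * aff (-1) 0 * g⁻¹) = g * (aff (-1) 0 * aff (-1) 0) * g⁻¹ by group,
        aff_mul]
      simp [aff_one]
    have hz1 : z ≠ 1 := fun e => by
      rw [hz, conj_eq_one_iff, ← aff_one] at e
      have := congrArg Units.val (aff_inj e).1
      simp at this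
      exact h2 (by linear_combination -this)
    have hzA : z • A = A := by rw [hz, mul_smul, mul_smul, ← hg1, inv_smul_smul, aff_smul_inf]
    have hzC : z • C = C := by
      rw [hz, mul_smul, mul_smul, ← hg2, inv_smul_smul, aff_smul_pt]
      simp
    refine ⟨z, ?_, hzz, hz1, odd_prod_of_common_fix hodd hA hzA hxx hzz hx1 hz1,
      odd_prod_of_common_fix hodd hzC hC hzz hyy hz1 hy1⟩
    rw [hz]
    refine imL_normal.conj_mem _ (mk_mem_range_of_sq _ (c := i) ?_) g
    simp [affGL, det_fin_two, hi]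

/-- Distinct commuting involutions. -/
theorem exists_commuting (h4 : 4 ≤ Fintype.card F) :
    ∃ x y : PSL2, orderOf x = 2 ∧ orderOf y = 2 ∧ x ≠ y ∧ orderOf (x * y) = 2 := by
  classical
  by_cases h2 : (2 : F) = 0
  · obtain ⟨c, hc⟩ := Finset.exists_mem_notMem_of_card_lt_card (s := ({0, 1} : Finset F)) (t := Finset.univ)
      (lt_of_le_of_lt Finset.card_le_two (by rw [Finset.card_univ]; omega))
    simp only [Finset.mem_univ, Finset.mem_insert, Finset.mem_singleton, true_and, not_or] at hc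
    let u : F → PSL2 := fun t => QuotientGroup.mk (CfsgLib.Classical.uElt t)
    have hu : ∀ t, ψ (u t) = aff 1 t := toPGL_uElt
    have hmul : ∀ s t, u s * u t = u (s + t) := fun s t =>
      Matrix.ProjectiveSpecialLinearGroup.toPGL_injective (by
        rw [map_mul, hu, hu, hu, aff_mul]; simp [add_comm])
    have hord : ∀ t, t ≠ 0 → orderOf (u t) = 2 := fun t ht => by
      refine orderOf_eq_prime ?_ fun e => ht ?_
      · rw [sq, hmul]
        refine Matrix.ProjectiveSpecialLinearGroup.toPGL_injective ?_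
        rw [hu, map_one, ← two_mul, h2, zero_mul, aff_one]
      · have := congrArg ψ e
        rw [hu, map_one, ← aff_one] at this
        exact (aff_inj this).2
    refine ⟨u 1, u c, hord 1 one_ne_zero, hord c hc.1, fun e => hc.2 ?_, ?_⟩
    · have := congrArg ψ e
      rw [hu, hu] at this
      exact (aff_inj this).2.symm
    · rw [hmul]
      refine hord _ fun e => hc.2 ?_
      linear_combination e - h2
  · obtain ⟨k, hk⟩ := SL2Anti.exists_K0 h2 (F := F)
    have hsq : ∀ g : SL(2, F), g * g = -1 → (pr g : PSL2) ≠ 1 → orderOf (pr g : PSL2) = 2 := fun g hg hg1 =>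
      orderOf_eq_prime (by rw [sq]; exact SL2Anti.pr_mul_self_of_sq h2 hg) hg1
    refine ⟨pr J0, pr k, hsq _ hk.1 (hk.pr_ne_one h2), hsq _ hk.2.1 (hk.swap.pr_ne_one h2), hk.pr_ne h2, ?_⟩
    rw [← map_mul]
    exact hsq _ hk.mul_sq (hk.mul_right.swap.pr_ne_one h2)

/-- All involutions are conjugate. -/
theorem isConj_involutions {x y : PSL2} (hx : orderOf x = 2) (hy : orderOf y = 2) : IsConj x y := by
  by_cases h2 : (2 : F) = 0
  · have heven : Even (Fintype.card F) := by
      rw [Nat.even_iff]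
      refine FiniteField.even_card_iff_char_two.1 ?_
      exact ((Nat.dvd_prime Nat.prime_two).1 ((ringChar.spec F 2).1 (by exact_mod_cast h2))).resolve_left
        CharP.ringChar_ne_one
    have key : ∀ u : PSL2, orderOf u = 2 → ∃ g : PGL(2, F), g * aff 1 1 * g⁻¹ = ψ u := by
      intro u hu
      have huu : ψ u * ψ u = 1 := by
        have h := pow_orderOf_eq_one u
        rw [hu, sq] at h
        rw [← map_mul, h, map_one]
      have hu1 : ψ u ≠ 1 := fun e => by rw [toPGL_eq_one_iff] at e; rw [e, orderOf_one] at hu; omega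
      obtain ⟨P, hP, hPu⟩ := involution_unique_fixed h2 huu hu1
      obtain ⟨m, rfl⟩ := exists_map1 P
      obtain ⟨a, b, hab⟩ := exists_aff_of_fix (g := m⁻¹ * ψ u * m)
        (by rw [mul_smul, mul_smul, hP, inv_smul_smul])
      have hsq : aff (a * a) (a * b + b) = aff (1 : Fˣ) 0 := by
        rw [← aff_mul, ← hab, aff_one, show m⁻¹ * ψ u * m * (m⁻¹ * ψ u * m) = m⁻¹ * (ψ u * ψ u) * m by group, huu]
        group
      rw [sq_eq_one_charTwo h2 (aff_inj hsq).1] at hab
      have hb : b ≠ 0 := fun e => hu1 (by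
        rw [e, aff_one, mul_eq_one_iff_eq_inv, inv_mul_eq_iff_eq_mul, mul_inv_cancel] at hab
        exact hab)
      refine ⟨m * aff (Units.mk0 b hb) 0, ?_⟩
      have e2 : aff (Units.mk0 b hb) 0 * aff 1 1 * (aff (Units.mk0 b hb) 0)⁻¹ = m⁻¹ * ψ u * m := by
        rw [aff_conj_trans, hab]; simp
      calc _ = m * (aff (Units.mk0 b hb) 0 * aff 1 1 * (aff (Units.mk0 b hb) 0)⁻¹) * m⁻¹ := by group
        _ = ψ u := by rw [e2]; group
    obtain ⟨g, hg⟩ := key x hx
    obtain ⟨h, hh⟩ := key y hy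
    obtain ⟨w, hw⟩ : h * g⁻¹ ∈ imL F := by rw [imL_eq_top heven]; exact Subgroup.mem_top _
    refine isConj_iff.2 ⟨w, Matrix.ProjectiveSpecialLinearGroup.toPGL_injective ?_⟩
    rw [map_mul, map_mul, map_inv, hw, ← hh, ← hg]
    group
  · obtain ⟨X, hX, rfl⟩ := exists_lift_involution h2 hx
    obtain ⟨Y, hY, rfl⟩ := exists_lift_involution h2 hy
    obtain ⟨s, rfl⟩ := SL2Anti.exists_conj_J0 h2 hX
    obtain ⟨t, rfl⟩ := SL2Anti.exists_conj_J0 h2 hY
    refine isConj_iff.2 ⟨pr (t * s⁻¹), ?_⟩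
    simp only [map_mul, map_inv]
    group

end CfsgLib.Geom.Moebius
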