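import Mathlib
import Cfsg.Agent.Lib.Geom.SL2Klein
import Cfsg.Agent.Lib.Classical.SLTwoTori

set_option autoImplicit false

/-!
The order of the centraliser of an element of square `-1` in `SL_2`.
-/

namespace CfsgLib.Geom.SL2Anti

open Matrix
open scoped MatrixGroups

variable {F : Type*} [Field F] [Fintype F]

local notation "M2" => Matrix (Fin 2) (Fin 2) F

omit [Fintype F] in
theorem CJ_eq_nsTorus : CJ F = CfsgLib.Classical.nsTorus (0 : F) 1 := by
  ext c
  rw [mem_CJ]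
  constructor
  · rintro ⟨a, b⟩
    refine ⟨(c : M2) 0 0, (c : M2) 1 0, Matrix.ext fun i j => ?_⟩
    fin_cases i <;> fin_cases j <;> simp [a, b]
  · rintro ⟨x, y, e⟩
    simp [e]

theorem card_CJ_nonsplit (h : ¬ IsSquare (-1 : F)) : Nat.card (CJ F) = Fintype.card F + 1 := by
  rw [CJ_eq_nsTorus]
  refine CfsgLib.Classical.card_nsTorus fun z₁ z₂ e => ?_
  by_cases h2 : z₂ = 0
  · exact ⟨by simpa [h2] using e, h2⟩
  · refine absurd ⟨z₁ / z₂, ?_⟩ h
    field_simp
    linear_combination -e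

theorem card_CJ_split (h2 : (2 : F) ≠ 0) (h : IsSquare (-1 : F)) :
    Nat.card (CJ F) = Fintype.card F - 1 := by
  obtain ⟨i, hi⟩ := h
  have hiu : ∀ c : CJ F, ((c.1 : M2) 0 0 + i * (c.1 : M2) 1 0) * ((c.1 : M2) 0 0 - i * (c.1 : M2) 1 0) = 1 := by
    intro c
    obtain ⟨a, b⟩ := mem_CJ.1 c.2
    have hd := c.1.2
    rw [det_fin_two, a, b] at hd
    linear_combination hd + (c.1 : M2) 1 0 * (c.1 : M2) 1 0 * hi
  let e : CJ F → Fˣ := fun c => Units.mkOfMulEqOne _ _ (hiu c)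
  have hb : Function.Bijective e := by
    refine ⟨fun c d hcd => ?_, fun u => ?_⟩
    · have e1 : (c.1 : M2) 0 0 + i * (c.1 : M2) 1 0 = (d.1 : M2) 0 0 + i * (d.1 : M2) 1 0 :=
        congrArg Units.val hcd
      have e2 : (c.1 : M2) 0 0 - i * (c.1 : M2) 1 0 = (d.1 : M2) 0 0 - i * (d.1 : M2) 1 0 :=
        congrArg (fun u : Fˣ => ((u⁻¹ : Fˣ) : F)) hcd
      have hi0 : i ≠ 0 := fun z => by rw [z, mul_zero] at hi; exact one_ne_zero (neg_eq_zero.1 hi)
      have x0 : (c.1 : M2) 0 0 = (d.1 : M2) 0 0 := mul_left_cancel₀ h2 (by linear_combination e1 + e2)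
      have y0 : (c.1 : M2) 1 0 = (d.1 : M2) 1 0 :=
        mul_left_cancel₀ (mul_ne_zero h2 hi0) (by linear_combination e1 - e2)
      obtain ⟨a, b⟩ := mem_CJ.1 c.2
      obtain ⟨a', b'⟩ := mem_CJ.1 d.2
      refine Subtype.ext (Subtype.ext (Matrix.ext fun r s => ?_))
      fin_cases r <;> fin_cases s <;> simp [x0, y0, a, b, a', b']
    · have hi0 : i ≠ 0 := fun z => by rw [z, mul_zero] at hi; exact one_ne_zero (neg_eq_zero.1 hi)
      set x : F := ((u : F) + ((u⁻¹ : Fˣ) : F)) / 2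
      set y : F := ((u : F) - ((u⁻¹ : Fˣ) : F)) / (2 * i)
      have hu : (u : F) * ((u⁻¹ : Fˣ) : F) = 1 := u.mul_inv
      obtain ⟨c, hc⟩ : ∃ c : SL(2, F), (c : M2) = !![x, -y; y, x] := ⟨⟨!![x, -y; y, x], by
        have e1 : x + i * y = (u : F) := by simp only [x, y]; field_simp; ring
        have e2 : x - i * y = ((u⁻¹ : Fˣ) : F) := by simp only [x, y]; field_simp; ring
        rw [det_fin_two_of]
        rw [← e1, ← e2] at hu
        linear_combination hu - y * y * hi⟩, rfl⟩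
      refine ⟨⟨c, mem_CJ.2 (by simp [hc])⟩, Units.ext ?_⟩
      show (c : M2) 0 0 + i * (c : M2) 1 0 = (u : F)
      simp only [hc, x, y, Matrix.of_apply, Matrix.cons_val', Matrix.cons_val_zero, Matrix.cons_val_one,
        Matrix.cons_val_fin_one]
      field_simp
      ring
  rw [Nat.card_congr (Equiv.ofBijective e hb), Nat.card_units, Nat.card_eq_fintype_card]

end CfsgLib.Geom.SL2Anti
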