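import Mathlib
import Cfsg.Agent.Lib.Geom.MaxExclude

set_option autoImplicit false

/-!
Centralisers of the elements of `PSL_2(F)`, and the existence of each kind of element.
-/

namespace CfsgLib.Geom.Moebius

open Matrix
open scoped MatrixGroups
open MulAction (stabilizer)

variable {F E : Type*} [Field F] [Fintype F] [Field E] [Fintype (Line E)] (f : F →+* E)

local notation "PSL2" => ProjectiveSpecialLinearGroup (Fin 2) F
local notation "ψ" => Matrix.ProjectiveSpecialLinearGroup.toPGL (n := Fin 2) (R := F)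

omit [Fintype F] [Fintype (Line E)] in
/-- An element exchanging two points is an involution. -/
theorem sq_eq_one_of_swap (hQC : QuadClosed f) {P Q : Line E} (hPQ : P ≠ Q) {x : PGL(2, F)}
    (hxP : extHom f x • P = Q) (hxQ : extHom f x • Q = P) : x * x = 1 := by
  obtain ⟨R, hR⟩ := exists_fixed f hQC x
  have h1 : P ≠ R := fun e => hPQ ((e ▸ hR : extHom f x • P = P).symm.trans hxP)
  have h2 : Q ≠ R := fun e => hPQ ((e ▸ hR : extHom f x • Q = Q).symm.trans hxQ).symm
  refine extHom_injective f ?_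
  rw [map_one]
  refine eq_one_of_three hPQ h1 h2 ?_ ?_ ?_
  · rw [map_mul, mul_smul, hxP, hxQ]
  · rw [map_mul, mul_smul, hxQ, hxP]
  · rw [map_mul, mul_smul, hR, hR]

omit [Fintype (Line E)] in
theorem eq_or_eq_of_fix {P Q R : Line E} (hPQ : P ≠ Q) {g : PGL(2, F)} (hg : g ≠ 1) (hgP : extHom f g • P = P)
    (hgQ : extHom f g • Q = Q) (hgR : extHom f g • R = R) : R = P ∨ R = Q := by
  by_contra h
  rw [not_or] at h
  exact hg (extHom_injective f (by
    rw [map_one]; exact eq_one_of_three hPQ (Ne.symm h.1) (Ne.symm h.2) hgP hgQ hgR))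

/-- The centraliser of an element with two fixed points. -/
theorem centralizer_two_fixed (hE : Nat.card E = Fintype.card F ^ 2) (hQC : QuadClosed f) {P Q : Line E}
    (hPQ : P ≠ Q) {g : PGL(2, F)} (hg : g ≠ 1) (hgP : extHom f g • P = P) (hgQ : extHom f g • Q = Q)
    {x : PGL(2, F)} :
    x ∈ Subgroup.centralizer {g} ↔
      x ∈ (fixExt f P ⊓ fixExt f Q : Subgroup PGL(2, F)) ∨ (g * g = 1 ∧ x ∈ pairStab f P Q) := by
  rw [Subgroup.mem_centralizer_singleton_iff]
  obtain ⟨hcyc, -, -⟩ := torus_pair f hE hQC hPQ hg hgP hgQ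
  have hswap : extHom f x • P = Q → extHom f x • Q = P → (x * g = g * x ↔ g * g = 1) := by
    intro a b
    have hxx := sq_eq_one_of_swap f hQC hPQ a b
    have hxg := sq_eq_one_of_swap f hQC hPQ (x := x * g) (by rw [map_mul, mul_smul, hgP, a])
      (by rw [map_mul, mul_smul, hgQ, b])
    constructor
    · intro e
      calc g * g = x * x * (g * g) := by rw [hxx, one_mul]
        _ = x * (x * g) * g := by group
        _ = (x * g) * (x * g) := by rw [show x * g * (x * g) = x * (g * x) * g by group, ← e]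
        _ = 1 := hxg
    · intro e
      have hinv : g⁻¹ = g := inv_eq_of_mul_eq_one_right e
      calc x * g = (x * g)⁻¹ := (inv_eq_of_mul_eq_one_right hxg).symm
        _ = g * x := by rw [_root_.mul_inv_rev, hinv, inv_eq_of_mul_eq_one_right hxx]
  constructor
  · intro e
    have mv : ∀ R : Line E, extHom f g • R = R → extHom f g • (extHom f x • R) = extHom f x • R := fun R h => by
      rw [← mul_smul, ← map_mul, ← e, map_mul, mul_smul, h]
    rcases eq_or_eq_of_fix f hPQ hg hgP hgQ (mv P hgP) with a | a <;>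
      rcases eq_or_eq_of_fix f hPQ hg hgP hgQ (mv Q hgQ) with b | b
    · exact absurd (smul_left_cancel _ (a.trans b.symm)) hPQ
    · exact Or.inl ⟨a, b⟩
    · exact Or.inr ⟨(hswap a b).1 e, (mem_pairStab f).2 (Or.inr ⟨a, b⟩)⟩
    · exact absurd (smul_left_cancel _ (a.trans b.symm)) hPQ
  · have hT : x ∈ (fixExt f P ⊓ fixExt f Q : Subgroup PGL(2, F)) → x * g = g * x := fun h =>
      congrArg Subtype.val (hcyc.commGroup.mul_comm (⟨x, h⟩ : (fixExt f P ⊓ fixExt f Q : Subgroup PGL(2, F)))
        ⟨g, hgP, hgQ⟩)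
    rintro (h | ⟨h1, h2⟩)
    · exact hT h
    · rcases (mem_pairStab f).1 h2 with ⟨a, b⟩ | ⟨a, b⟩
      · exact hT ⟨a, b⟩
      · exact (hswap a b).2 h1

omit [Fintype (Line E)] in
/-- The centraliser of an element with a single fixed point. -/
theorem card_centralizer_one_fixed (hQC : QuadClosed f) {P : Line E} {g : PGL(2, F)} (hg : g ≠ 1)
    (hgP : extHom f g • P = P) (hu : ∀ R, extHom f g • R = R → R = P) :
    g ∈ imL F ∧ Subgroup.centralizer {g} ≤ imL F ∧ Nat.card (Subgroup.centralizer {g}) = Fintype.card F := by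
  obtain ⟨P', rfl⟩ := rational_of_unique f hQC hu
  obtain ⟨m, rfl⟩ := exists_map1 P'
  set g' := m⁻¹ * g * m with hg'
  have hmem : ∀ y, y ∈ Subgroup.centralizer {g} ↔ m⁻¹ * y * m ∈ Subgroup.centralizer {g'} := by
    intro y
    rw [Subgroup.mem_centralizer_singleton_iff, Subgroup.mem_centralizer_singleton_iff, hg']
    constructor
    · intro e
      rw [show m⁻¹ * y * m * (m⁻¹ * g * m) = m⁻¹ * (y * g) * m by group, e]; group
    · intro e
      calc y * g = m * (m⁻¹ * y * m * (m⁻¹ * g * m)) * m⁻¹ := by group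
        _ = g * y := by rw [e]; group
  have hfix : g' • (inf : Line F) = inf := extPt_injective f (by
    rw [← extHom_smul, hg', map_mul, map_mul, mul_smul, mul_smul, extHom_smul f m, hgP, ← extHom_smul, ← mul_smul,
      map_inv, inv_mul_cancel, one_smul])
  obtain ⟨a, b, hab⟩ := exists_aff_of_fix hfix
  have hu' : ∀ R : Line E, extHom f g' • R = R → R = inf := by
    intro R hR
    have h1 := hu (extHom f m • R) (by
      rw [hg', map_mul, map_mul, mul_smul, mul_smul, map_inv, inv_smul_eq_iff] at hR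
      exact hR)
    rw [← extHom_smul, smul_left_cancel_iff] at h1
    rw [h1, extPt_inf]
  have ha : a = 1 := by
    by_contra ha
    have h1 : extHom f (aff a b) • (pt (f (b / (1 - a))) : Line E) = pt (f (b / (1 - a))) := by
      rw [← extPt_pt, extHom_smul, aff_smul_fixed b ha]
    rw [← hab] at h1
    exact pt_ne_inf _ (hu' _ h1)
  have hb : b ≠ 0 := fun e => hg (by
    rw [ha, e, aff_one, hg', mul_eq_one_iff_eq_inv, inv_mul_eq_iff_eq_mul, mul_inv_cancel] at hab; exact hab)
  rw [ha] at hab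
  have hcen : ∀ y, y ∈ Subgroup.centralizer {g'} ↔ ∃ c, y = aff 1 c := by
    intro y
    rw [Subgroup.mem_centralizer_singleton_iff]
    constructor
    · intro e
      have hy : y • (inf : Line F) = inf := extPt_injective f (by
        rw [← extHom_smul, extPt_inf]
        exact hu' _ (by
          rw [← mul_smul, ← map_mul, ← e, map_mul, mul_smul, ← extPt_inf f, extHom_smul, hfix]))
      obtain ⟨c, d, rfl⟩ := exists_aff_of_fix hy
      rw [hab, aff_mul, aff_mul] at e
      have h2 := (aff_inj e).2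
      simp only [Units.val_one, one_mul] at h2
      refine ⟨d, ?_⟩
      rw [show c = 1 from Units.ext (mul_right_cancel₀ hb (show (c : F) * b = 1 * b by linear_combination h2))]
    · rintro ⟨c, rfl⟩
      rw [hab, aff_mul, aff_mul]
      simp [add_comm]
  have himL : ∀ c : F, aff 1 c ∈ imL F := fun c =>
    ⟨QuotientGroup.mk (CfsgLib.Classical.uElt c), toPGL_uElt c⟩
  have hC : ∀ y ∈ Subgroup.centralizer {g}, y ∈ imL F := by
    intro y hy
    obtain ⟨c, hc⟩ := (hcen _).1 ((hmem y).1 hy)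
    rw [show y = m * aff 1 c * m⁻¹ by rw [← hc]; group]
    exact imL_normal.conj_mem _ (himL c) m
  refine ⟨hC g (Subgroup.mem_centralizer_singleton_iff.2 rfl), hC, ?_⟩
  rw [← Nat.card_eq_fintype_card]
  refine (Nat.card_eq_of_bijective (fun c : F => (⟨m * aff 1 c * m⁻¹, (hmem _).2 ((hcen _).2 ⟨c, by group⟩)⟩ :
    Subgroup.centralizer {g})) ⟨fun c d e => ?_, fun ⟨y, hy⟩ => ?_⟩).symm
  · exact (aff_inj (mul_left_cancel (mul_right_cancel (congrArg Subtype.val e)))).2
  · obtain ⟨c, hc⟩ := (hcen _).1 ((hmem y).1 hy)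
    exact ⟨c, Subtype.ext (show m * aff 1 c * m⁻¹ = y by rw [← hc]; group)⟩

theorem card_centralizer_psl (g : PSL2) :
    Nat.card (Subgroup.centralizer {g}) = Nat.card (Subgroup.centralizer {ψ g} ⊓ imL F : Subgroup PGL(2, F)) := by
  have e : Subgroup.centralizer {g} = (Subgroup.centralizer {ψ g} ⊓ imL F : Subgroup PGL(2, F)).comap ψ := by
    ext x
    rw [Subgroup.mem_comap, Subgroup.mem_inf, Subgroup.mem_centralizer_singleton_iff,
      Subgroup.mem_centralizer_singleton_iff, ← map_mul, ← map_mul,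
      Matrix.ProjectiveSpecialLinearGroup.toPGL_injective.eq_iff]
    exact (and_iff_left ⟨x, rfl⟩).symm
  rw [e, card_comap_toPGL inf_le_right]

/-- The centraliser orders; `k` is the order of the part of the torus inside the image. -/
theorem card_centralizer_cases (hE : Nat.card E = Fintype.card F ^ 2) (hQC : QuadClosed f)
    (h4 : 4 ≤ Fintype.card F) (g : PSL2) (hg : g ≠ 1) :
    Nat.card (Subgroup.centralizer {g}) = Fintype.card F ∨
      ∃ k, (Nat.gcd 2 (Fintype.card F - 1) * k = Fintype.card F - 1 ∨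
          Nat.gcd 2 (Fintype.card F - 1) * k = Fintype.card F + 1) ∧ orderOf g ∣ k ∧
        (g * g = 1 → Nat.card (Subgroup.centralizer {g}) = 2 * k) ∧
        (g * g ≠ 1 → Nat.card (Subgroup.centralizer {g}) = k) := by
  have := finite_pgl_two (F := F)
  have hg' : ψ g ≠ 1 := fun e => hg (Matrix.ProjectiveSpecialLinearGroup.toPGL_injective (e.trans (map_one _).symm))
  obtain ⟨P, hP⟩ := exists_fixed f hQC (ψ g)
  simp only [card_centralizer_psl]
  by_cases hu : ∀ R, extHom f (ψ g) • R = R → R = P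
  · left
    obtain ⟨-, h2, h3⟩ := card_centralizer_one_fixed f hQC hg' hP hu
    rw [inf_eq_left.2 h2, h3]
  right
  push Not at hu
  obtain ⟨Q, hQ, hne⟩ := hu
  have hT : ψ g ∈ (fixExt f P ⊓ fixExt f Q ⊓ imL F : Subgroup PGL(2, F)) := ⟨⟨hP, hQ⟩, g, rfl⟩
  set C := (fixExt f P ⊓ fixExt f Q ⊓ imL F : Subgroup PGL(2, F))
  refine ⟨Nat.card C, ?_, ?_, ?_, ?_⟩
  · obtain ⟨-, hcard, -⟩ := torus_pair f hE hQC hne.symm hg' hP hQ
    rcases Nat.even_or_odd (Fintype.card F) with he | ho
    · rw [gcd_two_of_even he, one_mul, show C = fixExt f P ⊓ fixExt f Q by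
        show _ ⊓ imL F = _; rw [imL_eq_top he, inf_top_eq]]
      exact hcard
    · rw [gcd_two_of_odd ho, (torus_inf_imL f hE hQC ho h4 hne.symm hg' hP hQ).1]
      exact hcard
  · rw [← orderOf_injective _ Matrix.ProjectiveSpecialLinearGroup.toPGL_injective g, ← Subgroup.orderOf_mk _ hT]
    exact orderOf_dvd_natCard _
  · intro h1
    have hgg : ψ g * ψ g = 1 ↔ g * g = 1 := by
      rw [← map_mul]
      exact map_eq_one_iff _ Matrix.ProjectiveSpecialLinearGroup.toPGL_injective
    rw [show (Subgroup.centralizer {ψ g} ⊓ imL F : Subgroup PGL(2, F)) = pairStab f P Q ⊓ imL F by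
      ext x
      rw [Subgroup.mem_inf, Subgroup.mem_inf, centralizer_two_fixed f hE hQC hne.symm hg' hP hQ]
      refine and_congr_left fun _ => ⟨fun h => h.elim (pairStab_self f P Q ·) And.right,
        fun h => Or.inr ⟨hgg.2 h1, h⟩⟩]
    obtain ⟨hc, hcard, s, hsP, hsQ⟩ := torus_pair f hE hQC hne.symm hg' hP hQ
    obtain ⟨s', hs'L, hs'P, hs'Q⟩ : ∃ s ∈ imL F, extHom f s • P = Q ∧ extHom f s • Q = P := by
      rcases Nat.even_or_odd (Fintype.card F) with he | ho
      · exact ⟨s, imL_eq_top he ▸ Subgroup.mem_top s, hsP, hsQ⟩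
      · exact (torus_inf_imL f hE hQC ho h4 hne.symm hg' hP hQ).2
    refine (pairStab_dihedral f hQC hne.symm (imL F) hs'L hs'P hs'Q ?_).2
    by_contra hlt
    have h2 : Nat.card C = 1 := by
      have : 0 < Nat.card C := Nat.card_pos
      change ¬ 2 ≤ Nat.card C at hlt
      omega
    rw [Subgroup.card_eq_one] at h2
    exact hg' (Subgroup.mem_bot.1 (h2 ▸ hT))
  · intro h1
    have hgg : ψ g * ψ g = 1 ↔ g * g = 1 := by
      rw [← map_mul]
      exact map_eq_one_iff _ Matrix.ProjectiveSpecialLinearGroup.toPGL_injective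
    rw [show (Subgroup.centralizer {ψ g} ⊓ imL F : Subgroup PGL(2, F)) = C by
      ext x
      rw [Subgroup.mem_inf, centralizer_two_fixed f hE hQC hne.symm hg' hP hQ, Subgroup.mem_inf]
      exact and_congr_left fun _ => ⟨fun h => h.resolve_right fun h' => h1 (hgg.1 h'.1), Or.inl⟩]

/-- A split torus. -/
theorem exists_torus_split (h4 : 4 ≤ Fintype.card F) :
    ∃ (P Q : Line E) (g : PGL(2, F)), P ≠ Q ∧ g ≠ 1 ∧ extHom f g • P = P ∧ extHom f g • Q = Q ∧
      Nat.card (fixExt f P ⊓ fixExt f Q : Subgroup PGL(2, F)) = Fintype.card F - 1 := by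
  have := finite_pgl_two (F := F)
  have hne : (inf : Line F) ≠ pt 0 := (pt_ne_inf 0).symm
  obtain ⟨-, hcard, -⟩ := torus_rational f hne
  obtain ⟨g, hg, hg1⟩ := (Subgroup.bot_or_exists_ne_one
    (fixExt f (extPt f inf) ⊓ fixExt f (extPt f (pt 0)) : Subgroup PGL(2, F))).resolve_left fun e => by
      rw [e, Subgroup.card_bot] at hcard; omega
  exact ⟨_, _, g, fun e => hne (extPt_injective f e), hg1, hg.1, hg.2, hcard⟩

/-- A non-split torus. -/
theorem exists_torus_nonsplit (hE : Nat.card E = Fintype.card F ^ 2) (hQC : QuadClosed f) :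
    ∃ (P Q : Line E) (g : PGL(2, F)), P ≠ Q ∧ g ≠ 1 ∧ extHom f g • P = P ∧ extHom f g • Q = Q ∧
      Nat.card (fixExt f P ⊓ fixExt f Q : Subgroup PGL(2, F)) = Fintype.card F + 1 := by
  have := finite_pgl_two (F := F)
  obtain ⟨α, hα⟩ : ∃ α : E, ∀ x, f x ≠ α := by
    by_contra h
    push Not at h
    have : Nat.card E ≤ Nat.card F := Nat.card_le_card_of_surjective f h
    rw [hE, Nat.card_eq_fintype_card] at this
    have h2 := Fintype.one_lt_card (α := F)
    rw [sq] at this
    have := Nat.mul_le_mul_left (Fintype.card F) h2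
    omega
  obtain ⟨Q, hQ, hle, -, hcard, -⟩ := torus_nonrational f hE hQC (P := pt α) (by
    intro R e
    rcases point_cases R with rfl | ⟨x, rfl⟩
    · exact pt_ne_inf α (by rw [← e, extPt_inf])
    · exact hα x (pt_injective (by rw [← e, extPt_pt])))
  obtain ⟨g, hg, hg1⟩ := (Subgroup.bot_or_exists_ne_one (fixExt f (pt α))).resolve_left fun e => by
    rw [e, Subgroup.card_bot] at hcard
    have := Fintype.one_lt_card (α := F)
    omega
  exact ⟨_, Q, g, hQ.symm, hg1, hg, hle hg, by rw [inf_eq_left.2 hle]; exact hcard⟩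

/-- Elements of each order dividing the torus part inside the image. -/
theorem exists_psl_of_dvd (hE : Nat.card E = Fintype.card F ^ 2) (hQC : QuadClosed f) (h4 : 4 ≤ Fintype.card F)
    {k n : ℕ} (hn : n ∣ k)
    (hk : Nat.gcd 2 (Fintype.card F - 1) * k = Fintype.card F - 1 ∨
      Nat.gcd 2 (Fintype.card F - 1) * k = Fintype.card F + 1) : ∃ g : PSL2, orderOf g = n := by
  have := finite_pgl_two (F := F)
  obtain ⟨P, Q, g, hne, hg, hgP, hgQ, hcard⟩ : ∃ (P Q : Line E) (g : PGL(2, F)), P ≠ Q ∧ g ≠ 1 ∧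
      extHom f g • P = P ∧ extHom f g • Q = Q ∧
      Nat.card (fixExt f P ⊓ fixExt f Q : Subgroup PGL(2, F)) = Nat.gcd 2 (Fintype.card F - 1) * k := by
    rcases hk with e | e <;> rw [e]
    · exact exists_torus_split f h4
    · exact exists_torus_nonsplit f hE hQC
  obtain ⟨hcyc, -, -⟩ := torus_pair f hE hQC hne hg hgP hgQ
  set C := (fixExt f P ⊓ fixExt f Q ⊓ imL F : Subgroup PGL(2, F))
  have hC : Nat.card C = k := by
    rcases Nat.even_or_odd (Fintype.card F) with he | ho
    · rw [show C = fixExt f P ⊓ fixExt f Q by show _ ⊓ imL F = _; rw [imL_eq_top he, inf_top_eq], hcard,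
        gcd_two_of_even he, one_mul]
    · have h2 := (torus_inf_imL f hE hQC ho h4 hne hg hgP hgQ).1
      rw [hcard, gcd_two_of_odd ho] at h2
      exact Nat.eq_of_mul_eq_mul_left two_pos h2
  have hcC : IsCyclic C :=
    (Subgroup.subgroupOfEquivOfLe (inf_le_left : C ≤ fixExt f P ⊓ fixExt f Q)).isCyclic.1 inferInstance
  obtain ⟨⟨r, hr⟩, hro⟩ := hcC.exists_ofOrder_eq_natCard
  rw [Subgroup.orderOf_mk, hC] at hro
  obtain ⟨y, rfl⟩ := (hr.2 : r ∈ imL F)
  rw [orderOf_injective _ Matrix.ProjectiveSpecialLinearGroup.toPGL_injective] at hro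
  exact ⟨y ^ (k / n), by
    rw [orderOf_pow_of_dvd ?_ (hro.symm ▸ Nat.div_dvd_of_dvd hn), hro, Nat.div_div_self hn]
    · rw [← hro]; exact (orderOf_pos y).ne'
    · intro e
      have hpos : 0 < k := hro ▸ orderOf_pos y
      exact absurd (Nat.div_eq_zero_iff.1 e) (not_or.2 ⟨fun h0 => by rw [h0] at hn; exact hpos.ne' (zero_dvd_iff.1 hn),
        not_lt.2 (Nat.le_of_dvd hpos hn)⟩)⟩

/-- An element with centraliser of order `q`. -/
theorem exists_unipotent_centralizer (hE : Nat.card E = Fintype.card F ^ 2) (hQC : QuadClosed f) :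
    ∃ g : PSL2, g ≠ 1 ∧ Nat.card (Subgroup.centralizer {g}) = Fintype.card F := by
  have := finite_pgl_two (F := F)
  refine ⟨QuotientGroup.mk (CfsgLib.Classical.uElt 1), ?_, ?_⟩
  · intro e
    have h := toPGL_uElt (1 : F)
    rw [e, map_one, ← aff_one] at h
    exact zero_ne_one (aff_inj h).2
  · rw [card_centralizer_psl, toPGL_uElt]
    have hu : ∀ R : Line E, extHom f (aff 1 (1 : F)) • R = R → R = inf := by
      intro R hR
      rw [extHom_aff, map_one, map_one] at hR
      rcases fixed_aff_cases hR with e | ⟨e, -⟩ | ⟨-, e⟩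
      · exact e
      · exact absurd rfl e
      · exact absurd e one_ne_zero
    have hP : extHom f (aff 1 (1 : F)) • (inf : Line E) = inf := by rw [extHom_aff, aff_smul_inf]
    have hne : (aff 1 (1 : F)) ≠ 1 := fun e => by
      rw [← aff_one] at e; exact one_ne_zero (aff_inj e).2
    obtain ⟨-, h2, h3⟩ := card_centralizer_one_fixed f hQC hne hP hu
    rw [inf_eq_left.2 h2, h3]

end CfsgLib.Geom.Moebius
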