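import Mathlib
import Cfsg.Agent.Lib.Geom.PSLTwoCentralizer
import Cfsg.Agent.Lib.Classical.PSLTwoPerm

set_option autoImplicit false

/-!
Elements of prime power order contained in a single Sylow subgroup.
-/

namespace CfsgLib.Geom.Redundant

/-- Every element of `p`-power order lies in two Sylow `p`-subgroups. -/
def TwoCovered (p : ℕ) (G : Type*) [Group G] : Prop :=
  ∀ x : G, (∃ k : ℕ, orderOf x = p ^ k) → ∃ P P' : Sylow p G, P ≠ P' ∧ x ∈ P ∧ x ∈ P'

variable {p : ℕ} [Fact p.Prime] {G H : Type*} [Group G] [Group H]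

theorem exists_mem (x : G) (hx : ∃ k : ℕ, orderOf x = p ^ k) : ∃ P : Sylow p G, x ∈ P := by
  obtain ⟨k, hk⟩ := hx
  obtain ⟨P, hP⟩ := (IsPGroup.of_card (G := Subgroup.zpowers x) (n := k) (by rw [Nat.card_zpowers, hk])).exists_le_sylow
  exact ⟨P, hP (Subgroup.mem_zpowers x)⟩

theorem mem_smul_iff {g x : G} {P : Sylow p G} : x ∈ g • P ↔ g⁻¹ * x * g ∈ P := by
  show x ∈ ((g • P : Sylow p G) : Subgroup G) ↔ _
  rw [Sylow.coe_subgroup_smul, Subgroup.mem_pointwise_smul_iff_inv_smul_mem, ← map_inv, MulAut.smul_def,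
    MulAut.conj_apply, inv_inv]
  rfl

/-- A normal `p`-subgroup lies in every Sylow subgroup. -/
theorem normal_le [Finite G] {N : Subgroup G} (hN : N.Normal) (h : IsPGroup p N) (P : Sylow p G) :
    N ≤ (P : Subgroup G) := by
  obtain ⟨Q, hQ⟩ := h.exists_le_sylow
  obtain ⟨g, rfl⟩ := MulAction.exists_smul_eq G Q P
  intro n hn
  refine mem_smul_iff.2 (hQ ?_)
  simpa using hN.conj_mem n hn g⁻¹

theorem mem_sylow_orderOf {x : G} {P : Sylow p G} (hx : x ∈ P) : ∃ k : ℕ, orderOf x = p ^ k := by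
  obtain ⟨k, hk⟩ := (IsPGroup.iff_orderOf.1 P.isPGroup') ⟨x, hx⟩
  exact ⟨k, by rw [← hk]; exact Subgroup.orderOf_coe (⟨x, hx⟩ : (P : Subgroup G))⟩

theorem exists_iff [Finite G] :
    (∃ Q : Sylow p G, ∀ x : G, (∃ k : ℕ, orderOf x = p ^ k) → ∃ P : Sylow p G, P ≠ Q ∧ x ∈ P) ↔
      TwoCovered p G := by
  constructor
  · rintro ⟨Q, hQ⟩ x hx
    obtain ⟨P, hP⟩ := exists_mem x hx
    obtain ⟨g, rfl⟩ := MulAction.exists_smul_eq G Q P
    have hy : g⁻¹ * x * g ∈ Q := mem_smul_iff.1 hP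
    obtain ⟨P', hne, hP'⟩ := hQ _ (mem_sylow_orderOf hy)
    exact ⟨g • P', g • Q, fun e => hne (smul_left_cancel g e), mem_smul_iff.2 hP', hP⟩
  · intro h
    obtain ⟨Q⟩ : Nonempty (Sylow p G) := inferInstance
    refine ⟨Q, fun x hx => ?_⟩
    obtain ⟨P, P', hne, hP, hP'⟩ := h x hx
    by_cases e : P = Q
    · exact ⟨P', e ▸ hne.symm, hP'⟩
    · exact ⟨P, e, hP⟩

theorem not_twoCovered_of_unique (x : G) (hx : ∃ k : ℕ, orderOf x = p ^ k) (S : Subgroup G)
    (h : ∀ P : Sylow p G, x ∈ P → (P : Subgroup G) = S) : ¬ TwoCovered p G := fun hc => by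
  obtain ⟨P, P', hne, hP, hP'⟩ := hc x hx
  exact hne (Sylow.ext ((h P hP).trans (h P' hP').symm))

theorem not_twoCovered_of_orderOf [Finite G] (x : G) (hx : orderOf x = p ^ (Nat.card G).factorization p) :
    ¬ TwoCovered p G := by
  refine not_twoCovered_of_unique x ⟨_, hx⟩ (Subgroup.zpowers x) fun P hP => ?_
  exact (Subgroup.eq_of_le_of_card_ge (Subgroup.zpowers_le.2 hP)
    (by rw [P.card_eq_multiplicity, Nat.card_zpowers, hx])).symm

theorem not_twoCovered_of_small [Finite G] (h : (Nat.card G).factorization p ≤ 1) : ¬ TwoCovered p G := by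
  interval_cases hn : (Nat.card G).factorization p
  · exact not_twoCovered_of_orderOf 1 (by rw [hn, orderOf_one, pow_zero])
  · obtain ⟨x, hx⟩ := exists_prime_orderOf_dvd_card' (G := G) p (Nat.dvd_of_factorization_pos (by omega))
    exact not_twoCovered_of_orderOf x (by rw [hn, hx, pow_one])

theorem twoCovered_iff_of_central [Finite G] [Finite H] (π : G →* H) (hπ : Function.Surjective π)
    (hker : π.ker ≤ Subgroup.center G) : TwoCovered p G ↔ TwoCovered p H := by
  have : (Subgroup.center G).Normal := inferInstance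
  -- an element over an element of a Sylow subgroup
  have key : ∀ (P : Sylow p G) (x : G), (∃ k : ℕ, orderOf x = p ^ k) →
      π x ∈ (P : Subgroup G).map π → x ∈ P := by
    rintro P x ⟨k, hk⟩ ⟨b, hb, e⟩
    obtain ⟨j, hj⟩ := mem_sylow_orderOf hb
    set c := b⁻¹ * x with hc
    have hcc : c ∈ Subgroup.center G := hker (by
      rw [MonoidHom.mem_ker, hc, map_mul, map_inv, e, inv_mul_cancel])
    have hcomm : Commute b⁻¹ x := by
      have h := Subgroup.mem_center_iff.1 hcc b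
      rw [hc] at h
      have h' : b * x = x * b := by
        calc b * x = b * (b * (b⁻¹ * x)) := by group
          _ = b * ((b⁻¹ * x) * b) := by rw [h]
          _ = x * b := by group
      exact Commute.inv_left h'
    have hcp : c ^ p ^ (j + k) = 1 := by
      rw [hc, hcomm.mul_pow]
      have e1 : b⁻¹ ^ p ^ (j + k) = 1 := by
        rw [inv_pow, inv_eq_one]
        exact orderOf_dvd_iff_pow_eq_one.1 (hj ▸ pow_dvd_pow p (by omega))
      have e2 : x ^ p ^ (j + k) = 1 := orderOf_dvd_iff_pow_eq_one.1 (hk ▸ pow_dvd_pow p (by omega))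
      rw [e1, e2, one_mul]
    have hN : (Subgroup.zpowers c).Normal := ⟨fun n hn g => by
      have h := Subgroup.mem_center_iff.1 (Subgroup.zpowers_le.2 hcc hn) g
      rw [h, mul_inv_cancel_right]; exact hn⟩
    obtain ⟨m, -, hm⟩ := (Nat.dvd_prime_pow Fact.out).1 (orderOf_dvd_of_pow_eq_one hcp)
    have := normal_le hN (IsPGroup.of_card (n := m) (by rw [Nat.card_zpowers, hm])) P (Subgroup.mem_zpowers c)
    rw [show x = b * c by rw [hc, mul_inv_cancel_left]]
    exact mul_mem hb this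
  have hinj : ∀ P P' : Sylow p G, P.mapSurjective hπ = P'.mapSurjective hπ → P = P' := by
    intro P P' e
    refine Sylow.ext (le_antisymm ?_ ?_) <;> intro x hx
    · refine key P' x (mem_sylow_orderOf hx) ?_
      rw [← Sylow.coe_mapSurjective hπ P', ← e, Sylow.coe_mapSurjective]
      exact ⟨x, hx, rfl⟩
    · refine key P x (mem_sylow_orderOf hx) ?_
      rw [← Sylow.coe_mapSurjective hπ P, e, Sylow.coe_mapSurjective]
      exact ⟨x, hx, rfl⟩
  constructor
  · intro h y hy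
    obtain ⟨Q, hQ⟩ := exists_mem y hy
    obtain ⟨P, rfl⟩ := Sylow.mapSurjective_surjective hπ p Q
    obtain ⟨x, hx, rfl⟩ := hQ
    obtain ⟨P1, P2, hne, h1, h2⟩ := h x (mem_sylow_orderOf hx)
    exact ⟨P1.mapSurjective hπ, P2.mapSurjective hπ, fun e => hne (hinj _ _ e), ⟨x, h1, rfl⟩, ⟨x, h2, rfl⟩⟩
  · intro h x hx
    obtain ⟨P, hP⟩ := exists_mem x hx
    obtain ⟨Q1, Q2, hne, h1, h2⟩ := h (π x) (mem_sylow_orderOf (P := P.mapSurjective hπ) ⟨x, hP, rfl⟩)
    obtain ⟨P1, rfl⟩ := Sylow.mapSurjective_surjective hπ p Q1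
    obtain ⟨P2, rfl⟩ := Sylow.mapSurjective_surjective hπ p Q2
    exact ⟨P1, P2, fun e => hne (e ▸ rfl), key P1 x hx h1, key P2 x hx h2⟩

/-- Two Sylow subgroups of a subgroup give two of the group. -/
theorem two_of_subgroup {D : Subgroup G} {x : D}
    (h : ∃ P P' : Sylow p D, P ≠ P' ∧ x ∈ P ∧ x ∈ P') : ∃ P P' : Sylow p G, P ≠ P' ∧ (x : G) ∈ P ∧ (x : G) ∈ P' := by
  obtain ⟨P, P', hne, h1, h2⟩ := h
  obtain ⟨Q, hQ⟩ := P.exists_comap_subtype_eq
  obtain ⟨Q', hQ'⟩ := P'.exists_comap_subtype_eq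
  refine ⟨Q, Q', fun e => hne (Sylow.ext (by rw [← hQ, ← hQ', e])), ?_, ?_⟩
  · exact (hQ.ge h1 : x ∈ (Q : Subgroup G).comap D.subtype)
  · exact (hQ'.ge h2 : x ∈ (Q' : Subgroup G).comap D.subtype)

/-- In a dihedral group whose rotation order is no power of two. -/
theorem two_sylow_dihedral {D : Type*} [Group D] [Finite D] {k : ℕ} [NeZero k] (e : D ≃* DihedralGroup k)
    (hk : ¬ ∃ j, k = 2 ^ j) {x : D} (hx : ∃ j : ℕ, orderOf x = 2 ^ j) (h : x ∈ Subgroup.center D ∨ x * x ≠ 1) :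
    ∃ P P' : Sylow 2 D, P ≠ P' ∧ x ∈ P ∧ x ∈ P' := by
  have hN : (Subgroup.zpowers x).Normal := by
    rcases h with h | h
    · exact ⟨fun n hn g => by
        have h' := Subgroup.mem_center_iff.1 (Subgroup.zpowers_le.2 h hn) g
        rw [h', mul_inv_cancel_right]; exact hn⟩
    · obtain ⟨i, hi⟩ : ∃ i, e x = DihedralGroup.r i := by
        rcases he : e x with i | i
        · exact ⟨i, rfl⟩
        · exfalso
          refine h (e.injective ?_)
          rw [map_mul, he, map_one, DihedralGroup.sr_mul_self]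
      have hconj : ∀ g : D, g * x * g⁻¹ = x ∨ g * x * g⁻¹ = x⁻¹ := by
        intro g
        rcases hg : e g with j | j
        · left
          refine e.injective ?_
          simp [map_mul, map_inv, hg, hi]
        · right
          refine e.injective ?_
          simp [map_mul, map_inv, hg, hi, sub_eq_add_neg, add_comm, add_assoc]
      refine ⟨fun n hn g => ?_⟩
      obtain ⟨m, rfl⟩ := Subgroup.mem_zpowers_iff.1 hn
      rw [← conj_zpow]
      rcases hconj g with e' | e' <;> rw [e']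
      · exact Subgroup.zpow_mem _ (Subgroup.mem_zpowers x) m
      · exact Subgroup.zpow_mem _ (inv_mem (Subgroup.mem_zpowers x)) m
  obtain ⟨j, hj⟩ := hx
  have hall := normal_le hN (IsPGroup.of_card (n := j) (by rw [Nat.card_zpowers, hj]))
  obtain ⟨P, hP⟩ := exists_mem (p := 2) (e.symm (DihedralGroup.sr 0))
    ⟨1, by rw [pow_one, MulEquiv.orderOf_eq, DihedralGroup.orderOf_sr]⟩
  have hmove : ∃ g : D, g • P ≠ P := by
    by_contra hfix
    push Not at hfix
    set g := e.symm (DihedralGroup.r 1)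
    have hg : g * e.symm (DihedralGroup.sr 0) * g⁻¹ ∈ P := by
      have h1 : g * e.symm (DihedralGroup.sr 0) * g⁻¹ ∈ g • P := mem_smul_iff.2 (by
        rw [show g⁻¹ * (g * e.symm (DihedralGroup.sr 0) * g⁻¹) * g = e.symm (DihedralGroup.sr 0) by group]
        exact hP)
      rwa [hfix g] at h1
    obtain ⟨m, hm⟩ := mem_sylow_orderOf (mul_mem hP hg)
    have h2 : e.symm (DihedralGroup.sr 0) * (g * e.symm (DihedralGroup.sr 0) * g⁻¹) =
        e.symm (DihedralGroup.r (-2)) := by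
      refine e.injective ?_
      simp [g, map_mul, map_inv]
      norm_num
    rw [h2, MulEquiv.orderOf_eq] at hm
    have hr : (DihedralGroup.r (-2) : DihedralGroup k) ^ 2 ^ m = 1 := hm ▸ pow_orderOf_eq_one _
    rw [DihedralGroup.r_pow, DihedralGroup.one_def, DihedralGroup.r.injEq] at hr
    have hdvd : k ∣ 2 ^ (m + 1) := by
      rw [← ZMod.natCast_eq_zero_iff]
      push_cast at hr ⊢
      linear_combination -hr
    obtain ⟨i, -, hi⟩ := (Nat.dvd_prime_pow Nat.prime_two).1 hdvd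
    exact hk ⟨i, hi⟩
  obtain ⟨g, hg⟩ := hmove
  exact ⟨g • P, P, hg, hall _ (Subgroup.mem_zpowers x), hall _ (Subgroup.mem_zpowers x)⟩

end CfsgLib.Geom.Redundant
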