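import Mathlib
import Cfsg.Agent.Lib.Geom.RedundantSylow
import Cfsg.Agent.Lib.Geom.MaxPair

set_option autoImplicit false

/-!
Which Sylow subgroups of `PSL_2(F)` are redundant.
-/

namespace CfsgLib.Geom.Moebius

open Matrix
open scoped MatrixGroups
open CfsgLib.Geom.Redundant

variable {F : Type*} [Field F] [Fintype F]

local notation "PSL2" => ProjectiveSpecialLinearGroup (Fin 2) F
local notation "ψ" => Matrix.ProjectiveSpecialLinearGroup.toPGL (n := Fin 2) (R := F)

theorem card_psl_two_gcd :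
    Nat.gcd 2 (Fintype.card F - 1) * Nat.card PSL2 =
      Fintype.card F * ((Fintype.card F + 1) * (Fintype.card F - 1)) := by
  rw [card_psl_two_split]; ring

theorem pow_sylow_dvd_torus {p : ℕ} [hp : Fact p.Prime] (hp2 : p ≠ 2) (hpq : ¬ p ∣ Fintype.card F) :
    ∃ k, p ^ (Nat.card PSL2).factorization p ∣ k ∧ (Nat.gcd 2 (Fintype.card F - 1) * k = Fintype.card F - 1 ∨
      Nat.gcd 2 (Fintype.card F - 1) * k = Fintype.card F + 1) := by
  set v := (Nat.card PSL2).factorization p
  set d := Nat.gcd 2 (Fintype.card F - 1)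
  have hq := Fintype.one_lt_card (α := F)
  have hd : d ∣ Fintype.card F - 1 := Nat.gcd_dvd_right _ _
  have hd' : d ∣ Fintype.card F + 1 := by
    have e : Fintype.card F + 1 = (Fintype.card F - 1) + 2 := by omega
    rw [e]; exact dvd_add hd (Nat.gcd_dvd_left _ _)
  have hpd : Nat.Coprime (p ^ v) d := by
    refine Nat.Coprime.pow_left _ ((Nat.coprime_primes hp.out Nat.prime_two).2 hp2 |>.coprime_dvd_right ?_)
    exact Nat.gcd_dvd_left _ _
  have h : p ^ v ∣ Fintype.card F * ((Fintype.card F + 1) * (Fintype.card F - 1)) := by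
    rw [← card_psl_two_gcd]; exact Dvd.dvd.mul_left (Nat.ordProj_dvd _ _) _
  have h' := (Nat.Coprime.pow_left v ((hp.out.coprime_iff_not_dvd).2 hpq)).dvd_of_dvd_mul_left h
  rcases em (p ∣ Fintype.card F + 1) with hpa | hpa
  · refine ⟨(Fintype.card F + 1) / d, ?_, Or.inr (Nat.mul_div_cancel' hd')⟩
    have hnb : ¬ p ∣ Fintype.card F - 1 := fun hb => by
      have h2 := Nat.dvd_sub hpa hb
      rw [show Fintype.card F + 1 - (Fintype.card F - 1) = 2 by omega] at h2
      exact hp2 ((Nat.prime_dvd_prime_iff_eq hp.out Nat.prime_two).1 h2)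
    have h3 := (Nat.Coprime.pow_left v ((hp.out.coprime_iff_not_dvd).2 hnb)).dvd_of_dvd_mul_right h'
    refine hpd.dvd_of_dvd_mul_left ?_
    rwa [Nat.mul_div_cancel' hd']
  · refine ⟨(Fintype.card F - 1) / d, ?_, Or.inl (Nat.mul_div_cancel' hd)⟩
    have h3 := (Nat.Coprime.pow_left v ((hp.out.coprime_iff_not_dvd).2 hpa)).dvd_of_dvd_mul_left h'
    refine hpd.dvd_of_dvd_mul_left ?_
    rwa [Nat.mul_div_cancel' hd]

theorem not_twoCovered_char {p : ℕ} [hp : Fact p.Prime] (h4 : 4 ≤ Fintype.card F) (hpq : p ∣ Fintype.card F) :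
    ¬ TwoCovered p PSL2 := by
  obtain ⟨E, _, _, f, hE, hQC⟩ := exists_quadExt F
  obtain ⟨r, hr⟩ := CharP.exists F
  obtain ⟨n, hrp, hn⟩ := FiniteField.card F r
  have hrp' : p = r := (Nat.prime_dvd_prime_iff_eq hp.out hrp).1 (hp.out.dvd_of_dvd_pow (n := (n : ℕ)) (hn ▸ hpq))
  subst hrp'
  have hcop : ∀ k, (Nat.gcd 2 (Fintype.card F - 1) * k = Fintype.card F - 1 ∨
      Nat.gcd 2 (Fintype.card F - 1) * k = Fintype.card F + 1) → ¬ p ∣ k := by
    intro k hk hdk
    have h1 : p ∣ Nat.gcd 2 (Fintype.card F - 1) * k := dvd_mul_of_dvd_right hdk _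
    rcases hk with e | e <;> rw [e] at h1
    · have h2 := Nat.dvd_sub hpq h1
      rw [show Fintype.card F - (Fintype.card F - 1) = 1 by omega] at h2
      exact hp.out.one_lt.ne' (Nat.dvd_one.1 h2)
    · have h2 := Nat.dvd_sub h1 hpq
      rw [show Fintype.card F + 1 - Fintype.card F = 1 by omega] at h2
      exact hp.out.one_lt.ne' (Nat.dvd_one.1 h2)
  have hC : ∀ w : PSL2, w ≠ 1 → (∃ k : ℕ, orderOf w = p ^ k) →
      Nat.card (Subgroup.centralizer {w}) = Fintype.card F := by
    rintro w hw ⟨j, hj⟩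
    rcases card_centralizer_cases f hE hQC h4 w hw with h | ⟨k, hk, hdvd, -, -⟩
    · exact h
    · exfalso
      refine hcop k hk ((dvd_pow_self p ?_).trans (hj ▸ hdvd))
      intro e
      rw [e, pow_zero, orderOf_eq_one_iff] at hj
      exact hw hj
  have hmul : ∀ s t : F, (QuotientGroup.mk (CfsgLib.Classical.uElt s) : PSL2) *
      QuotientGroup.mk (CfsgLib.Classical.uElt t) = QuotientGroup.mk (CfsgLib.Classical.uElt (s + t)) := fun s t =>
    Matrix.ProjectiveSpecialLinearGroup.toPGL_injective (by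
      rw [map_mul, toPGL_uElt, toPGL_uElt, toPGL_uElt, aff_mul]; simp [add_comm])
  have hone : (QuotientGroup.mk (CfsgLib.Classical.uElt (0 : F)) : PSL2) = 1 :=
    Matrix.ProjectiveSpecialLinearGroup.toPGL_injective (by rw [toPGL_uElt, map_one, aff_one])
  let u : Multiplicative F →* PSL2 :=
    { toFun := fun t => QuotientGroup.mk (CfsgLib.Classical.uElt (Multiplicative.toAdd t))
      map_one' := hone
      map_mul' := fun s t => (hmul _ _).symm }
  have huinj : Function.Injective u := fun s t e => by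
    have h := congrArg ψ e
    simp only [u, MonoidHom.coe_mk, OneHom.coe_mk] at h
    rw [toPGL_uElt, toPGL_uElt] at h
    exact (aff_inj h).2
  set S := u.range
  have hS : Nat.card S = Fintype.card F := by
    rw [← Nat.card_congr (MonoidHom.ofInjective huinj).toEquiv]
    exact (Nat.card_congr Multiplicative.toAdd).trans Nat.card_eq_fintype_card
  have hpS : IsPGroup p S := IsPGroup.of_card (n := (n : ℕ)) (by rw [hS, hn])
  have hCS : ∀ w ∈ S, w ≠ 1 → Subgroup.centralizer {w} = S := by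
    intro w hw h1
    obtain ⟨j, hj⟩ := IsPGroup.iff_orderOf.1 hpS ⟨w, hw⟩
    refine (Subgroup.eq_of_le_of_card_ge (fun v hv => ?_) ?_).symm
    · obtain ⟨s, rfl⟩ := hw
      obtain ⟨t, rfl⟩ := hv
      rw [Subgroup.mem_centralizer_singleton_iff, ← map_mul, ← map_mul, mul_comm]
    · rw [hS, hC w h1 ⟨j, by rw [← hj]; exact Subgroup.orderOf_coe (⟨w, hw⟩ : S)⟩]
  set g := u (Multiplicative.ofAdd 1) with hg
  have hgS : g ∈ S := ⟨_, rfl⟩
  have hg1 : g ≠ 1 := fun e => by
    rw [hg, ← map_one u] at e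
    exact one_ne_zero (α := F) (congrArg Multiplicative.toAdd (huinj e))
  obtain ⟨j, hj⟩ := IsPGroup.iff_orderOf.1 hpS ⟨g, hgS⟩
  refine not_twoCovered_of_unique g ⟨j, by rw [← hj]; exact Subgroup.orderOf_coe (⟨g, hgS⟩ : S)⟩ S fun P hP => ?_
  have : Nontrivial (P : Subgroup PSL2) := ⟨⟨1, ⟨g, hP⟩, fun e => hg1 (congrArg Subtype.val e).symm⟩⟩
  have := P.isPGroup'.center_nontrivial
  obtain ⟨⟨z, hz⟩, hz1⟩ := exists_ne (1 : Subgroup.center (P : Subgroup PSL2))
  have hzg : (z : PSL2) ∈ Subgroup.centralizer {g} := by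
    rw [Subgroup.mem_centralizer_singleton_iff]
    exact (congrArg Subtype.val (Subgroup.mem_center_iff.1 hz ⟨g, hP⟩)).symm
  rw [hCS g hgS hg1] at hzg
  have hz1' : (z : PSL2) ≠ 1 := fun e => hz1 (Subtype.ext (Subtype.ext e))
  have hle : (P : Subgroup PSL2) ≤ S := by
    rw [← hCS _ hzg hz1']
    intro v hv
    rw [Subgroup.mem_centralizer_singleton_iff]
    exact congrArg Subtype.val (Subgroup.mem_center_iff.1 hz ⟨v, hv⟩)
  exact (P.is_maximal' hpS hle).symm

theorem factorization_psl_two (hodd : Odd (Fintype.card F)) {k : ℕ}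
    (hk : 2 * k = Fintype.card F - 1 ∨ 2 * k = Fintype.card F + 1) (hke : Even k) :
    (Nat.card PSL2).factorization 2 = k.factorization 2 + 1 := by
  have hq := Fintype.one_lt_card (α := F)
  have h := card_psl_two_gcd (F := F)
  rw [gcd_two_of_odd hodd] at h
  obtain ⟨j, hj⟩ := hodd
  obtain ⟨i, rfl⟩ := hke
  have e : Nat.card PSL2 = 2 * (i + i) * (Fintype.card F * (if 2 * (i + i) = Fintype.card F - 1 then
      (Fintype.card F + 1) / 2 else (Fintype.card F - 1) / 2)) := by
    refine Nat.eq_of_mul_eq_mul_left two_pos ?_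
    rw [h]
    split_ifs with c
    · rw [← c]
      have := Nat.mul_div_cancel' (show 2 ∣ Fintype.card F + 1 by omega)
      calc Fintype.card F * ((Fintype.card F + 1) * (2 * (i + i)))
          = Fintype.card F * ((2 * ((Fintype.card F + 1) / 2)) * (2 * (i + i))) := by rw [this]
        _ = _ := by ring
    · have c' := hk.resolve_left c
      rw [← c']
      have := Nat.mul_div_cancel' (show 2 ∣ Fintype.card F - 1 by omega)
      calc Fintype.card F * (2 * (i + i) * (Fintype.card F - 1))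
          = Fintype.card F * (2 * (i + i) * (2 * ((Fintype.card F - 1) / 2))) := by rw [this]
        _ = _ := by ring
  have hi0 : i + i ≠ 0 := by omega
  have hodd' : ¬ 2 ∣ Fintype.card F * (if 2 * (i + i) = Fintype.card F - 1 then
      (Fintype.card F + 1) / 2 else (Fintype.card F - 1) / 2) := by
    rw [Nat.prime_two.dvd_mul]
    split_ifs <;> omega
  rw [e, Nat.factorization_mul (by omega) (fun h0 => hodd' (by rw [h0]; exact dvd_zero 2)),
    Nat.factorization_mul two_ne_zero hi0, Finsupp.add_apply, Finsupp.add_apply,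
    Nat.factorization_eq_zero_of_not_dvd hodd', Nat.prime_two.factorization_self]
  omega

theorem exists_even_half (h4 : 4 ≤ Fintype.card F) (hodd : Odd (Fintype.card F)) :
    ∃ k, (2 * k = Fintype.card F - 1 ∨ 2 * k = Fintype.card F + 1) ∧ Even k := by
  obtain ⟨j, hj⟩ := hodd
  rcases Nat.even_or_odd j with h | h
  · exact ⟨j, Or.inl (by omega), h⟩
  · exact ⟨j + 1, Or.inr (by omega), h.add_one⟩

theorem not_twoCovered_two_power (h4 : 4 ≤ Fintype.card F) (hodd : Odd (Fintype.card F)) {k j : ℕ}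
    (hk : 2 * k = Fintype.card F - 1 ∨ 2 * k = Fintype.card F + 1) (hke : Even k) (hkj : k = 2 ^ j) :
    ¬ TwoCovered 2 PSL2 := by
  obtain ⟨E, _, _, f, hE, hQC⟩ := exists_quadExt F
  have hk' : Nat.gcd 2 (Fintype.card F - 1) * k = Fintype.card F - 1 ∨
      Nat.gcd 2 (Fintype.card F - 1) * k = Fintype.card F + 1 := by rwa [gcd_two_of_odd hodd]
  have hk2 : 2 ≤ k := by obtain ⟨i, hi⟩ := hke; omega
  obtain ⟨x, hx⟩ := exists_psl_of_dvd f hE hQC h4 dvd_rfl hk'
  have hfac := factorization_psl_two hodd hk hke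
  rw [hkj, Nat.prime_two.factorization_pow, Finsupp.single_eq_same] at hfac
  set z := x ^ (k / 2) with hz
  have hkk : k / 2 * 2 = k := Nat.div_mul_cancel (even_iff_two_dvd.1 hke)
  have hzz : z * z = 1 := by rw [hz, ← sq, ← pow_mul, hkk, ← hx, pow_orderOf_eq_one]
  have hz1 : z ≠ 1 := fun e => by
    have := Nat.le_of_dvd (by omega) (orderOf_dvd_of_pow_eq_one (hz ▸ e : x ^ (k / 2) = 1))
    omega
  refine not_twoCovered_of_unique x ⟨j, hx.trans hkj⟩ (Subgroup.centralizer {z}) fun P hP => ?_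
  have hPc : Nat.card P = 2 * k := by
    rw [P.card_eq_multiplicity, hfac, hkj, pow_succ']
  set Z := (Subgroup.zpowers x).subgroupOf (P : Subgroup PSL2)
  have hle : Subgroup.zpowers x ≤ (P : Subgroup PSL2) := Subgroup.zpowers_le.2 hP
  have hi : Z.index = 2 := by
    have h := Z.index_mul_card
    rw [Nat.card_congr (Subgroup.subgroupOfEquivOfLe hle).toEquiv, Nat.card_zpowers, hx] at h
    exact Nat.eq_of_mul_eq_mul_right (by omega) (h.trans hPc)
  have hn := Subgroup.normal_of_index_eq_two hi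
  have hzc : Nat.card (Subgroup.centralizer {z}) = 2 * k := by
    rcases card_centralizer_cases f hE hQC h4 z hz1 with h | ⟨k', hk'', hd, h, -⟩
    · exfalso
      have hd2 := orderOf_dvd_natCard
        (⟨z, Subgroup.mem_centralizer_singleton_iff.2 rfl⟩ : Subgroup.centralizer {z})
      rw [Subgroup.orderOf_mk, orderOf_eq_prime (p := 2) (by rw [sq]; exact hzz) hz1, h] at hd2
      obtain ⟨r, hr⟩ := hd2
      obtain ⟨i, hi⟩ := hodd
      omega
    · rw [h hzz]
      rw [orderOf_eq_prime (p := 2) (by rw [sq]; exact hzz) hz1] at hd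
      rw [gcd_two_of_odd hodd] at hk''
      obtain ⟨i, hi⟩ := hke
      obtain ⟨i', hi'⟩ := hd
      omega
  refine Subgroup.eq_of_le_of_card_ge (fun v hv => ?_) (by rw [hzc, hPc])
  rw [Subgroup.mem_centralizer_singleton_iff]
  have hm := hn.conj_mem ⟨x, hP⟩ (Subgroup.mem_zpowers x) ⟨v, hv⟩
  obtain ⟨m, hm⟩ := Subgroup.mem_zpowers_iff.1 (hm : v * x * v⁻¹ ∈ Subgroup.zpowers x)
  have h1 : v * z * v⁻¹ = z ^ m := by
    rw [hz, ← conj_pow, show v * x * v⁻¹ = x ^ m from hm.symm, ← zpow_natCast, ← zpow_natCast, ← _root_.zpow_mul, ← _root_.zpow_mul, mul_comm]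
  have h2 : z ^ m = 1 ∨ z ^ m = z := by
    rcases Int.even_or_odd m with ⟨i, rfl⟩ | ⟨i, rfl⟩
    · exact Or.inl (by rw [← two_mul, _root_.zpow_mul, zpow_two, hzz, _root_.one_zpow])
    · exact Or.inr (by rw [_root_.zpow_add_one, _root_.zpow_mul, zpow_two, hzz, _root_.one_zpow, one_mul])
  rcases h2 with e | e <;> rw [e] at h1
  · exact absurd (by simpa using h1) hz1
  · exact mul_inv_eq_iff_eq_mul.1 h1

theorem twoCovered_two (h4 : 4 ≤ Fintype.card F) (hodd : Odd (Fintype.card F)) {k : ℕ}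
    (hk : 2 * k = Fintype.card F - 1 ∨ 2 * k = Fintype.card F + 1) (hke : Even k) (hkj : ¬ ∃ j, k = 2 ^ j) :
    TwoCovered 2 PSL2 := by
  obtain ⟨E, _, _, f, hE, hQC⟩ := exists_quadExt F
  have := finite_pgl_two (F := F)
  have key : ∀ z : PSL2, z * z = 1 → z ≠ 1 →
      Nonempty (Subgroup.centralizer {z} ≃* DihedralGroup k) := by
    intro z hzz hz1
    have hz' : ψ z ≠ 1 := fun e => hz1 (Matrix.ProjectiveSpecialLinearGroup.toPGL_injective (e.trans (map_one _).symm))
    have hzz' : ψ z * ψ z = 1 := by rw [← map_mul, hzz, map_one]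
    have ho := orderOf_eq_prime (p := 2) (by rw [sq]; exact hzz') hz'
    obtain ⟨P, hP⟩ := exists_fixed f hQC (ψ z)
    by_cases hu : ∀ R, extHom f (ψ z) • R = R → R = P
    · exfalso
      obtain ⟨-, -, h3⟩ := card_centralizer_one_fixed f hQC hz' hP hu
      have hd2 := orderOf_dvd_natCard
        (⟨ψ z, Subgroup.mem_centralizer_singleton_iff.2 rfl⟩ : Subgroup.centralizer {ψ z})
      rw [Subgroup.orderOf_mk, ho, h3] at hd2
      obtain ⟨r, hr⟩ := hd2
      obtain ⟨i, hi⟩ := hodd
      omega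
    push Not at hu
    obtain ⟨Q, hQ, hne⟩ := hu
    obtain ⟨k', hk', hC, ⟨e⟩, -, -⟩ := pair_imL f hE hQC h4 hodd hne.symm hz' hP hQ
    have hT : ψ z ∈ (fixExt f P ⊓ fixExt f Q ⊓ imL F : Subgroup PGL(2, F)) := ⟨⟨hP, hQ⟩, z, rfl⟩
    have hd : 2 ∣ k' := by
      have h := orderOf_dvd_natCard (⟨_, hT⟩ : (fixExt f P ⊓ fixExt f Q ⊓ imL F : Subgroup PGL(2, F)))
      rwa [Subgroup.orderOf_mk, ho, hC] at h
    obtain rfl : k' = k := by
      obtain ⟨i, hi⟩ := hke
      obtain ⟨i', hi'⟩ := hd
      omega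
    refine ⟨((Subgroup.centralizer {z}).equivMapOfInjective ψ Matrix.ProjectiveSpecialLinearGroup.toPGL_injective).trans
      ((MulEquiv.subgroupCongr ?_).trans e)⟩
    ext v
    rw [Subgroup.mem_inf]
    constructor
    · rintro ⟨w, hw, rfl⟩
      have hw' : ψ w ∈ Subgroup.centralizer {ψ z} := by
        rw [Subgroup.mem_centralizer_singleton_iff, ← map_mul, ← map_mul, Subgroup.mem_centralizer_singleton_iff.1 hw]
      rw [centralizer_two_fixed f hE hQC hne.symm hz' hP hQ] at hw'
      exact ⟨hw'.elim (pairStab_self f P Q ·) And.right, w, rfl⟩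
    · rintro ⟨hv, w, rfl⟩
      refine ⟨w, ?_, rfl⟩
      have := (centralizer_two_fixed f hE hQC hne.symm hz' hP hQ (x := ψ w)).2 (Or.inr ⟨hzz', hv⟩)
      rw [Subgroup.mem_centralizer_singleton_iff, ← map_mul, ← map_mul] at this
      exact Subgroup.mem_centralizer_singleton_iff.2 (Matrix.ProjectiveSpecialLinearGroup.toPGL_injective this)
  have hk2 : 2 ≤ k := by obtain ⟨i, hi⟩ := hke; obtain ⟨i', hi'⟩ := hodd; omega
  have : NeZero k := ⟨by omega⟩
  obtain ⟨z0, hz0⟩ : ∃ z : PSL2, orderOf z = 2 := by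
    refine exists_psl_of_dvd f hE hQC h4 (even_iff_two_dvd.1 hke) ?_
    rwa [gcd_two_of_odd hodd]
  rintro x ⟨j, hj⟩
  obtain ⟨z, hzz, hz1, hxz, hor⟩ : ∃ z : PSL2, z * z = 1 ∧ z ≠ 1 ∧ x * z = z * x ∧ (x * x = 1 → x = 1 ∨ x = z) := by
    rcases j with _ | j
    · rw [pow_zero, orderOf_eq_one_iff] at hj
      refine ⟨z0, ?_, fun e => by rw [e, orderOf_one] at hz0; omega, by rw [hj, one_mul, mul_one],
        fun _ => Or.inl hj⟩
      have h := pow_orderOf_eq_one z0
      rwa [hz0, sq] at h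
    · refine ⟨x ^ 2 ^ j, ?_, ?_, ?_, fun h => ?_⟩
      · rw [← pow_add, ← two_mul, ← pow_succ', ← hj, pow_orderOf_eq_one]
      · intro e
        have h1 := Nat.le_of_dvd (Nat.two_pow_pos j) (orderOf_dvd_of_pow_eq_one e)
        rw [hj] at h1
        exact absurd h1 (not_le.2 (Nat.pow_lt_pow_succ one_lt_two))
      · exact (Commute.self_pow x _).eq
      · have h1 : orderOf x ∣ 2 := orderOf_dvd_of_pow_eq_one (by rw [sq]; exact h)
        rw [hj] at h1
        obtain rfl : j = 0 := by
          by_contra hj0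
          have h2 := Nat.le_of_dvd two_pos h1
          have : 2 ^ 2 ≤ 2 ^ (j + 1) := Nat.pow_le_pow_right two_pos (by omega)
          omega
        right; rw [pow_zero, pow_one]
  obtain ⟨e⟩ := key z hzz hz1
  have hxm : x ∈ Subgroup.centralizer {z} := Subgroup.mem_centralizer_singleton_iff.2 hxz
  refine two_of_subgroup (x := ⟨x, hxm⟩) (two_sylow_dihedral e hkj ⟨j, by rw [Subgroup.orderOf_mk, hj]⟩ ?_)
  by_cases h : x * x = 1
  · left
    rw [Subgroup.mem_center_iff]
    rintro ⟨w, hw⟩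
    refine Subtype.ext ?_
    show w * x = x * w
    rcases hor h with rfl | rfl
    · rw [one_mul, mul_one]
    · exact Subgroup.mem_centralizer_singleton_iff.1 hw
  · exact Or.inr fun e => h (congrArg Subtype.val e)

theorem not_twoCovered_three (h3 : Fintype.card F = 3) : ¬ TwoCovered 2 PSL2 := by
  have hcard : Nat.card PSL2 = 12 := CfsgLib.Classical.card_psl_two_eq h3 12 (by norm_num)
  obtain ⟨φ, hφ⟩ := CfsgLib.Classical.exists_psl_two_embedding (F := F)
  obtain ⟨e⟩ := CfsgLib.Classical.equiv_alternating_of_embedding φ hφ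
    (by rw [hcard, Fintype.card_fin, h3]; rfl)
  have hf : ((Finset.univ : Finset (alternatingGroup (Fin (Fintype.card F + 1)))).filter
      fun a => a * a = 1).card ≤ 4 ∧
      ∀ a : alternatingGroup (Fin (Fintype.card F + 1)), a ^ 4 = 1 → a * a = 1 := by
    rw [h3]; decide +kernel
  refine not_twoCovered_of_unique 1 ⟨0, orderOf_one⟩ ((default : Sylow 2 PSL2) : Subgroup PSL2) fun P _ => ?_
  have hc : ∀ Q : Sylow 2 PSL2, Nat.card Q = 4 := fun Q => by
    rw [Q.card_eq_multiplicity, hcard, show (12 : ℕ) = 2 ^ 2 * 3 by norm_num,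
      Nat.factorization_mul (by norm_num) (by norm_num), Finsupp.add_apply, Nat.prime_two.factorization_pow,
      Finsupp.single_eq_same, Nat.factorization_eq_zero_of_not_dvd (n := 3) (by norm_num)]
    norm_num
  have hset : ∀ Q : Sylow 2 PSL2, ((Q : Subgroup PSL2) : Set PSL2) = {x | x * x = 1} := by
    intro Q
    refine Set.eq_of_subset_of_ncard_le ?_ ?_ (Set.toFinite _)
    · intro x hx
      have h4 : x ^ 4 = 1 := by
        have h := pow_card_eq_one' (x := (⟨x, hx⟩ : (Q : Subgroup PSL2)))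
        rw [hc] at h
        exact congrArg Subtype.val h
      have := hf.2 (e x) (by rw [← map_pow, h4, map_one])
      rw [← map_mul] at this
      exact (MulEquiv.map_eq_one_iff e).1 this
    · rw [show ((Q : Subgroup PSL2) : Set PSL2).ncard = 4 from (Nat.card_coe_set_eq _).symm.trans (hc Q)]
      refine le_trans ?_ hf.1
      rw [← Set.ncard_image_of_injective _ e.injective, ← Set.ncard_coe_finset]
      refine Set.ncard_le_ncard ?_ (Set.toFinite _)
      rintro _ ⟨x, hx, rfl⟩
      simp only [Finset.coe_filter, Finset.mem_univ, true_and]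
      show e x * e x = 1
      rw [← map_mul, show x * x = 1 from hx, map_one]
  exact SetLike.coe_injective ((hset P).trans (hset default).symm)

theorem twoCovered_psl_iff (p : ℕ) [hp : Fact p.Prime] :
    TwoCovered p PSL2 ↔ (p = 2 ∧ (¬ ∃ k : ℕ, Fintype.card F + 1 = 2 ^ k) ∧ (¬ ∃ k : ℕ, Fintype.card F = 2 ^ k) ∧
        ¬ ∃ k : ℕ, Fintype.card F = 2 ^ k + 1) := by
  have hq := Fintype.one_lt_card (α := F)
  obtain ⟨r, hr⟩ := CharP.exists F
  obtain ⟨n, hrp, hn⟩ := FiniteField.card F r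
  have hpow : 2 ∣ Fintype.card F → ∃ k : ℕ, Fintype.card F = 2 ^ k := fun h => ⟨n, by
    rw [hn, (Nat.prime_dvd_prime_iff_eq Nat.prime_two hrp).1 (Nat.prime_two.dvd_of_dvd_pow (hn ▸ h))]⟩
  have hsmall : Fintype.card F < 4 → Fintype.card F = 2 ∨ Fintype.card F = 3 := by omega
  by_cases hp2 : p = 2
  swap
  · refine iff_of_false ?_ (fun h => hp2 h.1)
    by_cases hpq : p ∣ Fintype.card F
    · by_cases h4 : 4 ≤ Fintype.card F
      · exact not_twoCovered_char h4 hpq
      · refine not_twoCovered_of_small ?_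
        rcases hsmall (by omega) with h | h <;> rw [h] at hpq
        · exact absurd ((Nat.prime_dvd_prime_iff_eq hp.out Nat.prime_two).1 hpq) hp2
        · rw [(Nat.prime_dvd_prime_iff_eq hp.out Nat.prime_three).1 hpq,
            CfsgLib.Classical.card_psl_two_eq h 12 (by norm_num), show (12 : ℕ) = 3 * 4 by norm_num,
            Nat.factorization_mul (by norm_num) (by norm_num), Finsupp.add_apply,
            Nat.prime_three.factorization_self, Nat.factorization_eq_zero_of_not_dvd (n := 4) (by norm_num)]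
    · obtain ⟨k, hdvd, hk⟩ := pow_sylow_dvd_torus (F := F) hp2 hpq
      by_cases h4 : 4 ≤ Fintype.card F
      · obtain ⟨E, _, _, f, hE, hQC⟩ := exists_quadExt F
        obtain ⟨g, hg⟩ := exists_psl_of_dvd f hE hQC h4 hdvd hk
        exact not_twoCovered_of_orderOf g hg
      · refine not_twoCovered_of_small ?_
        by_contra hv
        have h1 : p ^ 2 ≤ k := Nat.le_of_dvd (Nat.pos_of_ne_zero fun e => by
          rw [e, mul_zero] at hk; omega) ((pow_dvd_pow p (by omega)).trans hdvd)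
        have hp3 : 3 ≤ p := by have := hp.out.two_le; omega
        have h9 : 3 ^ 2 ≤ p ^ 2 := Nat.pow_le_pow_left hp3 2
        have hd : 1 * k ≤ Nat.gcd 2 (Fintype.card F - 1) * k :=
          Nat.mul_le_mul_right k (Nat.gcd_pos_of_pos_left _ two_pos)
        omega
  subst hp2
  rcases Nat.even_or_odd (Fintype.card F) with he | ho
  · refine iff_of_false ?_ (fun h => h.2.2.1 (hpow (even_iff_two_dvd.1 he)))
    by_cases h4 : 4 ≤ Fintype.card F
    · exact not_twoCovered_char h4 (even_iff_two_dvd.1 he)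
    · refine not_twoCovered_of_small ?_
      rcases hsmall (by omega) with h | h
      · rw [CfsgLib.Classical.card_psl_two_eq h 6 (by norm_num), show (6 : ℕ) = 2 * 3 by norm_num,
          Nat.factorization_mul (by norm_num) (by norm_num), Finsupp.add_apply,
          Nat.prime_two.factorization_self, Nat.factorization_eq_zero_of_not_dvd (n := 3) (by norm_num)]
      · rw [h] at he; exact absurd he (by decide)
  by_cases h4 : 4 ≤ Fintype.card F
  swap
  · have h3 : Fintype.card F = 3 := (hsmall (by omega)).resolve_left fun e => by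
      rw [e] at ho; exact absurd ho (by decide)
    exact iff_of_false (not_twoCovered_three h3) fun h => h.2.1 ⟨2, by rw [h3]; rfl⟩
  obtain ⟨k, hk, hke⟩ := exists_even_half h4 ho
  by_cases hkj : ∃ j, k = 2 ^ j
  · obtain ⟨j, hkj⟩ := hkj
    refine iff_of_false (not_twoCovered_two_power h4 ho hk hke hkj) fun h => ?_
    rcases hk with e | e
    · exact h.2.2.2 ⟨j + 1, by rw [pow_succ', ← hkj]; omega⟩
    · exact h.2.1 ⟨j + 1, by rw [pow_succ', ← hkj]; omega⟩
  · refine iff_of_true (twoCovered_two h4 ho hk hke hkj) ⟨rfl, ?_, ?_, ?_⟩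
    · rintro ⟨i, hi⟩
      rcases i with _ | i
      · simp at hi
      rw [pow_succ'] at hi
      rcases hk with e | e
      · obtain ⟨c, hc⟩ := hke
        rcases i with _ | i
        · simp at hi; omega
        · rw [pow_succ'] at hi; omega
      · exact hkj ⟨i, by omega⟩
    · rintro ⟨i, hi⟩
      obtain ⟨c, hc⟩ := ho
      rcases i with _ | i
      · simp at hi; omega
      · rw [pow_succ'] at hi; omega
    · rintro ⟨i, hi⟩
      obtain ⟨c, hc⟩ := hke
      rcases i with _ | i
      · simp at hi; omega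
      rw [pow_succ'] at hi
      rcases hk with e | e
      · exact hkj ⟨i, by omega⟩
      · rcases i with _ | i
        · simp at hi; omega
        · rw [pow_succ'] at hi; omega

end CfsgLib.Geom.Moebius
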