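import Mathlib
import Cfsg.Agent.Lib.Geom.PSLTwoCentralizer

set_option autoImplicit false

/-!
`PSL_2(2^n)` has abelian centralisers of nonidentity elements.
-/

namespace CfsgLib.Geom.Moebius

open Matrix
open scoped MatrixGroups

variable {F : Type*} [Field F] [Fintype F]

local notation "PSL2" => ProjectiveSpecialLinearGroup (Fin 2) F
local notation "ψ" => Matrix.ProjectiveSpecialLinearGroup.toPGL (n := Fin 2) (R := F)

omit [Fintype F] in
/-- Elements of two-power order fixing a point are translations. -/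
theorem translation_of_two_power [Finite F] (h2 : (2 : F) = 0) {m z : PGL(2, F)}
    (hz : z • m • (inf : Line F) = m • inf) {j : ℕ} (hj : z ^ 2 ^ j = 1) : ∃ b, m⁻¹ * z * m = aff 1 b := by
  obtain ⟨a, b, hab⟩ := exists_aff_of_fix (g := m⁻¹ * z * m) (by rw [mul_smul, mul_smul, hz, inv_smul_smul])
  have hpow : ∀ k : ℕ, ∃ c, (aff a b) ^ k = aff (a ^ k) c := by
    intro k
    induction k with
    | zero => exact ⟨0, by rw [pow_zero, pow_zero, aff_one]⟩
    | succ k ih =>
      obtain ⟨c, hc⟩ := ih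
      exact ⟨_, by rw [pow_succ, hc, aff_mul, ← pow_succ]⟩
  obtain ⟨c, hc⟩ := hpow (2 ^ j)
  rw [← hab, show (m⁻¹ * z * m) ^ 2 ^ j = m⁻¹ * z ^ 2 ^ j * m by
    have := conj_pow (a := m⁻¹) (b := z) (i := 2 ^ j); rwa [inv_inv] at this, hj,
    show m⁻¹ * 1 * m = 1 by group, ← aff_one] at hc
  have ha := (aff_inj hc).1.symm
  have key : ∀ j : ℕ, ∀ u : Fˣ, u ^ 2 ^ j = 1 → u = 1 := by
    intro j
    induction j with
    | zero => intro u h; simpa using h
    | succ j ih =>
      intro u h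
      rw [pow_succ', pow_mul] at h
      exact sq_eq_one_charTwo h2 (show u * u = 1 by rw [← sq]; exact ih _ h)
  exact ⟨b, by rw [hab, key j a ha]⟩

/-- In characteristic two a centraliser of a nonidentity element is abelian and equals that of each of its
nonidentity elements. -/
theorem centralizer_eq_of_mem (h4 : 4 ≤ Fintype.card F) (heven : Even (Fintype.card F)) {x y : PSL2} (hx : x ≠ 1)
    (hy : y ∈ Subgroup.centralizer ({x} : Set PSL2)) (hy1 : y ≠ 1) :
    Subgroup.centralizer ({y} : Set PSL2) = Subgroup.centralizer {x} := by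
  obtain ⟨E, _, _, f, hE, hQC⟩ := exists_quadExt F
  have := finite_pgl_two (F := F)
  have hne : ∀ g : PSL2, g ≠ 1 → ψ g ≠ 1 := fun g h e =>
    h (Matrix.ProjectiveSpecialLinearGroup.toPGL_injective (e.trans (map_one _).symm))
  have h2 : (2 : F) = 0 := by
    obtain ⟨p, hp⟩ := CharP.exists F
    obtain ⟨n, hprime, hn⟩ := FiniteField.card F p
    have hp2 := ((Nat.prime_dvd_prime_iff_eq Nat.prime_two hprime).1
      (Nat.prime_two.dvd_of_dvd_pow (n := (n : ℕ)) (hn ▸ even_iff_two_dvd.1 heven)))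
    subst hp2
    exact_mod_cast CharP.cast_eq_zero F 2
  obtain ⟨n, hq⟩ : ∃ n : ℕ, Fintype.card F = 2 ^ n := by
    obtain ⟨p, hp⟩ := CharP.exists F
    obtain ⟨n, hprime, hn⟩ := FiniteField.card F p
    exact ⟨n, by rw [hn, (Nat.prime_dvd_prime_iff_eq Nat.prime_two hprime).1
      (Nat.prime_two.dvd_of_dvd_pow (n := (n : ℕ)) (hn ▸ even_iff_two_dvd.1 heven))]⟩
  obtain ⟨P, hP⟩ := exists_fixed f hQC (ψ x)
  by_cases hu : ∀ R, extHom f (ψ x) • R = R → R = P
  · obtain ⟨P', rfl⟩ := rational_of_unique f hQC hu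
    obtain ⟨m, rfl⟩ := exists_map1 P'
    obtain ⟨-, hle, hc⟩ := card_centralizer_one_fixed f hQC (hne x hx) hP hu
    have hcard : Nat.card (Subgroup.centralizer ({x} : Set PSL2)) = 2 ^ n := by
      rw [card_centralizer_psl, inf_eq_left.2 hle, hc, hq]
    have htr : ∀ w ∈ Subgroup.centralizer ({x} : Set PSL2), ∃ b, m⁻¹ * ψ w * m = aff 1 b := by
      intro w hw
      have hfix : ψ w • m • (inf : Line F) = m • inf := extPt_injective f (by
        rw [← extHom_smul]
        refine hu _ ?_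
        rw [← mul_smul, ← map_mul, ← map_mul, ← Subgroup.mem_centralizer_singleton_iff.1 hw, map_mul, map_mul,
          mul_smul, hP])
      refine translation_of_two_power h2 hfix (j := n) ?_
      rw [← map_pow, ← hcard, orderOf_dvd_iff_pow_eq_one.1 (Subgroup.orderOf_dvd_natCard _ hw), map_one]
    have hle' : Subgroup.centralizer ({x} : Set PSL2) ≤ Subgroup.centralizer {y} := by
      intro w hw
      rw [Subgroup.mem_centralizer_singleton_iff]
      refine Matrix.ProjectiveSpecialLinearGroup.toPGL_injective ?_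
      obtain ⟨b, hb⟩ := htr w hw
      obtain ⟨d, hd⟩ := htr y hy
      rw [map_mul, map_mul]
      have e : m⁻¹ * ψ w * m * (m⁻¹ * ψ y * m) = m⁻¹ * ψ y * m * (m⁻¹ * ψ w * m) := by
        rw [hb, hd, aff_mul, aff_mul]; simp [add_comm]
      calc ψ w * ψ y = m * (m⁻¹ * ψ w * m * (m⁻¹ * ψ y * m)) * m⁻¹ := by group
        _ = ψ y * ψ w := by rw [e]; group
    refine (Subgroup.eq_of_le_of_card_ge hle' ?_).symm
    rw [hcard]
    rcases card_centralizer_cases f hE hQC h4 y hy1 with h | ⟨k, hk, hd, -, -⟩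
    · rw [h, hq]
    · exfalso
      obtain ⟨i, -, hi⟩ := (Nat.dvd_prime_pow Nat.prime_two).1 (hcard ▸ Subgroup.orderOf_dvd_natCard _ hy)
      rw [hi] at hd
      rw [gcd_two_of_even heven, one_mul] at hk
      rcases i with _ | i
      · rw [pow_zero, orderOf_eq_one_iff] at hi; exact hy1 hi
      · obtain ⟨c, hc⟩ := (dvd_pow_self 2 (Nat.succ_ne_zero i)).trans hd
        obtain ⟨r, hr⟩ := heven
        omega
  · push Not at hu
    obtain ⟨Q, hQ, hne'⟩ := hu
    obtain ⟨-, hcard, -⟩ := torus_pair f hE hQC hne'.symm (hne x hx) hP hQ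
    have hinv : ∀ g : PSL2, g ≠ 1 → ψ g ∈ (fixExt f P ⊓ fixExt f Q : Subgroup PGL(2, F)) → ψ g * ψ g ≠ 1 := by
      intro g hg1 hg e
      have h := Subgroup.orderOf_dvd_natCard (fixExt f P ⊓ fixExt f Q : Subgroup PGL(2, F)) hg
      rw [orderOf_eq_prime (p := 2) (by rw [sq]; exact e) (hne g hg1)] at h
      obtain ⟨r, hr⟩ := heven
      obtain ⟨c, hc⟩ := h
      omega
    have hxT : ψ x ∈ (fixExt f P ⊓ fixExt f Q : Subgroup PGL(2, F)) := ⟨hP, hQ⟩
    have hCx : ∀ g : PSL2, g ≠ 1 → ψ g ∈ (fixExt f P ⊓ fixExt f Q : Subgroup PGL(2, F)) → ∀ w : PSL2,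
        (w ∈ Subgroup.centralizer ({g} : Set PSL2) ↔ ψ w ∈ (fixExt f P ⊓ fixExt f Q : Subgroup PGL(2, F))) := by
      intro g hg1 hg w
      have h := centralizer_two_fixed f hE hQC hne'.symm (hne g hg1) hg.1 hg.2 (x := ψ w)
      rw [Subgroup.mem_centralizer_singleton_iff, ← map_mul, ← map_mul,
        Matrix.ProjectiveSpecialLinearGroup.toPGL_injective.eq_iff] at h
      rw [Subgroup.mem_centralizer_singleton_iff, h]
      exact or_iff_left fun h' => hinv g hg1 hg h'.1
    have hyT := (hCx x hx hxT y).1 hy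
    ext w
    rw [hCx y hy1 hyT, hCx x hx hxT]

end CfsgLib.Geom.Moebius
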