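import Mathlib

/-!
A pair of regular unipotent matrices `L` (lower bidiagonal) and `U` (upper unitriangular) whose
product is multiplication by `X` on `F[X]/(f)`, in a basis of monic polynomials `p k` of degree `k`
with `p k (0) = (-1)^k` and `p n = f`.
-/

set_option autoImplicit false

namespace CfsgLib.Geom

open Matrix Polynomial

variable {F : Type*} [Field F]

/-! ### Triangular nilpotent matrices -/

theorem ru_pow_apply_eq_zero {n : ℕ} {N : Matrix (Fin n) (Fin n) F}
    (hN : ∀ i j : Fin n, (j : ℕ) ≤ i → N i j = 0) (k : ℕ) :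
    ∀ i j : Fin n, (j : ℕ) < i + k → (N ^ k) i j = 0 := by
  induction k with
  | zero =>
    intro i j h
    rw [pow_zero, Matrix.one_apply_ne]
    intro he; subst he; omega
  | succ k ih =>
    intro i j h
    rw [pow_succ, Matrix.mul_apply]
    refine Finset.sum_eq_zero fun l _ => ?_
    rcases Nat.lt_or_ge (l : ℕ) (i + k) with hl | hl
    · rw [ih i l hl, zero_mul]
    · rw [hN l j (by omega), mul_zero]

theorem ru_pow_apply_ne_zero {n : ℕ} {N : Matrix (Fin n) (Fin n) F}
    (hN : ∀ i j : Fin n, (j : ℕ) ≤ i → N i j = 0)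
    (hs : ∀ i j : Fin n, (j : ℕ) = i + 1 → N i j ≠ 0) (k : ℕ) :
    ∀ i j : Fin n, (j : ℕ) = i + k → (N ^ k) i j ≠ 0 := by
  induction k with
  | zero =>
    intro i j h
    have : j = i := Fin.ext (by omega)
    subst this
    rw [pow_zero, Matrix.one_apply_eq]
    exact one_ne_zero
  | succ k ih =>
    intro i j h
    rw [pow_succ, Matrix.mul_apply, Finset.sum_eq_single ⟨(i : ℕ) + k, by omega⟩]
    · exact mul_ne_zero (ih i _ rfl) (hs _ j (by simp only; omega))
    · intro l _ hl
      rcases Nat.lt_or_ge (l : ℕ) (i + k) with h' | h'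
      · rw [ru_pow_apply_eq_zero hN k i l h', zero_mul]
      · have : (l : ℕ) ≠ i + k := fun e => hl (Fin.ext e)
        rw [hN l j (by omega), mul_zero]
    · intro hl; exact absurd (Finset.mem_univ _) hl

theorem ru_isNilpotent {n : ℕ} {N : Matrix (Fin n) (Fin n) F}
    (hN : ∀ i j : Fin n, (j : ℕ) ≤ i → N i j = 0) : IsNilpotent N := by
  refine ⟨n, ?_⟩
  ext i j
  exact ru_pow_apply_eq_zero hN n i j (by omega)

theorem ru_pow_pred_ne_zero {n : ℕ} (hn : 0 < n) {N : Matrix (Fin n) (Fin n) F}
    (hN : ∀ i j : Fin n, (j : ℕ) ≤ i → N i j = 0)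
    (hs : ∀ i j : Fin n, (j : ℕ) = i + 1 → N i j ≠ 0) : N ^ (n - 1) ≠ 0 := by
  intro h
  exact ru_pow_apply_ne_zero hN hs (n - 1) ⟨0, hn⟩ ⟨n - 1, by omega⟩ (by simp)
    (by rw [h, Matrix.zero_apply])

/-- A subspace of row vectors stable under a strictly upper triangular matrix with non-zero
superdiagonal and containing the first coordinate vector is everything. -/
theorem ru_eq_top_of_mem {n : ℕ} (hn : 0 < n) {N : Matrix (Fin n) (Fin n) F}
    (hN : ∀ i j : Fin n, (j : ℕ) ≤ i → N i j = 0)
    (hs : ∀ i j : Fin n, (j : ℕ) = i + 1 → N i j ≠ 0) (S : Submodule F (Fin n → F))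
    (hS : ∀ v ∈ S, v ᵥ* N ∈ S) (h0 : (Pi.single ⟨0, hn⟩ 1 : Fin n → F) ∈ S) : S = ⊤ := by
  have hk : ∀ k : ℕ, (Pi.single ⟨0, hn⟩ 1 : Fin n → F) ᵥ* N ^ k ∈ S := by
    intro k
    induction k with
    | zero => simpa using h0
    | succ k ih => rw [pow_succ, ← vecMul_vecMul]; exact hS _ ih
  have main : ∀ m : ℕ, m ≤ n → ∀ v : Fin n → F, (∀ i : Fin n, (i : ℕ) < n - m → v i = 0) →
      v ∈ S := by
    intro m
    induction m with
    | zero =>
      intro _ v hv
      have : v = 0 := funext fun i => hv i (by omega)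
      rw [this]; exact zero_mem S
    | succ m ih =>
      intro hm v hv
      set j : Fin n := ⟨n - (m + 1), by omega⟩ with hj
      set w : Fin n → F := (Pi.single ⟨0, hn⟩ 1 : Fin n → F) ᵥ* N ^ (n - (m + 1)) with hw
      have hwi : ∀ i : Fin n, w i = (N ^ (n - (m + 1))) ⟨0, hn⟩ i := by
        intro i; simp [hw]
      have hwj : w j ≠ 0 := by
        rw [hwi]; exact ru_pow_apply_ne_zero hN hs _ _ _ (by simp [hj])
      have h1 : v - (v j / w j) • w ∈ S := by
        refine ih (by omega) _ fun i hi => ?_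
        rcases Nat.lt_or_ge (i : ℕ) (n - (m + 1)) with h | h
        · have : w i = 0 := by
            rw [hwi]; exact ru_pow_apply_eq_zero hN _ _ _ (by simpa using h)
          simp [hv i h, this]
        · have : i = j := Fin.ext (by simp [hj]; omega)
          subst this
          simp [hwj]
      have := add_mem h1 (S.smul_mem (v j / w j) (hk (n - (m + 1))))
      simpa [hw] using this
  rw [eq_top_iff]
  exact fun v _ => main n le_rfl v fun i hi => absurd hi (by omega)

/-! ### The bases of polynomials -/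

/-- A basis of monic polynomials adapted to a factorisation of the companion map of `p n`. -/
structure RegPolys (F : Type*) [Field F] (n : ℕ) where
  /-- The polynomials; the last one is the characteristic polynomial of `L * U`. -/
  p : ℕ → F[X]
  monic : ∀ k ≤ n, (p k).Monic
  deg : ∀ k ≤ n, (p k).natDegree = k
  eval_zero : ∀ k ≤ n, (p k).eval 0 = (-1) ^ k

namespace RegPolys

variable {n : ℕ} (D : RegPolys F n)

/-- The second coefficient, with its sign changed. -/
def sCoeff (k : ℕ) : F := -(D.p k).coeff (k - 1)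

/-- The superdiagonal entries of `U`. -/
def uEntry (k : ℕ) : F := D.sCoeff (k + 1) - D.sCoeff k - 1

/-- Coordinates to polynomials. -/
noncomputable def psi : (Fin n → F) →ₗ[F] F[X] :=
  Fintype.linearCombination F fun i : Fin n => D.p i

theorem psi_apply (v : Fin n → F) : D.psi v = ∑ i : Fin n, v i • D.p i :=
  Fintype.linearCombination_apply F _ v

theorem psi_single (i : Fin n) (a : F) : D.psi (Pi.single i a) = a • D.p i :=
  Fintype.linearCombination_apply_single F _ i a

theorem natDegree_psi_le {v : Fin n → F} {k : ℕ} (hv : ∀ i : Fin n, k < i → v i = 0) :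
    (D.psi v).natDegree ≤ k := by
  rw [psi_apply]
  refine natDegree_sum_le_of_forall_le _ _ fun i _ => ?_
  rcases Nat.lt_or_ge k i with h | h
  · simp [hv i h]
  · exact (natDegree_smul_le _ _).trans (by rw [D.deg i i.2.le]; exact h)

theorem natDegree_psi_lt (hn : 0 < n) (v : Fin n → F) : (D.psi v).natDegree < n := by
  have := D.natDegree_psi_le (v := v) (k := n - 1) (fun i hi => absurd hi (by omega))
  omega

theorem coeff_psi {v : Fin n → F} (k : Fin n) (hv : ∀ i : Fin n, k < i → v i = 0) :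
    (D.psi v).coeff k = v k := by
  rw [psi_apply, finset_sum_coeff, Finset.sum_eq_single k]
  · rw [coeff_smul, smul_eq_mul]
    have h1 := (D.monic k k.2.le).coeff_natDegree
    rw [D.deg k k.2.le] at h1
    rw [h1, mul_one]
  · intro i _ hik
    rcases lt_or_gt_of_ne hik with h | h
    · rw [coeff_smul, coeff_eq_zero_of_natDegree_lt (by rw [D.deg i i.2.le]; exact h), smul_zero]
    · simp [hv i h]
  · intro h; exact absurd (Finset.mem_univ _) h

theorem psi_injective : Function.Injective D.psi := by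
  rw [← LinearMap.ker_eq_bot, Submodule.eq_bot_iff]
  intro v hv
  rw [LinearMap.mem_ker] at hv
  by_contra hne
  classical
  have hex : (Finset.univ.filter fun i => v i ≠ 0).Nonempty := by
    obtain ⟨i, hi⟩ := Function.ne_iff.1 hne
    exact ⟨i, by simpa using hi⟩
  obtain ⟨k, hk, hmax⟩ := Finset.exists_max_image _ (fun i : Fin n => i) hex
  have h := D.coeff_psi (v := v) k fun i hi => by
    by_contra h
    exact absurd (hmax i (by simpa using h)) (not_le.2 hi)
  rw [hv, coeff_zero] at h
  exact (Finset.mem_filter.1 hk).2 h.symm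

theorem exists_psi_eq : ∀ k, k ≤ n → ∀ g : F[X], g.degree < k →
    ∃ v : Fin n → F, (∀ i : Fin n, k ≤ i → v i = 0) ∧ D.psi v = g := by
  intro k
  induction k with
  | zero =>
    intro _ g hg
    refine ⟨0, fun _ _ => rfl, ?_⟩
    have : g = 0 := degree_eq_bot.1 (Nat.WithBot.lt_zero_iff.1 hg)
    simp [this]
  | succ k ih =>
    intro hk g hg
    have hdeg : (g - g.coeff k • D.p k).degree < k := by
      rw [degree_lt_iff_coeff_zero]
      intro m hm
      have h1 := (D.monic k (by omega)).coeff_natDegree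
      rw [D.deg k (by omega)] at h1
      rcases hm.eq_or_lt with rfl | hm'
      · simp [h1]
      · rw [coeff_sub, coeff_smul, (degree_lt_iff_coeff_zero _ _).1 hg m (by omega),
          coeff_eq_zero_of_natDegree_lt (p := D.p k) (by rw [D.deg k (by omega)]; exact hm'), smul_zero, sub_zero]
    obtain ⟨v, hv, hvg⟩ := ih (by omega) _ hdeg
    refine ⟨v + Pi.single ⟨k, by omega⟩ (g.coeff k), fun i hi => ?_, ?_⟩
    · have : i ≠ ⟨k, by omega⟩ := fun e => by simp [e] at hi
      simp [hv i (by omega), this]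
    · rw [map_add, hvg, psi_single, sub_add_cancel]

/-! ### The lower bidiagonal matrix -/

/-- The lower Jordan block `1 + N`. -/
def lMat (n : ℕ) : Matrix (Fin n) (Fin n) F :=
  Matrix.of fun i j => if (i : ℕ) = j ∨ (i : ℕ) = j + 1 then 1 else 0

theorem lMat_sub_one_apply (i j : Fin n) :
    (lMat n - 1 : Matrix (Fin n) (Fin n) F) i j = if (i : ℕ) = j + 1 then 1 else 0 := by
  rw [Matrix.sub_apply, lMat, Matrix.of_apply, Matrix.one_apply]
  by_cases h : i = j
  · subst h; simp
  · have : (i : ℕ) ≠ j := fun e => h (Fin.ext e)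
    simp [h, this]

theorem det_lMat : (lMat n : Matrix (Fin n) (Fin n) F).det = 1 := by
  rw [Matrix.det_of_lowerTriangular]
  · simp [lMat]
  · intro i j hij
    have h' : (i : ℕ) < j := hij
    simp only [lMat, Matrix.of_apply]
    rw [if_neg (by omega)]

theorem isNilpotent_lMat_sub_one : IsNilpotent (lMat n - 1 : Matrix (Fin n) (Fin n) F) := by
  have h : IsNilpotent (lMat n - 1 : Matrix (Fin n) (Fin n) F)ᵀ :=
    ru_isNilpotent fun i j h => by
      rw [Matrix.transpose_apply, lMat_sub_one_apply, if_neg (by omega)]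
  obtain ⟨k, hk⟩ := h
  refine ⟨k, ?_⟩
  rw [← Matrix.transpose_pow, Matrix.transpose_eq_zero] at hk
  exact hk

theorem lMat_sub_one_pow_ne_zero (hn : 0 < n) :
    (lMat n - 1 : Matrix (Fin n) (Fin n) F) ^ (n - 1) ≠ 0 := by
  intro h
  refine ru_pow_pred_ne_zero hn (N := (lMat n - 1 : Matrix (Fin n) (Fin n) F)ᵀ) (fun i j h => ?_)
    (fun i j h => ?_) ?_
  · rw [Matrix.transpose_apply, lMat_sub_one_apply, if_neg (by omega)]
  · rw [Matrix.transpose_apply, lMat_sub_one_apply, if_pos h]
    exact one_ne_zero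
  · rw [← Matrix.transpose_pow, h, Matrix.transpose_zero]

theorem lMat_mulVec_single (j : Fin n) (a : F) :
    lMat n *ᵥ Pi.single j a =
      Pi.single j a + if h : (j : ℕ) + 1 < n then Pi.single ⟨j + 1, h⟩ a else 0 := by
  ext i
  rw [mulVec_single, Pi.add_apply]
  by_cases h : (j : ℕ) + 1 < n
  · rw [dif_pos h]
    simp only [Pi.smul_apply, MulOpposite.smul_eq_mul_unop, MulOpposite.unop_op, lMat,
      Matrix.col_apply, Matrix.of_apply, Pi.single_apply, Fin.ext_iff]
    split_ifs <;> simp_all
  · rw [dif_neg h]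
    simp only [Pi.smul_apply, MulOpposite.smul_eq_mul_unop, MulOpposite.unop_op, lMat,
      Matrix.col_apply, Matrix.of_apply, Pi.single_apply, Fin.ext_iff, Pi.zero_apply]
    split_ifs <;> simp_all <;> omega

theorem psi_lMat_single {j : Fin n} (h : (j : ℕ) + 1 < n) (a : F) :
    D.psi (lMat n *ᵥ Pi.single j a) = a • (D.p j + D.p (j + 1)) := by
  rw [lMat_mulVec_single, dif_pos h, map_add, psi_single, psi_single, smul_add]

theorem psi_lMat_single_last {j : Fin n} (h : ¬(j : ℕ) + 1 < n) (a : F) :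
    D.psi (lMat n *ᵥ Pi.single j a) = a • D.p j := by
  rw [lMat_mulVec_single, dif_neg h, add_zero, psi_single]

theorem lMat_mulVec_apply_eq_zero {w : Fin n → F} {k : ℕ}
    (hw : ∀ i : Fin n, k ≤ i → w i = 0) :
    ∀ i : Fin n, k < i → (lMat n *ᵥ w) i = 0 := by
  intro i hi
  rw [mulVec, dotProduct]
  refine Finset.sum_eq_zero fun l _ => ?_
  rcases Nat.lt_or_ge (l : ℕ) k with h | h
  · simp only [lMat, Matrix.of_apply]
    rw [if_neg (by omega), zero_mul]
  · rw [hw l h, mul_zero]

theorem exists_lMat_eq : ∀ k, k < n → ∀ g : F[X], g.degree < (k + 1 : ℕ) → g.eval 0 = 0 →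
    ∃ w : Fin n → F, (∀ i : Fin n, k ≤ i → w i = 0) ∧ D.psi (lMat n *ᵥ w) = g := by
  intro k
  induction k with
  | zero =>
    intro _ g hg h0
    refine ⟨0, fun _ _ => rfl, ?_⟩
    have hC := eq_C_of_degree_le_zero ((degree_le_iff_coeff_zero _ 0).2 fun m hm =>
      (degree_lt_iff_coeff_zero _ _).1 hg m (Nat.succ_le_of_lt (by exact_mod_cast hm)))
    rw [hC, eval_C] at h0
    rw [hC, h0]
    simp
  | succ k ih =>
    intro hk g hg h0
    set a := g.coeff (k + 1) with ha
    have hdeg : (g - a • (D.p k + D.p (k + 1))).degree < (k + 1 : ℕ) := by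
      rw [degree_lt_iff_coeff_zero]
      intro m hm
      have h1 := (D.monic (k + 1) (by omega)).coeff_natDegree
      rw [D.deg (k + 1) (by omega)] at h1
      have h2 : (D.p k).coeff m = 0 :=
        coeff_eq_zero_of_natDegree_lt (by rw [D.deg k (by omega)]; omega)
      rcases hm.eq_or_lt with rfl | hm'
      · simp [h1, h2, ha]
      · rw [coeff_sub, coeff_smul, coeff_add, h2,
          (degree_lt_iff_coeff_zero _ _).1 hg m (by omega),
          coeff_eq_zero_of_natDegree_lt (by rw [D.deg (k + 1) (by omega)]; exact hm')]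
        simp
    obtain ⟨w, hw, hwg⟩ := ih (by omega) _ hdeg (by
      rw [eval_sub, eval_smul, eval_add, D.eval_zero k (by omega), D.eval_zero (k + 1) (by omega),
        h0, pow_succ]
      simp)
    refine ⟨w + Pi.single ⟨k, by omega⟩ a, fun i hi => ?_, ?_⟩
    · have : i ≠ ⟨k, by omega⟩ := fun e => by simp [e] at hi
      simp [hw i (by omega), this]
    · rw [mulVec_add, map_add, hwg, D.psi_lMat_single (by simpa using hk), sub_add_cancel]

/-- The remainder `X p_j - p_j - p_{j+1}`. -/
noncomputable def rest (j : ℕ) : F[X] := X * D.p j - D.p j - D.p (j + 1)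

theorem rest_spec (j : Fin n) :
    ∃ w : Fin n → F, (∀ i : Fin n, (j : ℕ) ≤ i → w i = 0) ∧
      D.psi (lMat n *ᵥ w) = D.rest j := by
  have hj : (j : ℕ) + 1 ≤ n := j.2
  refine D.exists_lMat_eq j j.2 _ ?_ ?_
  · rw [degree_lt_iff_coeff_zero]
    intro m hm
    have h1 := (D.monic j j.2.le).coeff_natDegree
    rw [D.deg j j.2.le] at h1
    have h2 := (D.monic (j + 1) hj).coeff_natDegree
    rw [D.deg (j + 1) hj] at h2
    obtain ⟨m, rfl⟩ : ∃ m', m = m' + 1 := ⟨m - 1, by omega⟩
    rw [rest, coeff_sub, coeff_sub, coeff_X_mul,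
      coeff_eq_zero_of_natDegree_lt (p := D.p j) (n := m + 1) (by rw [D.deg j j.2.le]; omega)]
    rcases (show (j : ℕ) ≤ m by omega).eq_or_lt with rfl | hm'
    · rw [h1, h2]; simp
    · rw [coeff_eq_zero_of_natDegree_lt (by rw [D.deg j j.2.le]; exact hm'),
        coeff_eq_zero_of_natDegree_lt (p := D.p ((j : ℕ) + 1)) (by rw [D.deg (j + 1) hj]; omega)]
      simp
  · simp [rest, D.eval_zero j j.2.le, D.eval_zero (j + 1) hj, pow_succ]

/-- Below the diagonal part of the columns of `U`. -/
noncomputable def uCol (j : Fin n) : Fin n → F := (D.rest_spec j).choose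

theorem uCol_zero (j i : Fin n) (h : (j : ℕ) ≤ i) : D.uCol j i = 0 :=
  (D.rest_spec j).choose_spec.1 i h

theorem psi_lMat_uCol (j : Fin n) : D.psi (lMat n *ᵥ D.uCol j) = D.rest j :=
  (D.rest_spec j).choose_spec.2

/-- The upper unitriangular matrix. -/
noncomputable def uMat : Matrix (Fin n) (Fin n) F :=
  Matrix.of fun i j => (Pi.single j 1 : Fin n → F) i + D.uCol j i

theorem uMat_sub_one_apply (i j : Fin n) : (D.uMat - 1) i j = D.uCol j i := by
  rw [Matrix.sub_apply, uMat, Matrix.of_apply, Matrix.one_apply, Pi.single_apply]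
  simp

theorem det_uMat : D.uMat.det = 1 := by
  rw [Matrix.det_of_upperTriangular]
  · simp [uMat, D.uCol_zero]
  · intro i j hij
    have h' : (j : ℕ) < i := hij
    have hne : i ≠ j := fun e => by subst e; omega
    simp [uMat, D.uCol_zero j i h'.le, hne]

theorem uCol_pred (i j : Fin n) (h : (j : ℕ) = i + 1) : D.uCol j i = D.uEntry j := by
  have hz := D.uCol_zero j
  have hw : (lMat n *ᵥ D.uCol j) j = D.uCol j i := by
    rw [mulVec, dotProduct, Finset.sum_eq_single i]
    · simp [lMat, h]
    · intro l _ hl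
      rcases Nat.lt_or_ge (l : ℕ) j with h' | h'
      · have : (l : ℕ) ≠ i := fun e => hl (Fin.ext e)
        simp only [lMat, Matrix.of_apply]
        rw [if_neg (by omega), zero_mul]
      · rw [hz l h', mul_zero]
    · intro h'; exact absurd (Finset.mem_univ _) h'
  have hc := D.coeff_psi j (lMat_mulVec_apply_eq_zero hz)
  rw [D.psi_lMat_uCol, hw] at hc
  have h1 := (D.monic j j.2.le).coeff_natDegree
  rw [D.deg j j.2.le] at h1
  rw [← hc, rest, uEntry, sCoeff, sCoeff, coeff_sub, coeff_sub, h1,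
    show (j : ℕ) + 1 - 1 = j from rfl]
  have h2 : (X * D.p j).coeff (j : ℕ) = (D.p j).coeff ((j : ℕ) - 1) := by
    conv_lhs => rw [h]
    rw [coeff_X_mul, ← h, show (j : ℕ) - 1 = i by omega]
  rw [h2]
  ring

theorem isNilpotent_uMat_sub_one : IsNilpotent (D.uMat - 1) :=
  ru_isNilpotent fun i j h => by rw [uMat_sub_one_apply, D.uCol_zero j i h]

theorem uMat_sub_one_pow_ne_zero (hn : 0 < n) (hu : ∀ k, 1 ≤ k → k < n → D.uEntry k ≠ 0) :
    (D.uMat - 1) ^ (n - 1) ≠ 0 :=
  ru_pow_pred_ne_zero hn (fun i j h => by rw [uMat_sub_one_apply, D.uCol_zero j i h])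
    fun i j h => by
      rw [uMat_sub_one_apply, D.uCol_pred i j h]
      exact hu j (by omega) j.2

/-! ### The product is multiplication by `X` modulo `p n` -/

/-- `A = L U`. -/
noncomputable def aMat : Matrix (Fin n) (Fin n) F := lMat n * D.uMat

theorem dvd_psi_aMat (v : Fin n → F) : D.p n ∣ D.psi (D.aMat *ᵥ v) - X * D.psi v := by
  induction v using Pi.single_induction with
  | zero => simp
  | add v w hv hw =>
    have := dvd_add hv hw
    rw [mulVec_add, map_add, map_add, mul_add]
    convert this using 1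
    ring
  | single j a =>
    have hcol : D.aMat *ᵥ Pi.single j a = lMat n *ᵥ Pi.single j a + a • (lMat n *ᵥ D.uCol j) := by
      rw [aMat, ← mulVec_mulVec, ← mulVec_smul, ← mulVec_add]
      congr 1
      ext i
      simp [uMat, mulVec_single, Pi.single_apply]
      ring
    rw [hcol, map_add, map_smul, D.psi_lMat_uCol, psi_single, rest]
    by_cases h : (j : ℕ) + 1 < n
    · rw [D.psi_lMat_single h]
      refine ⟨0, ?_⟩
      simp only [smul_sub, smul_add, mul_zero, mul_smul_comm]
      ring
    · have hjn : (j : ℕ) + 1 = n := by omega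
      rw [D.psi_lMat_single_last h, hjn]
      refine ⟨-C a, ?_⟩
      simp only [smul_eq_C_mul]
      ring

theorem dvd_psi_aMat_pow (k : ℕ) (v : Fin n → F) :
    D.p n ∣ D.psi ((D.aMat ^ k) *ᵥ v) - X ^ k * D.psi v := by
  induction k with
  | zero => simp
  | succ k ih =>
    rw [pow_succ' D.aMat, ← mulVec_mulVec]
    have h1 := D.dvd_psi_aMat ((D.aMat ^ k) *ᵥ v)
    have := dvd_add h1 (ih.mul_left X)
    convert this using 1
    ring

theorem psi_eq_of_dvd (hn : 0 < n) {v : Fin n → F} {g : F[X]} (hg : g.degree < n)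
    (h : D.p n ∣ D.psi v - g) : D.psi v = g := by
  have hd : (D.psi v - g).degree < (D.p n).degree := by
    rw [degree_eq_natDegree (D.monic n le_rfl).ne_zero, D.deg n le_rfl]
    refine lt_of_le_of_lt (degree_sub_le _ _) (max_lt ?_ hg)
    exact lt_of_le_of_lt degree_le_natDegree (by exact_mod_cast D.natDegree_psi_lt hn v)
  exact sub_eq_zero.1 (eq_zero_of_dvd_of_degree_lt h hd)

/-- Evaluation at `1` in coordinates. -/
def evOne : Fin n → F := fun i => (D.p i).eval 1

theorem evOne_dot (v : Fin n → F) : D.evOne ⬝ᵥ v = (D.psi v).eval 1 := by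
  rw [psi_apply, eval_finset_sum, dotProduct]
  simp [evOne, mul_comm]

theorem evOne_vecMul_aMat (hf : (D.p n).eval 1 = 0) : D.evOne ᵥ* D.aMat = D.evOne := by
  refine dotProduct_eq _ _ fun v => ?_
  rw [← dotProduct_mulVec, evOne_dot, evOne_dot]
  obtain ⟨c, hc⟩ := D.dvd_psi_aMat v
  have := congrArg (eval (1 : F)) hc
  simp [hf] at this
  exact sub_eq_zero.1 this

end RegPolys

end CfsgLib.Geom
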