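import Mathlib
import Cfsg.Agent.Lib.Geom.RegUnipBasis
import Cfsg.Agent.Lib.MaxSub.Transvection

/-!
A criterion for the two regular unipotent matrices of `RegPolys` to generate `SL_n`: when
`f = (X-1)^2 h`, a power of `L U` is a transvection.
-/

set_option autoImplicit false

namespace CfsgLib.Geom

open Matrix Polynomial CfsgLib.MaxSub

theorem ru_addSubgroup_eq_top {K : Type*} [Field K] {θ : K} (hθ : Subring.closure {θ} = ⊤)
    (S : AddSubgroup K) (hS : ∀ z ∈ S, θ * z ∈ S) {z : K} (hz : z ∈ S) (hz0 : z ≠ 0) : S = ⊤ := by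
  let R : Subring K :=
    { carrier := {a | ∀ w ∈ S, a * w ∈ S}
      one_mem' := fun w hw => by rwa [one_mul]
      mul_mem' := fun {a b} ha hb w hw => by rw [mul_assoc]; exact ha _ (hb w hw)
      zero_mem' := fun w _ => by rw [zero_mul]; exact zero_mem S
      add_mem' := fun {a b} ha hb w hw => by rw [add_mul]; exact add_mem (ha w hw) (hb w hw)
      neg_mem' := fun {a} ha w hw => by rw [neg_mul]; exact neg_mem (ha w hw) }
  have hR : ⊤ ≤ R := by
    rw [← hθ, Subring.closure_le]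
    rintro a ha
    rw [Set.mem_singleton_iff.1 ha]
    exact hS
  rw [eq_top_iff]
  intro a _
  have := hR (Subring.mem_top (a * z⁻¹)) z hz
  rwa [inv_mul_cancel_right₀ hz0] at this

theorem ru_sq_dvd_iff {F : Type*} [Field F] (g : F[X]) :
    (X - 1) ^ 2 ∣ g ↔ g.eval 1 = 0 ∧ g.derivative.eval 1 = 0 := by
  constructor
  · rintro ⟨c, rfl⟩
    simp [derivative_mul, derivative_pow]
  · rintro ⟨h1, h2⟩
    obtain ⟨c, rfl⟩ : X - C (1 : F) ∣ g := dvd_iff_isRoot.2 h1
    have hc : c.eval 1 = 0 := by simpa [derivative_mul] using h2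
    obtain ⟨d, rfl⟩ : X - C (1 : F) ∣ c := dvd_iff_isRoot.2 hc
    exact ⟨d, by rw [map_one]; ring⟩

variable {F : Type*} [Field F] {n : ℕ}

/-- Duals all of whose transvections lie in `M`: closure under linear combinations. -/
theorem ru_full_comb {M : Subgroup (GL (Fin n) F)} {ψ₁ ψ₂ : Fin n → F}
    (h1 : ∀ v, ψ₁ ⬝ᵥ v = 0 → HasTv M v ψ₁) (h2 : ∀ v, ψ₂ ⬝ᵥ v = 0 → HasTv M v ψ₂)
    (c : F) {a : Fin n → F} (ha1 : ψ₁ ⬝ᵥ a = 0) (ha2 : ψ₂ ⬝ᵥ a = c) :
    ∀ v, (ψ₂ - c • ψ₁) ⬝ᵥ v = 0 → HasTv M v (ψ₂ - c • ψ₁) := by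
  intro v hv
  have hb : ψ₂ ⬝ᵥ (v - (ψ₁ ⬝ᵥ v) • a) = 0 := by
    rw [dotProduct_sub, dotProduct_smul, ha2]
    rw [sub_dotProduct, smul_dotProduct] at hv
    simpa [mul_comm] using hv
  have h := (h2 _ hb).conj_tv (h1 a ha1)
  rw [dotProduct_sub, dotProduct_smul, ha1, smul_zero, sub_zero, sub_add_cancel, ha2] at h
  exact h

theorem ru_full_add {M : Subgroup (GL (Fin n) F)} {ψ₁ ψ₂ : Fin n → F}
    (h1 : ∀ v, ψ₁ ⬝ᵥ v = 0 → HasTv M v ψ₁) (h2 : ∀ v, ψ₂ ⬝ᵥ v = 0 → HasTv M v ψ₂) :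
    ∀ v, (ψ₁ + ψ₂) ⬝ᵥ v = 0 → HasTv M v (ψ₁ + ψ₂) := by
  have hsmul : ∀ {ψ : Fin n → F}, (∀ v, ψ ⬝ᵥ v = 0 → HasTv M v ψ) → ∀ c : F,
      ∀ v, (c • ψ) ⬝ᵥ v = 0 → HasTv M v (c • ψ) := by
    intro ψ h c v hv
    rcases eq_or_ne c 0 with rfl | hc
    · rw [zero_smul]; exact hasTv_zero v
    · rw [← hasTv_smul_iff hc]
      exact h _ (by simpa [smul_dotProduct, dotProduct_smul] using hv)
  by_cases hex : ∃ a, ψ₁ ⬝ᵥ a = 0 ∧ ψ₂ ⬝ᵥ a ≠ 0
  · obtain ⟨a, ha1, ha2⟩ := hex
    have := ru_full_comb h1 h2 (-1) (a := (-(ψ₂ ⬝ᵥ a)⁻¹) • a)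
      (by rw [dotProduct_smul, ha1, smul_zero])
      (by rw [dotProduct_smul, smul_eq_mul]; field_simp)
    simpa [add_comm] using this
  · push Not at hex
    by_cases h0 : ψ₁ = 0
    · simpa [h0] using h2
    · obtain ⟨i, hi⟩ := Function.ne_iff.1 h0
      have hi : ψ₁ i ≠ 0 := hi
      have he : ψ₂ = (ψ₂ i / ψ₁ i) • ψ₁ := by
        ext j
        have := hex (Pi.single j 1 - (ψ₁ j / ψ₁ i) • Pi.single i 1) (by
          simp [dotProduct_sub, dotProduct_smul, hi])
        simp [dotProduct_sub, dotProduct_smul] at this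
        simp only [Pi.smul_apply, smul_eq_mul]
        field_simp at this ⊢
        linear_combination this
      rw [he]
      have := hsmul h1 (1 + ψ₂ i / ψ₁ i)
      rwa [add_smul, one_smul] at this

/-- The submodule of duals all of whose transvections lie in `M`. -/
def ruFull (M : Subgroup (GL (Fin n) F)) : Submodule F (Fin n → F) where
  carrier := {ψ | ∀ v, ψ ⬝ᵥ v = 0 → HasTv M v ψ}
  zero_mem' := fun v _ => hasTv_zero v
  add_mem' := fun h1 h2 => ru_full_add h1 h2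
  smul_mem' := fun c ψ h v hv => by
    rcases eq_or_ne c 0 with rfl | hc
    · rw [zero_smul]; exact hasTv_zero v
    · rw [← hasTv_smul_iff hc]
      exact h _ (by simpa [smul_dotProduct, dotProduct_smul] using hv)

theorem ruFull_vecMul {M : Subgroup (GL (Fin n) F)} {ψ : Fin n → F} (hψ : ψ ∈ ruFull M)
    {g : GL (Fin n) F} (hg : g ∈ M) : ψ ᵥ* (g : Matrix (Fin n) (Fin n) F) ∈ ruFull M := by
  intro v hv
  rw [← dotProduct_mulVec] at hv
  have h := (hψ _ hv).conj (inv_mem hg)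
  rwa [inv_mulVec_mulVec, inv_inv] at h

/-- A non-zero subspace stable under the lower shift contains the first coordinate vector. -/
theorem ru_single_zero_mem (hn : 0 < n) (S : Submodule F (Fin n → F))
    (hS : ∀ v ∈ S, v ᵥ* (RegPolys.lMat n - 1) ∈ S) {v : Fin n → F} (hv : v ∈ S) (hv0 : v ≠ 0) :
    (Pi.single ⟨0, hn⟩ 1 : Fin n → F) ∈ S := by
  have hsh : ∀ (w : Fin n → F) (j : Fin n), (w ᵥ* (RegPolys.lMat n - 1)) j =
      if h : (j : ℕ) + 1 < n then w ⟨j + 1, h⟩ else 0 := by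
    intro w j
    rw [vecMul, dotProduct]
    split_ifs with h
    · rw [Finset.sum_eq_single ⟨(j : ℕ) + 1, h⟩]
      · rw [RegPolys.lMat_sub_one_apply, if_pos rfl, mul_one]
      · intro l _ hl
        rw [RegPolys.lMat_sub_one_apply, if_neg (fun e => hl (Fin.ext e)), mul_zero]
      · intro h'; exact absurd (Finset.mem_univ _) h'
    · refine Finset.sum_eq_zero fun l _ => ?_
      rw [RegPolys.lMat_sub_one_apply, if_neg (by omega), mul_zero]
  have main : ∀ m : ℕ, ∀ w ∈ S, w ≠ 0 → (∀ i : Fin n, m < i → w i = 0) →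
      (Pi.single ⟨0, hn⟩ 1 : Fin n → F) ∈ S := by
    intro m
    induction m with
    | zero =>
      intro w hw hw0 hm
      have he : w = w ⟨0, hn⟩ • Pi.single ⟨0, hn⟩ 1 := by
        ext i
        by_cases hi : i = ⟨0, hn⟩
        · simp [hi]
        · have : (i : ℕ) ≠ 0 := fun e => hi (Fin.ext e)
          simp [hm i (by omega), hi]
      have h0 : w ⟨0, hn⟩ ≠ 0 := fun e => hw0 (by rw [he, e, zero_smul])
      have := S.smul_mem (w ⟨0, hn⟩)⁻¹ hw
      rw [he] at this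
      simpa [smul_smul, h0] using this
    | succ m ih =>
      intro w hw hw0 hm
      by_cases hz : ∀ h : m + 1 < n, w ⟨m + 1, h⟩ = 0
      · refine ih w hw hw0 fun i hi => ?_
        rcases (show m + 1 ≤ (i : ℕ) from hi).eq_or_lt with he | hl
        · have : i = ⟨m + 1, he ▸ i.2⟩ := Fin.ext he.symm
          rw [this]; exact hz _
        · exact hm i hl
      · push Not at hz
        obtain ⟨hlt, hne⟩ := hz
        refine ih _ (hS w hw) (fun e => hne ?_) fun i hi => ?_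
        · have := congrFun e ⟨m, by omega⟩
          rw [hsh, dif_pos hlt] at this
          simpa using this
        · rw [hsh]
          split_ifs with h
          · exact hm _ (by simp only; omega)
          · rfl
  exact main n v hv hv0 fun i hi => absurd hi (by omega)

theorem ru_specialLinear_le [Fintype F] (hn : 4 ≤ n) (D : RegPolys F n)
    (hu : ∀ k, 1 ≤ k → k < n → D.uEntry k ≠ 0)
    {K : Type*} [Field K] [Algebra F K] {θ : K} (hgen : Subring.closure {θ} = ⊤)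
    {h : F[X]} (hmon : h.Monic) (hirr : Irreducible h) (hdeg : h.natDegree = n - 2)
    (hθ : aeval θ h = 0) {N : ℕ} (hN : θ ^ N = 1) (hN1 : (N : F) + 1 = 0)
    (hf : D.p n = (X - 1) * ((X - 1) * h))
    (z : Fin n → F) (hx : D.psi (RegPolys.lMat n *ᵥ z) = (X - 1) * h)
    (hy : D.evOne ⬝ᵥ (RegPolys.lMat n *ᵥ (RegPolys.lMat n *ᵥ z)) = 0)
    (hz : D.evOne ⬝ᵥ z ≠ 0)
    (hfull : (Fintype.card F).Prime ∨
      ((D.psi (RegPolys.lMat n *ᵥ (RegPolys.lMat n *ᵥ z))).derivative.eval 1 ≠ 0 ∧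
        ∃ w : Fin n → F, (X - 1) ^ 2 ∣ D.psi (RegPolys.lMat n *ᵥ w) ∧ D.evOne ⬝ᵥ w ≠ 0))
    (M : Subgroup (GL (Fin n) F)) {gL gU : GL (Fin n) F}
    (hgL : (gL : Matrix (Fin n) (Fin n) F) = RegPolys.lMat n)
    (hgU : (gU : Matrix (Fin n) (Fin n) F) = D.uMat) (hLM : gL ∈ M) (hUM : gU ∈ M) :
    Cfsg.Geo.specialLinear (Fin n) F ≤ M := by
  have hn0 : 0 < n := by omega
  set π := D.evOne with hπ
  set x := RegPolys.lMat n *ᵥ z with hxdef
  set β := h.eval 1 with hβdef
  have hβ : β ≠ 0 := hirr.not_isRoot_of_natDegree_ne_one (by omega)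
  have hX1 : (X : F[X]) - 1 = X - C 1 := by rw [map_one]
  have hcop : IsCoprime ((X : F[X]) - 1) h := by
    rw [hX1]
    exact ((irreducible_X_sub_C (1 : F)).coprime_iff_not_dvd).2 fun hd =>
      hβ (dvd_iff_isRoot.1 hd)
  have hmin : h = minpoly F θ := minpoly.eq_of_irreducible_of_monic hirr hθ hmon
  have hmX : ((X : F[X]) - 1).Monic := by rw [hX1]; exact monic_X_sub_C _
  have hX0 : ((X : F[X]) - 1) ≠ 0 := hmX.ne_zero
  have hqdeg : ((X - 1) * h).degree < (n : WithBot ℕ) := by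
    have hm : ((X - 1) * h).Monic := hmX.mul hmon
    rw [degree_eq_natDegree hm.ne_zero, hmX.natDegree_mul hmon, hX1,
      natDegree_X_sub_C, hdeg]
    exact_mod_cast (by omega : 1 + (n - 2) < n)
  -- the transvection
  obtain ⟨m, hm⟩ : (X - 1) * h ∣ (X : F[X]) ^ N - 1 := by
    refine hcop.mul_dvd (sub_one_dvd_pow_sub_one _ _) ?_
    rw [hmin]
    exact minpoly.dvd F θ (by simp [hN])
  have hm1 : β * m.eval 1 = (N : F) := by
    have := congrArg (fun g => eval (1 : F) (derivative g)) hm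
    simpa [derivative_mul, derivative_pow, hβdef] using this.symm
  have hmne : m.eval 1 ≠ 0 := fun e => by simp [← hm1, e] at hN1
  set gA := gL * gU with hgA
  have hAM : gA ∈ M := mul_mem hLM hUM
  have hAval : (gA : Matrix (Fin n) (Fin n) F) = D.aMat := by
    rw [hgA, Units.val_mul, hgL, hgU]; rfl
  have hf1 : (D.p n).eval 1 = 0 := by simp [hf]
  have hπA : π ᵥ* D.aMat = π := D.evOne_vecMul_aMat hf1
  have hπx : π ⬝ᵥ x = 0 := by rw [hπ, D.evOne_dot, hx]; simp
  have hAN : D.aMat ^ N = tvMat x ((m.eval 1) • π) := by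
    refine Matrix.ext_iff_mulVec.2 fun v => D.psi_injective ?_
    rw [tvMat_mulVec, map_add, map_smul, hx, smul_dotProduct, hπ, D.evOne_dot, smul_eq_mul]
    refine D.psi_eq_of_dvd hn0 ?_ ?_
    · refine lt_of_le_of_lt (degree_add_le _ _) (max_lt ?_ ?_)
      · exact lt_of_le_of_lt degree_le_natDegree (by exact_mod_cast D.natDegree_psi_lt hn0 v)
      · exact lt_of_le_of_lt (degree_smul_le _ _) hqdeg
    · obtain ⟨c, hc⟩ : X - C (1 : F) ∣ m * D.psi v - C (m.eval 1 * (D.psi v).eval 1) :=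
        dvd_iff_isRoot.2 (by simp [IsRoot.def])
      have h1 := dvd_add (D.dvd_psi_aMat_pow N v) (Dvd.intro c rfl : D.p n ∣ D.p n * c)
      convert h1 using 1
      rw [hf, smul_eq_C_mul, show (X - 1) * ((X - 1) * h) * c = ((X - 1) * h) * ((X - C 1) * c) by
        rw [hX1]; ring, ← hc]
      linear_combination (D.psi v) * hm
  have ht : HasTv M ((m.eval 1) • x) π :=
    (hasTv_smul_iff hmne).2 ⟨by rw [smul_dotProduct, hπx, smul_zero], gA ^ N, pow_mem hAM N, by
      rw [Units.val_pow_eq_pow_val, hAval, hAN]⟩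
  let T : AddSubgroup (Fin n → F) :=
    { carrier := {v | HasTv M v π}
      zero_mem' := hasTv_zero_left π
      add_mem' := fun h1 h2 => h1.add_left h2
      neg_mem' := fun {a} ha => by
        have := (hasTv_smul_iff (M := M) (a := a) (φ := π) (neg_ne_zero.2 (one_ne_zero' F))).2
          (by simpa using ha.neg)
        simpa using this }
  -- the conjugate by `L`
  set φ' := π ᵥ* ((gL⁻¹ : GL (Fin n) F) : Matrix (Fin n) (Fin n) F) with hφ'
  set y := RegPolys.lMat n *ᵥ x with hydef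
  have hφ'L : ∀ v, φ' ⬝ᵥ (RegPolys.lMat n *ᵥ v) = π ⬝ᵥ v := by
    intro v
    rw [hφ', vecMul_inv_dotProduct, ← hgL, inv_mulVec_mulVec]
  have hconj : HasTv M ((m.eval 1) • y) φ' := by
    have := ht.conj hLM
    rwa [hgL, mulVec_smul, ← hydef] at this
  have hπy : π ⬝ᵥ ((m.eval 1) • y) = 0 := by rw [dotProduct_smul, hy, smul_zero]
  have key : ∀ v ∈ T, (φ' ⬝ᵥ v * m.eval 1) • y ∈ T := by
    intro v hv
    have h1 := HasTv.comm hv hconj hπy
    rcases eq_or_ne (φ' ⬝ᵥ v) 0 with h0 | h0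
    · rw [h0, zero_mul, zero_smul]; exact zero_mem T
    · rw [← hasTv_smul_iff h0, smul_smul] at h1
      exact h1
  set τ := φ' ⬝ᵥ ((m.eval 1) • x) * m.eval 1 with hτ
  have hτ0 : τ ≠ 0 := by
    rw [hτ, dotProduct_smul, hxdef, hφ'L, smul_eq_mul]
    exact mul_ne_zero (mul_ne_zero hmne hz) hmne
  have hy1 : τ • y ∈ T := key _ ht
  have hAT : ∀ v ∈ T, D.aMat *ᵥ v ∈ T := by
    intro v hv
    have h1 := HasTv.conj hv hAM
    have h2 : π ᵥ* ((gA⁻¹ : GL (Fin n) F) : Matrix (Fin n) (Fin n) F) = π := by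
      conv_lhs => rw [← hπA, ← hAval, vecMul_vecMul, ← Units.val_mul, mul_inv_cancel, Units.val_one,
        vecMul_one]
    rwa [h2, hAval] at h1
  -- the subspace `W`
  let W : Submodule F (Fin n → F) :=
    { carrier := {v | (X - 1) ^ 2 ∣ D.psi v}
      zero_mem' := by simp
      add_mem' := fun {a b} ha hb => by
        show _ ∣ D.psi (a + b)
        rw [map_add]; exact dvd_add ha hb
      smul_mem' := fun c a ha => by
        show _ ∣ D.psi (c • a)
        rw [map_smul, smul_eq_C_mul]; exact ha.mul_left _ }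
  have hfW : (X - 1) ^ 2 ∣ D.p n := ⟨h, by rw [hf]; ring⟩
  let ev : (Fin n → F) →ₗ[F] K := (aeval θ).toLinearMap ∘ₗ D.psi
  have hfθ : aeval θ (D.p n) = 0 := by simp [hf, hθ]
  have hevA : ∀ v, ev (D.aMat *ᵥ v) = θ * ev v := by
    intro v
    obtain ⟨c, hc⟩ := D.dvd_psi_aMat v
    have := congrArg (aeval θ) hc
    simp only [map_sub, map_mul, aeval_X, hfθ, zero_mul] at this
    exact sub_eq_zero.1 this
  have hevinj : ∀ v ∈ W, ev v = 0 → v = 0 := by
    intro v hv hv0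
    refine D.psi_injective ?_
    rw [map_zero]
    refine D.psi_eq_of_dvd hn0 (by simp) ?_
    rw [sub_zero, hf, ← mul_assoc, ← sq]
    refine (hcop.pow_left (m := 2)).mul_dvd hv ?_
    rw [hmin]
    exact minpoly.dvd F θ hv0
  set y2 := D.aMat *ᵥ (τ • y) - τ • y with hy2
  have hy2T : y2 ∈ T := sub_mem (hAT _ hy1) hy1
  have hy2W : y2 ∈ W := by
    show _ ∣ D.psi y2
    obtain ⟨c, hc⟩ := D.dvd_psi_aMat (τ • y)
    obtain ⟨d, hd⟩ : X - C (1 : F) ∣ D.psi (τ • y) := dvd_iff_isRoot.2 (by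
      rw [IsRoot.def, ← D.evOne_dot, dotProduct_smul, hy, smul_zero])
    rw [hy2, map_sub, eq_add_of_sub_eq hc, add_sub_assoc]
    refine dvd_add (hfW.mul_right c) ⟨d, ?_⟩
    rw [hd, map_one]; ring
  have hy2ne : y2 ≠ 0 := by
    intro e
    rw [hy2, sub_eq_zero] at e
    obtain ⟨c, hc⟩ := D.dvd_psi_aMat (τ • y)
    rw [e, hf, map_smul, smul_eq_C_mul] at hc
    obtain ⟨d, hd⟩ : (X - 1) * h ∣ C τ * D.psi y := by
      refine ⟨-c, ?_⟩
      refine mul_left_cancel₀ hX0 ?_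
      linear_combination -hc
    have hd' : (C τ * D.psi y).degree < (n : WithBot ℕ) := by
      rw [degree_C_mul hτ0]
      exact lt_of_le_of_lt degree_le_natDegree (by exact_mod_cast D.natDegree_psi_lt hn0 y)
    have hdc : d.natDegree = 0 := by
      by_contra hne
      have hm' : ((X - 1) * h).Monic := hmX.mul hmon
      have h0 : d ≠ 0 := fun e => hne (by simp [e])
      have h1 : (C τ * D.psi y).natDegree < n := by
        by_cases hz0 : C τ * D.psi y = 0
        · rw [hz0, natDegree_zero]; exact hn0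
        · exact (natDegree_lt_iff_degree_lt hz0).2 hd'
      rw [hd, hm'.natDegree_mul' h0, hmX.natDegree_mul hmon, hX1,
        natDegree_X_sub_C, hdeg] at h1
      omega
    obtain ⟨a, rfl⟩ := natDegree_eq_zero.1 hdc
    have he : τ • y = a • x := D.psi_injective (by
      rw [map_smul, map_smul, hx, smul_eq_C_mul, smul_eq_C_mul, hd, mul_comm])
    have hL : τ • x = a • z := by
      have := congrArg (fun v => ((gL⁻¹ : GL (Fin n) F) : Matrix (Fin n) (Fin n) F) *ᵥ v) he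
      simpa only [mulVec_smul, hydef, hxdef, ← hgL, inv_mulVec_mulVec] using this
    have h1 := congrArg (fun v => π ⬝ᵥ v) hL
    simp only [dotProduct_smul, hπx, smul_zero, smul_eq_mul, mul_zero] at h1
    have ha : a = 0 := (mul_eq_zero.1 h1.symm).resolve_right hz
    rw [ha, zero_smul] at hL
    have hx0 : x = 0 := (smul_eq_zero.1 hL).resolve_left hτ0
    have h2 := hx
    rw [hx0, map_zero] at h2
    exact mul_ne_zero hX0 hmon.ne_zero h2.symm
  have hWT : ∀ v ∈ W, v ∈ T := by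
    let S : AddSubgroup K := (T ⊓ W.toAddSubgroup).map ev.toAddMonoidHom
    have htop : S = ⊤ := by
      refine ru_addSubgroup_eq_top hgen S ?_ ⟨y2, ⟨hy2T, hy2W⟩, rfl⟩
        (fun e => hy2ne (hevinj y2 hy2W e))
      rintro _ ⟨v, ⟨hvT, hvW⟩, rfl⟩
      refine ⟨D.aMat *ᵥ v, ⟨hAT v hvT, ?_⟩, hevA v⟩
      show _ ∣ D.psi (D.aMat *ᵥ v)
      obtain ⟨c, hc⟩ := D.dvd_psi_aMat v
      rw [eq_add_of_sub_eq hc]
      exact dvd_add (hfW.mul_right c) ((show _ ∣ D.psi v from hvW).mul_left _)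
    intro v hv
    obtain ⟨v', ⟨hv'T, hv'W⟩, he⟩ := (htop ▸ AddSubgroup.mem_top (ev v) : ev v ∈ S)
    have : v - v' = 0 := hevinj _ (sub_mem hv hv'W) (by
      rw [map_sub]; exact sub_eq_zero.2 he.symm)
    rwa [sub_eq_zero.1 this]
  -- a full line outside `W`
  obtain ⟨y₀, hy₀, hy₀', hline⟩ : ∃ y₀ : Fin n → F, π ⬝ᵥ y₀ = 0 ∧
      (D.psi y₀).derivative.eval 1 ≠ 0 ∧ ∀ a : F, a • y₀ ∈ T := by
    rcases hfull with hp | ⟨hD, w, hwW, hw⟩
    · refine ⟨(m.eval 1) • x, ht.1, ?_, fun a => ?_⟩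
      · rw [map_smul, hx]
        simp [derivative_mul, ← hβdef, hβ, hmne]
      · haveI : Fact (Nat.card F).Prime := ⟨by rwa [Nat.card_eq_fintype_card]⟩
        have ha : a ∈ AddSubgroup.zmultiples (1 : F) := by
          rw [zmultiples_eq_top_of_prime_card (p := Nat.card F) rfl one_ne_zero]
          exact AddSubgroup.mem_top a
        obtain ⟨k, rfl⟩ := AddSubgroup.mem_zmultiples_iff.1 ha
        rw [smul_assoc, one_smul]
        exact T.zsmul_mem ht k
    · refine ⟨y, hy, hD, fun a => ?_⟩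
      have hv : (a / (π ⬝ᵥ w * m.eval 1)) • (RegPolys.lMat n *ᵥ w) ∈ W := W.smul_mem _ hwW
      have h1 := key _ (hWT _ hv)
      rw [dotProduct_smul, hφ'L, smul_eq_mul] at h1
      convert h1 using 2
      field_simp
  have hker : ∀ v, π ⬝ᵥ v = 0 → HasTv M v π := by
    intro v hv
    set c := (D.psi v).derivative.eval 1 / (D.psi y₀).derivative.eval 1 with hc
    have hW' : v - c • y₀ ∈ W := by
      show (X - 1) ^ 2 ∣ D.psi (v - c • y₀)
      rw [ru_sq_dvd_iff, map_sub, map_smul]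
      constructor
      · rw [eval_sub, eval_smul, ← D.evOne_dot, ← D.evOne_dot, hv, hy₀]; simp
      · rw [derivative_sub, derivative_smul, eval_sub, eval_smul, hc, smul_eq_mul,
          div_mul_cancel₀ _ hy₀', sub_self]
    have := T.add_mem (hWT _ hW') (hline c)
    rw [sub_add_cancel] at this
    exact this
  have hπ0 : π ≠ 0 := fun e => hz (by rw [e, zero_dotProduct])
  have hsub : ∀ {g : GL (Fin n) F}, g ∈ M → ∀ v ∈ ruFull M,
      v ᵥ* ((g : Matrix (Fin n) (Fin n) F) - 1) ∈ ruFull M := fun hg v hv => by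
    rw [vecMul_sub, vecMul_one]
    exact sub_mem (ruFull_vecMul hv hg) hv
  have htop : ruFull M = ⊤ :=
    ru_eq_top_of_mem hn0 (fun i j h => by rw [D.uMat_sub_one_apply, D.uCol_zero j i h])
      (fun i j h => by rw [D.uMat_sub_one_apply, D.uCol_pred i j h]; exact hu j (by omega) j.2)
      _ (hgU ▸ hsub hUM) (ru_single_zero_mem hn0 _ (hgL ▸ hsub hLM) hker hπ0)
  refine specialLinear_le_of_forall_center fun a φ _ h0 => ?_
  exact (show φ ∈ ruFull M by rw [htop]; trivial) a h0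

end CfsgLib.Geom
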