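import Cfsg.Agent.Lib.Geom.ReflThree
import Cfsg.Agent.Lib.Trans3.Structure

/-!
Reflections of a fixed norm over the field with three elements: connected commuting graph, no non-central normal
2- or 3-subgroup.
-/

set_option autoImplicit false

namespace CfsgLib.Geom.ReflThree

open QuadraticMap (polar)
open Matrix CfsgLib.Geom

attribute [local instance] Classical.propDecidable

local instance factPrimeThreeGraph : Fact (Nat.Prime 3) := ⟨Nat.prime_three⟩

variable {n : ℕ} (Q : QuadraticForm (ZMod 3) (Fin n → ZMod 3))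

theorem IsRefl.parallel {g : Og Q} {v u : Fin n → ZMod 3} (hv : IsRefl Q g v) (hu : IsRefl Q g u) (hu0 : Q u ≠ 0) :
    ∃ s : ZMod 3, u = s • v := by
  have h := (hu.act_eq Q u).symm.trans (hv.act_eq Q u)
  rw [polar_self_two, show (Q u)⁻¹ * (2 * Q u) = 2 by field_simp] at h
  have e : (2 : ZMod 3) • u = ((Q v)⁻¹ * polar Q v u) • v := sub_right_inj.1 h
  refine ⟨2⁻¹ * ((Q v)⁻¹ * polar Q v u), ?_⟩
  rw [mul_smul, ← e, inv_smul_smul₀ two_ne]

theorem not_commute {g h : Og Q} {v u : Fin n → ZMod 3} (hg : IsRefl Q g v) (hh : IsRefl Q h u) (hv : Q v ≠ 0)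
    (hvu : Q u = Q v) (hp : polar Q v u ≠ 0) (hne : g ≠ h) : ¬ Commute g h := by
  intro hc
  have hb := (comm_or_braid Q hg hh hv hvu).2 hp
  refine hne ?_
  calc g = g * (h * h) := by rw [(hh.sq_ne Q (by rw [hvu]; exact hv)).1, mul_one]
    _ = h * g * h := by rw [← mul_assoc, hc.eq]
    _ = g * h * g := hb.symm
    _ = g * g * h := by rw [mul_assoc, mul_assoc, hc.eq]
    _ = h := by rw [(hg.sq_ne Q hv).1, one_mul]

theorem exists_value_perp_three (hn : 5 ≤ n) (hQ : (QuadraticMap.polarBilin Q).Nondegenerate)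
    (v w y : Fin n → ZMod 3) (hv : Q v ≠ 0) (hw : Q w ≠ 0) (hy : Q y ≠ 0) (hvw : polar Q v w = 0)
    (hvy : polar Q v y = 0) (hwy : polar Q w y = 0) {a : ZMod 3} (ha : a ≠ 0) :
    ∃ z, Q z = a ∧ polar Q v z = 0 ∧ polar Q w z = 0 ∧ polar Q y z = 0 := by
  let S := Submodule.span (ZMod 3) ({v, w, y} : Set (Fin n → ZMod 3))
  have hvS : v ∈ S := Submodule.subset_span (by simp)
  have hwS : w ∈ S := Submodule.subset_span (by simp)
  have hyS : y ∈ S := Submodule.subset_span (by simp)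
  have hS : Module.finrank (ZMod 3) S ≤ 3 := by
    have h := finrank_span_finset_le_card (R := ZMod 3) ({v, w, y} : Finset (Fin n → ZMod 3))
    rw [Finset.coe_insert, Finset.coe_insert, Finset.coe_singleton] at h
    exact h.trans Finset.card_le_three
  have hR : LinearMap.BilinForm.orthogonal (QuadraticMap.polarBilin Q) S ⊓ S = ⊥ := by
    rw [Submodule.eq_bot_iff]
    rintro x ⟨hxU, hxS⟩
    obtain ⟨p, q, r, rfl⟩ := Submodule.mem_span_triple.1 hxS
    have h1 : polar Q v (p • v + q • w + r • y) = 0 := hxU v hvS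
    have h2 : polar Q w (p • v + q • w + r • y) = 0 := hxU w hwS
    have h3 : polar Q y (p • v + q • w + r • y) = 0 := hxU y hyS
    simp only [QuadraticMap.polar_add_right, QuadraticMap.polar_smul_right, smul_eq_mul, polar_self_two, hvw, hvy,
      hwy, QuadraticMap.polar_comm (⇑Q) w v, QuadraticMap.polar_comm (⇑Q) y v, QuadraticMap.polar_comm (⇑Q) y w,
      mul_zero, add_zero, zero_add, mul_eq_zero, two_ne, hv, hw, hy, or_false] at h1 h2 h3
    simp [h1, h2, h3]
  obtain ⟨z, hz, hzS⟩ := exists_value_orth Q hQ S (by rw [hR, finrank_bot]; omega) ha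
  exact ⟨z, hz, hzS v hvS, hzS w hwS, hzS y hyS⟩

variable {Q} {c : ZMod 3}

/-- the reflection of norm `c`, as an element of the group they generate -/
theorem exists_mem_class (u : Fin n → ZMod 3) (hu : Q u = c) (hc : c ≠ 0) :
    ∃ e : ↥(Cfsg.reflectionSubgroup (⇑Q) c),
      (e : Og Q) ∈ Cfsg.reflectionsOfNorm (⇑Q) c ∧ IsRefl Q e.1 u := by
  obtain ⟨g, hg⟩ := exists_refl Q (v := u) (by rw [hu]; exact hc)
  exact ⟨⟨g, Subgroup.subset_closure ⟨u, hu, hg⟩⟩, ⟨u, hu, hg⟩, hg⟩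

theorem commute_of_orth {d e : ↥(Cfsg.reflectionSubgroup (⇑Q) c)} {v w : Fin n → ZMod 3} (hd : IsRefl Q d.1 v)
    (he : IsRefl Q e.1 w) (hv : Q v = c) (hw : Q w = c) (hc : c ≠ 0) (hp : polar Q v w = 0) : Commute d e :=
  Subtype.ext ((comm_or_braid Q hd he (by rw [hv]; exact hc) (by rw [hw, hv])).1 hp)

theorem not_commute_of_polar {d e : ↥(Cfsg.reflectionSubgroup (⇑Q) c)} {v w : Fin n → ZMod 3} (hd : IsRefl Q d.1 v)
    (he : IsRefl Q e.1 w) (hv : Q v = c) (hw : Q w = c) (hc : c ≠ 0) (hp : polar Q v w ≠ 0) (hne : d ≠ e) :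
    ¬ Commute d e := fun h =>
  not_commute Q hd he (by rw [hv]; exact hc) (by rw [hw, hv]) hp (fun e => hne (Subtype.ext e))
    (congrArg Subtype.val h.eq)

theorem ne_of_orth {d e : ↥(Cfsg.reflectionSubgroup (⇑Q) c)} {v w : Fin n → ZMod 3} (hd : IsRefl Q d.1 v)
    (he : IsRefl Q e.1 w) (hw : Q w ≠ 0) (hp : polar Q v w = 0) : d ≠ e := by
  rintro rfl
  obtain ⟨s, rfl⟩ := hd.parallel Q he hw
  rw [QuadraticMap.map_smul, smul_eq_mul] at hw
  rw [QuadraticMap.polar_smul_right, smul_eq_mul, polar_self_two] at hp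
  rcases mul_eq_zero.1 hp with h | h
  · simp [h] at hw
  · rcases mul_eq_zero.1 h with h | h
    · exact two_ne h
    · simp [h] at hw

variable (hn : 5 ≤ n) (hQ : (QuadraticMap.polarBilin Q).Nondegenerate) (hc : c ≠ 0)
include hn hQ hc

theorem exists_pair : ∃ a ∈ {g : ↥(Cfsg.reflectionSubgroup (⇑Q) c) | (g : Og Q) ∈ Cfsg.reflectionsOfNorm (⇑Q) c},
    ∃ b ∈ {g : ↥(Cfsg.reflectionSubgroup (⇑Q) c) | (g : Og Q) ∈ Cfsg.reflectionsOfNorm (⇑Q) c},
      a ≠ b ∧ Commute a b := by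
  have hsep := sep_of_nondegenerate Q hQ
  obtain ⟨v, hv⟩ := exists_value Q two_ne hsep (by rw [Module.finrank_fin_fun]; omega) c hc
  obtain ⟨y, hy, hvy, -⟩ := exists_value_perp Q hn hQ v v (by rw [hv]; exact hc) hc
  obtain ⟨a, haD, ha⟩ := exists_mem_class v hv hc
  obtain ⟨b, hbD, hb⟩ := exists_mem_class y hy hc
  exact ⟨a, haD, b, hbD, ne_of_orth ha hb (by rw [hy]; exact hc) hvy, commute_of_orth ha hb hv hy hc hvy⟩

theorem graph_connected : (Cfsg.commutingGraph
    {g : ↥(Cfsg.reflectionSubgroup (⇑Q) c) | (g : Og Q) ∈ Cfsg.reflectionsOfNorm (⇑Q) c}).Connected := by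
  obtain ⟨a, ha, -⟩ := exists_pair hn hQ hc
  refine (SimpleGraph.connected_iff _).2 ⟨?_, ⟨⟨a, ha⟩⟩⟩
  rintro ⟨d, v, hv, hd⟩ ⟨e, w, hw, he⟩
  obtain ⟨z, hz, hvz, hwz⟩ := exists_value_perp Q hn hQ v w (by rw [hv]; exact hc) hc
  obtain ⟨f, hfD, hf⟩ := exists_mem_class z hz hc
  refine SimpleGraph.Reachable.trans (v := ⟨f, hfD⟩) ?_ ?_
  · refine SimpleGraph.Adj.reachable ⟨fun e => ne_of_orth hd hf (by rw [hz]; exact hc) hvz (congrArg Subtype.val e),
      Or.inl (commute_of_orth hd hf hv hz hc hvz)⟩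
  · refine (SimpleGraph.Adj.reachable (u := (⟨e, w, hw, he⟩ :
      {g : ↥(Cfsg.reflectionSubgroup (⇑Q) c) | (g : Og Q) ∈ Cfsg.reflectionsOfNorm (⇑Q) c})) ?_).symm
    exact ⟨fun h => ne_of_orth he hf (by rw [hz]; exact hc) hwz (congrArg Subtype.val h),
      Or.inl (commute_of_orth he hf hw hz hc hwz)⟩

theorem pCore_two_le
    (hD : Cfsg.IsThreeTranspositionClass
      {g : ↥(Cfsg.reflectionSubgroup (⇑Q) c) | (g : Og Q) ∈ Cfsg.reflectionsOfNorm (⇑Q) c}) :
    Cfsg.pCore 2 ↥(Cfsg.reflectionSubgroup (⇑Q) c) ≤ Subgroup.center _ := by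
  by_contra h
  obtain ⟨a, ha, -⟩ := exists_pair hn hQ hc
  obtain ⟨b, hab, hne⟩ := CfsgLib.Trans3.exists_vRel_ne hD h ha
  obtain ⟨v, hv, hd⟩ := ha
  obtain ⟨w, hw, he⟩ := hab.2.1
  have hc0 : (2 : ZMod 3) * c ≠ 0 := mul_ne_zero two_ne hc
  by_cases hp : polar Q v w = 0
  · obtain ⟨y, hy, hvy, hwy⟩ := exists_value_perp Q hn hQ v w (by rw [hv]; exact hc) hc
    obtain ⟨x, hx, hvx, hwx, hyx⟩ := exists_value_perp_three Q hn hQ v w y (by rw [hv]; exact hc)
      (by rw [hw]; exact hc) (by rw [hy]; exact hc) hp hvy hwy (neg_ne_zero.2 hc)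
    have hu : Q (v + y + x) = c := by
      rw [QuadraticMap.map_add (⇑Q), QuadraticMap.map_add (⇑Q), QuadraticMap.polar_add_left, hv, hy, hx, hvy, hvx,
        hyx]
      ring
    have hyu : polar Q y (v + y + x) ≠ 0 := by
      rw [QuadraticMap.polar_add_right, QuadraticMap.polar_add_right, QuadraticMap.polar_comm (⇑Q) y v, hvy, hyx,
        polar_self_two, hy, zero_add, add_zero]
      exact hc0
    obtain ⟨e, heD, hee⟩ := exists_mem_class _ hu hc
    have h1 : Commute b e := commute_of_orth he hee hw hu hc (by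
      rw [QuadraticMap.polar_add_right, QuadraticMap.polar_add_right, QuadraticMap.polar_comm (⇑Q) w v, hp, hwy, hwx,
        add_zero, add_zero])
    refine not_commute_of_polar hd hee hv hu hc ?_ ?_ ((hab.2.2 e heD).1 h1)
    · rw [QuadraticMap.polar_add_right, QuadraticMap.polar_add_right, hvy, hvx, polar_self_two, hv, add_zero,
        add_zero]
      exact hc0
    · rintro rfl
      obtain ⟨s, hs⟩ := IsRefl.parallel Q hd hee (by rw [hu]; exact hc)
      rw [hs, QuadraticMap.polar_smul_right, QuadraticMap.polar_comm (⇑Q) y v, hvy, smul_zero] at hyu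
      exact hyu rfl
  · exact not_commute_of_polar hd he hv hw hc hp hne.symm
      ((hab.2.2 a ⟨v, hv, hd⟩).2 (Commute.refl a)).symm

theorem pCore_three_le
    (hD : Cfsg.IsThreeTranspositionClass
      {g : ↥(Cfsg.reflectionSubgroup (⇑Q) c) | (g : Og Q) ∈ Cfsg.reflectionsOfNorm (⇑Q) c}) :
    Cfsg.pCore 3 ↥(Cfsg.reflectionSubgroup (⇑Q) c) ≤ Subgroup.center _ := by
  by_contra h
  obtain ⟨a, ha, -⟩ := exists_pair hn hQ hc
  obtain ⟨b, hab, hne⟩ := CfsgLib.Trans3.exists_wRel_ne hD h ha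
  obtain ⟨v, hv, hd⟩ := ha
  obtain ⟨w, hw, he⟩ := hab.2.1
  have hv0 : Q v ≠ 0 := by rw [hv]; exact hc
  have hnc := CfsgLib.Trans3.WRel.not_commute hab hne
  have hp : polar Q v w ≠ 0 := fun hp => hnc (commute_of_orth hd he hv hw hc hp)
  set t : ZMod 3 := (2 * c)⁻¹ * polar Q v w with ht
  have h2c : (2 * c) * t = polar Q v w := by rw [ht, mul_inv_cancel_left₀ (mul_ne_zero two_ne hc)]
  set z := w - t • v with hz
  have hvz : polar Q v z = 0 := by
    rw [hz, QuadraticMap.polar_sub_right, QuadraticMap.polar_smul_right, polar_self_two, hv, smul_eq_mul, ← h2c]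
    ring
  have hz0 : z ≠ 0 := by
    intro e0
    have hwv : w = t • v := sub_eq_zero.1 e0
    refine hne (Subtype.ext (og_ext Q fun x => ?_))
    have ht0 : t ≠ 0 := by
      intro e1
      rw [e1, zero_smul] at hwv
      rw [hwv, QuadraticMap.map_zero] at hw
      exact hc hw.symm
    rw [IsRefl.act_eq Q hd, IsRefl.act_eq Q he, hwv, QuadraticMap.map_smul, QuadraticMap.polar_smul_left, smul_eq_mul, smul_eq_mul,
      smul_smul]
    congr 2
    field_simp
  have hQz : Q z = 0 := by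
    have key : ∀ c p t : ZMod 3, c ≠ 0 → p ≠ 0 → (2 * c) * t = p → c + t * t * c + -(t * p) = 0 := by decide
    rw [hz, sub_eq_add_neg, QuadraticMap.map_add (⇑Q), QuadraticMap.map_neg, QuadraticMap.map_smul,
      QuadraticMap.polar_neg_right, QuadraticMap.polar_smul_right, QuadraticMap.polar_comm (⇑Q) w v, hv, hw,
      smul_eq_mul, smul_eq_mul]
    exact key c (polar Q v w) t hc hp h2c
  obtain ⟨r, hr⟩ : ∃ r, polar Q z r ≠ 0 := by
    by_contra hh
    exact hz0 (sep_of_nondegenerate Q hQ z fun y => not_not.1 fun hy => hh ⟨y, hy⟩)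
  set r1 := r - ((2 * c)⁻¹ * polar Q v r) • v with hr1
  have hvr : polar Q v r1 = 0 := by
    rw [hr1, QuadraticMap.polar_sub_right, QuadraticMap.polar_smul_right, polar_self_two, hv, smul_eq_mul,
      mul_comm, mul_inv_cancel_left₀ (mul_ne_zero two_ne hc), sub_self]
  have hzr : polar Q z r1 ≠ 0 := by
    rw [hr1, QuadraticMap.polar_sub_right, QuadraticMap.polar_smul_right, QuadraticMap.polar_comm (⇑Q) z v, hvz,
      smul_zero, sub_zero]
    exact hr
  set u := r1 + ((c - Q r1) * (polar Q z r1)⁻¹) • z with hu'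
  have hvu : polar Q v u = 0 := by
    rw [hu', QuadraticMap.polar_add_right, QuadraticMap.polar_smul_right, hvr, hvz, smul_zero, add_zero]
  have hu : Q u = c := by
    rw [hu', QuadraticMap.map_add (⇑Q), QuadraticMap.map_smul, QuadraticMap.polar_smul_right, hQz,
      QuadraticMap.polar_comm (⇑Q) r1 z, smul_zero, smul_eq_mul, inv_mul_cancel_right₀ hzr]
    ring
  have hzu : polar Q z u ≠ 0 := by
    rw [hu', QuadraticMap.polar_add_right, QuadraticMap.polar_smul_right, polar_self_two, hQz, mul_zero, smul_zero,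
      add_zero]
    exact hzr
  have hwu : polar Q w u ≠ 0 := by
    have e1 : w = z + t • v := by rw [hz]; abel
    rw [e1, QuadraticMap.polar_add_left, QuadraticMap.polar_smul_left, hvu, smul_zero, add_zero]
    exact hzu
  obtain ⟨e, heD, hee⟩ := exists_mem_class u hu hc
  have hea : e ≠ a := (ne_of_orth hd hee (by rw [hu]; exact hc) hvu).symm
  obtain ⟨heb, hbe⟩ := hab.commute_of_commute heD hea (commute_of_orth hd hee hv hu hc hvu)
  exact not_commute_of_polar he hee hw hu hc hwu heb.symm hbe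

end CfsgLib.Geom.ReflThree
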