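import Mathlib
import Cfsg.Agent.Lib.Classical.OrthSimple
import Cfsg.Agent.Lib.Geom.Perp

set_option autoImplicit false

/-!
Subgroups containing all Siegel transformations at two non-perpendicular singular points, and the stabilisers of
totally singular subspaces.
-/

namespace CfsgLib.Geom.OrthSub

open CfsgLib.Classical
open QuadraticMap (polar)

variable {F V : Type*} [Field F] [AddCommGroup V] [Module F V]
variable {Q : QuadraticForm F V}

/-- All Siegel transformations with centre `u` lie in `M`. -/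
def Full (M : Subgroup (quadIsoms Q)) (u : V) : Prop := ∀ w, polar Q u w = 0 → siegel Q u w ∈ M

theorem polar_map (g : quadIsoms Q) (x y : V) : polar Q (g.1 x) (g.1 y) = polar Q x y :=
  polar_quadIsom g.2 x y

theorem apply_inv (g : quadIsoms Q) (x : V) : g.1 ((g⁻¹).1 x) = x := by
  have : g * g⁻¹ = 1 := mul_inv_cancel g
  exact congrArg (fun k : quadIsoms Q => k.1 x) this

theorem Full.conj {M : Subgroup (quadIsoms Q)} {u : V} (hu : Full M u) {g : quadIsoms Q} (hg : g ∈ M) :
    Full M (g.1 u) := by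
  intro w hw
  obtain ⟨z, rfl⟩ : ∃ z, g.1 z = w := ⟨_, apply_inv g w⟩
  rw [polar_map] at hw
  rw [← siegel_conj]
  exact mul_mem (mul_mem hg (hu z hw)) (inv_mem hg)

theorem Full.smul {M : Subgroup (quadIsoms Q)} {u : V} (hu : Full M u) (hs : Q u = 0) (a : F) :
    Full M (a • u) := by
  intro w hw
  rcases eq_or_ne a 0 with rfl | ha
  · rw [zero_smul]
    by_cases hc : Q (0 : V) = 0 ∧ polar Q 0 w = 0
    · have : siegel Q 0 w = 1 := quadIsoms_ext Q fun z => by
        rw [siegel_apply Q hc.1 hc.2]; simp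
      rw [this]; exact one_mem M
    · rw [siegel_of_not Q hc]; exact one_mem M
  · rw [QuadraticMap.polar_smul_left, smul_eq_mul, mul_eq_zero] at hw
    have hw' := hw.resolve_left ha
    rw [siegel_smul Q hs hw']
    exact hu _ (by rw [QuadraticMap.polar_smul_right, hw', smul_zero])

theorem Full.opposite {M : Subgroup (quadIsoms Q)} {u v w : V} (hu : Full M u) (hv : Full M v)
    (hQu : Q u = 0) (hQv : Q v = 0) (hQw : Q w = 0) (huv : polar Q u v ≠ 0) (huw : polar Q u w ≠ 0) :
    Full M w := by
  set v' := (polar Q u v)⁻¹ • v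
  set w' := (polar Q u w)⁻¹ • w
  have h1 : polar Q u v' = 1 := by rw [QuadraticMap.polar_smul_right, smul_eq_mul, inv_mul_cancel₀ huv]
  have h2 : polar Q u w' = 1 := by rw [QuadraticMap.polar_smul_right, smul_eq_mul, inv_mul_cancel₀ huw]
  have hq : Q v' = Q w' := by rw [quad_smul, quad_smul, hQv, hQw, mul_zero, mul_zero]
  have hp : polar Q u (w' - v') = 0 := by rw [QuadraticMap.polar_sub_right, h1, h2, sub_self]
  have hfull := (hv.smul hQv (polar Q u v)⁻¹).conj (hu _ hp)
  rw [siegel_move Q hQu h1 h2 hq] at hfull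
  have := hfull.smul (by rw [quad_smul, hQw, mul_zero]) (polar Q u w)
  rwa [smul_smul, mul_inv_cancel₀ huw, one_smul] at this

variable [Finite F] [FiniteDimensional F V] (hQ : ∀ x, (∀ y, polar Q x y = 0) → x = 0)
  (h5 : 5 ≤ Module.finrank F V)

include hQ h5

theorem siegel_mem_commutator (x w : V) : siegel Q x w ∈ commutator (quadIsoms Q) := by
  rw [commutator_eq_siegelGroup Q hQ h5]; exact siegel_mem Q x w

theorem commutator_le_of_pair {M : Subgroup (quadIsoms Q)} {u v : V} (hu : Full M u) (hv : Full M v)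
    (hQu : Q u = 0) (hQv : Q v = 0) (huv : polar Q u v ≠ 0) : commutator (quadIsoms Q) ≤ M := by
  rw [commutator_eq_siegelGroup Q hQ h5]
  refine (Subgroup.closure_le _).2 ?_
  rintro _ ⟨⟨x, w⟩, rfl⟩
  by_cases hc : Q x = 0 ∧ polar Q x w = 0
  swap
  · show siegel Q x w ∈ M; rw [siegel_of_not Q hc]; exact one_mem M
  refine (?_ : Full M x) w hc.2
  by_cases hux : polar Q u x ≠ 0
  · exact hu.opposite hv hQu hQv hc.1 huv hux
  push Not at hux
  have hu0 : u ≠ 0 := fun h => huv (by rw [h, QuadraticMap.polar_zero_left])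
  by_cases hi : LinearIndependent F ![u, x]
  · obtain ⟨z, hz, huz, hxz⟩ := exists_singular_dual Q hQ hi hQu hux 1
    have hzf : Full M z := hu.opposite hv hQu hQv hz huv (by rw [huz]; exact one_ne_zero)
    exact hzf.opposite hu hz hQu hc.1 (by rw [QuadraticMap.polar_comm, huz]; exact one_ne_zero)
      (by rw [QuadraticMap.polar_comm, hxz]; exact one_ne_zero)
  · rw [LinearIndependent.pair_iff' hu0] at hi
    push Not at hi
    obtain ⟨a, rfl⟩ := hi
    exact hu.smul hQu a

omit [Finite F] h5 in
theorem totallySingular_finrank {R : Submodule F V} (hR : ∀ x ∈ R, Q x = 0) :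
    2 * Module.finrank F R ≤ Module.finrank F V := by
  let B : LinearMap.BilinForm F V := Q.polarBilin
  have hB : LinearMap.BilinForm.Nondegenerate B :=
    ⟨fun x hx => hQ x hx, fun y hy => hQ y fun x => by rw [QuadraticMap.polar_comm]; exact hy x⟩
  have hle : R ≤ B.orthogonal R := by
    intro y hy
    rw [LinearMap.BilinForm.mem_orthogonal_iff]
    intro x hx
    show polar Q x y = 0
    rw [QuadraticMap.polar, hR _ (add_mem hx hy), hR x hx, hR y hy]; simp
  have h1 := LinearMap.BilinForm.finrank_orthogonal hB R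
  have h2 := Submodule.finrank_mono hle
  have h3 := R.finrank_le
  omega

theorem parabolic_maximal {W : Submodule F V} (hW : ∀ x ∈ W, Q x = 0)
    (hyp : 2 * Module.finrank F W + 3 ≤ Module.finrank F V ∨
      ∀ t, Q t = 0 → (∀ x ∈ W, polar Q x t = 0) → t ∈ W)
    {M : Subgroup (quadIsoms Q)}
    (hH : ∀ g ∈ commutator (quadIsoms Q), (∀ x ∈ W, g.1 x ∈ W) → g ∈ M) :
    (∀ g ∈ M, ∀ x ∈ W, g.1 x ∈ W) ∨ commutator (quadIsoms Q) ≤ M := by
  classical
  have hperp : ∀ x ∈ W, ∀ y ∈ W, polar Q x y = 0 := fun x hx y hy => by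
    rw [QuadraticMap.polar, hW _ (add_mem hx hy), hW x hx, hW y hy]; simp
  have hfull : ∀ x ∈ W, Full M x := by
    intro x hx w hxw
    refine hH _ (siegel_mem_commutator hQ h5 x w) fun z hz => ?_
    rw [siegel_apply Q (hW x hx) hxw, hperp x hx z hz, zero_smul, add_zero]
    exact sub_mem hz (W.smul_mem _ hx)
  by_cases hstab : ∀ g ∈ M, ∀ x ∈ W, g.1 x ∈ W
  · exact Or.inl hstab
  push Not at hstab
  obtain ⟨g, hg, x, hx, hgx⟩ := hstab
  refine Or.inr ?_
  set t := g.1 x
  have htf : Full M t := (hfull x hx).conj hg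
  have hQt : Q t = 0 := by rw [g.2]; exact hW x hx
  by_cases hnp : ∃ v ∈ W, polar Q v t ≠ 0
  · obtain ⟨v, hv, hvt⟩ := hnp
    exact commutator_le_of_pair hQ h5 (hfull v hv) htf (hW v hv) hQt hvt
  push Not at hnp
  have hdim : 2 * Module.finrank F W + 3 ≤ Module.finrank F V :=
    hyp.resolve_right fun h => hgx (h t hQt hnp)
  -- a singular `y ⊥ W` not perpendicular to `t`
  obtain ⟨y0, hy0, hty0⟩ := exists_perp_pair Q.polarBilin hQ W hgx
  change polar Q t y0 = 1 at hty0
  set y := y0 + (-Q y0) • t with hy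
  have hQy : Q y = 0 := by
    rw [hy, quad_map_add_smul, hQt, QuadraticMap.polar_comm _ y0 t, hty0]; ring
  have hyW : ∀ v ∈ W, polar Q v y = 0 := fun v hv => by
    rw [hy, QuadraticMap.polar_add_right, QuadraticMap.polar_smul_right, hnp v hv, smul_zero, add_zero]
    exact hy0 v hv
  have hty : polar Q t y = 1 := by
    rw [hy, QuadraticMap.polar_add_right, QuadraticMap.polar_smul_right, polar_self_of_singular Q hQt,
      smul_zero, add_zero, hty0]
  -- an anisotropic vector perpendicular to `W`, `t` and `y`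
  let B : LinearMap.BilinForm F V := Q.polarBilin
  have hB : LinearMap.BilinForm.Nondegenerate B :=
    ⟨fun x hx => hQ x hx, fun y hy => hQ y fun x => by rw [QuadraticMap.polar_comm]; exact hy x⟩
  set D := W ⊔ Submodule.span F {t, y} with hD
  set R := B.orthogonal D
  have hDdim : Module.finrank F D ≤ Module.finrank F W + 2 := by
    refine (Submodule.finrank_add_le_finrank_add_finrank _ _).trans (Nat.add_le_add_left ?_ _)
    have h := finrank_span_finset_le_card ({t, y} : Finset V) (R := F)
    rw [Finset.coe_pair] at h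
    exact h.trans Finset.card_le_two
  have hRdim : Module.finrank F V ≤ Module.finrank F R + (Module.finrank F W + 2) := by
    have : Module.finrank F R = Module.finrank F V - Module.finrank F D :=
      LinearMap.BilinForm.finrank_orthogonal hB D
    have := D.finrank_le
    omega
  have hmemR : ∀ {w : V}, w ∈ R → (∀ v ∈ W, polar Q v w = 0) ∧ polar Q t w = 0 ∧ polar Q y w = 0 := by
    intro w hw
    rw [LinearMap.BilinForm.mem_orthogonal_iff] at hw
    exact ⟨fun v hv => hw v (le_sup_left (a := W) hv),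
      hw t (le_sup_right (a := W) (Submodule.subset_span (Or.inl rfl))),
      hw y (le_sup_right (a := W) (Submodule.subset_span (Or.inr rfl)))⟩
  obtain ⟨w, hwR, hQw⟩ : ∃ w ∈ R, Q w ≠ 0 := by
    by_contra hall
    push Not at hall
    have htR : t ∉ R := fun h => by
      have := (hmemR h).2.2
      rw [QuadraticMap.polar_comm, hty] at this
      exact one_ne_zero this
    have hsing : ∀ z ∈ R ⊔ F ∙ t, Q z = 0 := by
      intro z hz
      obtain ⟨a, ha, b, hb, rfl⟩ := Submodule.mem_sup.1 hz
      obtain ⟨c, rfl⟩ := Submodule.mem_span_singleton.1 hb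
      rw [quad_map_add_smul, hall a ha, hQt, QuadraticMap.polar_comm, (hmemR ha).2.1]
      ring
    have hlt : R < R ⊔ F ∙ t := lt_of_le_of_ne le_sup_left fun e => htR (by
      rw [e]; exact le_sup_right (a := R) (Submodule.mem_span_singleton_self t))
    have := Submodule.finrank_lt_finrank_of_lt hlt
    have := totallySingular_finrank hQ hsing
    omega
  obtain ⟨hwW, htw, hyw⟩ := hmemR hwR
  have hEH : siegel Q y w ∈ M := by
    refine hH _ (siegel_mem_commutator hQ h5 y w) fun v hv => ?_
    rw [siegel_apply Q hQy hyw, QuadraticMap.polar_comm _ y v, hyW v hv, QuadraticMap.polar_comm _ w v, hwW v hv]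
    simpa using hv
  have hEt : polar Q t ((siegel Q y w).1 t) ≠ 0 := by
    rw [siegel_apply Q hQy hyw, QuadraticMap.polar_sub_right, QuadraticMap.polar_add_right,
      QuadraticMap.polar_smul_right, QuadraticMap.polar_smul_right, polar_self_of_singular Q hQt, htw,
      QuadraticMap.polar_comm _ w t, htw, QuadraticMap.polar_comm _ y t, hty]
    simpa using hQw
  exact commutator_le_of_pair hQ h5 htf (htf.conj hEH) hQt (by rw [(siegel Q y w).2]; exact hQt) hEt

theorem parabolic_moved {W : Submodule F V} (hW : ∀ x ∈ W, Q x = 0) (hW0 : W ≠ ⊥) :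
    ∃ g ∈ commutator (quadIsoms Q), ∃ x ∈ W, g.1 x ∉ W := by
  obtain ⟨u, hu, hu0⟩ := Submodule.exists_mem_ne_zero_of_ne_bot hW0
  obtain ⟨z0, hz0⟩ := exists_partner Q hQ hu0
  set z := z0 + (-Q z0) • u with hz
  have hQz : Q z = 0 := by
    rw [hz, quad_map_add_smul, hW u hu, QuadraticMap.polar_comm _ z0 u, hz0]; ring
  have huz : polar Q u z = 1 := by
    rw [hz, QuadraticMap.polar_add_right, QuadraticMap.polar_smul_right, polar_self_of_singular Q (hW u hu),
      smul_zero, add_zero, hz0]
  obtain ⟨w, huw, hzw, hQw⟩ := exists_perp_anisotropic Q hQ h5 u z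
  refine ⟨_, siegel_mem_commutator hQ h5 z w, u, hu, fun hmem => ?_⟩
  have h0 : polar Q u ((siegel Q z w).1 u) = 0 := by
    rw [QuadraticMap.polar, hW _ (add_mem hu hmem), hW u hu, hW _ hmem]; simp
  rw [siegel_apply Q hQz hzw, QuadraticMap.polar_sub_right, QuadraticMap.polar_add_right,
    QuadraticMap.polar_smul_right, QuadraticMap.polar_smul_right, polar_self_of_singular Q (hW u hu), huw,
    QuadraticMap.polar_comm _ w u, huw, QuadraticMap.polar_comm _ z u, huz] at h0
  simp at h0
  exact hQw h0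

end CfsgLib.Geom.OrthSub

namespace CfsgLib.Geom.OrthSub

open QuadraticMap (polar)

variable {F V : Type*} [Field F] [AddCommGroup V] [Module F V] [FiniteDimensional F V]
variable {Q : QuadraticForm F V}

/-- Adjoining a perpendicular singular vector gives a totally singular subspace. -/
theorem totallySingular_sup {W : Submodule F V} (hW : ∀ x ∈ W, Q x = 0) {t : V} (ht : Q t = 0)
    (hp : ∀ x ∈ W, polar Q x t = 0) (htW : t ∉ W) :
    ∃ U : Submodule F V, (∀ x ∈ U, Q x = 0) ∧ Module.finrank F U = Module.finrank F W + 1 := by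
  refine ⟨W ⊔ F ∙ t, fun z hz => ?_, ?_⟩
  · obtain ⟨a, ha, b, hb, rfl⟩ := Submodule.mem_sup.1 hz
    obtain ⟨c, rfl⟩ := Submodule.mem_span_singleton.1 hb
    rw [CfsgLib.Geom.quad_map_add_smul, hW a ha, ht, hp a ha]
    ring
  · have ht0 : t ≠ 0 := fun h => htW (h ▸ W.zero_mem)
    have h := Submodule.finrank_sup_add_finrank_inf_eq W (F ∙ t)
    have hinf : W ⊓ (F ∙ t) = ⊥ := by
      refine (Submodule.eq_bot_iff _).2 fun z hz => ?_
      obtain ⟨c, rfl⟩ := Submodule.mem_span_singleton.1 hz.2
      rcases eq_or_ne c 0 with rfl | hc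
      · exact zero_smul F t
      · exact absurd ((W.smul_mem_iff hc).1 hz.1) htW
    rw [hinf, finrank_bot, finrank_span_singleton ht0] at h
    omega

end CfsgLib.Geom.OrthSub
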