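import Mathlib
import Cfsg.Agent.Lib.Geom.IsoStab
import Cfsg.Agent.Lib.Geom.SympSpace
import Cfsg.Agent.Lib.Geom.Symp
import Cfsg.Agent.Lib.Classical.AltOrder

set_option autoImplicit false

/-!
Order of the stabiliser of a totally isotropic subspace in a finite symplectic group.
-/

namespace CfsgLib.Geom

open CfsgLib.Classical (card_formIsoms_alt restrictSesq)

variable {F V : Type*} [Field F] [AddCommGroup V] [Module F V]

theorem hasWittExt_alt [FiniteDimensional F V] (B : V →ₗ[F] V →ₗ[F] F) (hA : ∀ v, B v v = 0)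
    (hB : ∀ x, (∀ y, B x y = 0) → x = 0) : HasWittExt (σ := RingHom.id F) B := by
  intro X φ hi hφ
  obtain ⟨g, -, hg, hgX⟩ := witt_alternating B hA hB X φ hi hφ
  exact ⟨g, hg, hgX⟩

theorem card_dualTuple_alt [Fintype F] [FiniteDimensional F V] (B : V →ₗ[F] V →ₗ[F] F)
    (hA : ∀ v, B v v = 0) (hB : ∀ x, (∀ y, B x y = 0) → x = 0) {k : ℕ} {e : Fin k → V}
    (he : LinearIndependent F e) (hee : ∀ i i', B (e i) (e i') = 0) :
    ∀ j ≤ k, Nat.card {f : Fin j → V // IsDualTuple (σ := RingHom.id F) B e f} =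
      Fintype.card F ^ (∑ i ∈ Finset.range j, (Module.finrank F V - k - i)) := by
  classical
  have : Finite V := Module.finite_of_finite F
  have hS : ∀ x y, B x y = 0 → B y x = 0 := fun x y h => by rw [alt_swap B hA x y, h, neg_zero]
  intro j
  induction j with
  | zero =>
    intro _
    rw [Nat.card_eq_one_iff_unique.2 ⟨⟨fun a b => Subtype.ext (funext fun i => i.elim0)⟩,
      ⟨⟨fun i => i.elim0, fun _ a => a.elim0, fun a => a.elim0⟩⟩⟩]
    simp
  | succ j ih =>
    intro hj
    rw [card_dualTuple_succ (σ := RingHom.id F) B hS e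
      (Fintype.card F ^ (Module.finrank F V - k - j)) ?_, ih (by omega), Finset.sum_range_succ, pow_add]
    intro f hf
    have hli := linearIndependent_dualTuple (σ := RingHom.id F) B (fun _ => rfl) hS (by omega) he hee hf
    rw [Nat.card_congr (Equiv.subtypeEquivRight fun x => (and_iff_left (hA x))),
      card_dual_affine (σ := RingHom.id F) B (fun _ => rfl) hS hB hli]
    congr 1
    simp
    omega

theorem sum_range_sub_aux (a : ℕ) : ∀ k : ℕ, k ≤ a + 1 →
    2 * (∑ i ∈ Finset.range k, (a - i)) + k * k = k * (2 * a + 1) := by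
  intro k
  induction k with
  | zero => simp
  | succ k ih =>
    intro hk
    rw [Finset.sum_range_succ]
    have := ih (by omega)
    obtain ⟨b, rfl⟩ : ∃ b, a = k + b := ⟨a - k, by omega⟩
    rw [Nat.add_sub_cancel_left]
    nlinarith

theorem card_isomStab_symp [Fintype F] (m k : ℕ) (hk : k ≤ m) (W : Submodule F (Fin m ⊕ Fin m → F))
    (hWk : Module.finrank F W = k) (hW : ∀ u ∈ W, ∀ v ∈ W, sympBilin m F u v = 0) :
    Nat.card (isomStab (sympBilin m F) W) =
      (∏ i : Fin k, (Fintype.card F ^ k - Fintype.card F ^ (i : ℕ))) *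
        (Fintype.card F ^ (∑ i ∈ Finset.range k, (2 * m - k - i)) *
          (Fintype.card F ^ ((m - k) ^ 2) *
            ∏ i ∈ Finset.range (m - k), (Fintype.card F ^ (2 * (i + 1)) - 1))) := by
  have hA : ∀ v, sympBilin m F v v = 0 := sympBilin_self
  have hB := sympBilin_sep (m := m) (F := F)
  have hS : ∀ x y, sympBilin m F x y = 0 → sympBilin m F y x = 0 := fun x y h => by
    rw [sympBilin_swap, h, neg_zero]
  have hw := hasWittExt_alt (sympBilin m F) hA hB
  let b := Module.finBasisOfFinrankEq F W hWk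
  have hdim : Module.finrank F (Fin m ⊕ Fin m → F) = 2 * m := by simp; omega
  have hN := card_dualTuple_alt (sympBilin m F) hA hB
    (b.linearIndependent.map' W.subtype (LinearMap.ker_eq_bot.2 W.injective_subtype))
    (fun i i' => hW _ (b i).2 _ (b i').2) k le_rfl
  obtain ⟨P, hPd, hPsep, hfix⟩ := exists_card_fixingIn (σ := RingHom.id F) (sympBilin m F) (fun _ => rfl)
    hS hB hw ⟨-1, fun x y => by rw [sympBilin_swap, RingHom.id_apply, neg_one_mul]⟩ W b hW hN.symm
    (pow_pos Fintype.card_pos _)
  rw [card_isomStab (σ := RingHom.id F) (sympBilin m F) hw W hW, card_linearEquiv hWk, hfix, hdim,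
    card_formIsoms_alt (restrictSesq (σ := RingHom.id F) (sympBilin m F) P) (fun v => hA v) hPsep (m - k)
      (by omega)]

end CfsgLib.Geom
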