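import Mathlib
import Cfsg.Agent.Lib.Geom.QuadRefl
import Cfsg.Agent.Lib.Geom.FiniteField

set_option autoImplicit false

/-!
The subgroup generated by the reflections at vectors of one square class, in odd characteristic.
-/

namespace CfsgLib.Geom

open QuadraticMap (polar)

variable {F V : Type*} [Field F] [AddCommGroup V] [Module F V]

theorem reflEquiv_smul (Q : QuadraticForm F V) {t : F} {w : V} (hw : Q w ≠ 0)
    (htw : Q (t • w) ≠ 0) : reflEquiv Q (t • w) htw = reflEquiv Q w hw := by
  have ht : t ≠ 0 := by rintro rfl; exact htw (by simp)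
  refine LinearEquiv.ext fun z => ?_
  simp only [reflEquiv_apply, quad_smul, QuadraticMap.polar_smul_left, smul_smul, smul_eq_mul]
  congr 2
  field_simp

/-- Some element of `K` carries `u` to `v` up to sign. -/
def SignConn (K : Subgroup (V ≃ₗ[F] V)) (u v : V) : Prop :=
  ∃ h ∈ K, h u = v ∨ h u = -v

theorem SignConn.trans {K : Subgroup (V ≃ₗ[F] V)} {u v w : V} (h1 : SignConn K u v)
    (h2 : SignConn K v w) : SignConn K u w := by
  obtain ⟨a, ha, ha'⟩ := h1
  obtain ⟨b, hb, hb'⟩ := h2
  refine ⟨b * a, mul_mem hb ha, ?_⟩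
  rw [LinearEquiv.mul_apply]
  rcases ha' with e | e <;> rcases hb' with f | f <;> simp [e, f]

theorem SignConn.neg_right {K : Subgroup (V ≃ₗ[F] V)} {u v : V} (h : SignConn K u v) :
    SignConn K u (-v) := by
  obtain ⟨a, ha, ha'⟩ := h
  exact ⟨a, ha, by rw [neg_neg]; exact ha'.symm⟩

variable {Q : QuadraticForm F V} {c d : F} {K : Subgroup (V ≃ₗ[F] V)}

/-- Outside a square class there is only one other class. -/
theorem class_split [Finite F] (hc : c ≠ 0) (hd : d ≠ 0) (hcd : ¬ IsSquare (d / c)) {x : F}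
    (hx : x ≠ 0) : (∃ t : F, t ≠ 0 ∧ x = c * t ^ 2) ∨ ∃ t : F, t ≠ 0 ∧ x = d * t ^ 2 := by
  by_cases h : IsSquare (x / c)
  · obtain ⟨t, ht⟩ := h
    have he : x = c * t ^ 2 := by rw [sq, ← ht]; field_simp
    exact Or.inl ⟨t, by rintro rfl; exact hx (by simpa using he), he⟩
  · obtain ⟨s, hs⟩ := isSquare_mul_of_not (x / c) (d / c) h hcd
    refine Or.inr ⟨s * c / d, ?_, ?_⟩
    · have : s ≠ 0 := by
        rintro rfl
        simp [hx, hc, hd] at hs
      simp [this, hc, hd]
    · have : x * d = c * c * (s * s) := by rw [← hs]; field_simp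
      field_simp
      linear_combination this

theorem signConn_of_refl (hK : ∀ v (hv : Q v ≠ 0), (∃ t : F, t ≠ 0 ∧ Q v = c * t ^ 2) →
    reflEquiv Q v hv ∈ K) (hc : c ≠ 0) {u v : V} (hq : Q u = Q v)
    (h : ∃ t : F, t ≠ 0 ∧ Q (v - u) = c * t ^ 2) : SignConn K u v := by
  obtain ⟨t, ht, e⟩ := h
  have h0 : Q (v - u) ≠ 0 := by rw [e]; exact mul_ne_zero hc (pow_ne_zero 2 ht)
  exact ⟨reflEquiv Q (v - u) h0, hK _ h0 ⟨t, ht, e⟩, Or.inl (reflEquiv_sub Q hq h0)⟩

/-- Two vectors of the same value spanning a non-degenerate plane are connected. -/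
theorem signConn_nondeg [Finite F] (h2 : (2 : F) ≠ 0) (hc : c ≠ 0) (hd : d ≠ 0)
    (hcd : ¬ IsSquare (d / c))
    (hK : ∀ v (hv : Q v ≠ 0), (∃ t : F, t ≠ 0 ∧ Q v = c * t ^ 2) → reflEquiv Q v hv ∈ K)
    {u v : V} (hu : Q u = d) (hv : Q v = d)
    (hB : polar Q u v * polar Q u v ≠ 4 * d * d) : SignConn K u v := by
  set B := polar Q u v with hBdef
  have h4 : (4 : F) ≠ 0 := by
    rw [show (4 : F) = 2 * 2 by norm_num]; exact mul_ne_zero h2 h2
  have hadd : Q (v + u) = 2 * d + B := by
    rw [QuadraticMap.map_add Q v u, hu, hv, QuadraticMap.polar_comm Q v u, ← hBdef]; ring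
  have hp : 2 * d + B ≠ 0 := fun h => hB (by linear_combination (B - 2 * d) * h)
  rcases class_split hc hd hcd hp with ⟨t, ht, e⟩ | ⟨r, hr, e⟩
  · have : SignConn K u (-v) := by
      refine signConn_of_refl hK hc (by rw [QuadraticMap.map_neg, hu, hv]) ⟨t, ht, ?_⟩
      rw [show -v - u = -(v + u) by abel, QuadraticMap.map_neg, hadd, e]
    simpa using this.neg_right
  have hb : (4 * d * d - B * B) / (4 * d) ≠ 0 :=
    div_ne_zero (sub_ne_zero.2 (Ne.symm hB)) (mul_ne_zero h4 hd)
  obtain ⟨s, μ, hs⟩ := exists_binary_eq h2 hd hb c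
  set lam := s - B * μ / (2 * d) with hlam
  set a := lam • u + μ • v with ha
  have hQa : Q a = c := by
    rw [ha, quad_map_add_smul, quad_smul, QuadraticMap.polar_smul_left, ← hBdef, hu, hv, smul_eq_mul,
      ← hs, hlam]
    field_simp
    ring
  have ha0 : Q a ≠ 0 := by rw [hQa]; exact hc
  have haK : reflEquiv Q a ha0 ∈ K := hK a ha0 ⟨1, one_ne_zero, by rw [hQa]; ring⟩
  by_cases hlm : lam + μ = 0
  · have hμ : μ = -lam := by linear_combination hlm
    have hlam0 : lam ≠ 0 := by
      intro h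
      exact ha0 (by simp [ha, hμ, h])
    refine signConn_of_refl hK hc (hu.trans hv.symm) ⟨lam⁻¹, inv_ne_zero hlam0, ?_⟩
    have : v - u = (-lam⁻¹) • a := by
      rw [ha, hμ, neg_smul lam v, smul_add, smul_neg, smul_smul, smul_smul, neg_mul,
        inv_mul_cancel₀ hlam0, neg_one_smul, neg_one_smul]
      abel
    rw [this, quad_smul, hQa]; ring
  set w := reflEquiv Q a ha0 u with hw
  have hwQ : Q w = Q v := by rw [hw, reflEquiv_mem Q a ha0 u, hu, hv]
  have hau : polar Q a u = 2 * d * lam + B * μ := by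
    simp only [ha, QuadraticMap.polar_add_left, QuadraticMap.polar_smul_left, polar_self_two, hu,
      smul_eq_mul, QuadraticMap.polar_comm Q v u, ← hBdef]
    ring
  have hva : polar Q a v = B * lam + 2 * d * μ := by
    simp only [ha, QuadraticMap.polar_add_left, QuadraticMap.polar_smul_left, polar_self_two, hv,
      smul_eq_mul, ← hBdef]
    ring
  have hvw : polar Q v w = B - c⁻¹ * (2 * d * lam + B * μ) * (B * lam + 2 * d * μ) := by
    rw [hw, reflEquiv_apply, QuadraticMap.polar_sub_right, QuadraticMap.polar_smul_right, hau,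
      hQa, QuadraticMap.polar_comm Q v a, hva, QuadraticMap.polar_comm Q v u, ← hBdef, smul_eq_mul]
  have hsub : Q (v - w) = c * (d * r * (lam + μ) / c) ^ 2 := by
    have h1 : Q (v - w) = 2 * d - polar Q v w := by
      rw [sub_eq_add_neg v w, ← neg_one_smul F w, quad_map_add_smul, hwQ, hv]; ring
    have h3 : Q a = d * lam ^ 2 + B * lam * μ + d * μ ^ 2 := by
      rw [ha, quad_map_add_smul, quad_smul, QuadraticMap.polar_smul_left, ← hBdef, hu, hv,
        smul_eq_mul]
      ring
    rw [hQa] at h3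
    rw [h1, hvw]
    field_simp
    linear_combination (2 * d - B) * h3 + d * (lam + μ) ^ 2 * e
  have hr0 : d * r * (lam + μ) / c ≠ 0 :=
    div_ne_zero (mul_ne_zero (mul_ne_zero hd hr) hlm) hc
  exact SignConn.trans ⟨_, haK, Or.inl hw.symm⟩ (signConn_of_refl hK hc hwQ ⟨_, hr0, hsub⟩)

/-- All vectors of the value outside the class are connected. -/
theorem signConn_same [Fintype F] [FiniteDimensional F V] (h2 : (2 : F) ≠ 0) (hc : c ≠ 0)
    (hd : d ≠ 0) (hcd : ¬ IsSquare (d / c))
    (hQ : ∀ x, (∀ y, polar Q x y = 0) → x = 0)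
    (hn : Fintype.card F = 3 → Module.finrank F V ≤ 2 ∨ 5 ≤ Module.finrank F V)
    (hK : ∀ v (hv : Q v ≠ 0), (∃ t : F, t ≠ 0 ∧ Q v = c * t ^ 2) → reflEquiv Q v hv ∈ K)
    {u v : V} (hu : Q u = d) (hv : Q v = d) : SignConn K u v := by
  by_cases hB : polar Q u v * polar Q u v ≠ 4 * d * d
  · exact signConn_nondeg h2 hc hd hcd hK hu hv hB
  push Not at hB
  have h' : (polar Q u v - 2 * d) * (polar Q u v + 2 * d) = 0 := by linear_combination hB
  suffices key : ∀ w, Q w = d → polar Q u w = 2 * d → SignConn K u w by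
    rcases mul_eq_zero.1 h' with h | h
    · exact key v hv (by linear_combination h)
    · have := key (-v) (by rw [QuadraticMap.map_neg, hv])
        (by rw [QuadraticMap.polar_neg_right]; linear_combination -h)
      simpa using this.neg_right
  clear hB h' hv v
  intro v hv hB
  have h4 : (4 : F) ≠ 0 := by
    rw [show (4 : F) = 2 * 2 by norm_num]; exact mul_ne_zero h2 h2
  have h2d : 2 * d ≠ 0 := mul_ne_zero h2 hd
  set z := v - u with hzdef
  by_cases hz : z = 0
  · exact ⟨1, one_mem _, Or.inl (by rw [LinearEquiv.coe_one, id]; exact (sub_eq_zero.1 hz).symm)⟩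
  have huz : polar Q u z = 0 := by
    rw [hzdef, QuadraticMap.polar_sub_right, hB, polar_self_two, hu]; ring
  have hzz : Q z = 0 := by
    rw [hzdef, sub_eq_add_neg, ← neg_one_smul F u, quad_map_add_smul, hv, hu,
      QuadraticMap.polar_comm Q v u, hB]
    ring
  have hvu : v = u + z := by rw [hzdef]; abel
  obtain ⟨y, hy⟩ : ∃ y, polar Q z y ≠ 0 := by
    by_contra h; push Not at h; exact hz (hQ z h)
  set y1 := (polar Q z y)⁻¹ • y with hy1
  have hzy1 : polar Q z y1 = 1 := by
    rw [hy1, QuadraticMap.polar_smul_right, smul_eq_mul, inv_mul_cancel₀ hy]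
  clear_value y1
  set y2 := y1 - (polar Q u y1 / (2 * d)) • u with hy2
  have hzy2 : polar Q z y2 = 1 := by
    rw [hy2, QuadraticMap.polar_sub_right, QuadraticMap.polar_smul_right,
      QuadraticMap.polar_comm Q z u, huz, hzy1]
    simp
  have huy2 : polar Q u y2 = 0 := by
    rw [hy2, QuadraticMap.polar_sub_right, QuadraticMap.polar_smul_right, polar_self_two, hu,
      smul_eq_mul, div_mul_cancel₀ _ h2d, sub_self]
  clear_value y2
  set z1 := y2 - Q y2 • z with hz1
  have hzz1 : polar Q z z1 = 1 := by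
    rw [hz1, QuadraticMap.polar_sub_right, QuadraticMap.polar_smul_right, polar_self_two, hzz, hzy2]
    simp
  have huz1 : polar Q u z1 = 0 := by
    rw [hz1, QuadraticMap.polar_sub_right, QuadraticMap.polar_smul_right, huz, huy2]; simp
  have hz1z1 : Q z1 = 0 := by
    rw [hz1, sub_eq_add_neg, ← neg_smul, quad_map_add_smul, hzz, QuadraticMap.polar_comm Q y2 z, hzy2]
    ring
  clear_value z1
  suffices hp : ∃ p, Q p = d ∧ polar Q u p = 0 ∧ polar Q p v * polar Q p v ≠ 4 * d * d by
    obtain ⟨p, hp, hpu, hpv⟩ := hp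
    exact (signConn_nondeg h2 hc hd hcd hK hu hp (by
      rw [hpu, zero_mul]; exact (mul_ne_zero (mul_ne_zero h4 hd) hd).symm)).trans
      (signConn_nondeg h2 hc hd hcd hK hp hv hpv)
  by_cases hγ : ∃ γ : F, γ ≠ 0 ∧ γ ≠ 2 * d ∧ γ ≠ -(2 * d)
  · obtain ⟨γ, hγ0, hγ1, hγ2⟩ := hγ
    refine ⟨(d / γ) • z + γ • z1, ?_, ?_, ?_⟩
    · rw [quad_map_add_smul, quad_smul, QuadraticMap.polar_smul_left, hzz, hz1z1, hzz1,
        smul_eq_mul, mul_one]
      field_simp
      ring
    · simp [QuadraticMap.polar_add_right, QuadraticMap.polar_smul_right, huz, huz1]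
    · have : polar Q ((d / γ) • z + γ • z1) v = γ := by
        rw [hvu, QuadraticMap.polar_comm Q _ (u + z), QuadraticMap.polar_add_left]
        simp [QuadraticMap.polar_add_right, QuadraticMap.polar_smul_right, huz, huz1, hzz1,
          polar_self_two, hzz]
      rw [this]
      intro hc'
      have : (γ - 2 * d) * (γ + 2 * d) = 0 := by linear_combination hc'
      rcases mul_eq_zero.1 this with h | h
      · exact hγ1 (sub_eq_zero.1 h)
      · exact hγ2 (eq_neg_of_add_eq_zero_left h)
  push Not at hγ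
  have hcard : Fintype.card F = 3 := by
    classical
    have hsub : (Finset.univ : Finset F) ⊆ {0, 2 * d, -(2 * d)} := fun x _ => by
      by_cases h0 : x = 0
      · simp [h0]
      by_cases h1 : x = 2 * d
      · simp [h1]
      · simp [hγ x h0 h1]
    have h1 : Fintype.card F ≤ 3 := (Finset.card_le_card hsub).trans Finset.card_le_three
    have h3 := FiniteField.odd_card_of_char_ne_two (ringChar_ne_two_of_ne h2)
    have := Fintype.one_lt_card (α := F)
    omega
  let ψ : V →ₗ[F] F × F × F :=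
    (Q.polarBilin u).prod ((Q.polarBilin z).prod (Q.polarBilin z1))
  have hψ : Function.Surjective ψ := by
    rintro ⟨a, b, e⟩
    refine ⟨(a / (2 * d)) • u + b • z1 + e • z, ?_⟩
    simp [ψ, QuadraticMap.polar_add_right, QuadraticMap.polar_smul_right, polar_self_two, hu, hzz,
      hz1z1, huz, huz1, hzz1, QuadraticMap.polar_comm Q z u, QuadraticMap.polar_comm Q z1 u,
      QuadraticMap.polar_comm Q z1 z, h2d]
  have hrk := ψ.finrank_range_add_finrank_ker
  rw [LinearMap.range_eq_top.2 hψ, finrank_top, Module.finrank_prod, Module.finrank_prod,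
    Module.finrank_self] at hrk
  have hn' := hn hcard
  set W := LinearMap.ker ψ
  have hW : ∀ x ∈ W, polar Q u x = 0 ∧ polar Q z x = 0 ∧ polar Q z1 x = 0 := fun x hx => by
    simpa [W, ψ] using hx
  have hnd : ∀ x : W, (∀ y : W, polar (Q.comp W.subtype) x y = 0) → x = 0 := by
    rintro ⟨x, hx⟩ h
    refine Subtype.ext (hQ x fun y => ?_)
    obtain ⟨hxu, hxz, hxz1⟩ := hW x hx
    let y' := y - (polar Q u y / (2 * d)) • u - polar Q z1 y • z - polar Q z y • z1
    have hy' : y' ∈ W := by
      simp [W, ψ, y', QuadraticMap.polar_sub_right, QuadraticMap.polar_smul_right, polar_self_two,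
        hu, hzz, hz1z1, huz, huz1, hzz1, QuadraticMap.polar_comm Q z u,
        QuadraticMap.polar_comm Q z1 u, QuadraticMap.polar_comm Q z1 z, h2d]
    have := h ⟨y', hy'⟩
    simp only [QuadraticMap.polar, QuadraticMap.comp_apply, map_add, Submodule.subtype_apply] at this
    change polar Q x y' = 0 at this
    simpa [y', QuadraticMap.polar_sub_right, QuadraticMap.polar_smul_right,
      QuadraticMap.polar_comm Q x u, QuadraticMap.polar_comm Q x z, QuadraticMap.polar_comm Q x z1,
      hxu, hxz, hxz1] using this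
  obtain ⟨⟨p, hp⟩, hpd⟩ := exists_value (Q.comp W.subtype) h2 hnd (by omega) d hd
  obtain ⟨hpu, hpz, -⟩ := hW p hp
  refine ⟨p, hpd, hpu, ?_⟩
  rw [hvu, QuadraticMap.polar_add_right, QuadraticMap.polar_comm Q p u, hpu,
    QuadraticMap.polar_comm Q p z, hpz, add_zero, zero_mul]
  exact (mul_ne_zero (mul_ne_zero h4 hd) hd).symm

end CfsgLib.Geom
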