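import Mathlib
import Cfsg.Agent.Lib.Geom.DicksonCases
import Cfsg.Agent.Lib.Geom.DicksonBorel
import Cfsg.Agent.Lib.Classical.PSLTwoPerm

set_option autoImplicit false

/-!
Solvable groups among the subgroups of `PSL_2`.
-/

namespace CfsgLib.Geom.Moebius

open Matrix
open scoped MatrixGroups

theorem isSolvable_dihedral (n : ℕ) : Group.IsSolvable (DihedralGroup n) := by
  let f : Multiplicative (ZMod n) →* DihedralGroup n := MonoidHom.mk' (fun i => .r (Multiplicative.toAdd i))
    fun a b => by simp [DihedralGroup.r_mul_r]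
  let g : DihedralGroup n →* Multiplicative (ZMod 2) := MonoidHom.mk'
    (fun x => match x with | .r _ => 1 | .sr _ => Multiplicative.ofAdd 1)
    (by rintro (i | i) (j | j) <;> simp [DihedralGroup.r_mul_r, DihedralGroup.r_mul_sr, DihedralGroup.sr_mul_r,
      DihedralGroup.sr_mul_sr] <;> decide)
  refine solvable_of_ker_le_range f g ?_
  rintro (i | i) hx
  · exact ⟨Multiplicative.ofAdd i, rfl⟩
  · exact absurd hx (by simp [g, MonoidHom.mem_ker])

variable {F : Type*} [Field F]

/-- The stabiliser of a point in `PGL_2` is solvable. -/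
theorem isSolvable_stabilizer (P : Line F) : Group.IsSolvable (MulAction.stabilizer PGL(2, F) P) := by
  classical
  obtain ⟨m, rfl⟩ := exists_map1 P
  set S := MulAction.stabilizer PGL(2, F) (inf : Line F)
  have hS : Group.IsSolvable S := by
    choose a b hab using fun g : S => exists_aff_of_fix (MulAction.mem_stabilizer_iff.1 g.2)
    let χ : S →* Fˣ := MonoidHom.mk' a fun g h => by
      have e : aff (a (g * h)) (b (g * h)) = aff (a g * a h) ((a g : F) * b h + b g) := by
        rw [← aff_mul, ← hab, ← hab, ← hab]; rfl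
      exact (aff_inj e).1
    let T : Multiplicative F →* S := MonoidHom.mk'
      (fun t => ⟨aff 1 (Multiplicative.toAdd t), MulAction.mem_stabilizer_iff.2 (aff_smul_inf _ _)⟩)
      fun s t => Subtype.ext (by
        show aff 1 (Multiplicative.toAdd s + Multiplicative.toAdd t) = aff 1 _ * aff 1 _
        rw [aff_mul, mul_one, Units.val_one, one_mul, add_comm])
    refine solvable_of_ker_le_range T χ fun g hg => ⟨Multiplicative.ofAdd (b g), Subtype.ext ?_⟩
    show aff 1 (b g) = g.1
    rw [hab g, show a g = 1 from hg]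
  let φ : MulAction.stabilizer PGL(2, F) (m • (inf : Line F)) →* S :=
    ((MulAut.conj m⁻¹).toMonoidHom.comp (MulAction.stabilizer PGL(2, F) (m • (inf : Line F))).subtype).codRestrict S
      fun g => MulAction.mem_stabilizer_iff.2 (by
        show (m⁻¹ * g.1 * m⁻¹⁻¹) • (inf : Line F) = inf
        rw [inv_inv, mul_smul, mul_smul, MulAction.mem_stabilizer_iff.1 g.2, inv_smul_smul])
  have := hS
  exact solvable_of_solvable_injective (f := φ) fun x y e =>
    Subtype.ext ((MulAut.conj m⁻¹).injective (congrArg Subtype.val e))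

theorem isSolvable_borel (H : Subgroup (ProjectiveSpecialLinearGroup (Fin 2) F)) (P : Line F)
    (h : ∀ x ∈ H, Matrix.ProjectiveSpecialLinearGroup.toPGL x • P = P) : Group.IsSolvable H := by
  have := isSolvable_stabilizer P
  let φ : H →* MulAction.stabilizer PGL(2, F) P :=
    (Matrix.ProjectiveSpecialLinearGroup.toPGL.comp H.subtype).codRestrict _
      fun x => MulAction.mem_stabilizer_iff.2 (h x.1 x.2)
  exact solvable_of_solvable_injective (f := φ) fun x y e =>
    Subtype.ext (Matrix.ProjectiveSpecialLinearGroup.toPGL_injective (congrArg Subtype.val e))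

theorem isSolvable_perm_small {n : ℕ} (hn : n ≤ 4) (h4 : Group.IsSolvable (Equiv.Perm (Fin 4))) :
    Group.IsSolvable (Equiv.Perm (Fin n)) :=
  solvable_of_solvable_injective (f := Equiv.Perm.viaEmbeddingHom (Fin.castLEEmb hn))
    (Equiv.Perm.viaEmbeddingHom_injective _)

theorem isSolvable_pgl_small [Fintype F] (hq : Fintype.card F ≤ 3) (h4 : Group.IsSolvable (Equiv.Perm (Fin 4))) :
    Group.IsSolvable PGL(2, F) := by
  classical
  let _ : Fintype (Line F) := Fintype.ofFinite _
  have hc : Fintype.card (Line F) = Fintype.card F + 1 := by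
    rw [← Nat.card_eq_fintype_card, CfsgLib.Classical.card_line]
  have := isSolvable_perm_small (n := Fintype.card F + 1) (by omega) h4
  let φ : PGL(2, F) →* Equiv.Perm (Fin (Fintype.card F + 1)) :=
    (Fintype.equivFinOfCardEq hc).permCongrHom.toMonoidHom.comp (MulAction.toPermHom _ (Line F))
  refine solvable_of_solvable_injective (f := φ) fun x y e => ?_
  have e' : MulAction.toPermHom _ (Line F) x = MulAction.toPermHom _ (Line F) y :=
    (Fintype.equivFinOfCardEq hc).permCongrHom.injective e
  exact eq_of_agree (Equiv.ext_iff.1 e' _) (Equiv.ext_iff.1 e' _) (Equiv.ext_iff.1 e' _)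

theorem isSolvable_psl_small [Fintype F] (hq : Fintype.card F ≤ 3) (h4 : Group.IsSolvable (Equiv.Perm (Fin 4))) :
    Group.IsSolvable (ProjectiveSpecialLinearGroup (Fin 2) F) :=
  have := isSolvable_pgl_small hq h4
  solvable_of_solvable_injective (Matrix.ProjectiveSpecialLinearGroup.toPGL_injective (n := Fin 2) (R := F))

theorem psl_not_comm [Fintype F] (h : 4 ≤ Fintype.card F) :
    ¬ ∀ a b : ProjectiveSpecialLinearGroup (Fin 2) F, a * b = b * a := by
  intro hc
  set f := Matrix.ProjectiveSpecialLinearGroup.toPGL (n := Fin 2) (R := F)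
  let pr : SL(2, F) →* ProjectiveSpecialLinearGroup (Fin 2) F := QuotientGroup.mk' _
  let s := Matrix.SpecialLinearGroup.transvection (show (0 : Fin 2) ≠ 1 by decide) (1 : F)
  let t := Matrix.SpecialLinearGroup.transvection (show (1 : Fin 2) ≠ 0 by decide) (1 : F)
  have e := congrArg (fun z => f z • (inf : Line F)) (hc (pr s) (pr t))
  simp only [map_mul, mul_smul] at e
  rw [show f (pr s) = aff 1 1 from mk_transvection_zero_one 1, show f (pr t) = low 1 from mk_transvection_one_zero 1,
    aff_smul_inf, low_smul_inf one_ne_zero, aff_smul_pt] at e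
  have := pt_injective e
  simp at this

end CfsgLib.Geom.Moebius
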