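import Mathlib
import Cfsg.Agent.Lib.Geom.PSLTwoCentralizer
import Cfsg.Agent.Lib.Geom.PSLTwoSolvable
import Cfsg.Agent.Lib.Geom.DicksonCases
import Cfsg.Agent.Lib.Geom.MaxPair
import Cfsg.Agent.Lib.Classical.PSLTwoPerm
import Cfsg.Agent.Lib.ClassK.SmallSimple

set_option autoImplicit false

/-!
When do two elements of `PSL_2` generate a solvable subgroup.
-/

namespace CfsgLib.Geom.Moebius

open Matrix
open scoped MatrixGroups

variable {F : Type*} [Field F] [Fintype F]

local notation "PSL2" => ProjectiveSpecialLinearGroup (Fin 2) F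
local notation "ψ" => Matrix.ProjectiveSpecialLinearGroup.toPGL (n := Fin 2) (R := F)

/-- The elements generating a solvable subgroup with `x`. -/
def solSet {G : Type*} [Group G] (x : G) : Set G :=
  {y | Group.IsSolvable ↥(Subgroup.closure ({x, y} : Set G))}

theorem solvable_of_le' {G : Type*} [Group G] {H K : Subgroup G} (h : H ≤ K) [Group.IsSolvable K] :
    Group.IsSolvable H := solvable_of_solvable_injective (Subgroup.inclusion_injective h)

theorem mem_solSet_of_le {G : Type*} [Group G] {x y : G} {K : Subgroup G} [Group.IsSolvable K] (hx : x ∈ K)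
    (hy : y ∈ K) : y ∈ solSet x :=
  solvable_of_le' ((Subgroup.closure_le K).2 (Set.insert_subset_iff.2 ⟨hx, Set.singleton_subset_iff.2 hy⟩))

theorem psl_not_solvable (h4 : 4 ≤ Fintype.card F) : ¬ Group.IsSolvable PSL2 := fun h =>
  have := CfsgLib.ClassK.isSimpleGroup_psl_two (F := F) h4
  psl_not_comm h4 (IsSimpleGroup.comm_iff_isSolvable.2 h)

theorem pgl_not_solvable (h4 : 4 ≤ Fintype.card F) : ¬ Group.IsSolvable PGL(2, F) := fun _ =>
  psl_not_solvable h4 (solvable_of_solvable_injective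
    (Matrix.ProjectiveSpecialLinearGroup.toPGL_injective (n := Fin 2) (R := F)))

theorem psl_three_equiv (h3 : Fintype.card F = 3) : Nonempty (PSL2 ≃* alternatingGroup (Fin 4)) := by
  have hcard : Nat.card PSL2 = 12 := CfsgLib.Classical.card_psl_two_eq h3 12 (by norm_num)
  obtain ⟨φ, hφ⟩ := CfsgLib.Classical.exists_psl_two_embedding (F := F)
  obtain ⟨e⟩ := CfsgLib.Classical.equiv_alternating_of_embedding φ hφ
    (by rw [hcard, Fintype.card_fin, h3]; rfl)
  exact ⟨e.trans (finCongr (by rw [h3])).altCongrHom⟩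

/-- Solvable subgroups. -/
theorem solvable_cases (H : Subgroup PSL2) [Group.IsSolvable H] :
    (∀ a ∈ H, ∀ b ∈ H, a * b = b * a) ∨ (∃ R : Line F, ∀ a ∈ H, ψ a • R = R) ∨
      (∃ n, 2 ≤ n ∧ Nonempty (H ≃* DihedralGroup n)) ∨
      ((2 : F) ≠ 0 ∧ (Nonempty (H ≃* alternatingGroup (Fin 4)) ∨ Nat.card H = 24)) := by
  have kl : (2 : F) = 0 → KleinNormal (H.map ψ) → ∃ R : Line F, ∀ a ∈ H, ψ a • R = R := fun h2 hk => by
    obtain ⟨R, hR⟩ := exists_fixed_of_klein_charTwo h2 hk
    exact ⟨R, fun a ha => MulAction.mem_stabilizer_iff.1 (hR ⟨a, ha, rfl⟩)⟩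
  let e : H ≃* H.map ψ := H.equivMapOfInjective ψ Matrix.ProjectiveSpecialLinearGroup.toPGL_injective
  have hu4 : ∀ (K : Subfield F) (u : ℕ), 3 ≤ u → Nat.card K = u → 4 ≤ u ∨ (u = 3 ∧ (2 : F) ≠ 0) := by
    intro K u hu hK
    by_cases h : u = 3
    · right
      refine ⟨h, fun h2 => ?_⟩
      subst h
      have hd : 3 ∣ Fintype.card F := by
        rw [← Nat.card_eq_fintype_card, ← hK]
        exact AddSubgroup.card_addSubgroup_dvd_card K.toSubring.toAddSubgroup
      obtain ⟨r, hr⟩ := CharP.exists F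
      obtain ⟨n, hrp, hn⟩ := FiniteField.card F r
      have h3r := (Nat.prime_dvd_prime_iff_eq Nat.prime_three hrp).1 (Nat.prime_three.dvd_of_dvd_pow (hn ▸ hd))
      subst h3r
      have h30 : (3 : F) = 0 := by exact_mod_cast CharP.cast_eq_zero F 3
      exact one_ne_zero (α := F) (by linear_combination h30 - h2)
    · exact Or.inl (by omega)
  rcases dickson H with ⟨k, hk, hc, hcard⟩ | ⟨P, hP⟩ | ⟨n, hn, hk, hd, hcard⟩ | ⟨ha, -⟩ | ⟨ho, hcard⟩ | ⟨hi, -⟩ |
    ⟨K, u, hu, hK, he, hcard⟩ | ⟨K, u, hu, hK, he, hcard⟩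
  · left
    intro a ha b hb
    exact congrArg Subtype.val (hc.commGroup.mul_comm (⟨a, ha⟩ : H) ⟨b, hb⟩)
  · exact Or.inr (Or.inl ⟨P, hP⟩)
  · exact Or.inr (Or.inr (Or.inl ⟨n, hn, hd⟩))
  · by_cases h2 : (2 : F) = 0
    · exact Or.inr (Or.inl (kl h2 (kleinNormal_altFour (e.symm.trans ha.some))))
    · exact Or.inr (Or.inr (Or.inr ⟨h2, Or.inl ha⟩))
  · by_cases h2 : (2 : F) = 0
    · exact Or.inr (Or.inl (kl h2 (kleinNormal_permFour (e.symm.trans ho.some))))
    · exact Or.inr (Or.inr (Or.inr ⟨h2, Or.inr hcard⟩))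
  · exfalso
    obtain ⟨i⟩ := hi
    have : Group.IsSolvable (alternatingGroup (Fin 5)) := solvable_of_solvable_injective (f := i.symm.toMonoidHom) i.symm.injective
    have h := IsSimpleGroup.comm_iff_isSolvable.2 this
    revert h; decide +kernel
  · obtain ⟨i⟩ := he
    let _ : Fintype K := Fintype.ofFinite K
    rcases hu4 K u hu hK with h | ⟨h, h2⟩
    · exfalso
      exact pgl_not_solvable (F := K) (by rw [← Nat.card_eq_fintype_card, hK]; exact h)
        (solvable_of_solvable_injective (f := i.symm.toMonoidHom) i.symm.injective)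
    · refine Or.inr (Or.inr (Or.inr ⟨h2, Or.inr ?_⟩))
      rw [hcard, h]
  · obtain ⟨i⟩ := he
    let _ : Fintype K := Fintype.ofFinite K
    rcases hu4 K u hu hK with h | ⟨h, h2⟩
    · exfalso
      exact psl_not_solvable (F := K) (by rw [← Nat.card_eq_fintype_card, hK]; exact h)
        (solvable_of_solvable_injective (f := i.symm.toMonoidHom) i.symm.injective)
    · refine Or.inr (Or.inr (Or.inr ⟨h2, Or.inl ?_⟩))
      obtain ⟨j⟩ := psl_three_equiv (F := K) (by rw [← Nat.card_eq_fintype_card, hK, h])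
      exact ⟨i.trans j⟩

theorem dihedral_conj {n : ℕ} (a b : DihedralGroup n) :
    (a * a ≠ 1 → b * a * b⁻¹ = a ∨ b * a * b⁻¹ = a⁻¹) ∧
      (a * a = 1 → a * b = b * a ∨ b * b = 1 ∨ a * b * (a * b) = 1) := by
  constructor
  · intro h
    rcases a with i | i
    · rcases b with j | j
      · left; simp
      · right
        rw [DihedralGroup.sr_mul_r, DihedralGroup.inv_sr, DihedralGroup.sr_mul_sr, DihedralGroup.inv_r]
        congr 1
        ring
    · exact absurd (DihedralGroup.sr_mul_self i) h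
  · intro h
    rcases a with i | i
    · left
      rcases b with j | j
      · simp [add_comm]
      · rw [DihedralGroup.r_mul_r, DihedralGroup.one_def, DihedralGroup.r.injEq] at h
        rw [DihedralGroup.r_mul_sr, DihedralGroup.sr_mul_r]
        congr 1
        linear_combination -h
    · rcases b with j | j
      · right; right; simp
      · right; left; simp

theorem dihedral_pair {H : Subgroup PSL2} {n : ℕ} (e : H ≃* DihedralGroup n) {x y : PSL2} (hx : x ∈ H) (hy : y ∈ H) :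
    (x * x ≠ 1 → y * x * y⁻¹ = x ∨ y * x * y⁻¹ = x⁻¹) ∧
      (x * x = 1 → x * y = y * x ∨ y * y = 1 ∨ x * y * (x * y) = 1) := by
  obtain ⟨h1, h2⟩ := dihedral_conj (e ⟨x, hx⟩) (e ⟨y, hy⟩)
  simp only [← map_mul, ← map_inv, ne_eq, MulEquiv.map_eq_one_iff, e.injective.eq_iff, Subtype.ext_iff,
    Subgroup.coe_mul, InvMemClass.coe_inv, OneMemClass.coe_one] at h1 h2
  exact ⟨h1, h2⟩

omit [Fintype F] in
/-- Elements fixing a common point generate a solvable group. -/
theorem mem_solSet_fix {x y : PSL2} {R : Line F} (hx : ψ x • R = R) (hy : ψ y • R = R) : y ∈ solSet x := by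
  refine isSolvable_borel _ R fun z hz => ?_
  have h : Subgroup.closure ({x, y} : Set PSL2) ≤ (MulAction.stabilizer PGL(2, F) R).comap ψ :=
    (Subgroup.closure_le _).2 (Set.insert_subset_iff.2 ⟨hx, Set.singleton_subset_iff.2 hy⟩)
  exact h hz

theorem pairStab_solvable {E : Type*} [Field E] [Fintype (Line E)] (f : F →+* E)
    (hE : Nat.card E = Fintype.card F ^ 2) (hQC : QuadClosed f) (h4 : 4 ≤ Fintype.card F) {P Q : Line E}
    (hPQ : P ≠ Q) {g : PGL(2, F)} (hg : g ≠ 1) (hgP : extHom f g • P = P) (hgQ : extHom f g • Q = Q) :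
    Group.IsSolvable (pairStab f P Q) := by
  obtain ⟨k, -, ⟨e⟩, -⟩ := pair_top f hE hQC h4 hPQ hg hgP hgQ
  have := isSolvable_dihedral k
  exact solvable_of_solvable_injective (f := e.toMonoidHom) e.injective

/-- Elements stabilising a pair of an element with two fixed points. -/
theorem mem_solSet_pair {E : Type*} [Field E] [Fintype (Line E)] (f : F →+* E)
    (hE : Nat.card E = Fintype.card F ^ 2) (hQC : QuadClosed f) (h4 : 4 ≤ Fintype.card F) {P Q : Line E}
    (hPQ : P ≠ Q) {x y : PSL2} (hx : x ≠ 1) (hxP : extHom f (ψ x) • P = P) (hxQ : extHom f (ψ x) • Q = Q)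
    (hy : ψ y ∈ pairStab f P Q) : y ∈ solSet x := by
  have hx' : ψ x ≠ 1 := fun e => hx (Matrix.ProjectiveSpecialLinearGroup.toPGL_injective (e.trans (map_one _).symm))
  have := pairStab_solvable f hE hQC h4 hPQ hx' hxP hxQ
  have : Group.IsSolvable ((pairStab f P Q).comap ψ) := by
    refine solvable_of_solvable_injective (f := ((ψ).comp ((pairStab f P Q).comap ψ).subtype).codRestrict
      (pairStab f P Q) fun z => z.2) ?_
    intro a b e
    exact Subtype.ext (Matrix.ProjectiveSpecialLinearGroup.toPGL_injective (congrArg Subtype.val e))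
  exact mem_solSet_of_le (K := (pairStab f P Q).comap ψ) ((mem_pairStab f).2 (Or.inl ⟨hxP, hxQ⟩)) hy

/-- The elements generating a solvable group with an element of order above two with two fixed points. -/
theorem mem_solSet_semisimple {E : Type*} [Field E] [Fintype (Line E)] (f : F →+* E)
    (hE : Nat.card E = Fintype.card F ^ 2) (hQC : QuadClosed f) (h4 : 4 ≤ Fintype.card F) {P Q : Line E}
    (hPQ : P ≠ Q) {x y : PSL2} (hxx : x * x ≠ 1) (hxP : extHom f (ψ x) • P = P) (hxQ : extHom f (ψ x) • Q = Q)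
    (h8 : (2 : F) ≠ 0 → ¬ 24 ∣ Nat.card PSL2 ∧ x ^ 3 ≠ 1) :
    y ∈ solSet x ↔ (∃ R : Line F, ψ x • R = R ∧ ψ y • R = R) ∨ ψ y ∈ pairStab f P Q := by
  have hx : x ≠ 1 := fun e => hxx (by rw [e, one_mul])
  have hx' : ψ x ≠ 1 := fun e => hx (Matrix.ProjectiveSpecialLinearGroup.toPGL_injective (e.trans (map_one _).symm))
  refine ⟨fun h => ?_, fun h => ?_⟩
  swap
  · rcases h with ⟨R, h1, h2⟩ | h
    · exact mem_solSet_fix h1 h2
    · exact mem_solSet_pair f hE hQC h4 hPQ hx hxP hxQ h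
  set H := Subgroup.closure ({x, y} : Set PSL2)
  have hxH : x ∈ H := Subgroup.subset_closure (Set.mem_insert _ _)
  have hyH : y ∈ H := Subgroup.subset_closure (Set.mem_insert_of_mem _ rfl)
  have : Group.IsSolvable H := h
  have fixes : y * x * y⁻¹ = x ∨ y * x * y⁻¹ = x⁻¹ → ψ y ∈ pairStab f P Q := by
    intro hc
    have mv : ∀ R : Line E, extHom f (ψ x) • R = R → extHom f (ψ x) • (extHom f (ψ y) • R) = extHom f (ψ y) • R := by
      intro R hR
      rcases hc with e | e
      · have e' : ψ x * ψ y = ψ y * ψ x := by rw [← map_mul, ← map_mul, ← mul_inv_eq_iff_eq_mul.1 e]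
        rw [← mul_smul, ← map_mul, e', map_mul, mul_smul, hR]
      · have e' : ψ x * ψ y = ψ y * (ψ x)⁻¹ := by
          rw [← map_inv, ← map_mul, ← map_mul]
          congr 1
          have := congrArg (fun z => z⁻¹) e
          simp only [_root_.mul_inv_rev, inv_inv, ← mul_assoc] at this
          exact (mul_inv_eq_iff_eq_mul.1 this).symm
        rw [← mul_smul, ← map_mul, e', map_mul, map_inv, mul_smul, inv_smul_eq_iff.2 hR.symm]
    rcases eq_or_eq_of_fix f hPQ hx' hxP hxQ (mv P hxP) with a | a <;>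
      rcases eq_or_eq_of_fix f hPQ hx' hxP hxQ (mv Q hxQ) with b | b
    · exact absurd (smul_left_cancel _ (a.trans b.symm)) hPQ
    · exact (mem_pairStab f).2 (Or.inl ⟨a, b⟩)
    · exact (mem_pairStab f).2 (Or.inr ⟨a, b⟩)
    · exact absurd (smul_left_cancel _ (a.trans b.symm)) hPQ
  rcases solvable_cases H with hc | ⟨R, hR⟩ | ⟨n, hn, ⟨e⟩⟩ | ⟨h2, he⟩
  · exact Or.inr (fixes (Or.inl (mul_inv_eq_iff_eq_mul.2 (hc x hxH y hyH).symm)))
  · exact Or.inl ⟨R, hR x hxH, hR y hyH⟩
  · exact Or.inr (fixes ((dihedral_pair e hxH hyH).1 hxx))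
  · exfalso
    obtain ⟨h8, h3⟩ := h8 h2
    rcases he with ⟨⟨e⟩⟩ | he
    · rcases CfsgLib.Classical.altFour_facts.1 (e ⟨x, hxH⟩) with h | h <;>
        rw [← map_pow, MulEquiv.map_eq_one_iff, Subtype.ext_iff] at h
      · exact hxx (by rw [← sq]; exact h)
      · exact h3 h
    · exact h8 (he ▸ Subgroup.card_subgroup_dvd_card H)

end CfsgLib.Geom.Moebius

namespace CfsgLib.Geom.Moebius

open Matrix
open scoped MatrixGroups
open MulAction (stabilizer)

variable {F : Type*} [Field F] [Fintype F]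

local notation "PSL2" => ProjectiveSpecialLinearGroup (Fin 2) F
local notation "ψ" => Matrix.ProjectiveSpecialLinearGroup.toPGL (n := Fin 2) (R := F)

variable {E : Type*} [Field E] [Fintype (Line E)] (f : F →+* E)

/-- Whether the fixed points are rational is read off from the torus order. -/
theorem torus_rational_iff (hE : Nat.card E = Fintype.card F ^ 2) (hQC : QuadClosed f) {P Q : Line E}
    (hPQ : P ≠ Q) {g : PGL(2, F)} (hg : g ≠ 1) (hgP : extHom f g • P = P) (hgQ : extHom f g • Q = Q) :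
    (Nat.card (fixExt f P ⊓ fixExt f Q : Subgroup PGL(2, F)) = Fintype.card F - 1 ∧
        ∃ P' Q', extPt f P' = P ∧ extPt f Q' = Q) ∨
      (Nat.card (fixExt f P ⊓ fixExt f Q : Subgroup PGL(2, F)) = Fintype.card F + 1 ∧
        ∀ R : Line F, g • R ≠ R) := by
  have key : ∀ {P Q : Line E}, P ≠ Q → extHom f g • P = P → extHom f g • Q = Q → (∀ R, extPt f R ≠ P) →
      Nat.card (fixExt f P ⊓ fixExt f Q : Subgroup PGL(2, F)) = Fintype.card F + 1 ∧ ∀ R, extPt f R ≠ Q := by
    intro P Q hne h1 h2 hP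
    obtain ⟨Q', hne', hle, hc, hcard, s, hs1, hs2⟩ := torus_nonrational f hE hQC hP
    obtain rfl : Q' = Q := ((eq_or_eq_of_fix f hne hg h1 h2 (hle h1)).resolve_left hne')
    refine ⟨by rw [inf_eq_left.2 hle]; exact hcard, fun R hR => hP (s • R) ?_⟩
    rw [← hs2, ← hR, extHom_smul]
  have none : (∀ R, extPt f R ≠ P) → (∀ R, extPt f R ≠ Q) → ∀ R : Line F, g • R ≠ R := by
    intro h1 h2 R hR
    rcases eq_or_eq_of_fix f hPQ hg hgP hgQ (show extHom f g • extPt f R = extPt f R by rw [extHom_smul, hR]) with e | e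
    · exact h1 R e
    · exact h2 R e
  by_cases hP : ∀ R, extPt f R ≠ P
  · obtain ⟨h1, h2⟩ := key hPQ hgP hgQ hP
    exact Or.inr ⟨h1, none hP h2⟩
  by_cases hQ : ∀ R, extPt f R ≠ Q
  · obtain ⟨h1, h2⟩ := key hPQ.symm hgQ hgP hQ
    rw [inf_comm] at h1
    exact Or.inr ⟨h1, none h2 hQ⟩
  push Not at hP hQ
  obtain ⟨P, rfl⟩ := hP
  obtain ⟨Q, rfl⟩ := hQ
  exact Or.inl ⟨(torus_rational f (fun e => hPQ (by rw [e]) : P ≠ Q)).2.1, P, Q, rfl, rfl⟩

omit [Fintype (Line E)] in
theorem ncard_comap (K : Subgroup PGL(2, F)) :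
    {y : PSL2 | ψ y ∈ K}.ncard = Nat.card (K ⊓ imL F : Subgroup PGL(2, F)) := by
  rw [← card_comap_toPGL inf_le_right, ← Nat.card_coe_set_eq]
  exact Nat.card_congr (Equiv.setCongr (Set.ext fun y => ⟨fun h => ⟨h, y, rfl⟩, fun h => h.1⟩))

/-- The solubilizer of a semisimple element of order above two. -/
theorem card_solSet_semisimple (h4 : 4 ≤ Fintype.card F) {x : PSL2} (hxx : x * x ≠ 1)
    (h8 : (2 : F) ≠ 0 → ¬ 24 ∣ Nat.card PSL2 ∧ x ^ 3 ≠ 1) :
    (orderOf x ∣ Fintype.card F - 1 →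
      Nat.gcd 2 (Fintype.card F - 1) * (solSet x).ncard = 2 * (Fintype.card F * (Fintype.card F - 1))) ∧
    (orderOf x ∣ Fintype.card F + 1 →
      Nat.gcd 2 (Fintype.card F - 1) * (solSet x).ncard = 2 * (Fintype.card F + 1)) := by
  obtain ⟨E, _, _, f, hE, hQC⟩ := exists_quadExt F
  have := finite_pgl_two (F := F)
  have hx : x ≠ 1 := fun e => hxx (by rw [e, one_mul])
  have hg : ψ x ≠ 1 := fun e => hx (Matrix.ProjectiveSpecialLinearGroup.toPGL_injective (e.trans (map_one _).symm))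
  have h3 : ∀ {m}, orderOf x ∣ m → m ∣ 2 → False := fun h h' =>
    hxx (by rw [← sq]; exact orderOf_dvd_iff_pow_eq_one.1 (h.trans h'))
  obtain ⟨P, hP⟩ := exists_fixed f hQC (ψ x)
  by_cases hu : ∀ R, extHom f (ψ x) • R = R → R = P
  · have hq : orderOf x ∣ Fintype.card F := by
      obtain ⟨-, -, hc⟩ := card_centralizer_one_fixed f hQC hg hP hu
      have h := orderOf_dvd_natCard (⟨ψ x, Subgroup.mem_centralizer_singleton_iff.2 rfl⟩ : Subgroup.centralizer {ψ x})
      rwa [Subgroup.orderOf_mk, hc, orderOf_injective _ Matrix.ProjectiveSpecialLinearGroup.toPGL_injective] at h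
    constructor <;> intro h <;> exfalso
    · refine h3 (Nat.dvd_sub hq h) ?_
      rw [show Fintype.card F - (Fintype.card F - 1) = 1 by omega]; norm_num
    · refine h3 (Nat.dvd_sub h hq) ?_
      rw [show Fintype.card F + 1 - Fintype.card F = 1 by omega]; norm_num
  push Not at hu
  obtain ⟨Q, hQ, hne⟩ := hu
  set T := (fixExt f P ⊓ fixExt f Q : Subgroup PGL(2, F))
  have hT : ψ x ∈ T := ⟨hP, hQ⟩
  have hdvd : orderOf x ∣ Nat.card T := by
    have h := orderOf_dvd_natCard (⟨ψ x, hT⟩ : T)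
    rwa [Subgroup.orderOf_mk, orderOf_injective _ Matrix.ProjectiveSpecialLinearGroup.toPGL_injective] at h
  obtain ⟨-, hcardT, s, hsP, hsQ⟩ := torus_pair f hE hQC hne.symm hg hP hQ
  obtain ⟨s', hs'L, hs'P, hs'Q⟩ : ∃ s ∈ imL F, extHom f s • P = Q ∧ extHom f s • Q = P := by
    rcases Nat.even_or_odd (Fintype.card F) with he | ho
    · exact ⟨s, imL_eq_top he ▸ Subgroup.mem_top s, hsP, hsQ⟩
    · exact (torus_inf_imL f hE hQC ho h4 hne.symm hg hP hQ).2
  have hdk : Nat.gcd 2 (Fintype.card F - 1) * Nat.card (T ⊓ imL F : Subgroup PGL(2, F)) = Nat.card T := by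
    rcases Nat.even_or_odd (Fintype.card F) with he | ho
    · rw [gcd_two_of_even he, one_mul, imL_eq_top he, inf_top_eq]
    · rw [gcd_two_of_odd ho]; exact (torus_inf_imL f hE hQC ho h4 hne.symm hg hP hQ).1
  have hD : Nat.card (pairStab f P Q ⊓ imL F : Subgroup PGL(2, F)) = 2 * Nat.card (T ⊓ imL F : Subgroup PGL(2, F)) := by
    refine (pairStab_dihedral f hQC hne.symm (imL F) hs'L hs'P hs'Q ?_).2
    by_contra hlt
    have h1 : 0 < Nat.card (T ⊓ imL F : Subgroup PGL(2, F)) := Nat.card_pos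
    change ¬ 2 ≤ Nat.card (T ⊓ imL F : Subgroup PGL(2, F)) at hlt
    have h2 : Nat.card (T ⊓ imL F : Subgroup PGL(2, F)) = 1 := by omega
    rw [Subgroup.card_eq_one] at h2
    exact hg (Subgroup.mem_bot.1 (h2 ▸ (⟨hT, x, rfl⟩ : ψ x ∈ (T ⊓ imL F : Subgroup PGL(2, F)))))
  have hsol : ∀ y, y ∈ solSet x ↔ (∃ R : Line F, ψ x • R = R ∧ ψ y • R = R) ∨ ψ y ∈ pairStab f P Q := fun y =>
    mem_solSet_semisimple f hE hQC h4 hne.symm hxx hP hQ h8
  rcases torus_rational_iff f hE hQC hne.symm hg hP hQ with ⟨hk, P', Q', rfl, rfl⟩ | ⟨hk, hno⟩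
  · refine ⟨fun _ => ?_, fun h => (h3 (Nat.dvd_sub h (hk ▸ hdvd)) ?_).elim⟩
    swap
    · rw [show Fintype.card F + 1 - (Fintype.card F - 1) = 2 by omega]
    set A := {y : PSL2 | ψ y ∈ stabilizer PGL(2, F) P'} with hA
    set B := {y : PSL2 | ψ y ∈ stabilizer PGL(2, F) Q'} with hB
    set D := {y : PSL2 | ψ y ∈ pairStab f (extPt f P') (extPt f Q')} with hD'
    have e : solSet x = A ∪ B ∪ D := by
      ext y
      rw [hsol]
      refine or_congr_left' fun _ => ⟨?_, ?_⟩
      · rintro ⟨R, hx, hy⟩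
        rcases eq_or_eq_of_fix f hne.symm hg hP hQ (show extHom f (ψ x) • extPt f R = extPt f R by
          rw [extHom_smul, hx]) with e | e <;> rw [(extPt_injective f e : R = _)] at hy
        · exact Or.inl hy
        · exact Or.inr hy
      · rintro (h | h)
        · exact ⟨P', extPt_injective f (by rw [← extHom_smul, hP]), h⟩
        · exact ⟨Q', extPt_injective f (by rw [← extHom_smul, hQ]), h⟩
    have hTs : ∀ y, ψ y ∈ T ↔ y ∈ A ∧ y ∈ B := fun y => by
      show _ ↔ ψ y • P' = P' ∧ ψ y • Q' = Q'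
      rw [Subgroup.mem_inf, mem_fixExt, mem_fixExt, extHom_smul, extHom_smul, (extPt_injective f).eq_iff,
        (extPt_injective f).eq_iff]
    have i1 : A ∩ B = {y : PSL2 | ψ y ∈ T} := Set.ext fun y => (hTs y).symm
    have i2 : (A ∪ B) ∩ D = {y : PSL2 | ψ y ∈ T} := by
      ext y
      constructor
      · rintro ⟨hab, hd⟩
        rcases (mem_pairStab f).1 hd with h | ⟨h1, h2⟩
        · exact h
        · exfalso
          rw [extHom_smul] at h1 h2
          rcases hab with h | h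
          · rw [show ψ y • P' = P' from h] at h1; exact hne h1.symm
          · rw [show ψ y • Q' = Q' from h] at h2; exact hne h2
      · intro h
        exact ⟨Or.inl ((hTs y).1 h).1, (mem_pairStab f).2 (Or.inl h)⟩
    have c1 := Set.ncard_union_add_ncard_inter A B
    have c2 := Set.ncard_union_add_ncard_inter (A ∪ B) D
    rw [i1] at c1
    rw [i2, ← e] at c2
    have hst : ∀ R : Line F, Nat.gcd 2 (Fintype.card F - 1) *
        {y : PSL2 | ψ y ∈ stabilizer PGL(2, F) R}.ncard = Fintype.card F * (Fintype.card F - 1) := fun R => by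
      rw [ncard_comap]
      have h := card_imL_two (F := F)
      rw [← card_pointStab_mul le_rfl R, mul_left_comm] at h
      exact Nat.eq_of_mul_eq_mul_left (Nat.succ_pos _) h
    rw [ncard_comap] at c1 c2
    rw [ncard_comap, hD] at c2
    have hP' := hst P'
    have hQ' := hst Q'
    rw [← hA] at hP'
    rw [← hB] at hQ'
    calc Nat.gcd 2 (Fintype.card F - 1) * (solSet x).ncard
        = Nat.gcd 2 (Fintype.card F - 1) * (A.ncard + B.ncard) := by
          congr 1; omega
      _ = _ := by rw [mul_add, hP', hQ', two_mul]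
  · refine ⟨fun h => (h3 (Nat.dvd_sub (hk ▸ hdvd) h) ?_).elim, fun _ => ?_⟩
    · rw [show Fintype.card F + 1 - (Fintype.card F - 1) = 2 by omega]
    have e : solSet x = {y : PSL2 | ψ y ∈ pairStab f P Q} :=
      Set.ext fun y => (hsol y).trans (or_iff_right fun ⟨R, h, _⟩ => hno R h)
    rw [e, ncard_comap, hD, mul_left_comm, hdk, hk]

end CfsgLib.Geom.Moebius
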