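import Mathlib
import Cfsg.Agent.Lib.Geom.WittSesq

/-!
A subgroup of a symplectic group containing one full transvection group and a connected spanning orbit.
-/

set_option autoImplicit false

namespace CfsgLib.Geom

variable {F V : Type*} [Field F] [AddCommGroup V] [Module F V]

/-- `M` contains every transvection with centre `y`. -/
def AtFull (B : V →ₗ[F] V →ₗ[F] F) (M : Subgroup (V ≃ₗ[F] V)) (y : V) : Prop :=
  ∀ c : F, ∃ g ∈ M, ∀ z, g z = z + (c * B y z) • y

variable {B : V →ₗ[F] V →ₗ[F] F} {M : Subgroup (V ≃ₗ[F] V)}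

theorem AtFull.smul {y : V} (h : AtFull B M y) (a : F) : AtFull B M (a • y) := by
  intro c
  obtain ⟨g, hg, hgz⟩ := h (c * a * a)
  refine ⟨g, hg, fun z => ?_⟩
  rw [hgz]
  simp only [map_smul, LinearMap.smul_apply, smul_eq_mul]
  module

theorem AtFull.map (hM : M ≤ formIsoms B) {y : V} (h : AtFull B M y) {g : V ≃ₗ[F] V} (hg : g ∈ M) :
    AtFull B M (g y) := by
  intro c
  obtain ⟨t, ht, htz⟩ := h c
  refine ⟨g * t * g⁻¹, mul_mem (mul_mem hg ht) (inv_mem hg), fun z => ?_⟩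
  obtain ⟨w, rfl⟩ := g.surjective z
  rw [LinearEquiv.mul_apply, LinearEquiv.mul_apply, LinearEquiv.coe_inv, LinearEquiv.symm_apply_apply,
    htz, map_add, map_smul, hM hg]

theorem AtFull.move (hM : M ≤ formIsoms B) {y z : V} (hy : AtFull B M y) (hz : AtFull B M z) (c : F) :
    AtFull B M (z + (c * B y z) • y) := by
  obtain ⟨g, hg, hgz⟩ := hy c
  rw [← hgz]
  exact hz.map hM hg

/-- If every vector off `x^⊥` is full, so is every vector. -/
theorem atFull_all_of_off_perp (hM : M ≤ formIsoms B) (hA : ∀ v, B v v = 0)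
    (hsep : ∀ v, (∀ w, B v w = 0) → v = 0) {x : V} (hx : x ≠ 0)
    (h : ∀ z, B x z ≠ 0 → AtFull B M z) : ∀ z, AtFull B M z := by
  intro y
  rcases eq_or_ne y 0 with rfl | hy
  · exact fun c => ⟨1, one_mem M, fun z => by simp⟩
  by_cases hxy : B x y = 0
  swap
  · exact h y hxy
  obtain ⟨a, ha⟩ : ∃ a, B x a ≠ 0 := not_forall.1 fun e => hx (hsep x e)
  obtain ⟨b, hb⟩ : ∃ b, B y b ≠ 0 := not_forall.1 fun e => hy (hsep y e)
  obtain ⟨z, hxz, hyz⟩ : ∃ z, B x z ≠ 0 ∧ B y z ≠ 0 := by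
    by_cases h1 : B y a = 0
    · by_cases h2 : B x b = 0
      · exact ⟨a + b, by simpa [h2] using ha, by simpa [h1] using hb⟩
      · exact ⟨b, h2, hb⟩
    · exact ⟨a, ha, h1⟩
  obtain ⟨g, hg, hgz⟩ := h z hxz 1
  have h1 : AtFull B M (g y) := by
    refine h _ ?_
    rw [hgz]
    simp [hxy, hxz, alt_swap B hA y z, hyz]
  simpa using h1.map hM (inv_mem hg)

/-- A vector `x` is full when the multipliers act irreducibly on the additive group of its transvections. -/
theorem atFull_of_multiplier (hM : M ≤ formIsoms B) {x : V} {g : V ≃ₗ[F] V} (hg : g ∈ M) {μ : F}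
    (hgx : g x = μ • x) {δ : F}
    (ht : ∃ t ∈ M, ∀ z, t z = z + (δ * B x z) • x) (hA : ∀ v, B v v = 0)
    (hgen : ∀ S : AddSubgroup F, δ ∈ S → (∀ c ∈ S, μ * μ * c ∈ S) → S = ⊤) : AtFull B M x := by
  let S : AddSubgroup F :=
    { carrier := {c | ∃ t ∈ M, ∀ z, t z = z + (c * B x z) • x}
      zero_mem' := ⟨1, one_mem M, fun z => by simp⟩
      add_mem' := by
        rintro c c' ⟨t, ht, htz⟩ ⟨t', ht', htz'⟩
        refine ⟨t * t', mul_mem ht ht', fun z => ?_⟩
        rw [LinearEquiv.mul_apply, htz', htz]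
        simp only [map_add, map_smul, smul_eq_mul, hA, mul_zero, add_zero]
        module
      neg_mem' := by
        rintro c ⟨t, ht, htz⟩
        refine ⟨t⁻¹, inv_mem ht, fun z => ?_⟩
        rw [LinearEquiv.coe_inv, LinearEquiv.symm_apply_eq, htz]
        simp only [map_add, map_smul, smul_eq_mul, hA, mul_zero, add_zero]
        module }
  have hS : S = ⊤ := hgen S ht fun c hc => by
    obtain ⟨t, ht', htz⟩ := hc
    refine ⟨g * t * g⁻¹, mul_mem (mul_mem hg ht') (inv_mem hg), fun z => ?_⟩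
    obtain ⟨w, rfl⟩ := g.surjective z
    rw [LinearEquiv.mul_apply, LinearEquiv.mul_apply, LinearEquiv.coe_inv, LinearEquiv.symm_apply_apply,
      htz, map_add, map_smul, hgx]
    have h := hM hg x w
    rw [hgx, map_smul, LinearMap.smul_apply, smul_eq_mul] at h
    rw [← h]
    module
  exact fun c => (hS ▸ AddSubgroup.mem_top c : c ∈ S)

/-- The closure theorem over a field with more than two elements. -/
theorem atFull_all_of_orbit [FiniteDimensional F V] (hM : M ≤ formIsoms B) (hA : ∀ v, B v v = 0)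
    (hsep : ∀ v, (∀ w, B v w = 0) → v = 0) {θ : F} (hθ0 : θ ≠ 0) (hθ1 : θ ≠ 1) (y : ℕ → V)
    (hy : ∀ j, AtFull B M (y j)) (hyc : ∀ j, B (y j) (y (j + 1)) ≠ 0)
    (hysep : ∀ v, (∀ j, B (y j) v = 0) → v = 0) : ∀ z, AtFull B M z := by
  obtain ⟨x, hxdef⟩ : ∃ x, x = y 0 := ⟨_, rfl⟩
  have hx : AtFull B M x := hxdef ▸ hy 0
  have hx0 : x ≠ 0 := fun e => hyc 0 (by rw [← hxdef, e]; simp)
  have hsw := alt_swap B hA
  obtain ⟨a₀, ha₀, hxa₀⟩ : ∃ a, AtFull B M a ∧ B x a = 1 := by
    have h1 : B x (y 1) ≠ 0 := hxdef ▸ hyc 0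
    exact ⟨(B x (y 1))⁻¹ • y 1, (hy 1).smul _, by rw [map_smul, smul_eq_mul, inv_mul_cancel₀ h1]⟩
  let S : Set V := {δ | B x δ = 0 ∧ AtFull B M (a₀ + δ)}
  have hshift : ∀ a, AtFull B M a → B x a = 1 → ∀ k : F, AtFull B M (a + k • x) := fun a ha h1 k => by
    simpa [h1] using hx.move hM ha k
  have hS0 : (0 : V) ∈ S := ⟨map_zero _, by simpa using ha₀⟩
  have hSof : ∀ a, AtFull B M a → B x a = 1 → a - a₀ ∈ S := fun a ha h1 =>
    ⟨by rw [map_sub, h1, hxa₀, sub_self], by simpa using ha⟩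
  have affine : ∀ δ₁ δ₂, δ₁ ∈ S → δ₂ ∈ S → ∀ r : F, δ₁ + r • (δ₂ - δ₁) ∈ S := by
    rintro δ₁ δ₂ ⟨h1, hk₁⟩ ⟨h2, hk₂⟩ r
    refine ⟨by simp [h1, h2], ?_⟩
    rcases eq_or_ne r 0 with rfl | hr0
    · simpa using hk₁
    obtain ⟨A₁, hA₁⟩ : ∃ A, A = a₀ + δ₁ := ⟨_, rfl⟩
    obtain ⟨A₂, hA₂⟩ : ∃ A, A = a₀ + δ₂ := ⟨_, rfl⟩
    rw [← hA₁] at hk₁; rw [← hA₂] at hk₂
    have hxA₁ : B x A₁ = 1 := by rw [hA₁]; simp [h1, hxa₀]
    have hxA₂ : B x A₂ = 1 := by rw [hA₂]; simp [h2, hxa₀]
    obtain ⟨η, hη⟩ : ∃ η, η = B A₁ A₂ - 1 := ⟨_, rfl⟩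
    have hb : B A₁ (A₂ + η • x) = 1 := by
      rw [map_add, map_smul, hsw x A₁, hxA₁, hη, smul_eq_mul]; ring
    have h3 := (hk₁.move hM (hshift A₂ hk₂ hxA₂ η) (r⁻¹ - 1)).smul r
    rw [hb, mul_one] at h3
    have h4 := hshift _ h3 (by
      simp only [map_smul, map_add, hxA₁, hxA₂, hA, smul_eq_mul]
      field_simp
      ring) (-(r * η))
    convert h4 using 1
    rw [hA₁, hA₂]
    match_scalars <;> field_simp <;> ring
  have hsmul : ∀ δ ∈ S, ∀ r : F, r • δ ∈ S := fun δ hδ r => by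
    simpa using affine 0 δ hS0 hδ r
  have hadd : ∀ δ₁ ∈ S, ∀ δ₂ ∈ S, δ₁ + δ₂ ∈ S := by
    intro δ₁ h1 δ₂ h2
    have hθ' : 1 - θ ≠ 0 := sub_ne_zero.2 (Ne.symm hθ1)
    convert affine _ _ (hsmul _ h1 (1 - θ)⁻¹) (hsmul _ h2 θ⁻¹) θ using 1
    match_scalars <;> field_simp <;> ring
  let U : Submodule F V :=
    { carrier := S
      zero_mem' := hS0
      add_mem' := fun h h' => hadd _ h _ h'
      smul_mem' := fun r _ h => hsmul _ h r }
  have hxU : x ∈ U := ⟨hA x, by simpa using hshift a₀ ha₀ hxa₀ 1⟩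
  have hP1 : ∀ j, y j - B x (y j) • a₀ ∈ U := by
    intro j
    induction j with
    | zero => rw [← hxdef, hA, zero_smul, sub_zero]; exact hxU
    | succ j ih =>
      by_cases h1 : B x (y (j + 1)) = 0
      swap
      · have := U.smul_mem (B x (y (j + 1))) (hSof _ ((hy (j + 1)).smul (B x (y (j + 1)))⁻¹)
          (by rw [map_smul, smul_eq_mul, inv_mul_cancel₀ h1]))
        convert this using 1
        rw [smul_sub, smul_inv_smul₀ h1]
      rw [h1, zero_smul, sub_zero]
      obtain ⟨a, ha, hxa, hay⟩ : ∃ a, AtFull B M a ∧ B x a = 1 ∧ B (y (j + 1)) a ≠ 0 := by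
        by_contra hno
        push Not at hno
        have hU : ∀ δ ∈ U, B (y (j + 1)) δ = 0 := by
          rintro δ ⟨hδ, hk⟩
          have := hno _ hk (by simp [hδ, hxa₀])
          simpa [hno _ ha₀ hxa₀] using this
        have := hU _ ih
        simp only [map_sub, map_smul, hno _ ha₀ hxa₀, smul_zero, sub_zero] at this
        exact hyc j (by rw [hsw (y (j + 1)) (y j), this, neg_zero])
      have h2 := hSof _ ((hy (j + 1)).move hM ha 1) (by simp [hxa, h1])
      have h3 := U.sub_mem h2 (hSof _ ha hxa)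
      rw [one_mul, show a + B (y (j + 1)) a • y (j + 1) - a₀ - (a - a₀) =
        B (y (j + 1)) a • y (j + 1) by abel] at h3
      exact (Submodule.smul_mem_iff _ hay).1 h3
  have hperp : ∀ v, B x v = 0 → v ∈ U := by
    intro v hv
    let W : Submodule F V := U ⊔ (F ∙ a₀)
    have hW : ∀ j, y j ∈ W := fun j => by
      have := W.add_mem (Submodule.mem_sup_left (hP1 j)) (Submodule.mem_sup_right
        (Submodule.smul_mem _ (B x (y j)) (Submodule.mem_span_singleton_self a₀)))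
      simpa using this
    have hWtop : W = ⊤ := by
      by_contra hne
      obtain ⟨φ, hφ0, hφW⟩ := Submodule.exists_le_ker_of_lt_top W (lt_top_iff_ne_top.2 hne)
      have hinj : Function.Injective B := (injective_iff_map_eq_zero B).2 fun w hw =>
        hsep w fun u => by simp [hw]
      obtain ⟨w, hw⟩ := (LinearMap.injective_iff_surjective_of_finrank_eq_finrank
        (Subspace.dual_finrank_eq).symm).1 hinj φ
      refine hφ0 ?_
      have h0 : w = 0 := hysep w fun j => by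
        rw [hsw w (y j), hw, LinearMap.mem_ker.1 (hφW (hW j)), neg_zero]
      rw [← hw, h0, map_zero]
    obtain ⟨δ, hδ, w, hw, he⟩ := Submodule.mem_sup.1 (hWtop ▸ Submodule.mem_top : v ∈ W)
    obtain ⟨p, rfl⟩ := Submodule.mem_span_singleton.1 hw
    have hp : p = 0 := by
      have := congrArg (B x) he
      simpa [hδ.1, hxa₀, hv] using this
    rw [hp, zero_smul, add_zero] at he
    exact he ▸ hδ
  refine atFull_all_of_off_perp hM hA hsep hx0 fun z hz => ?_
  have h1 := hperp ((B x z)⁻¹ • z - a₀) (by simp [hxa₀, hz])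
  simpa [smul_inv_smul₀ hz] using h1.2.smul (B x z)

/-- The closure theorem over the field with two elements: a full vector with a unipotent chain. -/
theorem atFull_all_of_chain (hM : M ≤ formIsoms B) (hA : ∀ v, B v v = 0)
    (hsep : ∀ v, (∀ w, B v w = 0) → v = 0) (h2 : ∀ a : F, a = 0 ∨ a = 1) {n : ℕ} (hn : 2 ≤ n)
    {u : V ≃ₗ[F] V} (hu : u ∈ M) (c : ℕ → V) {x : V} (hx : AtFull B M x) (hc0 : AtFull B M (c 0))
    (huc : ∀ i, u (c i) = c i + c (i + 1)) (hux : u x = x) (hcx : c (2 * n - 1) = x)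
    (hxc0 : B x (c 0) = 1) (hxc : ∀ i, 1 ≤ i → B x (c i) = 0)
    (hchain : ∀ i, i < n → B (c i) (c (i + 1)) = 1) (hpair : B (c 1) (c (2 * n - 2)) = 1)
    (hspan : ∀ v, v - B x v • c 0 ∈ Submodule.span F (Set.range fun i => c (i + 1))) :
    ∀ z, AtFull B M z := by
  have h20 : (2 : F) = 0 := by
    rcases h2 2 with h | h
    · exact h
    · exact absurd (show (1 : F) = 0 by linear_combination h) one_ne_zero
  have hsw : ∀ a b, B b a = B a b := fun a b => by
    rw [alt_swap B hA a b]; linear_combination (-(B a b)) * h20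
  have hx0 : x ≠ 0 := fun e => by simp [e] at hxc0
  have hvv : ∀ v : V, v + v = 0 := fun v => by
    rw [← two_smul F v, h20, zero_smul]
  -- the chain is full as long as consecutive products are one
  have hfull : ∀ i, i ≤ n → AtFull B M (c i) := by
    intro i
    induction i with
    | zero => exact fun _ => hc0
    | succ i ih =>
      intro hi
      have h := (ih (by omega)).move hM ((ih (by omega)).map hM hu) 1
      rw [one_mul, huc, map_add, hA, zero_add, hchain i (by omega), one_smul] at h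
      rwa [show c i + c (i + 1) + c i = (c i + c i) + c (i + 1) by abel, hvv, zero_add] at h
  let T : Set V := {w | B x w = 0 ∧ ∃ g ∈ M, ∀ z, g z = z + B x z • w + B w z • x}
  obtain ⟨t, ht, htz⟩ := hx 1
  simp only [one_mul] at htz
  have hTadd : ∀ w ∈ T, ∀ w' ∈ T, w + w' ∈ T := by
    rintro w ⟨hw, g, hg, hgz⟩ w' ⟨hw', g', hg', hgz'⟩
    refine ⟨by simp [hw, hw'], ?_⟩
    obtain ⟨r, hr, hrz⟩ := hx (B w w')
    refine ⟨g * g' * r, mul_mem (mul_mem hg hg') hr, fun z => ?_⟩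
    rw [LinearEquiv.mul_apply, LinearEquiv.mul_apply, hrz, hgz', hgz]
    simp only [map_add, map_smul, LinearMap.add_apply, smul_eq_mul, hA, hw, hw', hsw x w, mul_zero,
      add_zero, zero_smul]
    match_scalars <;> (ring_nf; try simp [h20, hsw x w', hw'])
  have hTmap : ∀ w ∈ T, ∀ g ∈ M, g x = x → g w ∈ T := by
    rintro w ⟨hw, e, he, hez⟩ g hg hgx
    refine ⟨?_, g * e * g⁻¹, mul_mem (mul_mem hg he) (inv_mem hg), fun z => ?_⟩
    · rw [← hgx, hM hg]; exact hw
    obtain ⟨y, rfl⟩ := g.surjective z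
    rw [LinearEquiv.mul_apply, LinearEquiv.mul_apply, LinearEquiv.coe_inv, LinearEquiv.symm_apply_apply,
      hez, map_add, map_add, map_smul, map_smul, hgx, hM hg w y]
    conv_rhs => rw [← hgx, hM hg x y, hgx]
  have hT0 : (0 : V) ∈ T := ⟨map_zero _, 1, one_mem M, fun z => by simp⟩
  -- two full vectors differing by `x`
  obtain ⟨k, hk1, hk2⟩ : ∃ k, n ≤ 2 ^ k ∧ 2 ^ k ≤ 2 * n - 2 := by
    refine ⟨Nat.log 2 (2 * n - 2), ?_, Nat.pow_log_le_self 2 (by omega)⟩
    have := Nat.lt_pow_succ_log_self (b := 2) (by norm_num) (2 * n - 2)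
    rw [pow_succ] at this
    omega
  have hupow : ∀ k i, (u ^ 2 ^ k) (c i) = c i + c (i + 2 ^ k) := by
    intro k
    induction k with
    | zero => intro i; simpa using huc i
    | succ k ih =>
      intro i
      rw [pow_succ, mul_two, pow_add, LinearEquiv.mul_apply, ih, map_add, ih, ih,
        show i + 2 ^ k + 2 ^ k = i + (2 ^ k + 2 ^ k) by ring]
      rw [show c i + c (i + 2 ^ k) + (c (i + 2 ^ k) + c (i + (2 ^ k + 2 ^ k))) =
        c i + (c (i + 2 ^ k) + c (i + 2 ^ k)) + c (i + (2 ^ k + 2 ^ k)) by abel, hvv, add_zero]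
  obtain ⟨j, hj⟩ : ∃ j, j + 2 ^ k = 2 * n - 1 := ⟨2 * n - 1 - 2 ^ k, by omega⟩
  have hj1 : 1 ≤ j ∧ j ≤ n := by omega
  have hjT : c j ∈ T := by
    have hw := hfull j hj1.2
    have hw' : AtFull B M (c j + x) := by
      rw [← hcx, ← hj, ← hupow]
      exact hw.map hM (pow_mem hu _)
    obtain ⟨a, ha, haz⟩ := hw 1
    obtain ⟨b, hb, hbz⟩ := hw' 1
    simp only [one_mul] at haz hbz
    have hxj : B (c j) x = 0 := by rw [hsw x, hxc j hj1.1]
    refine ⟨hxc j hj1.1, b * a * t, mul_mem (mul_mem hb ha) ht, fun z => ?_⟩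
    rw [LinearEquiv.mul_apply, LinearEquiv.mul_apply, htz, haz, hbz]
    simp only [map_add, map_smul, LinearMap.add_apply, smul_eq_mul, hA, hxj, hxc j hj1.1, mul_zero,
      add_zero]
    match_scalars <;> (ring_nf; try simp [h20])
  have hTup : ∀ i, c i ∈ T → c (i + 1) ∈ T := fun i hi => by
    have := hTadd _ hi _ (hTmap _ hi u hu hux)
    rwa [huc, ← add_assoc, hvv, zero_add] at this
  have hTge : ∀ i, j ≤ i → c i ∈ T := fun i hi => by
    induction i, hi using Nat.le_induction with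
    | base => exact hjT
    | succ i _ ih => exact hTup i ih
  have hT1 : c 1 ∈ T := by
    obtain ⟨a, ha, haz⟩ := hfull 1 (by omega) 1
    have h := hTadd _ (hTge (2 * n - 2) (by omega)) _ (hTmap _ (hTge (2 * n - 2) (by omega)) a ha (by
      rw [haz, hsw x, hxc 1 le_rfl]; simp))
    rwa [haz, hpair, one_mul, one_smul, ← add_assoc, hvv, zero_add] at h
  have hTall : ∀ i, c (i + 1) ∈ T := fun i => by
    induction i with
    | zero => exact hT1
    | succ i ih => exact hTup _ ih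
  let U : Submodule F V :=
    { carrier := T
      zero_mem' := hT0
      add_mem' := fun h h' => hTadd _ h _ h'
      smul_mem' := fun r w h => by rcases h2 r with rfl | rfl <;> simp [h, hT0] }
  refine atFull_all_of_off_perp hM hA hsep hx0 fun z hz => ?_
  have hz1 : B x z = 1 := (h2 _).resolve_left hz
  obtain ⟨hw, g, hg, hgz⟩ : z - c 0 ∈ U := by
    have := Submodule.span_le.2 (show Set.range (fun i => c (i + 1)) ⊆ (U : Set V) from
      Set.range_subset_iff.2 hTall) (hspan z)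
    rwa [hz1, one_smul] at this
  have h := hx.move hM (hc0.map hM hg) (-(B (z - c 0) (c 0)))
  rw [hgz, hxc0, one_smul] at h
  convert h using 1
  simp only [map_add, map_smul, smul_eq_mul, hA, hxc0, hw, mul_zero, add_zero]
  module

end CfsgLib.Geom
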