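import Mathlib
import Cfsg.Prelude.Def_Classical

set_option autoImplicit false

/-!
The symmetric group of degree eight on even subsets modulo complements, as isometries of the hyperbolic form in
dimension six over the field with two elements.
-/

namespace CfsgLib.Geom

open Matrix

/-- Six subsets of size four forming three hyperbolic pairs. -/
def hypIncl : Matrix (Fin 8) (Fin 3 ⊕ Fin 3) (ZMod 2) :=
  Matrix.of fun i => Sum.elim
    (![![1, 1, 1], ![1, 1, 0], ![1, 0, 1], ![1, 0, 0], ![0, 0, 0], ![0, 1, 0], ![0, 1, 1], ![0, 0, 1]] i)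
    (![![1, 1, 1], ![1, 1, 0], ![1, 0, 0], ![0, 0, 1], ![1, 0, 1], ![0, 1, 1], ![0, 0, 0], ![0, 1, 0]] i)

/-- The coordinates of an even subset. -/
def hypCoord : Matrix (Fin 3 ⊕ Fin 3) (Fin 8) (ZMod 2) := hypInclᵀ.submatrix Sum.swap id

theorem forall_fin8 {P : (Fin 8 → ZMod 2) → Prop}
    (h : ∀ a b c d e f g k : ZMod 2, P ![a, b, c, d, e, f, g, k]) (y : Fin 8 → ZMod 2) : P y := by
  have := h (y 0) (y 1) (y 2) (y 3) (y 4) (y 5) (y 6) (y 7)
  have e : y = ![y 0, y 1, y 2, y 3, y 4, y 5, y 6, y 7] := by funext i; fin_cases i <;> rfl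
  rwa [← e] at this

/-- Half the weight, modulo two. -/
def halfWeight (y : Fin 8 → ZMod 2) : ZMod 2 := (((∑ i, (y i).val) / 2 : ℕ) : ZMod 2)

set_option maxRecDepth 4000 in
theorem hyp_facts : ∀ y : Fin 8 → ZMod 2, ∑ i, y i = 0 →
    (hypIncl *ᵥ (hypCoord *ᵥ y) = y ∨ hypIncl *ᵥ (hypCoord *ᵥ y) = y + 1) ∧
      Cfsg.quadFormPlus 3 (ZMod 2) (hypCoord *ᵥ y) = halfWeight y := by
  refine forall_fin8 ?_
  decide

theorem hypCoord_incl : hypCoord * hypIncl = 1 := by decide

theorem hypCoord_one : hypCoord *ᵥ 1 = 0 := by decide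

theorem hypIncl_even (v : Fin 3 ⊕ Fin 3 → ZMod 2) : ∑ i, (hypIncl *ᵥ v) i = 0 := by
  have h : (1 : Fin 8 → ZMod 2) ᵥ* hypIncl = 0 := by decide
  have h' := congrArg (· ⬝ᵥ v) h
  simp only [← dotProduct_mulVec, zero_dotProduct] at h'
  simpa [dotProduct] using h'

theorem halfWeight_perm (σ : Equiv.Perm (Fin 8)) (y : Fin 8 → ZMod 2) :
    halfWeight (fun i => y (σ i)) = halfWeight y := by
  unfold halfWeight
  rw [Equiv.sum_comp σ fun i => (y i).val]

/-- The matrix of a permutation on coordinates. -/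
def permAct (σ : Equiv.Perm (Fin 8)) : Matrix (Fin 3 ⊕ Fin 3) (Fin 3 ⊕ Fin 3) (ZMod 2) :=
  hypCoord * (hypIncl.submatrix σ.symm id)

theorem permAct_mulVec (σ : Equiv.Perm (Fin 8)) (v : Fin 3 ⊕ Fin 3 → ZMod 2) :
    permAct σ *ᵥ v = hypCoord *ᵥ fun i => (hypIncl *ᵥ v) (σ.symm i) := by
  rw [permAct, ← mulVec_mulVec]
  rfl

theorem permAct_one : permAct 1 = 1 := by
  rw [permAct]
  exact hypCoord_incl

theorem permAct_mul (σ τ : Equiv.Perm (Fin 8)) : permAct (σ * τ) = permAct σ * permAct τ := by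
  refine Matrix.ext_iff_mulVec.2 fun v => ?_
  rw [← mulVec_mulVec, permAct_mulVec, permAct_mulVec, permAct_mulVec]
  have heven : ∑ i, (hypIncl *ᵥ v) (τ.symm i) = 0 := by
    rw [Equiv.sum_comp τ.symm (hypIncl *ᵥ v)]; exact hypIncl_even v
  rcases (hyp_facts _ heven).1 with e | e <;> rw [e]
  · rfl
  · rw [show (fun i => ((fun i => (hypIncl *ᵥ v) (τ.symm i)) + 1) (σ.symm i)) =
      (fun i => (hypIncl *ᵥ v) ((σ * τ).symm i)) + 1 from rfl, mulVec_add, hypCoord_one, add_zero]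

theorem permAct_isometry (σ : Equiv.Perm (Fin 8)) (v : Fin 3 ⊕ Fin 3 → ZMod 2) :
    Cfsg.quadFormPlus 3 (ZMod 2) (permAct σ *ᵥ v) = Cfsg.quadFormPlus 3 (ZMod 2) v := by
  have heven := hypIncl_even v
  have heven' : ∑ i, (hypIncl *ᵥ v) (σ.symm i) = 0 := by
    rw [Equiv.sum_comp σ.symm (hypIncl *ᵥ v)]; exact heven
  rw [permAct_mulVec, (hyp_facts _ heven').2, halfWeight_perm σ.symm, ← (hyp_facts _ heven).2,
    mulVec_mulVec, hypCoord_incl, one_mulVec]

theorem permAct_eq_one (σ : Equiv.Perm (Fin 8)) (h : permAct σ = 1) : σ = 1 := by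
  have hfix : ∀ y : Fin 8 → ZMod 2, ∑ i, y i = 0 →
      ∃ c : ZMod 2, ∀ i, y (σ.symm i) = y i + c := by
    intro y hy
    obtain ⟨c, hc⟩ : ∃ c : ZMod 2, ∀ i, (hypIncl *ᵥ (hypCoord *ᵥ y)) i = y i + c := by
      rcases (hyp_facts y hy).1 with e | e
      · exact ⟨0, fun i => by rw [e, add_zero]⟩
      · exact ⟨1, fun i => by rw [e]; rfl⟩
    have h1 := permAct_mulVec σ (hypCoord *ᵥ y)
    rw [h, one_mulVec] at h1
    have hy' : ∑ i, (hypIncl *ᵥ (hypCoord *ᵥ y)) (σ.symm i) = 0 := by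
      rw [Equiv.sum_comp σ.symm (hypIncl *ᵥ _)]; exact hypIncl_even _
    rcases (hyp_facts _ hy').1 with e | e <;> rw [← h1] at e
    · refine ⟨0, fun i => ?_⟩
      have := congrFun e i
      rw [hc, hc] at this
      linear_combination -this
    · refine ⟨1, fun i => ?_⟩
      have := congrFun e i
      rw [Pi.add_apply, hc, hc, Pi.one_apply] at this
      have h2 : (2 : ZMod 2) = 0 := by decide
      linear_combination -this + (-1 : ZMod 2) * h2
  have hmove : ∀ i j, i ≠ j → σ i = i ∨ σ i = j := by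
    intro i j hij
    by_contra hcon
    push Not at hcon
    obtain ⟨c, hc⟩ := hfix (Pi.single i 1 + Pi.single j 1) (by
      simp [Finset.sum_add_distrib]; decide)
    obtain ⟨k, -, hk⟩ := Finset.exists_mem_notMem_of_card_lt_card
      (s := ({i, j, σ i, σ j} : Finset (Fin 8))) (t := Finset.univ)
      (lt_of_le_of_lt Finset.card_le_four (by simp))
    simp only [Finset.mem_insert, Finset.mem_singleton, not_or] at hk
    have hσk : σ.symm k ≠ i ∧ σ.symm k ≠ j := ⟨fun h => hk.2.2.1 (by rw [← h]; simp),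
      fun h => hk.2.2.2 (by rw [← h]; simp)⟩
    have e1 := hc k
    have e2 := hc (σ i)
    simp [Pi.single_apply, hk.1, hk.2.1, hσk.1, hσk.2] at e1
    subst e1
    simp [Pi.single_apply, hcon.1, hcon.2, hij] at e2
  refine Equiv.ext fun i => ?_
  obtain ⟨j, -, hj⟩ := Finset.exists_mem_notMem_of_card_lt_card
    (s := ({i, σ i} : Finset (Fin 8))) (t := Finset.univ)
    (lt_of_le_of_lt Finset.card_le_two (by simp))
  simp only [Finset.mem_insert, Finset.mem_singleton, not_or] at hj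
  rcases hmove i j (Ne.symm hj.1) with h | h
  · exact h
  · exact absurd h.symm hj.2

end CfsgLib.Geom
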