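import Mathlib
import Cfsg.Agent.Lib.Geom.IsoStab

set_option autoImplicit false

/-!
Counting totally isotropic subspaces of a given dimension by orbit-stabiliser.
-/

namespace CfsgLib.Geom

variable {F V : Type*} [Field F] [AddCommGroup V] [Module F V] [FiniteDimensional F V] {σ : F →+* F}

/-- `#(isotropic k-subspaces) * |stabiliser| = |isometry group|`. -/
theorem card_isotropic_mul (B : V →ₛₗ[σ] V →ₗ[F] F) (hW : HasWittExt B) (W₀ : Submodule F V) {k : ℕ}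
    (hk : Module.finrank F W₀ = k) (hiso : ∀ u ∈ W₀, ∀ v ∈ W₀, B u v = 0) :
    Nat.card {W : Submodule F V // Module.finrank F W = k ∧ ∀ u ∈ W, ∀ v ∈ W, B u v = 0} *
      Nat.card (isomStab B W₀) = Nat.card (formIsoms B) := by
  classical
  let X := {W : Submodule F V // Module.finrank F W = k ∧ ∀ u ∈ W, ∀ v ∈ W, B u v = 0}
  have hex : ∀ W : X, ∃ g : formIsoms B, W₀.map (g.1 : V →ₗ[F] V) = W.1 := by
    intro W
    let e : W₀ ≃ₗ[F] W.1 := LinearEquiv.ofFinrankEq _ _ (hk.trans W.2.1.symm)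
    obtain ⟨g, hg, hgW⟩ := hW W₀ (W.1.subtype.comp e.toLinearMap)
      (W.1.injective_subtype.comp e.injective)
      (fun x x' => by
        show B (e x : V) (e x' : V) = _
        rw [W.2.2 _ (e x).2 _ (e x').2, hiso _ x.2 _ x'.2])
    refine ⟨⟨g, hg⟩, le_antisymm ?_ ?_⟩
    · rintro _ ⟨x, hx, rfl⟩
      show g x ∈ W.1
      rw [hgW ⟨x, hx⟩]
      exact (e _).2
    · intro y hy
      obtain ⟨x, hx⟩ := e.surjective ⟨y, hy⟩
      refine ⟨x, x.2, ?_⟩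
      show g (x : V) = y
      rw [hgW x]
      exact congrArg Subtype.val hx
  choose sec hsec using hex
  have himg : ∀ g : formIsoms B, Module.finrank F (W₀.map (g.1 : V →ₗ[F] V)) = k ∧
      ∀ u ∈ W₀.map (g.1 : V →ₗ[F] V), ∀ v ∈ W₀.map (g.1 : V →ₗ[F] V), B u v = 0 := fun g => by
    refine ⟨by rw [LinearEquiv.finrank_map_eq, hk], ?_⟩
    rintro _ ⟨u, hu, rfl⟩ _ ⟨v, hv, rfl⟩
    show B (g.1 u) (g.1 v) = 0
    rw [g.2 u v]; exact hiso u hu v hv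
  have hmem : ∀ g : formIsoms B, g.1 ∈ isomStab B W₀ ↔ W₀.map (g.1 : V →ₗ[F] V) = W₀ := by
    intro g
    constructor
    · intro h
      refine le_antisymm ?_ fun y hy => ⟨g.1.symm y, (h.2 _).2 (by simpa using hy), g.1.apply_symm_apply y⟩
      rintro _ ⟨x, hx, rfl⟩
      exact (h.2 x).1 hx
    · intro h
      refine ⟨g.2, fun v => ⟨fun hv => ?_, fun hv => ?_⟩⟩
      · rw [← h]; exact ⟨v, hv, rfl⟩
      · rw [← h] at hv
        obtain ⟨w, hw, hwe⟩ := hv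
        rwa [← g.1.injective hwe]
  have hstab : ∀ g : formIsoms B, ((sec ⟨_, himg g⟩)⁻¹ * g).1 ∈ isomStab B W₀ := fun g => by
    refine (hmem _).2 ?_
    have h := hsec ⟨_, himg g⟩
    refine le_antisymm ?_ ?_
    · rintro _ ⟨x, hx, rfl⟩
      obtain ⟨y, hy, hyx⟩ := h.symm.le (⟨x, hx, rfl⟩ : g.1 x ∈ W₀.map (g.1 : V →ₗ[F] V))
      show (sec ⟨_, himg g⟩).1⁻¹ (g.1 x) ∈ W₀
      rw [← show (sec ⟨_, himg g⟩).1 y = g.1 x from hyx]
      simpa using hy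
    · intro y hy
      obtain ⟨x, hx, hxy⟩ := h.le (⟨y, hy, rfl⟩ : (sec ⟨_, himg g⟩).1 y ∈
        W₀.map ((sec ⟨_, himg g⟩).1 : V →ₗ[F] V))
      refine ⟨x, hx, ?_⟩
      show (sec ⟨_, himg g⟩).1⁻¹ (g.1 x) = y
      rw [show g.1 x = _ from hxy]
      exact (sec ⟨_, himg g⟩).1.symm_apply_apply y
  rw [← Nat.card_prod]
  refine (Nat.card_congr
    { toFun := fun g => (⟨_, himg g⟩, ⟨_, hstab g⟩)
      invFun := fun p => sec p.1 * ⟨p.2.1, p.2.2.1⟩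
      left_inv := fun g => mul_inv_cancel_left (sec ⟨_, himg g⟩) g
      right_inv := fun p => ?_ }).symm
  have h1 : W₀.map (((sec p.1 * ⟨p.2.1, p.2.2.1⟩ : formIsoms B)).1 : V →ₗ[F] V) = p.1.1 := by
    have h2 := (hmem ⟨p.2.1, p.2.2.1⟩).1 p.2.2
    show W₀.map ((((sec p.1).1 * p.2.1 : V ≃ₗ[F] V)) : V →ₗ[F] V) = p.1.1
    have : (((sec p.1).1 * p.2.1 : V ≃ₗ[F] V) : V →ₗ[F] V) =
        ((sec p.1).1 : V →ₗ[F] V).comp (p.2.1 : V →ₗ[F] V) := rfl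
    rw [this, Submodule.map_comp, h2, hsec]
  have h3 : (⟨_, himg (sec p.1 * ⟨p.2.1, p.2.2.1⟩)⟩ : X) = p.1 := Subtype.ext h1
  refine Prod.ext h3 (Subtype.ext ?_)
  show ((sec _)⁻¹ * (sec p.1 * ⟨p.2.1, p.2.2.1⟩) : formIsoms B).1 = p.2.1
  rw [h3, inv_mul_cancel_left]

end CfsgLib.Geom
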