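import Mathlib
import Cfsg.Agent.Lib.Geom.IsoCount
import Cfsg.Agent.Lib.Geom.IsoStabHerm
import Cfsg.Agent.Lib.Geom.HermNorm

set_option autoImplicit false

/-!
Counting totally isotropic lines of Hermitian polar spaces.
-/

namespace CfsgLib.Geom

open CfsgLib.Classical (hermB hermB_apply qFrob qFrob_qFrob qFrob_ne_id card_gu)

variable {F : Type*} [Field F] [Fintype F] {q : ℕ}

theorem exists_isotropic_plane (hF : Fintype.card F = q ^ 2) {n : ℕ} (hn : 4 ≤ n) :
    ∃ W : Submodule F (Fin n → F), Module.finrank F W = 2 ∧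
      ∀ u ∈ W, ∀ v ∈ W, hermB hF n u v = 0 := by
  obtain ⟨ε, hε⟩ := exists_norm_eq (qFrob_ne_id hF) (qFrob_qFrob hF) (c := -1) (by simp)
  let i : Fin 4 → Fin n := Fin.castLE hn
  let ι : (Fin 2 → F) →ₗ[F] (Fin n → F) :=
    { toFun := fun a => Pi.single (i 0) (a 0) + Pi.single (i 1) (ε * a 0) + Pi.single (i 2) (a 1) +
          Pi.single (i 3) (ε * a 1)
      map_add' := fun a b => by simp [mul_add, Pi.single_add]; abel
      map_smul' := fun c a => by
        simp [smul_add, ← Pi.single_smul, mul_left_comm] }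
  have hne : ∀ a b : Fin 4, a ≠ b → i a ≠ i b := fun a b h e => h (Fin.castLE_injective hn e)
  have hι0 : ∀ a, ι a (i 0) = a 0 := fun a => by
    simp [ι, hne 0 1 (by decide), hne 0 2 (by decide), hne 0 3 (by decide)]
  have hι2 : ∀ a, ι a (i 2) = a 1 := fun a => by
    simp [ι, hne 2 0 (by decide), hne 2 1 (by decide), hne 2 3 (by decide)]
  refine ⟨LinearMap.range ι, ?_, ?_⟩
  · rw [LinearMap.finrank_range_of_inj fun a b h => funext fun j => by
      fin_cases j
      · simpa [hι0] using congrFun h (i 0)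
      · simpa [hι2] using congrFun h (i 2)]
    simp
  · have hb : ∀ (a b : Fin n) (x y : F), hermB hF n (Pi.single a x) (Pi.single b y) =
        if a = b then y * qFrob hF x else 0 := by
      intro a b x y
      rw [hermB_apply, Cfsg.hermForm, Finset.sum_eq_single b (fun c _ hc => by simp [hc]) (by simp)]
      rcases eq_or_ne a b with rfl | h
      · simp [CfsgLib.Classical.qFrob_apply]
      · simp [h, zero_pow (show q ≠ 0 by have := CfsgLib.Classical.two_le_of_card_sq hF; omega)]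
    rintro _ ⟨a, rfl⟩ _ ⟨b, rfl⟩
    simp only [ι, LinearMap.coe_mk, AddHom.coe_mk, map_add, LinearMap.add_apply, hb,
      hne 0 1 (by decide), hne 0 2 (by decide), hne 0 3 (by decide), hne 1 0 (by decide),
      hne 1 2 (by decide), hne 1 3 (by decide), hne 2 0 (by decide), hne 2 1 (by decide),
      hne 2 3 (by decide), hne 3 0 (by decide), hne 3 1 (by decide), hne 3 2 (by decide), if_true,
      if_false, map_mul]
    linear_combination (b 0 * qFrob hF (a 0) + b 1 * qFrob hF (a 1)) * hε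

theorem card_isotropic_planes_mul (hF : Fintype.card F = q ^ 2) {n : ℕ} (hn : 4 ≤ n) :
    Nat.card {W : Submodule F (Fin n → F) // Module.finrank F W = 2 ∧
        ∀ u ∈ W, ∀ v ∈ W, Cfsg.hermForm n F q u v = 0} *
      ((∏ i : Fin 2, ((q ^ 2) ^ 2 - (q ^ 2) ^ (i : ℕ))) * (q ^ (2 * (2 * n - 3 * 2)) *
        (q ^ ((n - 2 * 2) * (n - 2 * 2 - 1) / 2) *
          ∏ i ∈ Finset.range (n - 2 * 2), (if Even i then q ^ (i + 1) + 1 else q ^ (i + 1) - 1)))) =
      q ^ (n * (n - 1) / 2) *
        ∏ i ∈ Finset.range n, (if Even i then q ^ (i + 1) + 1 else q ^ (i + 1) - 1) := by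
  obtain ⟨W₀, hk, hiso⟩ := exists_isotropic_plane hF hn
  rw [← card_isomStab_herm hF n 2 (by omega) W₀ hk hiso, ← card_gu hF,
    Nat.card_congr (guEquiv hF n).toEquiv,
    ← card_isotropic_mul (hermB hF n) (hasWittExt_hermB hF n) W₀ hk hiso]
  congr 1
  refine Nat.card_congr (Equiv.subtypeEquivRight fun W => ?_)
  simp only [hermB_apply]
  exact ⟨fun h => ⟨h.1, fun u hu v hv => h.2 v hv u hu⟩, fun h => ⟨h.1, fun u hu v hv => h.2 v hv u hu⟩⟩

end CfsgLib.Geom
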