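import Mathlib
import Cfsg.Agent.Lib.Geom.MaxExclude

set_option autoImplicit false

/-!
From coatoms of `PSL_2(F)` to subgroups of `PGL_2(F)`, and the small exceptions among the dihedral shapes.
-/

namespace CfsgLib.Geom.Moebius

open Matrix
open scoped MatrixGroups

variable {F : Type*} [Field F]

local notation "PSL2" => ProjectiveSpecialLinearGroup (Fin 2) F
local notation "ψ" => Matrix.ProjectiveSpecialLinearGroup.toPGL (n := Fin 2) (R := F)

/-- The isomorphism with the image. -/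
noncomputable def mapEquiv (M : Subgroup PSL2) : M ≃* M.map ψ :=
  M.equivMapOfInjective _ Matrix.ProjectiveSpecialLinearGroup.toPGL_injective

theorem maxIn_map_psl {M : Subgroup PSL2} (hM : IsCoatom M) :
    MaxIn (M.map ψ) (imL F) ∧ ¬ imL F ≤ M.map ψ := by
  have h := maxIn_map ψ Matrix.ProjectiveSpecialLinearGroup.toPGL_injective hM
  exact ⟨h, fun hle => h.1.not_ge hle⟩

theorem exists_typeZero_field (K : Type*) [Field K] [Fintype K] :
    ∃ (F₀ : Type) (_ : Field F₀) (_ : Fintype F₀), Fintype.card F₀ = Fintype.card K ∧ Nonempty (K ≃+* F₀) := by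
  classical
  obtain ⟨p, hp⟩ := CharP.exists K
  obtain ⟨n, hprime, hn⟩ := FiniteField.card K p
  have := Fact.mk hprime
  let _ : Fintype (GaloisField p n) := Fintype.ofFinite _
  have hc : Fintype.card K = Fintype.card (GaloisField p n) := by
    rw [hn, ← Nat.card_eq_fintype_card (α := GaloisField p n), GaloisField.card p n n.ne_zero]
  exact ⟨GaloisField p n, inferInstance, inferInstance, hc.symm, ⟨FiniteField.ringEquivOfCardEq hc⟩⟩

variable [Fintype F]

theorem isSquare_two_of_mod (h : Fintype.card F % 8 ≠ 3 ∧ Fintype.card F % 8 ≠ 5) : IsSquare (2 : F) :=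
  FiniteField.isSquare_two_iff.2 h

theorem bound_twentyFour : ∀ k ∈ Nat.divisors 24, k % 2 = 1 → k * 8 ≤ 24 := by decide +kernel

theorem bound_twentyFour' : ∀ k ∈ Nat.divisors 24, k % 3 = 1 → k * 6 ≤ 24 := by decide +kernel

theorem bound_sixty : ∀ k ∈ Nat.divisors 60, k % 5 = 1 → k * 10 ≤ 60 := by decide +kernel

variable {E : Type*} [Field E] [Fintype (Line E)] (f : F →+* E)

/-- The dihedral subgroups of `PSL_2` missing from the list for `q ≤ 11` are not maximal. -/
theorem pair_psl_small (hE : Nat.card E = Fintype.card F ^ 2) (hQC : QuadClosed f) (h4 : 4 ≤ Fintype.card F)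
    (hodd : Odd (Fintype.card F)) {M : Subgroup PSL2} (hM : IsCoatom M) {P Q : Line E} (hPQ : P ≠ Q)
    {g : PGL(2, F)} (hg : g ≠ 1) (hgP : extHom f g • P = P) (hgQ : extHom f g • Q = Q)
    (h : M.map ψ = pairStab f P Q ⊓ imL F) :
    ∃ k, Nonempty (M ≃* DihedralGroup k) ∧ ((2 * k = Fintype.card F - 1 ∧ 13 ≤ Fintype.card F) ∨
      (2 * k = Fintype.card F + 1 ∧ Fintype.card F ≠ 7 ∧ Fintype.card F ≠ 9)) := by
  classical
  obtain ⟨k, hk, hT, he, h2k, -⟩ := pair_imL f hE hQC h4 hodd hPQ hg hgP hgQ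
  obtain ⟨e⟩ := he
  refine ⟨k, ⟨(mapEquiv M).trans ((MulEquiv.subgroupCongr h).trans e)⟩, ?_⟩
  have := finite_pgl_two (F := F)
  have h2 := CfsgLib.Classical.two_ne_zero_of_odd hodd
  have hcM : Nat.card M = 2 * k := by rw [← card_map_toPGL, h, h2k]
  have hG := card_psl_two_split (F := F)
  rw [gcd_two_of_odd hodd] at hG
  have hsimple := CfsgLib.ClassK.isSimpleGroup_psl_two h4
  have hN : ∀ C : Subgroup PSL2, 1 < Nat.card C → Nat.card C < Nat.card PSL2 →
      Subgroup.normalizer (C : Set PSL2) ≠ ⊤ := by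
    intro C h1 hlt e
    rcases IsSimpleGroup.eq_bot_or_eq_top_of_normal C (Subgroup.normalizer_eq_top_iff.1 e) with e' | e'
    · rw [e', Subgroup.card_bot] at h1; omega
    · rw [e', Subgroup.card_top] at hlt; omega
  -- the rotations
  set C := (fixExt f P ⊓ fixExt f Q ⊓ imL F : Subgroup PGL(2, F)).comap ψ
  have hC : Nat.card C = k := (card_comap_toPGL inf_le_right).trans hT
  have hCM : M ≤ Subgroup.normalizer (C : Set PSL2) := by
    intro x hx
    have hx' : ψ x ∈ (pairStab f P Q ⊓ imL F : Subgroup PGL(2, F)) := h ▸ ⟨x, hx, rfl⟩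
    refine Subgroup.mem_normalizer_iff.2 fun z => ⟨fun hz => ?_, fun hz => ?_⟩
    · have := fix_conj_mem f hx' hz
      rwa [← map_inv, ← map_mul, ← map_mul] at this
    · have := fix_conj_mem f (inv_mem hx') hz
      show ψ z ∈ (fixExt f P ⊓ fixExt f Q ⊓ imL F : Subgroup PGL(2, F))
      simpa [mul_assoc] using this
  have hS4 : (Fintype.card F = 7 ∨ Fintype.card F = 9) →
      ∃ H : Subgroup PSL2, Nat.card H = 24 ∧ H ≠ ⊤ := by
    intro hq
    obtain ⟨H, ⟨i⟩⟩ := SL2Anti.exists_permFour_psl h2 (isSquare_two_of_mod (F := F) (by omega))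
    have hc : Nat.card H = 24 := by
      rw [Nat.card_congr i.toEquiv, Nat.card_perm, Nat.card_fin]; rfl
    refine ⟨H, hc, fun e => ?_⟩
    rw [e, Subgroup.card_top] at hc
    rcases hq with hq | hq <;> rw [hc, hq] at hG <;> omega
  have hA5 : (Fintype.card F = 9 ∨ Fintype.card F = 11) → ∃ H : Subgroup PSL2, Nat.card H = 60 ∧ H ≠ ⊤ := by
    intro hq
    obtain ⟨φ, hφ⟩ := Golden.exists_golden (F := F) (by rcases hq with hq | hq <;> rw [hq] <;> norm_num)
    obtain ⟨H, ⟨i⟩⟩ := exists_altFive_psl hodd hφ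
    have hc : Nat.card H = 60 := by
      rw [Nat.card_congr i.toEquiv, nat_card_alternatingGroup, Nat.card_fin]; rfl
    refine ⟨H, hc, fun e => ?_⟩
    rw [e, Subgroup.card_top] at hc
    rcases hq with hq | hq <;> rw [hc, hq] at hG <;> omega
  by_contra hcon
  simp only [not_or, not_and, ne_eq, not_not, not_le] at hcon
  obtain ⟨hcon1, hcon2⟩ := hcon
  obtain ⟨j, hj⟩ := hodd
  have cases6 : (Fintype.card F = 5 ∧ k = 2) ∨ (Fintype.card F = 7 ∧ k = 3) ∨ (Fintype.card F = 7 ∧ k = 4) ∨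
      (Fintype.card F = 9 ∧ k = 4) ∨ (Fintype.card F = 9 ∧ k = 5) ∨ (Fintype.card F = 11 ∧ k = 5) := by
    rcases hk with hk | hk
    · have := hcon1 hk; omega
    · have := hcon2 hk; omega
  have := Fact.mk (show Nat.Prime 5 by norm_num)
  rcases cases6 with ⟨hq, rfl⟩ | ⟨hq, rfl⟩ | ⟨hq, rfl⟩ | ⟨hq, rfl⟩ | ⟨hq, rfl⟩ | ⟨hq, rfl⟩ <;> rw [hq] at hG
  · exact pair_klein_false f hQC h4 ⟨j, hj⟩ le_rfl (h ▸ (maxIn_map_psl hM).1) ⟨e⟩
  · obtain ⟨H, hH, hHt⟩ := hS4 (Or.inl hq)
    exact not_coatom_of_sylow 3 hM hCM (hN C (by omega) (by omega)) 1 (by rw [hC, pow_one])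
      (by rw [show Nat.card PSL2 = 168 by omega]; norm_num) hHt (by rw [hH]; norm_num)
      (fun t ht h1 => by
        rw [hH] at ht ⊢
        rw [hcM]
        exact bound_twentyFour' t (Nat.mem_divisors.2 ⟨ht, by norm_num⟩) h1) (by omega)
  · obtain ⟨H, hH, hHt⟩ := hS4 (Or.inl hq)
    exact not_coatom_of_sylow 2 hM Subgroup.le_normalizer (hN M (by omega) (by omega)) 3 (by rw [hcM]; rfl)
      (by rw [show Nat.card PSL2 = 168 by omega]; norm_num) hHt (by rw [hH]; norm_num)
      (fun t ht h1 => by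
        rw [hH] at ht ⊢
        rw [hcM]
        exact bound_twentyFour t (Nat.mem_divisors.2 ⟨ht, by norm_num⟩) h1) (by omega)
  · obtain ⟨H, hH, hHt⟩ := hS4 (Or.inr hq)
    exact not_coatom_of_sylow 2 hM Subgroup.le_normalizer (hN M (by omega) (by omega)) 3 (by rw [hcM]; rfl)
      (by rw [show Nat.card PSL2 = 360 by omega]; norm_num) hHt (by rw [hH]; norm_num)
      (fun t ht h1 => by
        rw [hH] at ht ⊢
        rw [hcM]
        exact bound_twentyFour t (Nat.mem_divisors.2 ⟨ht, by norm_num⟩) h1) (by omega)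
  · obtain ⟨H, hH, hHt⟩ := hA5 (Or.inl hq)
    exact not_coatom_of_sylow 5 hM hCM (hN C (by omega) (by omega)) 1 (by rw [hC, pow_one])
      (by rw [show Nat.card PSL2 = 360 by omega]; norm_num) hHt (by rw [hH]; norm_num)
      (fun t ht h1 => by
        rw [hH] at ht ⊢
        rw [hcM]
        exact bound_sixty t (Nat.mem_divisors.2 ⟨ht, by norm_num⟩) h1) (by omega)
  · obtain ⟨H, hH, hHt⟩ := hA5 (Or.inr hq)
    exact not_coatom_of_sylow 5 hM hCM (hN C (by omega) (by omega)) 1 (by rw [hC, pow_one])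
      (by rw [show Nat.card PSL2 = 660 by omega]; norm_num) hHt (by rw [hH]; norm_num)
      (fun t ht h1 => by
        rw [hH] at ht ⊢
        rw [hcM]
        exact bound_sixty t (Nat.mem_divisors.2 ⟨ht, by norm_num⟩) h1) (by omega)

end CfsgLib.Geom.Moebius
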