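import Mathlib
import Cfsg.Agent.Lib.Geom.MaxBridge
import Cfsg.Agent.Lib.Classical.PSLTwoMaximal

set_option autoImplicit false

/-!
The subgroups of the list that are maximal in the image of `SL_2`.
-/

namespace CfsgLib.Geom.Moebius

open Matrix
open scoped MatrixGroups
open MulAction (stabilizer)

theorem subfield_degree_eq {p a b r r' g : ℕ} (hp : p.Prime) (hr : r.Prime) (hr' : r'.Prime) (ha : 0 < a)
    (hab : a * r = b * r') (hg : g ≤ 2) (hgp : Nat.Coprime p g)
    (h : p ^ a * ((p ^ a) ^ 2 - 1) ∣ g * (p ^ b * ((p ^ b) ^ 2 - 1))) : a = b ∧ r = r' := by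
  have hb : 0 < b := Nat.pos_of_ne_zero fun e => by
    rw [e, zero_mul] at hab; exact (Nat.mul_pos ha hr.pos).ne' hab
  have hle : a ≤ b := by
    have h1 : p ^ a ∣ g * (p ^ b * ((p ^ b) ^ 2 - 1)) := (dvd_mul_right _ _).trans h
    have h2 := (Nat.Coprime.pow_left a hgp).dvd_of_dvd_mul_left h1
    have hc : Nat.Coprime p ((p ^ b) ^ 2 - 1) := by
      refine hp.coprime_iff_not_dvd.2 fun hd => ?_
      have h3 : p ∣ (p ^ b) ^ 2 := dvd_pow (dvd_pow_self _ hb.ne') two_ne_zero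
      have hpos : 1 ≤ (p ^ b) ^ 2 := Nat.one_le_pow _ _ (pow_pos hp.pos _)
      have h4 := Nat.dvd_sub h3 hd
      rw [Nat.sub_sub_self hpos] at h4
      exact hp.one_lt.ne' (Nat.dvd_one.1 h4)
    exact (Nat.pow_dvd_pow_iff_le_right hp.one_lt).1 ((Nat.Coprime.pow_left a hc).dvd_of_dvd_mul_right h2)
  rcases hle.eq_or_lt with e | hlt
  · subst e; exact ⟨rfl, Nat.eq_of_mul_eq_mul_left ha hab⟩
  exfalso
  have hne : r ≠ r' := fun e => by
    subst e; exact hlt.ne (Nat.eq_of_mul_eq_mul_right hr.pos hab)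
  have hcop := (Nat.coprime_primes hr hr').2 hne
  obtain ⟨c, rfl⟩ := hcop.symm.dvd_of_dvd_mul_right (⟨b, by rw [hab, mul_comm]⟩ : r' ∣ a * r)
  obtain rfl : b = r * c := Nat.eq_of_mul_eq_mul_right hr'.pos (by rw [← hab]; ring)
  have hrr : r' < r := Nat.lt_of_mul_lt_mul_right hlt
  have hc : 0 < c := Nat.pos_of_ne_zero fun e => by rw [e, mul_zero] at ha; exact lt_irrefl _ ha
  have h1 : p ^ (2 * (r' * c)) - 1 ∣ g * (p ^ (2 * (r * c)) - 1) := by
    have h2 : (p ^ (r' * c)) ^ 2 - 1 ∣ g * (p ^ (r * c) * ((p ^ (r * c)) ^ 2 - 1)) := (dvd_mul_left _ _).trans h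
    rw [← pow_mul, ← pow_mul, mul_comm (r' * c) 2, mul_comm (r * c) 2] at h2
    have hcp : Nat.Coprime (p ^ (2 * (r' * c)) - 1) (p ^ (r * c)) := by
      refine (Nat.Coprime.pow_right _ ?_)
      refine (hp.coprime_iff_not_dvd.2 fun hd => ?_).symm
      have h3 : p ∣ p ^ (2 * (r' * c)) := dvd_pow_self _ (by omega)
      have h4 := Nat.dvd_sub h3 hd
      rw [Nat.sub_sub_self (Nat.one_le_pow _ _ hp.pos)] at h4
      exact hp.one_lt.ne' (Nat.dvd_one.1 h4)
    rw [mul_left_comm g (p ^ (r * c))] at h2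
    exact hcp.dvd_of_dvd_mul_left h2
  have h2 : p ^ (2 * (r' * c)) - 1 ∣ g * (p ^ (2 * c) - 1) := by
    have h3 := Nat.dvd_gcd (dvd_mul_left _ g) h1
    rwa [Nat.gcd_mul_left, Nat.pow_sub_one_gcd_pow_sub_one,
      show Nat.gcd (2 * (r' * c)) (2 * (r * c)) = 2 * c by
        rw [Nat.gcd_mul_left, Nat.gcd_mul_right, hcop.symm.gcd_eq_one, one_mul]] at h3
  have hx : 4 ≤ p ^ (2 * c) :=
    le_trans (by norm_num) ((Nat.pow_le_pow_left hp.two_le 2).trans (Nat.pow_le_pow_right hp.pos (by omega)))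
  have hpow : p ^ (2 * c) * p ^ (2 * c) ≤ p ^ (2 * (r' * c)) := by
    rw [← pow_add]
    exact Nat.pow_le_pow_right hp.pos (by have := Nat.mul_le_mul_right c hr'.two_le; omega)
  have hg0 : 0 < g := Nat.pos_of_ne_zero fun e => by
    rw [e, Nat.coprime_zero_right] at hgp; exact hp.one_lt.ne' hgp
  have hle := Nat.le_of_dvd (Nat.mul_pos hg0 (by omega)) h2
  have hgle : g * (p ^ (2 * c) - 1) ≤ 2 * (p ^ (2 * c) - 1) := Nat.mul_le_mul_right _ hg
  have : 4 * p ^ (2 * c) ≤ p ^ (2 * c) * p ^ (2 * c) := Nat.mul_le_mul_right _ hx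
  omega

theorem card_dvd_factorial {G : Type*} [Group G] [Finite G] [IsSimpleGroup G] (H : Subgroup G) (hH : H ≠ ⊤) :
    Nat.card G ∣ H.index.factorial := by
  classical
  have hinj : Function.Injective (MulAction.toPermHom G (G ⧸ H)) := by
    rw [← MonoidHom.ker_eq_bot_iff, ← Subgroup.normalCore_eq_ker]
    refine (IsSimpleGroup.eq_bot_or_eq_top_of_normal H.normalCore H.normalCore_normal).resolve_right fun e => hH ?_
    exact top_le_iff.1 (e ▸ H.normalCore_le)
  have h := Subgroup.card_dvd_of_injective _ hinj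
  rwa [Nat.card_perm] at h

variable {F E : Type*} [Field F] [Fintype F] [Field E] [Fintype (Line E)] (f : F →+* E)

local notation "PSL2" => ProjectiveSpecialLinearGroup (Fin 2) F
local notation "ψ" => Matrix.ProjectiveSpecialLinearGroup.toPGL (n := Fin 2) (R := F)

omit [Fintype (Line E)] in
theorem mod_eight_of_dvd {p : ℕ} (hp : p % 2 = 1) (h : 48 ∣ (p + 1) * (p * (p - 1))) : p % 8 = 1 ∨ p % 8 = 7 := by
  have h16 : 16 ∣ (p + 1) * (p - 1) := by
    have h3 : 16 ∣ ((p + 1) * (p - 1)) * p := by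
      rw [mul_assoc, mul_comm (p - 1)]
      exact dvd_trans (by norm_num) h
    refine (Nat.Coprime.dvd_of_dvd_mul_right ?_ h3)
    exact Nat.Coprime.pow_left 4 (Nat.prime_two.coprime_iff_not_dvd.2 (by omega))
  by_contra hn
  obtain ⟨t, ht⟩ : ∃ t, p = 8 * t + 3 ∨ p = 8 * t + 5 := ⟨p / 8, by omega⟩
  rcases ht with rfl | rfl
  · rw [show (8 * t + 3 + 1) * (8 * t + 3 - 1) = 16 * (4 * t ^ 2 + 3 * t) + 8 by
      rw [show 8 * t + 3 - 1 = 8 * t + 2 by omega]; ring] at h16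
    omega
  · rw [show (8 * t + 5 + 1) * (8 * t + 5 - 1) = 16 * (4 * t ^ 2 + 5 * t + 1) + 8 by
      rw [show 8 * t + 5 - 1 = 8 * t + 4 by omega]; ring] at h16
    omega

omit [Fintype (Line E)] in
theorem subfieldPSL_no_fixed (K : Subfield F) (m : PGL(2, F)) (R : Line F) :
    ¬ subfieldPSL K m ≤ stabilizer PGL(2, F) R := by
  intro hle
  have key : ∀ y : SL(2, K), (m * extHom K.subtype (ProjGenLinGroup.mk (Matrix.SpecialLinearGroup.toGL y)) * m⁻¹) • R = R :=
    fun y => hle ⟨_, ⟨QuotientGroup.mk y, rfl⟩, rfl⟩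
  have h' : ∀ y : SL(2, K), extHom K.subtype (ProjGenLinGroup.mk (Matrix.SpecialLinearGroup.toGL y)) • (m⁻¹ • R) = m⁻¹ • R := by
    intro y
    rw [eq_inv_smul_iff, ← mul_smul, ← mul_smul, key]
  have h1 := h' (CfsgLib.Classical.uElt 1)
  have e1 : ProjGenLinGroup.mk (Matrix.SpecialLinearGroup.toGL (CfsgLib.Classical.uElt (1 : K))) = aff 1 1 := by
    rw [← toPGL_uElt]; rfl
  rw [e1, extHom_aff, map_one, map_one] at h1
  rcases fixed_aff_cases h1 with e | ⟨e, -⟩ | ⟨-, e⟩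
  · let s : SL(2, K) := ⟨!![0, -1; 1, 0], by simp [det_fin_two_of]⟩
    have hs : ProjGenLinGroup.mk (Matrix.SpecialLinearGroup.toGL s) • (inf : Line K) = pt 0 :=
      gl_smul_mk_eq _ _ _ ⟨1, by ext i; fin_cases i <;> simp [s, mulVec, dotProduct] <;> rfl⟩
    have h2 := h' s
    rw [e, ← extPt_inf K.subtype, extHom_smul, hs, extPt_pt, extPt_inf] at h2
    exact pt_ne_inf _ h2
  · exact e rfl
  · exact one_ne_zero e

/-- The subfield subgroups of prime degree. -/
theorem subfield_maxIn (p : ℕ) [Fact p.Prime] [CharP F p] (hE : Nat.card E = Fintype.card F ^ 2) (hQC : QuadClosed f)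
    {K : Subfield F} {u r : ℕ} (hu : 3 ≤ u) (hK : Nat.card K = u) (hr : r.Prime) (hur : u ^ r = Fintype.card F)
    (m : PGL(2, F)) : MaxIn (subfieldPGL K m ⊓ imL F) (imL F) := by
  have := finite_pgl_two (F := F)
  have hp : p.Prime := Fact.out
  have h4 : 4 ≤ Fintype.card F :=
    hur ▸ (le_trans (by norm_num) (Nat.pow_le_pow_left hu 2)).trans (Nat.pow_le_pow_right (by omega) hr.two_le)
  obtain ⟨n, -, hn⟩ := FiniteField.card F p
  obtain ⟨a, -, rfl⟩ := (Nat.dvd_prime_pow hp).1 (hn ▸ hur ▸ dvd_pow_self u hr.ne_zero : u ∣ p ^ (n : ℕ))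
  have ha : 0 < a := Nat.pos_of_ne_zero fun e => by rw [e] at hu; norm_num at hu
  set H := subfieldPGL K m ⊓ imL F
  obtain ⟨N, hN, hHN⟩ := exists_maxIn_ge (subfieldPGL_inf_lt le_rfl hK hur hr.two_le m)
  have hne : ¬ imL F ≤ N := hN.1.not_ge
  suffices e : N = H from e ▸ hN
  have hS : subfieldPSL K m ≤ N := (subfieldPSL_le K m).trans hHN
  have hcS := card_subfieldPSL hK m
  have hg : Nat.gcd 2 (p ^ a - 1) = Nat.gcd 2 (Fintype.card F - 1) := gcd_two_subfield hur hr.ne_zero hK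
  have hgp : Nat.Coprime p (Nat.gcd 2 (p ^ a - 1)) := by
    refine hp.coprime_iff_not_dvd.2 fun hd => ?_
    have h1 := Nat.dvd_sub (dvd_pow_self p ha.ne') (hd.trans (Nat.gcd_dvd_right _ _))
    rw [Nat.sub_sub_self (Nat.one_le_pow _ _ hp.pos)] at h1
    exact hp.one_lt.ne' (Nat.dvd_one.1 h1)
  cases maxCase f p hE hQC h4 le_rfl hN hne with
  | point P h => exact absurd (hS.trans (h.le.trans inf_le_left)) (subfieldPSL_no_fixed K m P)
  | pair P Q hPQ g hg1 hgP hgQ h =>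
    exfalso
    obtain ⟨k, hk, -, h2k⟩ := pair_top f hE hQC h4 hPQ hg1 hgP hgQ
    have hd := Nat.mul_dvd_mul_left (Nat.gcd 2 (p ^ a - 1)) (Subgroup.card_dvd_of_le (hS.trans (h.le.trans inf_le_left)))
    rw [hcS, h2k] at hd
    have h1 : p ^ a ∣ Nat.gcd 2 (p ^ a - 1) * (2 * k) := (dvd_mul_of_dvd_right (dvd_mul_right _ _) _).trans hd
    have h2 := (Nat.Coprime.pow_left a hgp).dvd_of_dvd_mul_left h1
    have hk' : Nat.Coprime p k := by
      refine hp.coprime_iff_not_dvd.2 fun hd => ?_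
      have hpq : p ∣ Fintype.card F := hur ▸ dvd_pow (dvd_pow_self p ha.ne') hr.ne_zero
      rcases hk with rfl | rfl
      · have := Nat.dvd_sub hpq hd
        rw [Nat.sub_sub_self (by omega)] at this
        exact hp.one_lt.ne' (Nat.dvd_one.1 this)
      · have := Nat.dvd_sub hd hpq
        rw [Nat.add_sub_cancel_left] at this
        exact hp.one_lt.ne' (Nat.dvd_one.1 this)
    have h3 := (Nat.Coprime.pow_left a hk').dvd_of_dvd_mul_right h2
    have := Nat.le_of_dvd two_pos h3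
    omega
  | tetrahedral hodd hq h hc =>
    rw [← hur, ← pow_mul] at hq
    exact absurd (hq.symm ▸ hp) (Nat.Prime.not_prime_pow (le_trans hr.two_le (Nat.le_mul_of_pos_left r ha)))
  | octahedral hodd hq h hc =>
    rw [← hur, ← pow_mul] at hq
    exact absurd (hq.symm ▸ hp) (Nat.Prime.not_prime_pow (le_trans hr.two_le (Nat.le_mul_of_pos_left r ha)))
  | icosahedral hodd hq h hc =>
    exfalso
    rcases hq with ⟨hq, -⟩ | ⟨hq, h10⟩
    · rw [← hur, ← pow_mul] at hq
      exact absurd (hq.symm ▸ hp) (Nat.Prime.not_prime_pow (le_trans hr.two_le (Nat.le_mul_of_pos_left r ha)))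
    · rw [← hur, ← pow_mul] at hq
      have har : a * r = 2 := Nat.pow_right_injective hp.two_le hq
      have hr2 : r = 2 := ((Nat.prime_dvd_prime_iff_eq hr Nat.prime_two).1 (Dvd.intro_left a har))
      obtain rfl : a = 1 := by subst hr2; omega
      have hle : subfieldPGL K m ≤ imL F := subfieldPGL_le_imL hodd hK (hr2 ▸ even_two) hur m
      have hd := Subgroup.card_dvd_of_le ((le_inf le_rfl hle).trans hHN)
      rw [card_subfieldPGL hK, hc, pow_one] at hd
      rw [pow_one] at hu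
      rcases Nat.lt_or_ge p 7 with h7 | h7
      · have : p = 3 := by omega
        subst this
        norm_num at hd
      · have := Nat.le_of_dvd (by norm_num) hd
        have : 8 * (7 * 6) ≤ (p + 1) * (p * (p - 1)) :=
          Nat.mul_le_mul (by omega) (Nat.mul_le_mul h7 (by omega))
        omega
  | subfieldGroup K' u' r' hu' hK' hr' hur' m' h =>
    obtain ⟨b, -, rfl⟩ := (Nat.dvd_prime_pow hp).1 (hn ▸ hur' ▸ dvd_pow_self u' hr'.ne_zero : u' ∣ p ^ (n : ℕ))
    have hd := Nat.mul_dvd_mul_left (Nat.gcd 2 (p ^ a - 1)) (Subgroup.card_dvd_of_le (hS.trans (h.le.trans inf_le_left)))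
    rw [hcS, card_subfieldPGL hK', ← sq_sub_one_split, ← sq_sub_one_split] at hd
    obtain ⟨rfl, rfl⟩ := subfield_degree_eq hp hr hr' ha
      (Nat.pow_right_injective hp.two_le (show p ^ (a * r) = p ^ (b * r') by rw [pow_mul, pow_mul, hur, hur']))
      (Nat.le_of_dvd two_pos (Nat.gcd_dvd_left _ _)) hgp hd
    refine (Subgroup.eq_of_le_of_card_ge hHN (le_of_eq ?_)).symm
    rw [h]
    by_cases hd' : Odd r ∨ Even (Fintype.card F)
    · rw [subfieldPGL_inf_imL hK' hur' hd' hr.ne_zero,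
        subfieldPGL_inf_imL hK hur hd' hr.ne_zero m]
      exact Nat.eq_of_mul_eq_mul_left (Nat.gcd_pos_of_pos_left _ two_pos)
        ((card_subfieldPSL hK' m').trans hcS.symm)
    · rw [not_or, Nat.not_odd_iff_even, Nat.not_even_iff_odd] at hd'
      rw [inf_eq_left.2 (subfieldPGL_le_imL hd'.2 hK' hd'.1 hur' m'),
        inf_eq_left.2 (subfieldPGL_le_imL hd'.2 hK hd'.1 hur m),
        card_subfieldPGL hK', card_subfieldPGL hK]

/-- A subgroup with a copy of `A_4` lies in an exceptional maximal subgroup or a subfield one. -/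
theorem altFour_overgroup (p : ℕ) [Fact p.Prime] [CharP F p] (hE : Nat.card E = Fintype.card F ^ 2)
    (hQC : QuadClosed f) (h4 : 4 ≤ Fintype.card F) (hodd : Odd (Fintype.card F)) {H : Subgroup PGL(2, F)}
    (hH : H < imL F) (hA : HasAltFour H) :
    ∃ N, MaxIn N (imL F) ∧ H ≤ N ∧
      ((Fintype.card F = p ∧ Nat.card N = 12) ∨
        (Fintype.card F = p ∧ Nat.card N = 24 ∧ (p % 8 = 1 ∨ p % 8 = 7)) ∨
        (((Fintype.card F = p ∧ (p % 10 = 1 ∨ p % 10 = 9)) ∨
          (Fintype.card F = p ^ 2 ∧ (p % 10 = 3 ∨ p % 10 = 7))) ∧ Nat.card N = 60) ∨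
        ∃ (u r : ℕ), 3 ≤ u ∧ r.Prime ∧ u ^ r = Fintype.card F ∧ Nat.card N ∣ (u + 1) * (u * (u - 1))) := by
  have := finite_pgl_two (F := F)
  obtain ⟨N, hN, hHN⟩ := exists_maxIn_ge hH
  have hA' : HasAltFour N := by
    obtain ⟨j, hj, hjm⟩ := hA; exact ⟨j, hj, fun x => hHN (hjm x)⟩
  refine ⟨N, hN, hHN, ?_⟩
  cases maxCase f p hE hQC h4 le_rfl hN hN.1.not_ge with
  | point P h => exact absurd (h.le.trans inf_le_left) (altFour_not_fix_point (CfsgLib.Classical.two_ne_zero_of_odd hodd) hA' P)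
  | pair P Q hPQ g hg hgP hgQ h => exact absurd (h.le.trans inf_le_left) (altFour_not_pair f hE hQC hA' hPQ)
  | tetrahedral ho hq h hc => exact Or.inl ⟨hq, hc⟩
  | octahedral ho hq h hc =>
    refine Or.inr (Or.inl ⟨hq, hc, mod_eight_of_dvd (hq ▸ Nat.odd_iff.1 hodd) ?_⟩)
    have h2 := Nat.mul_dvd_mul_left (Nat.gcd 2 (Fintype.card F - 1)) (Subgroup.card_dvd_of_le hN.1.le)
    rw [card_imL_two, gcd_two_of_odd hodd, hc, hq] at h2
    exact h2
  | icosahedral ho hq h hc => exact Or.inr (Or.inr (Or.inl ⟨hq, hc⟩))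
  | subfieldGroup K u r hu hK hr hur m h =>
    refine Or.inr (Or.inr (Or.inr ⟨u, r, hu, hr, hur, ?_⟩))
    rw [← card_subfieldPGL hK m]
    exact Subgroup.card_dvd_of_le (h.le.trans inf_le_left)

omit [Fintype (Line E)] in
theorem not_prime_pow_card {p u r : ℕ} (hp : p.Prime) (hr : r.Prime) (h : u ^ r = p) : False :=
  Nat.Prime.not_prime_pow hr.two_le (h.symm ▸ hp)

/-- The tetrahedral subgroups. -/
theorem altFour_maxIn (p : ℕ) [Fact p.Prime] [CharP F p] (hE : Nat.card E = Fintype.card F ^ 2) (hQC : QuadClosed f)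
    (h5 : 5 ≤ p) (hq : Fintype.card F = p) (h8 : p % 8 = 3 ∨ p % 8 = 5) (h10 : ¬ (p % 10 = 1 ∨ p % 10 = 9))
    {H : Subgroup PGL(2, F)} (hL : H ≤ imL F) (hA : HasAltFour H) (hc : Nat.card H = 12) : MaxIn H (imL F) := by
  have := finite_pgl_two (F := F)
  have hp : p.Prime := Fact.out
  have hodd : Odd (Fintype.card F) := Nat.odd_iff.2 (by rw [hq]; omega)
  have hlt : H < imL F := lt_of_le_of_ne hL fun e => by
    have := card_imL_ge (F := F) (by omega)
    rw [e] at hc; omega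
  obtain ⟨N, hN, hHN, h⟩ := altFour_overgroup f p hE hQC (by omega) hodd hlt hA
  rcases h with ⟨-, h⟩ | ⟨-, -, h⟩ | ⟨⟨-, h⟩ | ⟨h, -⟩, -⟩ | ⟨u, r, -, hr, hur, -⟩
  · rwa [Subgroup.eq_of_le_of_card_ge hHN (by rw [hc, h])]
  · omega
  · exact absurd h h10
  · rw [hq] at h; exact (Nat.Prime.not_prime_pow le_rfl (h ▸ hp)).elim
  · exact (not_prime_pow_card hp hr (hur.trans hq)).elim

theorem permFour_maxIn (p : ℕ) [Fact p.Prime] [CharP F p] (hE : Nat.card E = Fintype.card F ^ 2) (hQC : QuadClosed f)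
    (h5 : 7 ≤ p) (hq : Fintype.card F = p)
    {H : Subgroup PGL(2, F)} (hL : H ≤ imL F) (hA : HasAltFour H) (hc : Nat.card H = 24) : MaxIn H (imL F) := by
  have := finite_pgl_two (F := F)
  have hp : p.Prime := Fact.out
  have hodd : Odd (Fintype.card F) := hq ▸ hp.odd_of_ne_two (by omega)
  have hlt : H < imL F := lt_of_le_of_ne hL fun e => by
    have := card_imL_ge (F := F) (by omega)
    rw [e] at hc; omega
  obtain ⟨N, hN, hHN, h⟩ := altFour_overgroup f p hE hQC (by omega) hodd hlt hA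
  have hd := Subgroup.card_dvd_of_le hHN
  rcases h with ⟨-, h⟩ | ⟨-, h, -⟩ | ⟨-, h⟩ | ⟨u, r, -, hr, hur, -⟩
  · rw [hc, h] at hd; norm_num at hd
  · rwa [Subgroup.eq_of_le_of_card_ge hHN (by rw [hc, h])]
  · rw [hc, h] at hd; norm_num at hd
  · exact (not_prime_pow_card hp hr (hur.trans hq)).elim

theorem altFive_maxIn (p : ℕ) [Fact p.Prime] [CharP F p] (hE : Nat.card E = Fintype.card F ^ 2) (hQC : QuadClosed f)
    (hq : (Fintype.card F = p ∧ (p % 10 = 1 ∨ p % 10 = 9)) ∨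
      (Fintype.card F = p ^ 2 ∧ (p % 10 = 3 ∨ p % 10 = 7)))
    {H : Subgroup PGL(2, F)} (hL : H ≤ imL F) (hA : HasAltFour H) (hc : Nat.card H = 60) : MaxIn H (imL F) := by
  have := finite_pgl_two (F := F)
  have hp : p.Prime := Fact.out
  have h7 : 7 ≤ Fintype.card F := by
    rcases hq with ⟨h, h'⟩ | ⟨h, h'⟩ <;> rw [h]
    · have := hp.two_le; omega
    · exact le_trans (by norm_num) (Nat.pow_le_pow_left (show 3 ≤ p by omega) 2)
  have hodd : Odd (Fintype.card F) := by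
    rcases hq with ⟨h, h'⟩ | ⟨h, h'⟩ <;> rw [h]
    · exact hp.odd_of_ne_two (by omega)
    · exact (hp.odd_of_ne_two (by omega)).pow
  have hlt : H < imL F := lt_of_le_of_ne hL fun e => by
    have h := card_imL_two (F := F)
    rw [gcd_two_of_odd hodd, ← e, hc] at h
    have : 8 * (7 * 6) ≤ (Fintype.card F + 1) * (Fintype.card F * (Fintype.card F - 1)) :=
      Nat.mul_le_mul (by omega) (Nat.mul_le_mul h7 (by omega))
    omega
  obtain ⟨N, hN, hHN, h⟩ := altFour_overgroup f p hE hQC (by omega) hodd hlt hA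
  have hd := Subgroup.card_dvd_of_le hHN
  rcases h with ⟨-, h⟩ | ⟨-, h, -⟩ | ⟨-, h⟩ | ⟨u, r, -, hr, hur, hu⟩
  · rw [hc, h] at hd; norm_num at hd
  · rw [hc, h] at hd; norm_num at hd
  · rwa [Subgroup.eq_of_le_of_card_ge hHN (by rw [hc, h])]
  · exfalso
    rcases hq with ⟨h, -⟩ | ⟨h, h10⟩
    · exact not_prime_pow_card hp hr (hur.trans h)
    · obtain ⟨a, -, rfl⟩ := (Nat.dvd_prime_pow hp).1 (h ▸ hur ▸ dvd_pow_self u hr.ne_zero : u ∣ p ^ 2)
      rw [h, ← pow_mul] at hur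
      have har := Nat.pow_right_injective hp.two_le hur
      obtain rfl : a = 1 := by
        have := hr.two_le
        rcases a with - | - | a
        · omega
        · rfl
        · have : 2 * 2 ≤ (a + 1 + 1) * r := Nat.mul_le_mul (by omega) hr.two_le
          omega
      have h5 : 5 ∣ (p + 1) * (p * (p - 1)) := by
        rw [hc] at hd
        rw [pow_one] at hu
        exact (dvd_trans (by norm_num) hd).trans hu
      have := (Golden.five_dvd_iff hp (by omega) (by omega)).1 h5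
      omega

end CfsgLib.Geom.Moebius
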