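import Mathlib
import Cfsg.Agent.Lib.Geom.MaxExist

set_option autoImplicit false

/-!
Point and pair stabilisers are maximal in the image of `SL_2`.
-/

namespace CfsgLib.Geom.Moebius

open Matrix
open scoped MatrixGroups
open MulAction (stabilizer)

variable {F E : Type*} [Field F] [Fintype F] [Field E] [Fintype (Line E)] (f : F →+* E)

local notation "PSL2" => ProjectiveSpecialLinearGroup (Fin 2) F
local notation "ψ" => Matrix.ProjectiveSpecialLinearGroup.toPGL (n := Fin 2) (R := F)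

omit [Fintype (Line E)] in
theorem point_maxIn (h4 : 4 ≤ Fintype.card F) (hodd : Odd (Fintype.card F))
    (hne : Fintype.card F ≠ 7 ∧ Fintype.card F ≠ 9 ∧ Fintype.card F ≠ 11) (P : Line F) :
    MaxIn (stabilizer PGL(2, F) P ⊓ imL F) (imL F) := by
  have := finite_pgl_two (F := F)
  have := CfsgLib.ClassK.isSimpleGroup_psl_two h4
  refine ⟨pointStab_lt le_rfl P, fun N h1 h2 => ?_⟩
  by_contra hNL
  have htop : N.comap ψ ≠ ⊤ := by
    intro e
    refine hNL (le_antisymm h2 ?_)
    rintro _ ⟨y, rfl⟩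
    exact (e ▸ Subgroup.mem_top y : y ∈ N.comap ψ)
  set K := (stabilizer PGL(2, F) P ⊓ imL F : Subgroup PGL(2, F))
  have hK := card_pointStab_mul (F := F) le_rfl P
  obtain ⟨c, hc⟩ := Subgroup.card_dvd_of_le h1.le
  have hKpos : 0 < Nat.card K := Nat.card_pos
  have hc2 : 2 ≤ c := by
    by_contra hlt
    exact h1.ne (Subgroup.eq_of_le_of_card_ge h1.le (by rw [hc]; interval_cases c <;> omega))
  have hidx := (N.comap ψ).index_mul_card
  rw [card_comap_toPGL h2, Nat.card_congr (MonoidHom.ofInjective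
    (Matrix.ProjectiveSpecialLinearGroup.toPGL_injective (n := Fin 2) (R := F))).toEquiv, ← hK, hc,
    mul_left_comm, mul_comm (Fintype.card F + 1)] at hidx
  have hle : 2 * (N.comap ψ).index ≤ Fintype.card F + 1 := by
    rw [← Nat.eq_of_mul_eq_mul_left hKpos hidx, mul_comm]
    exact Nat.mul_le_mul_left _ hc2
  obtain ⟨j, hj⟩ := hodd
  by_cases h5 : Fintype.card F = 5
  · have hd := card_dvd_factorial (N.comap ψ) htop
    rw [CfsgLib.Classical.card_psl_two_four (Or.inr h5)] at hd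
    have hi : (N.comap ψ).index ≤ 3 := by omega
    have h6 : (N.comap ψ).index.factorial ≤ 6 := Nat.factorial_le hi
    have := Nat.le_of_dvd (Nat.factorial_pos _) hd
    omega
  · have := CfsgLib.Classical.index_ge_of_ne_top
      (F := F) ⟨by omega, by omega, h5, hne.1, hne.2.1, hne.2.2⟩ (N.comap ψ) htop
    omega

theorem pair_maxIn (p : ℕ) [Fact p.Prime] [CharP F p] (hE : Nat.card E = Fintype.card F ^ 2) (hQC : QuadClosed f)
    (h4 : 4 ≤ Fintype.card F) (hodd : Odd (Fintype.card F))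
    (hne : Fintype.card F ≠ 7 ∧ Fintype.card F ≠ 9 ∧ Fintype.card F ≠ 11) {P Q : Line E} (hPQ : P ≠ Q)
    {g : PGL(2, F)} (hg : g ≠ 1) (hgP : extHom f g • P = P) (hgQ : extHom f g • Q = Q)
    (h5 : Fintype.card F = 5 → Nat.card (pairStab f P Q ⊓ imL F : Subgroup PGL(2, F)) ≠ 4) :
    MaxIn (pairStab f P Q ⊓ imL F) (imL F) := by
  classical
  have := finite_pgl_two (F := F)
  have hp : p.Prime := Fact.out
  obtain ⟨k, hk, hT, -, h2k, s, hsL, hsP, hsQ⟩ := pair_imL f hE hQC h4 hodd hPQ hg hgP hgQ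
  obtain ⟨j, hj⟩ := hodd
  have hodd : Odd (Fintype.card F) := ⟨j, hj⟩
  set K := (pairStab f P Q ⊓ imL F : Subgroup PGL(2, F))
  have hKL : K < imL F := lt_of_le_of_ne inf_le_right fun e => by
    have h := card_pgl_le_two_mul (F := F) le_rfl
    have : (Fintype.card F + 1) * 12 ≤ (Fintype.card F + 1) * (Fintype.card F * (Fintype.card F - 1)) :=
      Nat.mul_le_mul_left _ (le_trans (by norm_num) (Nat.mul_le_mul h4 (Nat.le_sub_one_of_lt h4)))
    rw [← e, h2k] at h
    omega
  obtain ⟨N, hN, hKN⟩ := exists_maxIn_ge hKL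
  suffices e : K = N from e.symm ▸ hN
  by_contra hne'
  -- a generator of the rotations
  obtain ⟨hcyc, -, -⟩ := torus_pair f hE hQC hPQ hg hgP hgQ
  set T := (fixExt f P ⊓ fixExt f Q ⊓ imL F : Subgroup PGL(2, F))
  have hTT : T ≤ fixExt f P ⊓ fixExt f Q := inf_le_left
  have hcT : IsCyclic T := (Subgroup.subgroupOfEquivOfLe hTT).isCyclic.1 inferInstance
  obtain ⟨⟨r, hr⟩, hro⟩ := hcT.exists_ofOrder_eq_natCard
  rw [Subgroup.orderOf_mk, hT] at hro
  have hrK : r ∈ K := ⟨pairStab_self f P Q hr.1, hr.2⟩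
  have hrN : r ∈ N := hKN hrK
  have hsK : s ∈ K := ⟨(mem_pairStab f).2 (Or.inr ⟨hsP, hsQ⟩), hsL⟩
  have hk5 : Fintype.card F = 5 → k = 3 := fun e => by
    have := h5 e
    omega
  have h13 : Fintype.card F = 5 ∨ 13 ≤ Fintype.card F := by omega
  have small : ∀ {B : Type} [Group B] (e : N ≃* B) (b : ℕ), (∀ x : B, ∃ i, 0 < i ∧ i ≤ b ∧ x ^ i = 1) → k ≤ b := by
    intro B _ e b hb
    obtain ⟨i, hi0, hib, hi⟩ := hb (e ⟨r, hrN⟩)
    have ho : orderOf (e ⟨r, hrN⟩) = k := by rw [MulEquiv.orderOf_eq, Subgroup.orderOf_mk, hro]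
    exact ho ▸ (Nat.le_of_dvd hi0 (orderOf_dvd_of_pow_eq_one hi)).trans hib
  have hr1 : r ≠ 1 := fun e => by rw [e, orderOf_one] at hro; omega
  obtain ⟨hrP, hrQ⟩ := hr.1
  cases maxCase f p hE hQC h4 le_rfl hN hN.1.not_ge with
  | point R h =>
    refine no_fixed_point f hPQ hr1 hrP hrQ hsP hsQ (R := extPt f R) ?_ ?_
    · rw [extHom_smul, (h.le (hKN hrK)).1]
    · rw [extHom_smul, (h.le (hKN hsK)).1]
  | pair P' Q' hPQ' g' hg' hgP' hgQ' h =>
    obtain ⟨k', hk', -, -, h2k', -⟩ := pair_imL f hE hQC h4 hodd hPQ' hg' hgP' hgQ'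
    obtain ⟨c, hc⟩ := Subgroup.card_dvd_of_le hKN
    rw [h2k] at hc
    have hN2 : Nat.card N = 2 * k' := by rw [h, h2k']
    rcases Nat.lt_or_ge c 2 with h' | h'
    · refine hne' (Subgroup.eq_of_le_of_card_ge hKN ?_)
      rw [hc, h2k]; interval_cases c <;> omega
    · have : 2 * k * 2 ≤ 2 * k * c := Nat.mul_le_mul_left _ h'
      omega
  | tetrahedral ho hq h hc =>
    obtain ⟨e⟩ := h
    have := small e 3 fun x => by
      rcases CfsgLib.Classical.altFour_facts.1 x with h | h
      · exact ⟨2, two_pos, by norm_num, h⟩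
      · exact ⟨3, three_pos, le_rfl, h⟩
    have h56 : k = 3 := hk5 (by omega)
    -- the alternating group has no subgroup of order six
    have hi : (K.subgroupOf N).index = 2 := by
      have h := (K.subgroupOf N).index_mul_card
      rw [Nat.card_congr (Subgroup.subgroupOfEquivOfLe hKN).toEquiv, h2k, hc, h56] at h
      omega
    refine hne' (le_antisymm hKN fun x hx => ?_)
    obtain ⟨a, b, hab⟩ := altFour_two_squares (e ⟨x, hx⟩)
    have h' : (⟨x, hx⟩ : N) = e.symm a * e.symm a * (e.symm b * e.symm b) := by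
      rw [← map_mul, ← map_mul, ← map_mul, ← hab, MulEquiv.symm_apply_apply]
    show (⟨x, hx⟩ : N) ∈ K.subgroupOf N
    rw [h']
    exact mul_mem (Subgroup.mul_self_mem_of_index_two hi _) (Subgroup.mul_self_mem_of_index_two hi _)
  | octahedral ho hq h hc =>
    obtain ⟨e⟩ := h
    have := small e 4 fun x => by
      rcases CfsgLib.Classical.permFour_pow x with h | h
      · exact ⟨3, three_pos, by norm_num, h⟩
      · exact ⟨4, by norm_num, le_rfl, h⟩
    have h5' : Fintype.card F = 5 := by omega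
    have hd := Nat.mul_dvd_mul_left (Nat.gcd 2 (Fintype.card F - 1)) (Subgroup.card_dvd_of_le hN.1.le)
    rw [card_imL_two, gcd_two_of_odd hodd, hc, h5'] at hd
    norm_num at hd
  | icosahedral ho hq h hc =>
    obtain ⟨e⟩ := h
    have := small e 5 fun x => by
      rcases CfsgLib.Classical.altFive_pow' x with h | h | h
      · exact ⟨2, two_pos, by norm_num, h⟩
      · exact ⟨3, three_pos, by norm_num, h⟩
      · exact ⟨5, by norm_num, le_rfl, h⟩
    have h5' : Fintype.card F = 5 := by omega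
    rcases hq with ⟨hq, h10⟩ | ⟨hq, h10⟩
    · omega
    · exact Nat.Prime.not_prime_pow le_rfl (show (p ^ 2).Prime by rw [← hq, h5']; norm_num)
  | subfieldGroup K' u r' hu hK' hr' hur m h =>
    obtain ⟨e⟩ := subfieldPGL_equiv K' m
    have hku : k ≤ u + 1 := by
      have hmem : r ∈ subfieldPGL K' m := (h.le hrN).1
      have := CfsgLib.Classical.orderOf_pgl_two_le (e ⟨r, hmem⟩)
      rwa [MulEquiv.orderOf_eq, Subgroup.orderOf_mk, hro, card_subfield_eq hK'] at this
    have hu2 : u * u ≤ Fintype.card F := by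
      rw [← hur, ← sq]
      exact Nat.pow_le_pow_right (by omega) hr'.two_le
    rcases h13 with h5' | h13
    · have : 3 * 3 ≤ u * u := Nat.mul_le_mul hu hu
      omega
    · rcases Nat.lt_or_ge u 4 with h4' | h4'
      · omega
      · have : 4 * u ≤ u * u := Nat.mul_le_mul_right u h4'
        omega

end CfsgLib.Geom.Moebius
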