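import Mathlib
import Cfsg.Agent.Lib.Geom.MaxExist

set_option autoImplicit false

/-!
Maximal subfield subgroups of `PSL_2(F)` for a field given abstractly.
-/

namespace CfsgLib.Geom.Moebius

open Matrix
open scoped MatrixGroups

theorem exists_coatom_subfield {F K : Type*} [Field F] [Fintype F] [Field K] [Fintype K] {r : ℕ} (hr : r.Prime)
    (hcard : Fintype.card K ^ r = Fintype.card F) (hK : Fintype.card K ≠ 2) :
    ∃ (L : Subfield F) (H : Subgroup (ProjectiveSpecialLinearGroup (Fin 2) F)),
      IsCoatom H ∧ Nonempty (K ≃+* L) ∧ Nonempty (H ≃* (subfieldPGL L 1 ⊓ imL F : Subgroup PGL(2, F))) ∧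
      Nat.card L = Fintype.card K := by
  classical
  obtain ⟨E, _, _, f, hE, hQC⟩ := exists_quadExt F
  obtain ⟨p, hp⟩ := CharP.exists F
  obtain ⟨n, hprime, -⟩ := FiniteField.card F p
  have := Fact.mk hprime
  obtain ⟨g⟩ := exists_ringHom_of_card_pow K F r hr.one_lt.le hcard
  have hu : 3 ≤ Fintype.card K := by have := Fintype.one_lt_card (α := K); omega
  let i : K ≃+* g.fieldRange := RingEquiv.ofBijective g.rangeRestrictField
    ⟨fun a b h => g.injective (congrArg Subtype.val h), fun y => by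
      obtain ⟨x, hx⟩ := y.2; exact ⟨x, Subtype.ext hx⟩⟩
  have hL : Nat.card g.fieldRange = Fintype.card K := by
    rw [← Nat.card_congr i.toEquiv, Nat.card_eq_fintype_card]
  have h := subfield_maxIn f p hE hQC hu hL hr hcard 1
  refine ⟨g.fieldRange, _, isCoatom_comap _ Matrix.ProjectiveSpecialLinearGroup.toPGL_injective h, ⟨i⟩, ⟨?_⟩, hL⟩
  exact (mapEquiv _).trans (MulEquiv.subgroupCongr (Subgroup.map_comap_eq_self inf_le_right))

end CfsgLib.Geom.Moebius
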