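import Mathlib

set_option autoImplicit false

/-!
The subgroup of order at most 120 generated by two unitriangular matrices over the field with nine elements.
-/

namespace CfsgLib.Geom.NineFieldPair

open Matrix
open scoped MatrixGroups

/-- `a + b i` with coefficients modulo three. -/
abbrev Nine : Type := ZMod 3 × ZMod 3

def nmul (x y : Nine) : Nine := (x.1 * y.1 - x.2 * y.2, x.1 * y.2 + x.2 * y.1)

abbrev Mat : Type := Nine × Nine × Nine × Nine

def mmul : Mat → Mat → Mat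
  | (a, b, c, d), (e, f, g, h) =>
    (nmul a e + nmul b g, nmul a f + nmul b h, nmul c e + nmul d g, nmul c f + nmul d h)

def lower : Mat := ((1, 0), (0, 0), (1, 0), (1, 0))

def upper : Mat := ((1, 0), (0, 1), (0, 0), (1, 0))

/-- A set of matrices closed under both generators. -/
def elements : List Mat :=
  [
    ((1,0), (0,0), (0,0), (1,0)), ((1,0), (0,0), (1,0), (1,0)), ((1,0), (0,1), (0,0), (1,0)),
    ((1,0), (0,0), (2,0), (1,0)), ((1,1), (0,1), (1,0), (1,0)), ((1,0), (0,1), (1,0), (1,1)),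
    ((1,0), (0,2), (0,0), (1,0)), ((1,2), (0,1), (2,0), (1,0)), ((1,1), (0,1), (2,1), (1,1)),
    ((1,2), (0,2), (1,0), (1,0)), ((1,0), (0,1), (2,0), (1,2)), ((1,1), (2,2), (1,0), (1,1)),
    ((1,0), (0,2), (1,0), (1,2)), ((1,2), (0,1), (0,2), (1,1)), ((1,1), (0,2), (2,0), (1,0)),
    ((1,1), (0,1), (0,2), (1,2)), ((0,0), (2,2), (2,1), (1,1)), ((1,2), (0,2), (2,2), (1,2)),
    ((1,2), (1,2), (2,0), (1,2)), ((1,1), (2,2), (2,1), (0,0)), ((1,2), (1,0), (1,0), (1,1)),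
    ((1,0), (0,2), (2,0), (1,1)), ((1,1), (1,0), (1,0), (1,2)), ((1,2), (0,1), (1,1), (1,2)),
    ((2,2), (2,2), (0,2), (1,1)), ((1,1), (0,2), (0,1), (1,2)), ((2,1), (1,2), (0,2), (1,2)),
    ((0,0), (2,2), (2,1), (0,0)), ((2,2), (1,0), (2,1), (1,1)), ((1,2), (0,2), (0,1), (1,1)),
    ((2,1), (1,0), (2,2), (1,2)), ((1,2), (1,2), (0,2), (2,1)), ((1,1), (2,0), (2,0), (1,2)),
    ((1,1), (2,2), (0,2), (2,2)), ((1,2), (1,0), (2,2), (2,1)), ((1,2), (2,0), (2,0), (1,1)),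
    ((1,1), (1,0), (2,1), (2,2)), ((1,2), (2,1), (1,0), (1,2)), ((0,0), (1,2), (1,1), (1,2)),
    ((2,2), (2,2), (2,1), (0,0)), ((0,2), (1,0), (0,2), (1,1)), ((1,1), (0,2), (1,2), (1,1)),
    ((0,1), (1,0), (0,1), (1,2)), ((2,1), (1,2), (2,0), (2,1)), ((0,1), (2,0), (0,2), (1,2)),
    ((0,0), (2,2), (2,1), (2,2)), ((2,2), (1,0), (1,0), (2,1)), ((0,2), (2,0), (0,1), (1,1)),
    ((2,1), (1,0), (1,0), (2,2)), ((0,0), (2,1), (2,2), (1,2)), ((1,2), (1,2), (1,1), (0,0)),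
    ((2,2), (0,1), (0,2), (2,1)), ((1,1), (2,0), (0,1), (0,2)), ((2,1), (0,1), (0,2), (2,2)),
    ((1,2), (1,0), (0,1), (0,1)), ((2,1), (0,2), (2,2), (2,1)), ((1,2), (2,0), (0,2), (0,1)),
    ((1,1), (1,1), (2,0), (1,1)), ((1,1), (1,0), (0,2), (0,2)), ((1,2), (2,1), (2,2), (0,0)),
    ((0,0), (1,2), (1,1), (2,1)), ((2,1), (2,0), (1,1), (1,2)), ((2,2), (2,2), (1,0), (2,2)),
    ((0,2), (1,0), (0,1), (2,1)), ((2,2), (2,0), (1,2), (1,1)), ((0,1), (1,0), (0,2), (2,2)),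
    ((2,1), (2,1), (0,1), (1,2)), ((2,1), (1,2), (1,1), (0,0)), ((2,0), (0,1), (2,0), (2,1)),
    ((0,1), (2,0), (0,0), (0,2)), ((2,2), (0,1), (2,1), (2,2)), ((2,2), (1,0), (0,2), (0,1)),
    ((2,0), (0,2), (1,0), (2,1)), ((0,2), (2,0), (0,0), (0,1)), ((2,2), (1,1), (0,1), (1,1)),
    ((2,1), (1,0), (0,1), (0,2)), ((0,0), (2,1), (2,2), (0,0)), ((0,0), (1,2), (1,1), (0,0)),
    ((0,2), (2,0), (0,2), (2,1)), ((1,1), (2,0), (1,2), (2,2)), ((0,1), (0,0), (0,1), (0,2)),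
    ((2,1), (0,1), (2,0), (2,0)), ((0,2), (0,0), (0,1), (0,1)), ((2,1), (0,2), (1,0), (2,0)),
    ((0,0), (2,1), (2,2), (2,1)), ((1,2), (2,0), (1,1), (2,1)), ((1,1), (1,1), (0,1), (2,2)),
    ((2,1), (2,0), (0,2), (0,2)), ((1,2), (2,1), (0,1), (2,1)), ((2,1), (2,1), (2,2), (0,0)),
    ((2,1), (0,1), (1,1), (2,1)), ((2,0), (0,1), (1,0), (2,2)), ((0,2), (1,0), (0,0), (0,1)),
    ((2,2), (0,2), (0,1), (2,1)), ((2,2), (2,0), (0,1), (0,1)), ((0,0), (1,1), (1,2), (1,1)),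
    ((0,1), (1,0), (0,0), (0,2)), ((2,2), (2,0), (2,0), (2,1)), ((0,1), (2,0), (0,1), (2,2)),
    ((0,1), (0,0), (0,0), (0,2)), ((2,2), (0,1), (1,0), (2,0)), ((0,2), (0,0), (0,2), (0,1)),
    ((2,0), (0,2), (0,0), (2,0)), ((2,1), (2,1), (1,0), (2,1)), ((2,2), (1,1), (2,0), (2,2)),
    ((2,2), (0,2), (1,2), (2,2)), ((0,1), (0,0), (0,2), (0,2)), ((2,0), (0,0), (2,0), (2,0)),
    ((0,2), (0,0), (0,0), (0,1)), ((2,1), (0,2), (0,1), (2,2)), ((1,1), (1,1), (1,2), (0,0)),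
    ((2,1), (2,0), (2,0), (2,2)), ((2,0), (0,1), (0,0), (2,0)), ((2,2), (0,2), (2,0), (2,0)),
    ((0,0), (1,1), (1,2), (2,2)), ((2,0), (0,0), (1,0), (2,0)), ((2,0), (0,2), (2,0), (2,2)),
    ((2,2), (1,1), (1,2), (0,0)), ((2,0), (0,0), (0,0), (2,0)), ((0,0), (1,1), (1,2), (0,0))]

theorem closed : ∀ m ∈ elements, mmul lower m ∈ elements ∧ mmul upper m ∈ elements := by decide +kernel

theorem one_mem : (((1, 0), (0, 0), (0, 0), (1, 0)) : Mat) ∈ elements := by decide +kernel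

theorem length_elements : elements.length = 120 := by decide +kernel

variable {F : Type*} [Field F] [Finite F] [CharP F 3]

theorem card_closure_le (lam : F) (hl : lam ^ 2 = -1) :
    Nat.card (Subgroup.closure {g : SL(2, F) | (g : Matrix (Fin 2) (Fin 2) F) = !![1, 0; 1, 1] ∨
      (g : Matrix (Fin 2) (Fin 2) F) = !![1, lam; 0, 1]}) ≤ 120 := by
  classical
  set S := {g : SL(2, F) | (g : Matrix (Fin 2) (Fin 2) F) = !![1, 0; 1, 1] ∨
      (g : Matrix (Fin 2) (Fin 2) F) = !![1, lam; 0, 1]}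
  let ι : ZMod 3 →+* F := ZMod.castHom (dvd_refl 3) F
  let ev : Nine → F := fun x => ι x.1 + ι x.2 * lam
  have eadd : ∀ x y, ev (x + y) = ev x + ev y := fun x y => by simp [ev]; ring
  have emul : ∀ x y, ev (nmul x y) = ev x * ev y := fun x y => by
    simp [ev, nmul]; linear_combination -(ι x.2 * ι y.2) * hl
  let evM : Mat → Matrix (Fin 2) (Fin 2) F := fun m => !![ev m.1, ev m.2.1; ev m.2.2.1, ev m.2.2.2]
  have emm : ∀ m n, evM (mmul m n) = evM m * evM n := by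
    rintro ⟨a, b, c, d⟩ ⟨e, f, g, h⟩
    ext i j
    fin_cases i <;> fin_cases j <;> simp [evM, mmul, Matrix.mul_apply, eadd, emul]
  have hmem : ∀ g ∈ Subgroup.closure S, ∃ m ∈ elements, (g : Matrix (Fin 2) (Fin 2) F) = evM m := by
    intro g hg
    rw [← Subgroup.mem_toSubmonoid, Subgroup.closure_toSubmonoid_of_finite] at hg
    induction hg using Submonoid.closure_induction_left with
    | one => exact ⟨_, one_mem, by ext i j; fin_cases i <;> fin_cases j <;> simp [evM, ev]⟩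
    | mul_left x hx y _ ih =>
      obtain ⟨m, hm, e⟩ := ih
      rcases hx with hx | hx
      · refine ⟨_, (closed m hm).1, ?_⟩
        rw [emm, ← e, Matrix.SpecialLinearGroup.coe_mul, hx]
        congr 1
        ext i j
        fin_cases i <;> fin_cases j <;> simp [evM, ev, lower]
      · refine ⟨_, (closed m hm).2, ?_⟩
        rw [emm, ← e, Matrix.SpecialLinearGroup.coe_mul, hx]
        congr 1
        ext i j
        fin_cases i <;> fin_cases j <;> simp [evM, ev, upper]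
  choose m hm he using fun g : Subgroup.closure S => hmem g.1 g.2
  let φ : Subgroup.closure S → elements.toFinset := fun g => ⟨m g, List.mem_toFinset.2 (hm g)⟩
  have hinj : Function.Injective φ := fun a b e => by
    refine Subtype.ext (Subtype.ext ?_)
    rw [he a, he b, show m a = m b from congrArg Subtype.val e]
  refine (Nat.card_le_card_of_injective φ hinj).trans ?_
  rw [Nat.card_eq_finsetCard]
  exact (List.toFinset_card_le _).trans length_elements.le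

end CfsgLib.Geom.NineFieldPair
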