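import Cfsg.Agent.Lib.Geom.NondegMaxCases
import Cfsg.Agent.Lib.Classical.OMinDegType
import Cfsg.Agent.Lib.MaxSub.OrthSing

/-!
Orthogonal four-spaces in a space of dimension eight without totally singular four-space: one of them has Witt index
two, and their stabiliser is maximal.
-/

set_option autoImplicit false

namespace CfsgLib.Geom.OrthSub

open CfsgLib.Classical
open QuadraticMap (polar)

section

variable {F V : Type*} [Field F] [AddCommGroup V] [Module F V] {Q : QuadraticForm F V}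

/-- the span of two orthogonal singular vectors -/
theorem span_two_singular {x y : V} (hx : Q x = 0) (hy : Q y = 0) (h : polar Q x y = 0) :
    ∀ z ∈ Submodule.span F ({x, y} : Set V), Q z = 0 := by
  intro z hz
  obtain ⟨i, j, rfl⟩ := Submodule.mem_span_pair.1 hz
  rw [quad_map_add_smul, quad_smul, hx, hy, QuadraticMap.polar_smul_left, h, smul_zero]
  ring

variable [Finite F] [FiniteDimensional F V]

theorem card_one_zero {A : Submodule F V} (h : ∀ x ∈ A, Q x = 0 → x = 0) :
    Nat.card {x : A // Q (x : V) = 0} = 1 :=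
  Nat.card_eq_one_iff_unique.2
    ⟨⟨fun a b => Subtype.ext (Subtype.ext ((h _ a.1.2 a.2).trans (h _ b.1.2 b.2).symm))⟩,
      ⟨⟨0, QuadraticMap.map_zero Q⟩⟩⟩

/-- every non-zero level of an anisotropic plane has `q + 1` points -/
theorem card_plane_level {A : Submodule F V} (hd : Module.finrank F A = 2)
    (h : ∀ x ∈ A, Q x = 0 → x = 0) {c : F} (hc : c ≠ 0) :
    Nat.card {x : A // Q (x : V) = c} = Nat.card F + 1 := by
  classical
  let := Fintype.ofFinite F
  let b := Module.finBasisOfFinrankEq F A hd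
  set α := Q (b 0 : V) with hαdef
  set β := polar Q (b 0 : V) (b 1) with hβdef
  set γ := Q (b 1 : V) with hγdef
  have hα : α ≠ 0 := fun e => b.ne_zero 0 (Subtype.ext (h _ (b 0).2 e))
  have hval : ∀ z : Fin 2 → F, Q ((b.equivFun.symm z : A) : V) =
      α * (z 0 ^ 2 + β / α * z 0 * z 1 + γ / α * z 1 ^ 2) := fun z => by
    rw [Module.Basis.equivFun_symm_apply, Fin.sum_univ_two, A.coe_add, A.coe_smul, A.coe_smul,
      QuadraticMap.map_add (Q : QuadraticMap F V F), quad_smul, quad_smul, QuadraticMap.polar_smul_left,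
      QuadraticMap.polar_smul_right, ← hαdef, ← hβdef, ← hγdef]
    simp only [smul_eq_mul]
    field_simp
    ring
  have hab : ∀ z₁ z₂ : F, z₁ ^ 2 + β / α * z₁ * z₂ + γ / α * z₂ ^ 2 = 0 → z₁ = 0 ∧ z₂ = 0 := by
    intro z₁ z₂ hz
    have e := h _ (b.equivFun.symm ![z₁, z₂]).2 (by rw [hval]; simp [hz])
    have e' : b.equivFun.symm ![z₁, z₂] = 0 := Subtype.ext e
    rw [LinearEquiv.map_eq_zero_iff] at e'
    exact ⟨congrFun e' 0, congrFun e' 1⟩
  rw [Nat.card_eq_fintype_card (α := F), ← OMinDeg.card_binary_level hab (div_ne_zero hc hα)]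
  refine (Nat.card_congr (b.equivFun.symm.toEquiv.subtypeEquiv fun z => ?_)).symm
  show _ ↔ Q ((b.equivFun.symm z : A) : V) = c
  rw [hval, eq_div_iff hα, mul_comm]

/-- two orthogonal anisotropic planes span a space of Witt index two -/
theorem plane_of_anisotropic {A B : Submodule F V} (hA : Module.finrank F A = 2) (hB : Module.finrank F B = 2)
    (hperp : ∀ a ∈ A, ∀ b ∈ B, polar Q a b = 0) (hdisj : Disjoint A B)
    (hsA : ∀ x ∈ A, Q x = 0 → x = 0) (hsB : ∀ x ∈ B, Q x = 0 → x = 0) :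
    ∃ L ≤ A ⊔ B, (∀ x ∈ L, Q x = 0) ∧ Module.finrank F L = 2 := by
  classical
  let := Fintype.ofFinite F
  have : Finite V := Module.finite_of_finite F
  set D := A ⊔ B
  have hD : Module.finrank F D = 4 := by
    have := Submodule.finrank_sup_add_finrank_inf_eq A B
    rw [hdisj.eq_bot, finrank_bot, hA, hB] at this
    exact this
  let QD := Q.comp D.subtype
  let φ : A × B ≃ {x // x ∈ D} := Equiv.ofBijective
    (fun p => ⟨(p.1 : V) + p.2, Submodule.add_mem_sup p.1.2 p.2.2⟩)
    ⟨fun p r e => by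
      have e' : (p.1 : V) + p.2 = r.1 + r.2 := congrArg Subtype.val e
      have h1 : (p.1 : V) - r.1 = r.2 - p.2 := sub_eq_sub_iff_add_eq_add.2 (e'.trans (add_comm _ _))
      have h0 := Submodule.disjoint_def.1 hdisj _ (sub_mem p.1.2 r.1.2) (h1 ▸ sub_mem r.2.2 p.2.2)
      rw [h0] at h1
      exact Prod.ext (Subtype.ext (sub_eq_zero.1 h0)) (Subtype.ext (sub_eq_zero.1 h1.symm).symm),
    fun x => by
      obtain ⟨a, ha, b, hb, e⟩ := Submodule.mem_sup.1 x.2
      exact ⟨(⟨a, ha⟩, ⟨b, hb⟩), Subtype.ext e⟩⟩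
  have hcount : Nat.card {z : D // QD z = 0} + 1 * 0 =
      1 + (Nat.card F - 1) * ((Nat.card F + 1) * (Nat.card F + 1)) := by
    rw [one_mul, add_zero, ← Nat.card_congr (φ.subtypeEquiv (p := fun p => Q (p.1 : V) = -Q (p.2 : V))
      (q := fun z => QD z = 0) fun p => by
        show _ ↔ Q ((p.1 : V) + p.2) = 0
        rw [QuadraticMap.map_add (Q : QuadraticMap F V F), hperp _ p.1.2 _ p.2.2, add_zero, eq_neg_iff_add_eq_zero])]
    let e : {p : A × B // Q (p.1 : V) = -Q (p.2 : V)} ≃
        Σ c : F, {a : A // Q (a : V) = c} × {b : B // Q (b : V) = -c} :=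
      { toFun := fun p => ⟨Q (p.1.1 : V), ⟨p.1.1, rfl⟩, ⟨p.1.2, by rw [p.2, neg_neg]⟩⟩
        invFun := fun s => ⟨(s.2.1.1, s.2.2.1), by
          show Q _ = -Q _
          rw [s.2.1.2, s.2.2.2, neg_neg]⟩
        left_inv := fun p => rfl
        right_inv := fun ⟨c, ⟨a, ha⟩, ⟨b, hb⟩⟩ => by subst ha; rfl }
    rw [Nat.card_congr e, Nat.card_sigma, ← Finset.add_sum_erase _ _ (Finset.mem_univ (0 : F)),
      Nat.card_prod, neg_zero, card_one_zero hsA, card_one_zero hsB, Finset.sum_congr rfl fun c hc => by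
        rw [Nat.card_prod, card_plane_level hA hsA (Finset.ne_of_mem_erase hc),
          card_plane_level hB hsB (neg_ne_zero.2 (Finset.ne_of_mem_erase hc))]]
    rw [Finset.sum_const, Finset.card_erase_of_mem (Finset.mem_univ _), Finset.card_univ, smul_eq_mul,
      Nat.card_eq_fintype_card (α := F), mul_one]
  rw [one_mul, add_zero] at hcount
  have hsepA : ∀ {A : Submodule F V}, Module.finrank F A = 2 → (∀ x ∈ A, Q x = 0 → x = 0) →
      ∀ x : A, (∀ y : A, polar Q (x : V) y = 0) → x = 0 := by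
    intro A hA hsA x hx
    by_contra hx0
    obtain ⟨y, hy, hyx⟩ := SetLike.not_le_iff_exists.1 (show ¬ A ≤ F ∙ (x : V) from fun hle => by
      have := Submodule.finrank_mono hle
      rw [hA, finrank_span_singleton fun e => hx0 (Subtype.ext e)] at this
      omega)
    have h2 : (2 : F) = 0 := by
      have := hx x
      rw [polar_self_two] at this
      exact (mul_eq_zero.1 this).resolve_right fun e => hx0 (Subtype.ext (hsA _ x.2 e))
    obtain ⟨r, hr⟩ := isSquare_of_two_eq_zero h2 (-Q y / Q (x : V))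
    refine hyx (Submodule.mem_span_singleton.2 ⟨-r, ?_⟩)
    have hQx : Q (x : V) ≠ 0 := fun e => hx0 (Subtype.ext (hsA _ x.2 e))
    have e : y + r • (x : V) = 0 := hsA _ (add_mem hy (A.smul_mem _ x.2)) (by
      rw [quad_map_add_smul, QuadraticMap.polar_comm _ y, hx ⟨y, hy⟩, ← hr]
      field_simp
      ring)
    rw [neg_smul, ← eq_neg_of_add_eq_zero_left e]
  have hsepD : ∀ x, (∀ y, polar QD x y = 0) → x = 0 := by
    intro x hx
    obtain ⟨⟨a, b⟩, rfl⟩ := φ.surjective x
    have ha : a = 0 := hsepA hA hsA a fun y => by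
      have := hx ⟨y, Submodule.mem_sup_left y.2⟩
      change polar Q ((a : V) + b) (y : V) = 0 at this
      rwa [QuadraticMap.polar_add_left, QuadraticMap.polar_comm _ (b : V), hperp _ y.2 _ b.2, add_zero] at this
    have hb : b = 0 := hsepA hB hsB b fun y => by
      have := hx ⟨y, Submodule.mem_sup_right y.2⟩
      change polar Q ((a : V) + b) (y : V) = 0 at this
      rwa [QuadraticMap.polar_add_left, hperp _ a.2 _ y.2, zero_add] at this
    exact Subtype.ext (show (a : V) + b = 0 by rw [ha, hb]; simp)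
  obtain ⟨s, hsD, hs0, hQs⟩ := CfsgLib.MaxSub.exists_singular_in (Q := Q) (W := D) (by omega)
  obtain ⟨P, hPe⟩ := OMinDeg.exists_pair (Q := QD) hsepD (x := ⟨s, hsD⟩) hQs fun e => hs0 (congrArg Subtype.val e)
  by_cases hiso : ∃ w : P.W, w ≠ 0 ∧ P.QW w = 0
  · obtain ⟨w, hw0, hQw⟩ := hiso
    refine ⟨Submodule.span F {((w : D) : V), (P.e : V)}, Submodule.span_le.2 ?_,
      span_two_singular hQw P.he ?_, finrank_span_two ?_⟩
    · rintro _ (rfl | rfl) <;> exact SetLike.coe_mem _
    · rw [QuadraticMap.polar_comm]; exact P.W_e w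
    · refine linearIndependent_pair_of_polar Q (z := (P.f : V)) (fun e => hw0 (Subtype.ext (Subtype.ext e))) ?_
        (P.W_f w)
      show polar QD P.f P.e ≠ 0
      rw [P.hfe]; exact one_ne_zero
  · push Not at hiso
    have h1 : Nat.card {w : P.W // P.QW w = 0} = 1 := Nat.card_eq_one_iff_unique.2
      ⟨⟨fun a b => Subtype.ext ((not_not.1 fun h => hiso _ h a.2).trans (not_not.1 fun h => hiso _ h b.2).symm)⟩,
        ⟨⟨0, QuadraticMap.map_zero _⟩⟩⟩
    have h2 : Nat.card P.W = Nat.card F ^ 2 := by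
      rw [Module.natCard_eq_pow_finrank (K := F),
        show Module.finrank F P.W = 2 by have := P.finrank_W; omega]
    have := P.card_level 0
    rw [h1, h2, hcount, Nat.card_eq_fintype_card (α := F)] at this
    obtain ⟨k, hk⟩ : ∃ k, Fintype.card F = k + 2 :=
      ⟨Fintype.card F - 2, by have := Fintype.one_lt_card (α := F); omega⟩
    rw [hk, show k + 2 - 1 = k + 1 by omega] at this
    nlinarith [this]

end

variable {F : Type*} [Field F] [Fintype F] {ι : Type} [Fintype ι] [DecidableEq ι]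

/-- The stabiliser in `Ω` of a non-degenerate four-space in dimension eight, minus type, is maximal. -/
theorem nondeg_four_isMaximalIn (Q : QuadraticForm F (ι → F)) {f : (ι → F) → F} (hf : ⇑Q = f)
    (hQ : ∀ x, (∀ y, polar Q x y = 0) → x = 0) (hn : Fintype.card ι = 8) {W : Submodule F (ι → F)}
    (hW4 : Module.finrank F W = 4) (hW : ∀ x ∈ W, (∀ y ∈ W, polar Q x y = 0) → x = 0)
    (hminus : ¬ ∃ S : Submodule F (ι → F), (∀ x ∈ S, Q x = 0) ∧ 2 * Module.finrank F S = Fintype.card ι) :
    Cfsg.Geo.IsMaximalIn (Cfsg.Geo.omegaGL f) (Cfsg.Geo.subspaceStabilizer W ⊓ Cfsg.Geo.omegaGL f) := by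
  classical
  obtain ⟨U, hc, hU⟩ := exists_perp_compl Q.polarBilin
    (fun x y h => (QuadraticMap.polar_comm Q y x).trans h) W hW
  have hperp : ∀ u ∈ U, ∀ w ∈ W, polar Q u w = 0 := fun u hu w hw =>
    (QuadraticMap.polar_comm Q u w).trans ((hU u).1 hu w hw)
  have hperp' : ∀ w ∈ W, ∀ u ∈ U, polar Q w u = 0 := fun w hw u hu => (hU u).1 hu w hw
  have hn' : Module.finrank F (ι → F) = 8 := by rw [Module.finrank_fintype_fun_eq_card, hn]
  have hU4 : Module.finrank F U = 4 := by
    have := Submodule.finrank_add_eq_of_isCompl hc.symm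
    omega
  have hsup : U ⊔ W = ⊤ := hc.symm.sup_eq_top
  have hboth : ∀ L ≤ U, (∀ x ∈ L, Q x = 0) → ∀ L' ≤ W, (∀ x ∈ L', Q x = 0) →
      Module.finrank F L = 2 → Module.finrank F L' ≠ 2 := by
    intro L hL hLs L' hL' hL's h2 h2'
    refine hminus ⟨L ⊔ L', fun x hx => ?_, ?_⟩
    · obtain ⟨a, ha, b, hb, rfl⟩ := Submodule.mem_sup.1 hx
      rw [QuadraticMap.map_add (Q : QuadraticMap F _ F), hLs a ha, hL's b hb, hperp a (hL ha) b (hL' hb)]
      simp
    · have h3 := Submodule.finrank_sup_add_finrank_inf_eq L L'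
      rw [(Disjoint.mono hL hL' hc.symm.disjoint).eq_bot, finrank_bot, h2, h2'] at h3
      omega
  have hU0 : U ≠ ⊥ := fun e => by rw [e, finrank_bot] at hU4; omega
  have hW0 : W ≠ ⊥ := fun e => by rw [e, finrank_bot] at hW4; omega
  have hne : ∀ {A B : Submodule F (ι → F)}, (∀ a ∈ A, ∀ b ∈ B, polar Q a b = 0) → IsCompl A B →
      Module.finrank F A = 4 → Module.finrank F B = 4 → ∀ g : quadIsoms Q, ∃ u ∈ A, g.1 u ∉ B := by
    intro A B hAB hcAB hA hB g
    by_contra hall
    push Not at hall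
    obtain ⟨S, hS, hd⟩ := exists_ts_of_isometric_halves hQ hAB hcAB (by rw [hA]; decide) (by omega) g hall
    exact hminus ⟨S, hS, by rw [hd, Module.finrank_fintype_fun_eq_card]⟩
  rcases em (∃ L ≤ U, (∀ x ∈ L, Q x = 0) ∧ Module.finrank F L = 2) with hp | hp
  · have h : Split Q U W := ⟨hQ, hperp, hsup, Or.inr ⟨hU4, by omega, hp, fun L' hL' hs' => by
      obtain ⟨L, hL, hs, h2⟩ := hp
      exact hboth L hL hs L' hL' hs' h2⟩⟩
    exact omega_isMaximalIn Q hf W (h.moved hW0) fun M hM =>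
      h.maximal (hne hperp hc.symm hU4 hW4) (fun e => by omega) hM
  · push Not at hp
    have hpW : ∃ L ≤ W, (∀ x ∈ L, Q x = 0) ∧ Module.finrank F L = 2 := by
      by_contra hno
      push Not at hno
      have key : ∀ A : Submodule F (ι → F), Module.finrank F A = 4 →
          (∀ x ∈ A, (∀ y ∈ A, polar Q x y = 0) → x = 0) →
          (∀ L ≤ A, (∀ x ∈ L, Q x = 0) → Module.finrank F L ≠ 2) →
          ∃ e P, e ∈ A ∧ e ≠ 0 ∧ Q e = 0 ∧ P ≤ A ∧ Module.finrank F P = 2 ∧
            (∀ x ∈ P, polar Q e x = 0) ∧ ∀ x ∈ P, Q x = 0 → x = 0 := by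
        intro A hA hsA hnoA
        obtain ⟨s, hs, hs0, hQs⟩ := CfsgLib.MaxSub.exists_singular_in (Q := Q) (W := A) (by omega)
        obtain ⟨R, hR⟩ := OMinDeg.exists_pair (Q := Q.comp A.subtype) (fun x hx =>
          Subtype.ext (hsA x x.2 fun y hy => hx ⟨y, hy⟩)) (x := ⟨s, hs⟩) hQs
          fun e => hs0 (congrArg Subtype.val e)
        refine ⟨(R.e : ι → F), R.W.map A.subtype, R.e.2, fun e => R.e_ne (Subtype.ext e), R.he,
          Submodule.map_subtype_le _ _, ?_, ?_, ?_⟩
        · rw [Submodule.finrank_map_subtype_eq]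
          have := R.finrank_W
          omega
        · rintro _ ⟨w, hw, rfl⟩; exact R.W_e ⟨w, hw⟩
        · rintro _ ⟨w, hw, rfl⟩ hQw
          by_contra hw0
          refine hnoA (Submodule.span F {(w : ι → F), (R.e : ι → F)}) (Submodule.span_le.2 ?_)
            (span_two_singular hQw R.he ?_) (finrank_span_two ?_)
          · rintro _ (rfl | rfl) <;> exact SetLike.coe_mem _
          · rw [QuadraticMap.polar_comm]; exact R.W_e ⟨w, hw⟩
          · refine linearIndependent_pair_of_polar Q (z := (R.f : ι → F)) hw0 ?_ (R.W_f ⟨w, hw⟩)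
            show polar (Q.comp A.subtype) R.f R.e ≠ 0
            rw [R.hfe]; exact one_ne_zero
      have hUsep : ∀ x ∈ U, (∀ y ∈ U, polar Q x y = 0) → x = 0 := fun x hx h0 => hQ x fun v => by
        obtain ⟨u, hu, w, hw, rfl⟩ := Submodule.mem_sup.1 (hsup ▸ Submodule.mem_top : v ∈ U ⊔ W)
        rw [QuadraticMap.polar_add_right, h0 u hu, hperp x hx w hw, add_zero]
      obtain ⟨e, A, he, he0, hQe, hAU, hA2, heA, hsA⟩ := key U hU4 hUsep hp
      obtain ⟨e', B, he', he'0, hQe', hBW, hB2, heB, hsB⟩ := key W hW4 hW hno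
      obtain ⟨L, hL, hLs, hL2⟩ := plane_of_anisotropic hA2 hB2 (fun a ha b hb => hperp a (hAU ha) b (hBW hb))
        (Disjoint.mono hAU hBW hc.symm.disjoint) hsA hsB
      set E := Submodule.span F ({e, e'} : Set (ι → F))
      have hee : polar Q e e' = 0 := hperp e he e' he'
      have hE2 : Module.finrank F E = 2 := finrank_span_two ((LinearIndependent.pair_iff' he0).2 fun c hc' =>
        he'0 (Submodule.disjoint_def.1 hc.symm.disjoint e' (by rw [← hc']; exact U.smul_mem c he) he'))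
      have hEL : ∀ x ∈ E, ∀ y ∈ L, polar Q x y = 0 := by
        intro x hx y hy
        obtain ⟨i, j, rfl⟩ := Submodule.mem_span_pair.1 hx
        obtain ⟨a, ha, b, hb, rfl⟩ := Submodule.mem_sup.1 (hL hy)
        simp [QuadraticMap.polar_add_left, QuadraticMap.polar_add_right, QuadraticMap.polar_smul_left, heA a ha,
          heB b hb, hperp e he b (hBW hb), hperp' e' he' a (hAU ha)]
      have hinf : E ⊓ L = ⊥ := by
        rw [Submodule.eq_bot_iff]
        rintro x ⟨hxE, hxL⟩
        obtain ⟨i, j, rfl⟩ := Submodule.mem_span_pair.1 hxE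
        obtain ⟨a, ha, b, hb, hab⟩ := Submodule.mem_sup.1 (hL hxL)
        have h1 : i • e - a = b - j • e' := sub_eq_sub_iff_add_eq_add.2 (hab.symm.trans (add_comm a b))
        have h0 := Submodule.disjoint_def.1 hc.symm.disjoint _ (U.sub_mem (U.smul_mem i he) (hAU ha))
          (h1 ▸ W.sub_mem (hBW hb) (W.smul_mem j he'))
        rw [h0] at h1
        have hi : i • e = 0 := hsA _ (sub_eq_zero.1 h0 ▸ ha) (by rw [quad_smul, hQe, mul_zero])
        have hj : j • e' = 0 := hsB _ (sub_eq_zero.1 h1.symm ▸ hb) (by rw [quad_smul, hQe', mul_zero])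
        rw [hi, hj, add_zero]
      refine hminus ⟨E ⊔ L, fun x hx => ?_, ?_⟩
      · obtain ⟨u, hu, l, hl, rfl⟩ := Submodule.mem_sup.1 hx
        rw [QuadraticMap.map_add (Q : QuadraticMap F _ F), span_two_singular hQe hQe' hee u hu, hLs l hl,
          hEL u hu l hl]
        simp
      · have h3 := Submodule.finrank_sup_add_finrank_inf_eq E L
        rw [hinf, finrank_bot, hE2, hL2] at h3
        omega
    have h : Split Q W U := ⟨hQ, hperp', by rw [sup_comm]; exact hsup, Or.inr ⟨hW4, by omega, hpW, hp⟩⟩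
    refine omega_isMaximalIn Q hf W ?_ fun M hM => ?_
    · obtain ⟨g, hg, x, hx, hgx⟩ := h.moved hU0
      by_contra hall
      push Not at hall
      exact hgx (h.maps_W (hall g hg) x hx)
    · exact (h.maximal (hne hperp' hc hW4 hU4) (fun e => by omega)
        fun g hg hgU => hM g hg (h.maps_U hgU)).imp_left fun hst g hg => h.maps_U (hst g hg)

end CfsgLib.Geom.OrthSub
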