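import Mathlib
import Cfsg.Agent.Lib.Geom.SiegelFull

set_option autoImplicit false

/-!
Stabilisers of non-degenerate subspaces in the commutator subgroup of an orthogonal group: Siegel root groups of
the larger summand.
-/

namespace CfsgLib.Geom.OrthSub

open CfsgLib.Classical
open QuadraticMap (polar)
open scoped commutatorElement

variable {F V : Type*} [Field F] [AddCommGroup V] [Module F V]
variable {Q : QuadraticForm F V} {U W : Submodule F V}

theorem finrank_span_two {a b : V} (h : LinearIndependent F ![a, b]) :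
    Module.finrank F (Submodule.span F ({a, b} : Set V)) = 2 := by
  have := finrank_span_eq_card h
  rwa [Matrix.range_cons_cons_empty, Fintype.card_fin] at this

theorem card_le_three [Finite F] (h : ∀ a : F, a ≠ 0 → a = 1 ∨ a = -1) : Nat.card F ≤ 3 := by
  classical
  let := Fintype.ofFinite F
  rw [Nat.card_eq_fintype_card]
  refine (Finset.card_le_card (fun a _ => ?_ : (Finset.univ : Finset F) ⊆ {0, 1, -1})).trans Finset.card_le_three
  simp only [Finset.mem_insert, Finset.mem_singleton]
  exact (em (a = 0)).imp id fun ha => h a ha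

/-- The product of two reflections at vectors of the same value is a commutator. -/
theorem refl_pair_mem [Finite F] [FiniteDimensional F V] (hQ : ∀ x, (∀ y, polar Q x y = 0) → x = 0)
    (h5 : 5 ≤ Module.finrank F V) {x y : V} (hx : Q x ≠ 0) (hy : Q y ≠ 0) (h : Q x = Q y) :
    (⟨reflEquiv Q x hx, reflEquiv_mem Q x hx⟩ * ⟨reflEquiv Q y hy, reflEquiv_mem Q y hy⟩ : quadIsoms Q) ∈
      commutator (quadIsoms Q) := by
  obtain ⟨g, -, hgy⟩ := siegel_transitive_value Q hQ h5 hx h
  set rx : quadIsoms Q := ⟨reflEquiv Q x hx, reflEquiv_mem Q x hx⟩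
  set ry : quadIsoms Q := ⟨reflEquiv Q y hy, reflEquiv_mem Q y hy⟩
  have hry : g * rx * g⁻¹ = ry := by
    refine Subtype.ext ?_
    show g.1 * reflEquiv Q x hx * g.1⁻¹ = reflEquiv Q y hy
    rw [conj_reflEquiv Q g.2]
    simp only [hgy]
  have e : rx * ry = ⁅rx, g⁆ := by
    rw [← hry, commutatorElement_def, show rx⁻¹ = rx from Subtype.ext (reflEquiv_inv Q x hx)]
    group
  rw [e, commutator_def]
  exact Subgroup.commutator_mem_commutator (Subgroup.mem_top _) (Subgroup.mem_top _)

theorem two_zero (h : Nat.card F = 2) : (2 : F) = 0 := by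
  have : Finite F := Nat.finite_of_card_ne_zero (by omega)
  have : Fintype F := Fintype.ofFinite F
  rw [Nat.card_eq_fintype_card] at h
  have := FiniteField.cast_card_eq_zero F
  rw [h] at this
  exact_mod_cast this

theorem one_of_card (h : Nat.card F = 2) {c : F} (hc : c ≠ 0) : c = 1 := by
  by_contra h1
  have : Finite F := Nat.finite_of_card_ne_zero (by omega)
  have : Fintype F := Fintype.ofFinite F
  rw [Nat.card_eq_fintype_card] at h
  classical
  have := Finset.card_le_univ ({0, 1, c} : Finset F)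
  rw [Finset.card_insert_of_notMem (by simp [hc.symm]), Finset.card_insert_of_notMem (by simp [Ne.symm h1]),
    Finset.card_singleton] at this
  omega

/-- `U` and `W` are orthogonal complements: `U` has dimension at least five, or dimension four and Witt index two
while `W` has no totally singular plane. -/
structure Split (Q : QuadraticForm F V) (U W : Submodule F V) : Prop where
  sep : ∀ x, (∀ y, polar Q x y = 0) → x = 0
  perp : ∀ u ∈ U, ∀ w ∈ W, polar Q u w = 0
  sup : U ⊔ W = ⊤
  dim : 5 ≤ Module.finrank F U ∨ (Module.finrank F U = 4 ∧ 8 ≤ Module.finrank F V ∧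
    (∃ L ≤ U, (∀ x ∈ L, Q x = 0) ∧ Module.finrank F L = 2) ∧
    ∀ L ≤ W, (∀ x ∈ L, Q x = 0) → Module.finrank F L ≠ 2)

namespace Split

variable (h : Split Q U W)
include h

theorem decomp (v : V) : ∃ u ∈ U, ∃ w ∈ W, u + w = v :=
  Submodule.mem_sup.1 (h.sup ▸ Submodule.mem_top : v ∈ U ⊔ W)

theorem perp' {w u : V} (hw : w ∈ W) (hu : u ∈ U) : polar Q w u = 0 := by
  rw [QuadraticMap.polar_comm]; exact h.perp u hu w hw

theorem sepU {x : V} (hx : x ∈ U) (h0 : ∀ y ∈ U, polar Q x y = 0) : x = 0 :=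
  h.sep x fun v => by
    obtain ⟨u, hu, w, hw, rfl⟩ := h.decomp v
    rw [QuadraticMap.polar_add_right, h0 u hu, h.perp x hx w hw, add_zero]

theorem sepW {x : V} (hx : x ∈ W) (h0 : ∀ y ∈ W, polar Q x y = 0) : x = 0 :=
  h.sep x fun v => by
    obtain ⟨u, hu, w, hw, rfl⟩ := h.decomp v
    rw [QuadraticMap.polar_add_right, h0 w hw, h.perp' hx hu, add_zero]

theorem sepQU : ∀ x, (∀ y, polar (Q.comp U.subtype) x y = 0) → x = 0 := fun x hx =>
  Subtype.ext (h.sepU x.2 fun y hy => hx ⟨y, hy⟩)

theorem mem_U_of_perp {v : V} (hv : ∀ w ∈ W, polar Q v w = 0) : v ∈ U := by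
  obtain ⟨u, hu, w, hw, rfl⟩ := h.decomp v
  have : w = 0 := h.sepW hw fun y hy => by
    simpa [QuadraticMap.polar_add_left, h.perp u hu y hy] using hv y hy
  rwa [this, add_zero]

theorem mem_W_of_perp {v : V} (hv : ∀ u ∈ U, polar Q v u = 0) : v ∈ W := by
  obtain ⟨u, hu, w, hw, rfl⟩ := h.decomp v
  have : u = 0 := h.sepU hu fun y hy => by
    simpa [QuadraticMap.polar_add_left, h.perp' hw hy] using hv y hy
  rwa [this, zero_add]

variable [FiniteDimensional F V]

theorem maps_U {g : quadIsoms Q} (hg : ∀ x ∈ W, g.1 x ∈ W) : ∀ u ∈ U, g.1 u ∈ U := fun u hu =>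
  h.mem_U_of_perp fun w hw => by
    obtain ⟨⟨v, hv⟩, e⟩ := (LinearMap.injective_iff_surjective (f := g.1.toLinearMap.restrict hg)).1
      (fun a b e => Subtype.ext (g.1.injective (congrArg Subtype.val e))) ⟨w, hw⟩
    have e' : g.1 v = w := congrArg Subtype.val e
    rw [← e', polar_map, h.perp u hu v hv]

theorem maps_W {g : quadIsoms Q} (hg : ∀ x ∈ U, g.1 x ∈ U) : ∀ w ∈ W, g.1 w ∈ W := fun w hw =>
  h.mem_W_of_perp fun u hu => by
    obtain ⟨⟨v, hv⟩, e⟩ := (LinearMap.injective_iff_surjective (f := g.1.toLinearMap.restrict hg)).1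
      (fun a b e => Subtype.ext (g.1.injective (congrArg Subtype.val e))) ⟨u, hu⟩
    have e' : g.1 v = u := congrArg Subtype.val e
    rw [← e', polar_map, h.perp' hw hv]

theorem finrank_V : 5 ≤ Module.finrank F V :=
  h.dim.elim (fun h5 => h5.trans U.finrank_le) fun h4 => le_trans (by norm_num) h4.2.1

theorem sum_four (h4 : Module.finrank F U = 4) : Module.finrank F V ≤ 4 + Module.finrank F W := by
  have := Submodule.finrank_sup_add_finrank_inf_eq U W
  rw [h.sup, finrank_top, h4] at this
  omega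

variable [Finite F]

theorem siegel_mem (x w : V) : siegel Q x w ∈ commutator (quadIsoms Q) :=
  siegel_mem_commutator h.sep h.finrank_V x w

/-- A non-zero singular vector of `U`. -/
theorem exists_sing : ∃ x : U, x ≠ 0 ∧ Q (x : V) = 0 := by
  rcases h.dim with h5 | ⟨-, -, ⟨L, hLU, hL, hL2⟩, -⟩
  · exact exists_singular (Q.comp U.subtype) h.sepQU h5
  · obtain ⟨z, hz, hz0⟩ := Submodule.exists_mem_ne_zero_of_ne_bot (show L ≠ ⊥ from fun e => by
      rw [e, finrank_bot] at hL2; omega)
    exact ⟨⟨z, hLU hz⟩, fun e => hz0 (congrArg Subtype.val e), hL z hz⟩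

/-- A singular vector of `U` has an orthogonal singular vector independent of it. -/
theorem partner {u : U} (hu0 : u ≠ 0) (hQu : Q (u : V) = 0) :
    ∃ a : U, a ≠ 0 ∧ Q (a : V) = 0 ∧ polar Q (u : V) a = 0 ∧ LinearIndependent F ![a, u] := by
  rcases h.dim with h5 | ⟨-, -, ⟨L, hLU, hL, hL2⟩, -⟩
  · obtain ⟨z, hz⟩ := exists_partner (Q.comp U.subtype) h.sepQU hu0
    obtain ⟨a, hQa, ha0, hua, -, hi⟩ := exists_singular_perp_indep (Q.comp U.subtype) h.sepQU h5 hu0 z
    exact ⟨a, ha0, hQa, hua, (hi (by rw [hz]; exact one_ne_zero)).1⟩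
  · suffices ∃ a ∈ L, a ∉ F ∙ (u : V) ∧ polar Q (u : V) a = 0 by
      obtain ⟨a, ha, hau, hp⟩ := this
      have ha0 : a ≠ 0 := fun e => hau (by rw [e]; exact Submodule.zero_mem _)
      refine ⟨⟨a, hLU ha⟩, fun e => ha0 (congrArg Subtype.val e), hL a ha, hp, ?_⟩
      rw [LinearIndependent.pair_iff' fun e => ha0 (congrArg Subtype.val e)]
      intro c hc
      have hc' : c • a = (u : V) := congrArg Subtype.val hc
      rcases eq_or_ne c 0 with rfl | hc0
      · rw [zero_smul] at hc'; exact hu0 (Subtype.ext hc'.symm)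
      · exact hau (Submodule.mem_span_singleton.2 ⟨c⁻¹, by rw [← hc', inv_smul_smul₀ hc0]⟩)
    by_cases huL : (u : V) ∈ L
    · obtain ⟨a, ha, hau⟩ := SetLike.not_le_iff_exists.1 (show ¬ L ≤ F ∙ (u : V) from fun hle => by
        have := Submodule.finrank_mono hle
        rw [hL2, finrank_span_singleton fun e => hu0 (Subtype.ext e)] at this
        omega)
      refine ⟨a, ha, hau, ?_⟩
      rw [QuadraticMap.polar, hL _ (add_mem huL ha), hL _ huL, hL a ha]; simp
    · obtain ⟨a, ha, ha0⟩ := Submodule.exists_mem_ne_zero_of_ne_bot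
        (show L ⊓ LinearMap.ker (Q.polarBilin (u : V)) ≠ ⊥ from fun e => by
          have h1 := Submodule.finrank_sup_add_finrank_inf_eq L (LinearMap.ker (Q.polarBilin (u : V)))
          have h2 := (Q.polarBilin (u : V)).finrank_range_add_finrank_ker
          have h3 := Submodule.finrank_le (LinearMap.range (Q.polarBilin (u : V)))
          have h4 := Submodule.finrank_le (L ⊔ LinearMap.ker (Q.polarBilin (u : V)))
          rw [e, finrank_bot] at h1
          rw [Module.finrank_self] at h3
          omega)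
      refine ⟨a, ha.1, fun hau => huL ?_, ha.2⟩
      obtain ⟨c, rfl⟩ := Submodule.mem_span_singleton.1 hau
      exact (L.smul_mem_iff fun e => ha0 (by rw [e, zero_smul])).1 ha.1

theorem transitiveU {x y : U} (hQx : Q (x : V) = 0) (hQy : Q (y : V) = 0) (hx0 : x ≠ 0) (hy0 : y ≠ 0) :
    ∃ g ∈ siegelGroup (Q.comp U.subtype), g.1 x = y := by
  let QU := Q.comp U.subtype
  have orth : ∀ {a b : U}, Q (a : V) = 0 → Q (b : V) = 0 → polar Q (a : V) b = 0 →
      LinearIndependent F ![a, b] → ∃ g ∈ siegelGroup QU, g.1 a = b := by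
    intro a b ha hb hab hi
    obtain ⟨z, hz, haz, hbz⟩ := exists_singular_dual QU h.sepQU hi ha hab 1
    exact ⟨_, CfsgLib.Classical.siegel_mem QU z (b - a), siegel_move QU hz
      (by rw [QuadraticMap.polar_comm]; exact haz) (by rw [QuadraticMap.polar_comm]; exact hbz)
      (ha.trans hb.symm)⟩
  have via : ∀ u : U, Q (u : V) = 0 → polar Q (u : V) x = 0 → polar Q (u : V) y = 0 →
      LinearIndependent F ![u, x] → LinearIndependent F ![u, y] → ∃ g ∈ siegelGroup QU, g.1 x = y := by
    intro u hu hux huy hix hiy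
    obtain ⟨g, hg, hgx⟩ := orth hu hQx hux hix
    obtain ⟨k, hk, hky⟩ := orth hu hQy huy hiy
    refine ⟨k * g⁻¹, mul_mem hk (inv_mem hg), ?_⟩
    show k.1 (g.1.symm x) = y
    rw [show g.1.symm x = u from g.1.symm_apply_eq.2 hgx.symm, hky]
  obtain ⟨a, ha0, hQa, hxa, hi⟩ := h.partner hx0 hQx
  by_cases hxy : polar Q (x : V) y = 0
  · by_cases hind : LinearIndependent F ![x, y]
    · exact orth hQx hQy hxy hind
    · rw [LinearIndependent.pair_iff' hx0] at hind
      push Not at hind
      obtain ⟨c, hc⟩ := hind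
      have hc0 : c ≠ 0 := fun e => hy0 (by rw [← hc, e, zero_smul])
      refine via a hQa (by rw [QuadraticMap.polar_comm]; exact hxa) ?_ hi ?_
      · rw [← hc, U.coe_smul, QuadraticMap.polar_smul_right, QuadraticMap.polar_comm, hxa, smul_zero]
      · rw [LinearIndependent.pair_iff' ha0]
        intro b hb
        refine (LinearIndependent.pair_iff' ha0).1 hi (c⁻¹ * b) ?_
        rw [mul_smul, hb, ← hc, inv_smul_smul₀ hc0]
  · set t := -(polar Q (a : V) y / polar Q (x : V) y)
    have hua : polar Q ((a + t • x : U) : V) x = 0 := by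
      rw [U.coe_add, U.coe_smul, QuadraticMap.polar_add_left, QuadraticMap.polar_smul_left,
        QuadraticMap.polar_comm _ (a : V) x, hxa, polar_self_of_singular Q hQx, smul_zero, add_zero]
    have hub : polar Q ((a + t • x : U) : V) y = 0 := by
      rw [U.coe_add, U.coe_smul, QuadraticMap.polar_add_left, QuadraticMap.polar_smul_left, smul_eq_mul,
        neg_mul, div_mul_cancel₀ _ hxy]
      ring
    have hu0 : a + t • x ≠ 0 := fun e => (LinearIndependent.pair_iff.1 hi 1 t
      (by rw [one_smul]; exact e)).1 |> one_ne_zero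
    refine via _ ?_ hua hub ?_ ?_
    · rw [U.coe_add, U.coe_smul, quad_map_add_smul, hQa, hQx, QuadraticMap.polar_comm _ (a : V) x, hxa]
      ring
    · exact linearIndependent_pair_of_polar QU (z := y) hu0 (show polar Q (y : V) x ≠ 0 by
        rwa [QuadraticMap.polar_comm]) (show polar Q (y : V) _ = 0 by rw [QuadraticMap.polar_comm]; exact hub)
    · exact linearIndependent_pair_of_polar QU (z := x) hu0 (show polar Q (x : V) y ≠ 0 from hxy)
        (show polar Q (x : V) _ = 0 by rw [QuadraticMap.polar_comm]; exact hua)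

/-- The commutator subgroup moves singular vectors of `U` transitively, fixing `W` pointwise. -/
theorem move {x y : V} (hx : x ∈ U) (hy : y ∈ U) (hQx : Q x = 0) (hQy : Q y = 0) (hx0 : x ≠ 0) (hy0 : y ≠ 0) :
    ∃ g ∈ commutator (quadIsoms Q), (∀ w ∈ W, g.1 w = w) ∧ g.1 x = y := by
  let QU := Q.comp U.subtype
  have key : ∀ g ∈ siegelGroup QU, ∃ k ∈ commutator (quadIsoms Q), (∀ w ∈ W, k.1 w = w) ∧
      ∀ u : U, k.1 u = (g.1 u : V) := by
    intro g hg
    induction hg using Subgroup.closure_induction with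
    | mem g hg =>
      obtain ⟨⟨a, b⟩, rfl⟩ := hg
      by_cases hc : QU a = 0 ∧ polar QU a b = 0
      · have ha : Q (a : V) = 0 := hc.1
        have hb : polar Q (a : V) (b : V) = 0 := hc.2
        refine ⟨_, h.siegel_mem a b, fun w hw => ?_, fun u => ?_⟩
        · rw [siegel_apply Q ha hb, h.perp a a.2 w hw, h.perp b b.2 w hw]; simp
        · rw [siegel_apply Q ha hb, siegel_apply QU hc.1 hc.2]
          rfl
      · refine ⟨1, one_mem _, fun w _ => rfl, fun u => ?_⟩
        dsimp only
        rw [siegel_of_not QU hc]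
        rfl
    | one => exact ⟨1, one_mem _, fun w _ => rfl, fun u => rfl⟩
    | mul a b _ _ iha ihb =>
      obtain ⟨k, hk, hk1, hk2⟩ := iha
      obtain ⟨l, hl, hl1, hl2⟩ := ihb
      refine ⟨k * l, mul_mem hk hl, fun w hw => ?_, fun u => ?_⟩
      · show k.1 (l.1 w) = w
        rw [hl1 w hw, hk1 w hw]
      · show k.1 (l.1 u) = _
        rw [hl2, hk2]; rfl
    | inv a _ iha =>
      obtain ⟨k, hk, hk1, hk2⟩ := iha
      refine ⟨k⁻¹, inv_mem hk, fun w hw => k.1.symm_apply_eq.2 (hk1 w hw).symm, fun u => ?_⟩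
      refine k.1.symm_apply_eq.2 ?_
      rw [hk2]
      exact congrArg Subtype.val (a.1.apply_symm_apply u).symm
  obtain ⟨g, hg, hgxy⟩ := h.transitiveU (x := ⟨x, hx⟩) (y := ⟨y, hy⟩) hQx hQy
    (fun e => hx0 (congrArg Subtype.val e)) (fun e => hy0 (congrArg Subtype.val e))
  obtain ⟨k, hk, hk1, hk2⟩ := key g hg
  exact ⟨k, hk, hk1, (hk2 ⟨x, hx⟩).trans (congrArg Subtype.val hgxy)⟩

omit [FiniteDimensional F V] [Finite F] in
/-- A subspace of `W` closed under its reflections and Siegel transformations is `0` or `W`. -/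
theorem irreducible [Finite F] [FiniteDimensional F V] {L : Submodule F V} (hLW : L ≤ W) (hL0 : L ≠ ⊥)
    (hinv : ∀ r ∈ W, Q r ≠ 0 → ∀ c ∈ L, c - ((Q r)⁻¹ * polar Q r c) • r ∈ L)
    (hsieg : ∀ x ∈ W, ∀ w ∈ W, Q x = 0 → polar Q x w = 0 → ∀ c ∈ L, (siegel Q x w).1 c ∈ L)
    (hex : ¬ (Nat.card F ≤ 3 ∧ Module.finrank F W = 2 ∧ ∃ z ∈ W, z ≠ 0 ∧ Q z = 0)) : W ≤ L := by
  by_contra hne
  obtain ⟨x, hxW, hxL⟩ := SetLike.not_le_iff_exists.1 hne
  have hc : ∀ a b, polar Q a b = polar Q b a := QuadraticMap.polar_comm Q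
  -- an anisotropic vector of `W` is in `L` or perpendicular to it
  have split : ∀ r ∈ W, Q r ≠ 0 → r ∉ L → ∀ c ∈ L, polar Q c r = 0 := by
    intro r hr hQr hrL c hcL
    by_contra hne
    rw [hc] at hne
    have := sub_mem hcL (hinv r hr hQr c hcL)
    rw [sub_sub_cancel] at this
    exact hrL ((L.smul_mem_iff (mul_ne_zero (inv_ne_zero hQr) hne)).1 this)
  -- a non-zero vector of `W` perpendicular to `L`
  obtain ⟨y, hyL, hxy⟩ := exists_perp_pair Q.polarBilin h.sep L hxL
  change polar Q x y = 1 at hxy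
  obtain ⟨yu, hyu, m0, hm0, rfl⟩ := h.decomp y
  have hm0L : ∀ c ∈ L, polar Q c m0 = 0 := fun c hcL => by
    have := hyL c hcL
    change polar Q c (yu + m0) = 0 at this
    rwa [QuadraticMap.polar_add_right, h.perp' (hLW hcL) hyu, zero_add] at this
  have hm00 : m0 ≠ 0 := fun e => by
    rw [e, add_zero, h.perp' hxW hyu] at hxy
    exact zero_ne_one hxy
  by_cases hR : ∃ r ∈ L, r ≠ 0 ∧ ∀ c ∈ L, polar Q c r = 0
  · obtain ⟨r, hrL, hr0, hrp⟩ := hR
    have hrW := hLW hrL
    obtain ⟨z', hz', hrz'⟩ : ∃ z ∈ W, polar Q r z ≠ 0 := by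
      by_contra hall
      push Not at hall
      exact hr0 (h.sepW hrW hall)
    have hiso : ∀ z ∈ W, polar Q r z = 1 → Q z = 0 := by
      intro z hz hrz
      by_contra hQz
      by_cases hzL : z ∈ L
      · exact one_ne_zero (hrz.symm.trans ((hc r z).trans (hrp z hzL)))
      · exact one_ne_zero (hrz.symm.trans (split z hz hQz hzL r hrL))
    obtain ⟨z, hz, hrz⟩ : ∃ z ∈ W, polar Q r z = 1 := ⟨(polar Q r z')⁻¹ • z', W.smul_mem _ hz', by
      rw [QuadraticMap.polar_smul_right, smul_eq_mul, inv_mul_cancel₀ hrz']⟩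
    have hQz := hiso z hz hrz
    have hrr : polar Q r r = 0 := hrp r hrL
    have ht : ∀ t : F, t * t * Q r + t = 0 := by
      intro t
      have := hiso (z + t • r) (add_mem hz (W.smul_mem _ hrW)) (by
        rw [QuadraticMap.polar_add_right, QuadraticMap.polar_smul_right, hrr, hrz, smul_zero, add_zero])
      rw [quad_map_add_smul, hQz, hc z r, hrz] at this
      linear_combination this
    have hQr : Q r = -1 := by linear_combination ht 1
    have h2 : (2 : F) = 0 := by linear_combination (-1 : F) * ht (-1) + hQr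
    have hq : ∀ a : F, a ≠ 0 → a = 1 ∨ a = -1 := fun a ha => Or.inl (by
      refine mul_left_cancel₀ ha ?_
      linear_combination -ht a + (a * a) * hQr)
    -- the perpendicular of `r` in `W` has no products
    have hK : ∀ v ∈ W, polar Q r v = 0 → Q v = polar Q z v := by
      intro v hv hrv
      have := hiso (z + v) (add_mem hz hv) (by rw [QuadraticMap.polar_add_right, hrz, hrv, add_zero])
      rw [QuadraticMap.map_add (Q : QuadraticMap F V F) z v, hQz, zero_add] at this
      linear_combination this - (polar Q z v) * h2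
    have hKp : ∀ v ∈ W, polar Q r v = 0 → ∀ v' ∈ W, polar Q r v' = 0 → polar Q v v' = 0 := by
      intro v hv hrv v' hv' hrv'
      have e1 := hK (v + v') (add_mem hv hv') (by rw [QuadraticMap.polar_add_right, hrv, hrv', add_zero])
      rw [QuadraticMap.map_add (Q : QuadraticMap F V F) v v', hK v hv hrv, hK v' hv' hrv',
        QuadraticMap.polar_add_right] at e1
      linear_combination e1
    have hspan : W = Submodule.span F {r, z} := by
      refine le_antisymm (fun w hw => ?_) (Submodule.span_le.2 (by rintro _ (rfl | rfl) <;> assumption))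
      set v := w - polar Q r w • z with hv
      have hvW : v ∈ W := sub_mem hw (W.smul_mem _ hz)
      have hrv : polar Q r v = 0 := by
        rw [hv, QuadraticMap.polar_sub_right, QuadraticMap.polar_smul_right, hrz, smul_eq_mul, mul_one, sub_self]
      set v' := v - polar Q z v • r with hv'
      have hv'W : v' ∈ W := sub_mem hvW (W.smul_mem _ hrW)
      have hrv' : polar Q r v' = 0 := by
        rw [hv', QuadraticMap.polar_sub_right, QuadraticMap.polar_smul_right, hrr, hrv, smul_zero, sub_zero]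
      have hzv' : polar Q z v' = 0 := by
        rw [hv', QuadraticMap.polar_sub_right, QuadraticMap.polar_smul_right, hc z r, hrz, smul_eq_mul, mul_one,
          sub_self]
      have h0 : v' = 0 := h.sepW hv'W fun y hy => by
        have hy' : polar Q r (y - polar Q r y • z) = 0 := by
          rw [QuadraticMap.polar_sub_right, QuadraticMap.polar_smul_right, hrz, smul_eq_mul, mul_one, sub_self]
        have := hKp v' hv'W hrv' _ (sub_mem hy (W.smul_mem _ hz)) hy'
        rwa [QuadraticMap.polar_sub_right, QuadraticMap.polar_smul_right, hc v' z, hzv', smul_zero, sub_zero]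
          at this
      rw [Submodule.mem_span_pair]
      refine ⟨polar Q z v, polar Q r w, ?_⟩
      rw [hv', sub_eq_zero] at h0
      rw [← h0, hv, sub_add_cancel]
    refine hex ⟨card_le_three hq, ?_, z, hz, fun e => one_ne_zero (hrz.symm.trans (by simp [e])), hQz⟩
    rw [hspan]
    refine finrank_span_two (linearIndependent_pair_of_polar Q (z := r) hr0 ?_ hrr)
    rw [hrz]; exact one_ne_zero
  push Not at hR
  -- `L` and its perpendicular are anisotropic with constant opposite values
  have hmix : ∀ l ∈ L, l ≠ 0 → ∀ m ∈ W, m ≠ 0 → (∀ c ∈ L, polar Q c m = 0) → Q l + Q m = 0 := by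
    intro l hl hl0 m hm hm0 hmp
    by_contra hne
    have hsum : Q (l + m) = Q l + Q m := by
      rw [QuadraticMap.map_add (Q : QuadraticMap F V F) l m, hmp l hl, add_zero]
    have hlmL : l + m ∉ L := fun hmem => by
      have hmL : m ∈ L := by simpa using sub_mem hmem hl
      obtain ⟨c, hcL, hcm⟩ := hR m hmL hm0
      exact hcm (hmp c hcL)
    obtain ⟨c, hcL, hcl⟩ := hR l hl hl0
    have := split (l + m) (add_mem (hLW hl) hm) (by rwa [hsum]) hlmL c hcL
    rw [QuadraticMap.polar_add_right, hmp c hcL, add_zero] at this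
    exact hcl this
  obtain ⟨l0, hl0L, hl00⟩ := Submodule.exists_mem_ne_zero_of_ne_bot hL0
  have hconst : ∀ l ∈ L, l ≠ 0 → Q l = Q l0 := fun l hl hl0 => by
    linear_combination hmix l hl hl0 m0 hm0 hm00 hm0L - hmix l0 hl0L hl00 m0 hm0 hm00 hm0L
  have hc0 : Q l0 ≠ 0 := by
    intro e
    obtain ⟨c, hcL, hcl⟩ := hR l0 hl0L hl00
    have hz : ∀ l ∈ L, Q l = 0 := fun l hl => by
      rcases eq_or_ne l 0 with rfl | hl0
      · exact QuadraticMap.map_zero Q
      · rw [hconst l hl hl0, e]
    exact hcl (by rw [QuadraticMap.polar, hz _ (add_mem hcL hl0L), hz c hcL, e]; simp)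
  by_cases h2 : (2 : F) = 0
  · -- characteristic two: a Siegel transformation of `W` mixes the two planes
    obtain ⟨c, hcL, hcl⟩ := hR l0 hl0L hl00
    obtain ⟨l2, hl2, hl02⟩ : ∃ l ∈ L, polar Q l0 l = 1 := ⟨(polar Q c l0)⁻¹ • c, L.smul_mem _ hcL, by
      rw [QuadraticMap.polar_smul_right, hc l0 c, smul_eq_mul, inv_mul_cancel₀ hcl]⟩
    obtain ⟨n', hn', hn0⟩ : ∃ n ∈ W, polar Q m0 n ≠ 0 := by
      by_contra hall
      push Not at hall
      exact hm00 (h.sepW hm0 hall)
    -- the component of a partner of `m0` perpendicular to `L`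
    set n := n' - polar Q l0 n' • l2 - polar Q l2 n' • l0 with hn
    have hnW : n ∈ W := sub_mem (sub_mem hn' (W.smul_mem _ (hLW hl2))) (W.smul_mem _ (hLW hl0L))
    have hself : ∀ a, polar Q a a = 0 := fun a => by rw [polar_self_two, h2, zero_mul]
    have hLspan : ∀ l ∈ L, l = polar Q l0 l • l2 + polar Q l2 l • l0 := by
      intro l hl
      set l' := l - (polar Q l0 l • l2 + polar Q l2 l • l0) with hl'
      have hl'L : l' ∈ L := sub_mem hl (add_mem (L.smul_mem _ hl2) (L.smul_mem _ hl0L))
      rw [← sub_eq_zero, ← hl']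
      by_contra hne
      have e0 : polar Q l0 l' = 0 := by
        rw [hl', QuadraticMap.polar_sub_right, QuadraticMap.polar_add_right, QuadraticMap.polar_smul_right,
          QuadraticMap.polar_smul_right, hl02, hself, smul_zero, add_zero, smul_eq_mul, mul_one, sub_self]
      have e2 : polar Q l2 l' = 0 := by
        rw [hl', QuadraticMap.polar_sub_right, QuadraticMap.polar_add_right, QuadraticMap.polar_smul_right,
          QuadraticMap.polar_smul_right, hc l2 l0, hl02, hself, smul_zero, zero_add, smul_eq_mul, mul_one,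
          sub_self]
      have hne' : l' + l0 ≠ 0 := fun e => one_ne_zero (hl02.symm.trans (by
        rw [eq_neg_of_add_eq_zero_right e, QuadraticMap.polar_neg_left, hc l' l2, e2, neg_zero]))
      have := hconst _ (add_mem hl'L hl0L) hne'
      rw [QuadraticMap.map_add (Q : QuadraticMap F V F) l' l0, hconst l' hl'L hne, hc l' l0, e0] at this
      exact hc0 (by linear_combination this)
    have hnp : ∀ c ∈ L, polar Q c n = 0 := by
      intro c hcL
      rw [hLspan c hcL, QuadraticMap.polar_add_left, QuadraticMap.polar_smul_left, QuadraticMap.polar_smul_left,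
        hn]
      simp only [QuadraticMap.polar_sub_right, QuadraticMap.polar_smul_right, hl02, hself, hc l2 l0,
        smul_eq_mul]
      ring
    have hmn : polar Q m0 n ≠ 0 := by
      rw [hn, QuadraticMap.polar_sub_right, QuadraticMap.polar_sub_right, QuadraticMap.polar_smul_right,
        QuadraticMap.polar_smul_right, hc m0 l2, hm0L l2 hl2, hc m0 l0, hm0L l0 hl0L]
      simpa using hn0
    obtain ⟨m2, hm2W, hm2p, hm02⟩ : ∃ m ∈ W, (∀ c ∈ L, polar Q c m = 0) ∧ polar Q m0 m = 1 :=
      ⟨(polar Q m0 n)⁻¹ • n, W.smul_mem _ hnW, fun c hcL => by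
        rw [QuadraticMap.polar_smul_right, hnp c hcL, smul_zero], by
        rw [QuadraticMap.polar_smul_right, smul_eq_mul, inv_mul_cancel₀ hmn]⟩
    have hm20 : m2 ≠ 0 := fun e => by simp [e] at hm02
    have hl20 : l2 ≠ 0 := fun e => by simp [e] at hl02
    have hQx : Q (l0 + m0) = 0 := by
      rw [QuadraticMap.map_add (Q : QuadraticMap F V F) l0 m0, hm0L l0 hl0L, add_zero]
      exact hmix l0 hl0L hl00 m0 hm0 hm00 hm0L
    have hQw : Q (l2 + m2) = 0 := by
      rw [QuadraticMap.map_add (Q : QuadraticMap F V F) l2 m2, hm2p l2 hl2, add_zero]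
      exact hmix l2 hl2 hl20 m2 hm2W hm20 hm2p
    have hxw : polar Q (l0 + m0) (l2 + m2) = 0 := by
      simp only [QuadraticMap.polar_add_left, QuadraticMap.polar_add_right, hl02, hm02, hm2p l0 hl0L,
        hc m0 l2, hm0L l2 hl2]
      linear_combination h2
    have key := hsieg _ (add_mem (hLW hl0L) hm0) _ (add_mem (hLW hl2) hm2W) hQx hxw l2 hl2
    rw [siegel_apply Q hQx hxw, hQw, zero_mul, add_zero, QuadraticMap.polar_add_left,
      QuadraticMap.polar_add_left, hl02, hc m0 l2, hm0L l2 hl2, hself, hc m2 l2, hm2p l2 hl2, add_zero,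
      add_zero, one_smul, zero_smul, sub_zero, ← add_assoc,
      show l2 + l2 = 0 by rw [← two_smul F l2, h2, zero_smul], zero_add] at key
    obtain ⟨c, hcL, hcm⟩ := hR m2 key hm20
    exact hcm (hm2p c hcL)
  · -- odd characteristic: `q ≤ 3` and two lines
    have hq : ∀ a : F, a ≠ 0 → a = 1 ∨ a = -1 := fun a ha => mul_self_eq_one_iff.1 (mul_right_cancel₀ hc0 (by
      rw [one_mul, ← quad_smul]
      exact hconst _ (L.smul_mem _ hl0L) (smul_ne_zero ha hl00)))
    have hll : polar Q l0 l0 ≠ 0 := by rw [polar_self_two]; exact mul_ne_zero h2 hc0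
    have hline : ∀ l ∈ L, polar Q l0 l = 0 → l = 0 := by
      intro l hl hp
      by_contra hne
      have hne' : l + l0 ≠ 0 := fun e => hll (by
        rwa [eq_neg_of_add_eq_zero_left e, QuadraticMap.polar_neg_right, neg_eq_zero] at hp)
      have := hconst _ (add_mem hl hl0L) hne'
      rw [QuadraticMap.map_add (Q : QuadraticMap F V F) l l0, hconst l hl hne, hc l l0, hp, add_zero] at this
      exact hc0 (by linear_combination this)
    have hperpW : ∀ v ∈ W, polar Q l0 v = 0 → ∀ c ∈ L, polar Q c v = 0 := by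
      intro v _ hv c hcL
      have := hline (c - (polar Q l0 c / polar Q l0 l0) • l0) (sub_mem hcL (L.smul_mem _ hl0L)) (by
        rw [QuadraticMap.polar_sub_right, QuadraticMap.polar_smul_right, smul_eq_mul, div_mul_cancel₀ _ hll,
          sub_self])
      rw [sub_eq_zero] at this
      rw [this, QuadraticMap.polar_smul_left, hv, smul_zero]
    have hmm : polar Q m0 m0 ≠ 0 := by
      rw [polar_self_two]
      exact mul_ne_zero h2 fun e => hc0 (by linear_combination hmix l0 hl0L hl00 m0 hm0 hm00 hm0L - e)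
    have hspan : W = Submodule.span F {l0, m0} := by
      refine le_antisymm (fun w hw => ?_)
        (Submodule.span_le.2 (by rintro _ (rfl | rfl); exacts [hLW hl0L, hm0]))
      set v := w - (polar Q l0 w / polar Q l0 l0) • l0 - (polar Q m0 w / polar Q m0 m0) • m0 with hv
      have hvW : v ∈ W := sub_mem (sub_mem hw (W.smul_mem _ (hLW hl0L))) (W.smul_mem _ hm0)
      have e0 : polar Q l0 v = 0 := by
        rw [hv]
        simp only [QuadraticMap.polar_sub_right, QuadraticMap.polar_smul_right, hm0L l0 hl0L, smul_eq_mul,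
          div_mul_cancel₀ _ hll, mul_zero, sub_self]
      have e1 : polar Q m0 v = 0 := by
        rw [hv]
        simp only [QuadraticMap.polar_sub_right, QuadraticMap.polar_smul_right, hc m0 l0, hm0L l0 hl0L,
          smul_eq_mul, div_mul_cancel₀ _ hmm, mul_zero, sub_zero, sub_self]
      have hvp := hperpW v hvW e0
      have h0 : v = 0 := by
        by_contra hne
        -- `v` and `m0` would be perpendicular with equal values
        have hs : v + m0 ≠ 0 := fun e => hmm (by
          rw [eq_neg_of_add_eq_zero_left e, QuadraticMap.polar_neg_right, neg_eq_zero] at e1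
          exact e1)
        have h3 := hmix l0 hl0L hl00 (v + m0) (add_mem hvW hm0) hs (fun c hcL => by
          rw [QuadraticMap.polar_add_right, hvp c hcL, hm0L c hcL, add_zero])
        rw [QuadraticMap.map_add (Q : QuadraticMap F V F) v m0, hc v m0, e1, add_zero] at h3
        exact hc0 (by
          linear_combination hmix l0 hl0L hl00 v hvW hne hvp + hmix l0 hl0L hl00 m0 hm0 hm00 hm0L - h3)
      rw [hv, sub_sub, sub_eq_zero] at h0
      rw [h0, Submodule.mem_span_pair]
      exact ⟨_, _, rfl⟩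
    have hi : LinearIndependent F ![l0, m0] := by
      rw [LinearIndependent.pair_iff' hl00]
      intro a ha
      refine hmm ?_
      rw [← ha, QuadraticMap.polar_smul_left, ha, hm0L l0 hl0L, smul_zero]
    refine hex ⟨card_le_three hq, by rw [hspan]; exact finrank_span_two hi, l0 + m0, add_mem (hLW hl0L) hm0, ?_, ?_⟩
    · intro e
      rw [LinearIndependent.pair_iff] at hi
      simpa using (hi 1 1 (by simpa using e)).1
    · rw [QuadraticMap.map_add (Q : QuadraticMap F V F) l0 m0, hm0L l0 hl0L, add_zero]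
      exact hmix l0 hl0L hl00 m0 hm0 hm00 hm0L

variable {M : Subgroup (quadIsoms Q)}

/-- One Siegel transformation at a singular `u ∈ U` leaving `U` gives all of them. -/
theorem full_of_siegel (hH : ∀ g ∈ commutator (quadIsoms Q), (∀ x ∈ W, g.1 x ∈ W) → g ∈ M)
    (hex : ¬ (Nat.card F ≤ 3 ∧ Module.finrank F W = 2 ∧ ∃ z ∈ W, z ≠ 0 ∧ Q z = 0))
    {u w : V} (hu : u ∈ U) (hQu : Q u = 0) (hu0 : u ≠ 0) (huw : polar Q u w = 0) (hwU : w ∉ U)
    (hM : siegel Q u w ∈ M) : Full M u := by
  have hU : ∀ b ∈ U, polar Q u b = 0 → siegel Q u b ∈ M := fun b hb hub =>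
    hH _ (h.siegel_mem u b) fun z hz => by
      rw [siegel_apply Q hQu hub, h.perp u hu z hz, h.perp b hb z hz]
      simpa using hz
  let L : Submodule F V :=
    { carrier := {c | c ∈ W ∧ siegel Q u c ∈ M}
      add_mem' := fun {a b} ha hb => ⟨add_mem ha.1 hb.1, by
        rw [siegel_add Q hQu (h.perp u hu _ ha.1) (h.perp u hu _ hb.1)]; exact mul_mem ha.2 hb.2⟩
      zero_mem' := ⟨W.zero_mem, by rw [siegel_zero]; exact one_mem M⟩
      smul_mem' := fun a c hc => ⟨W.smul_mem a hc.1, by
        rcases eq_or_ne a 0 with rfl | ha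
        · rw [zero_smul, siegel_zero]; exact one_mem M
        · obtain ⟨k, hk, hk1, hk2⟩ := h.move hu (U.smul_mem a hu) hQu (by rw [quad_smul, hQu, mul_zero]) hu0
            (smul_ne_zero ha hu0)
          have hkM : k ∈ M := hH k hk fun x hx => by rw [hk1 x hx]; exact hx
          have := mul_mem (mul_mem hkM hc.2) (inv_mem hkM)
          rwa [siegel_conj, hk2, hk1 c hc.1, siegel_smul Q hQu (h.perp u hu c hc.1)] at this⟩ }
  have stab : ∀ k ∈ commutator (quadIsoms Q), (∀ x ∈ W, k.1 x ∈ W) → k.1 u = u → ∀ c ∈ L, k.1 c ∈ L := by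
    intro k hk hkW hku c hc
    refine ⟨hkW c hc.1, ?_⟩
    have := mul_mem (mul_mem (hH k hk hkW) hc.2) (inv_mem (hH k hk hkW))
    rwa [siegel_conj, hku] at this
  obtain ⟨b, hb, c, hc, rfl⟩ := h.decomp w
  have hub : polar Q u b = 0 := by
    rwa [QuadraticMap.polar_add_right, h.perp u hu c hc, add_zero] at huw
  have hcL : c ∈ L := ⟨hc, by
    rw [siegel_add Q hQu hub (h.perp u hu c hc)] at hM
    exact (Subgroup.mul_mem_cancel_left M (hU b hb hub)).1 hM⟩
  have hL0 : L ≠ ⊥ := fun e => hwU (by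
    rw [(Submodule.eq_bot_iff L).1 e c hcL, add_zero]; exact hb)
  have hW : W ≤ L := by
    refine h.irreducible (fun x hx => hx.1) hL0 (fun r hr hQr c hc => ?_) (fun x hx y hy hQx hxy => ?_) hex
    · -- pair the reflection with one at a vector of `U` perpendicular to `u`
      obtain ⟨a, b, hQa, hQb, hua, hub, hab⟩ : ∃ a b : U, Q (a : V) = 0 ∧ Q (b : V) = 0 ∧
          polar Q u a = 0 ∧ polar Q u b = 0 ∧ polar Q (a : V) (b : V) = 1 := by
        obtain ⟨a, ha0, hQa, hua, hai⟩ := h.partner (u := ⟨u, hu⟩) (fun e => hu0 (congrArg Subtype.val e)) hQu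
        obtain ⟨b, hQb, hab, hub⟩ := exists_singular_dual (Q.comp U.subtype) h.sepQU hai hQa
          ((QuadraticMap.polar_comm _ _ _).trans hua) 0
        exact ⟨a, b, hQa, hQb, hua, hub, hab⟩
      set y := (a : V) + Q r • (b : V) with hy
      have hyU : y ∈ U := add_mem a.2 (U.smul_mem _ b.2)
      have hQy : Q y = Q r := by
        rw [hy, quad_map_add_smul, hQa, hQb, hab]; ring
      have hQy0 : Q y ≠ 0 := hQy ▸ hQr
      set rr : quadIsoms Q := ⟨reflEquiv Q r hQr, reflEquiv_mem Q r hQr⟩
      set ry : quadIsoms Q := ⟨reflEquiv Q y hQy0, reflEquiv_mem Q y hQy0⟩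
      have hk : rr * ry ∈ commutator (quadIsoms Q) := refl_pair_mem h.sep h.finrank_V hQr hQy0 hQy.symm
      have hyW : ∀ x ∈ W, reflEquiv Q y hQy0 x = x := fun x hx =>
        reflEquiv_fix Q y hQy0 (h.perp y hyU x hx)
      have happ : ∀ x, (rr * ry).1 x = reflEquiv Q r hQr (reflEquiv Q y hQy0 x) := fun x => rfl
      have hres := stab _ hk (fun x hx => by
          rw [happ, hyW x hx, reflEquiv_apply]; exact sub_mem hx (W.smul_mem _ hr))
        (by
          rw [happ, reflEquiv_fix Q y hQy0 (by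
            rw [hy, QuadraticMap.polar_add_left, QuadraticMap.polar_smul_left, QuadraticMap.polar_comm _ _ u, hua,
              QuadraticMap.polar_comm _ _ u, hub, smul_zero, add_zero]),
            reflEquiv_fix Q r hQr (h.perp' hr hu)]) c hc
      rwa [happ, hyW c hc.1, reflEquiv_apply] at hres
    · refine fun c hc => stab _ (h.siegel_mem x y) (fun v hv => ?_) ?_ c hc
      · rw [siegel_apply Q hQx hxy]
        exact sub_mem (add_mem hv (W.smul_mem _ hy)) (W.smul_mem _ hx)
      · rw [siegel_apply Q hQx hxy, h.perp' hx hu, h.perp' hy hu]; simp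
  intro v huv
  obtain ⟨b', hb', c', hc', rfl⟩ := h.decomp v
  have hub' : polar Q u b' = 0 := by
    rwa [QuadraticMap.polar_add_right, h.perp u hu c' hc', add_zero] at huv
  rw [siegel_add Q hQu hub' (h.perp u hu c' hc')]
  exact mul_mem (hU b' hb' hub') (hW hc').2

/-- In dimension four no element sends a singular vector of `U` across both summands. -/
theorem four_step (hH : ∀ g ∈ commutator (quadIsoms Q), (∀ x ∈ W, g.1 x ∈ W) → g ∈ M)
    (h4 : Module.finrank F U = 4) (h8 : 8 ≤ Module.finrank F V) (hnW : ∀ L ≤ W, (∀ x ∈ L, Q x = 0) → Module.finrank F L ≠ 2)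
    (hstab : ∀ k ∈ M, ∀ a ∈ U, Q a = 0 → a ≠ 0 → k.1 a ∈ U → ∀ u ∈ U, k.1 u ∈ U)
    {g : quadIsoms Q} (hg : g ∈ M) (hgU : ∀ a ∈ U, Q a = 0 → a ≠ 0 → g.1 a ∉ U)
    {a : V} (ha : a ∈ U) (hQa : Q a = 0) (ha0 : a ≠ 0) {aU aW : V} (haU : aU ∈ U) (haW : aW ∈ W)
    (heq : aU + aW = g.1 a) {y : V} (hy : y ∈ U) (hay : polar Q aU y = 1) (haW0 : aW ≠ 0) : False := by
  classical
  have hQga : Q (g.1 a) = 0 := (mem_quadIsoms.1 g.2 a).trans hQa
  have hgaU : g.1 a ∉ U := hgU a ha hQa ha0
  have pU : ∀ z ∈ U, polar Q (g.1 a) z = polar Q aU z := fun z hz => by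
    rw [← heq, QuadraticMap.polar_add_left, h.perp' haW hz, add_zero]
  have pW : ∀ z ∈ W, polar Q (g.1 a) z = polar Q aW z := fun z hz => by
    rw [← heq, QuadraticMap.polar_add_left, h.perp aU haU z hz, zero_add]
  have hT : ∀ b ∈ U, polar Q a b = 0 → siegel Q (g.1 a) (g.1 b) ∈ M := fun b hb hab => by
    rw [← siegel_conj]
    refine mul_mem (mul_mem hg (hH _ (h.siegel_mem a b) fun z hz => ?_)) (inv_mem hg)
    rw [siegel_apply Q hQa hab, h.perp a ha z hz, h.perp b hb z hz]
    simpa using hz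
  have hga : ∀ {b}, polar Q a b = 0 → polar Q (g.1 a) (g.1 b) = 0 := fun hab => by rw [polar_map, hab]
  -- an element centred at `g a` fixing a singular vector of `U` stabilises `U`
  have step : ∀ b ∈ U, polar Q a b = 0 → ∀ s ∈ U, Q s = 0 → s ≠ 0 → polar Q aU s = 0 →
      polar Q (g.1 b) s = 0 → ∀ v ∈ U, (siegel Q (g.1 a) (g.1 b)).1 v ∈ U := by
    intro b hb hab s hs hQs hs0 has hbs
    refine hstab _ (hT b hb hab) s hs hQs hs0 ?_
    rw [siegel_apply Q hQga (hga hab), pU s hs, has, hbs]
    simpa using hs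
  have key : ∀ b ∈ U, polar Q a b = 0 → ∀ s ∈ U, Q s = 0 → s ≠ 0 → polar Q aU s = 0 →
      polar Q (g.1 b) s = 0 → b ∉ F ∙ a →
      ∃ t : F, g.1 (b - t • a) = aU ∧ Q (b - t • a) = 1 ∧ Nat.card F = 2 := by
    intro b hb hab s hs hQs hs0 has hbs hba
    have hmove : ∀ {b'}, b' ∈ U → polar Q a b' = 0 → polar Q (g.1 b') s = 0 → ∀ v ∈ U,
        polar Q aU v • g.1 b' - (polar Q (g.1 b') v + Q b' * polar Q aU v) • g.1 a ∈ U := by
      intro b' hb' hab' hbs' v hv
      have := step b' hb' hab' s hs hQs hs0 has hbs' v hv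
      rw [siegel_apply Q hQga (hga hab'), pU v hv, mem_quadIsoms.1 g.2, add_sub_assoc] at this
      exact (U.add_mem_iff_right hv).1 this
    have h1 := hmove hb hab hbs y hy
    rw [hay, one_smul] at h1
    set t := polar Q (g.1 b) y + Q b * 1
    set b' := b - t • a with hb'
    have hb'U : b' ∈ U := sub_mem hb (U.smul_mem _ ha)
    have hgb' : g.1 b' ∈ U := by rw [hb', map_sub, map_smul]; exact h1
    have hab' : polar Q a b' = 0 := by
      rw [hb', QuadraticMap.polar_sub_right, QuadraticMap.polar_smul_right, hab,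
        polar_self_of_singular Q hQa, smul_zero, sub_zero]
    have hbs' : polar Q (g.1 b') s = 0 := by
      rw [hb', map_sub, map_smul, QuadraticMap.polar_sub_left, QuadraticMap.polar_smul_left, hbs, pU s hs, has,
        smul_zero, sub_zero]
    have hb'0 : b' ≠ 0 := fun e => hba (Submodule.mem_span_singleton.2 ⟨t, (sub_eq_zero.1 e).symm⟩)
    have hQb' : Q b' ≠ 0 := fun e => hgU b' hb'U e hb'0 hgb'
    have hzero : ∀ v ∈ U, polar Q (g.1 b') v + Q b' * polar Q aU v = 0 := by
      intro v hv
      have h2 := (U.sub_mem_iff_right (U.smul_mem _ hgb')).1 (hmove hb'U hab' hbs' v hv)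
      by_contra hne
      exact hgaU ((U.smul_mem_iff hne).1 h2)
    have hcard : ∀ c : F, c ≠ 0 → c = 1 := fun c hc => by
      have e1 := hzero y hy
      have hbs2 : polar Q (g.1 (c • b')) s = 0 := by
        rw [map_smul, QuadraticMap.polar_smul_left, hbs', smul_zero]
      have h3 := hmove (U.smul_mem c hb'U) (by rw [QuadraticMap.polar_smul_right, hab', smul_zero]) hbs2 y hy
      rw [hay, one_smul] at h3
      have h2 := (U.sub_mem_iff_right (by rw [map_smul]; exact U.smul_mem _ hgb')).1 h3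
      have e2 : polar Q (g.1 (c • b')) y + Q (c • b') * 1 = 0 := by
        by_contra hne
        exact hgaU ((U.smul_mem_iff hne).1 h2)
      rw [map_smul, QuadraticMap.polar_smul_left, quad_smul, smul_eq_mul] at e2
      rw [hay] at e1
      have : c * (c - 1) * Q b' = 0 := by linear_combination e2 - c * e1
      simpa [hc, hQb', sub_eq_zero] using this
    have hone : ∀ c : F, c ≠ 0 → c = 1 := hcard
    have hcard2 : Nat.card F = 2 := by
      have : Fintype F := Fintype.ofFinite F
      rw [Nat.card_eq_fintype_card]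
      refine le_antisymm ?_ Fintype.one_lt_card
      rw [← Finset.card_univ]
      refine (Finset.card_le_card (fun c _ => ?_ : (Finset.univ : Finset F) ⊆ {0, 1})).trans Finset.card_le_two
      simp only [Finset.mem_insert, Finset.mem_singleton]
      exact (em (c = 0)).imp id fun hc => hone c hc
    refine ⟨t, ?_, hone _ hQb', hcard2⟩
    rw [← sub_eq_zero]
    refine h.sepU (sub_mem hgb' haU) fun v hv => ?_
    have h2 : (-1 : F) = 1 := hone _ (by simp)
    rw [QuadraticMap.polar_sub_left]
    have := hzero v hv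
    rw [hone _ hQb'] at this
    linear_combination this + (polar Q aU v) * h2
  -- a singular vector of `U` orthogonal to `aU`
  obtain ⟨s, hsU, hQs, hs0, has⟩ : ∃ s ∈ U, Q s = 0 ∧ s ≠ 0 ∧ polar Q aU s = 0 := by
    obtain ⟨z, hz0, hQz⟩ := h.exists_sing
    by_cases haz : polar Q aU z = 0
    · exact ⟨z, z.2, hQz, fun e => hz0 (Subtype.ext e), haz⟩
    obtain ⟨z', hz'0, hQz', hzz', hi⟩ := h.partner hz0 hQz
    refine ⟨(z' : V) + (-(polar Q aU z' / polar Q aU z)) • (z : V), add_mem z'.2 (U.smul_mem _ z.2), ?_, ?_, ?_⟩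
    · rw [quad_map_add_smul, hQz', hQz, QuadraticMap.polar_comm _ (z' : V) z, hzz']; ring
    · exact fun e => one_ne_zero (LinearIndependent.pair_iff.1 hi 1 _
        (by rw [one_smul]; exact Subtype.ext e)).1
    · rw [QuadraticMap.polar_add_right, QuadraticMap.polar_smul_right, smul_eq_mul, neg_mul,
        div_mul_cancel₀ _ haz]
      ring
  obtain ⟨b, ⟨⟨hb, hab⟩, hbs⟩, hba⟩ : ∃ b, ((b ∈ U ∧ polar Q a b = 0) ∧ polar Q (g.1 b) s = 0) ∧ b ∉ F ∙ a := by
    let φ : U →ₗ[F] F × F :=
      ((Q.polarBilin a).comp U.subtype).prod ((Q.polarBilin.flip s).comp (g.1.toLinearMap.comp U.subtype))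
    obtain ⟨b, hb, hba⟩ := SetLike.not_le_iff_exists.1
      (show ¬ (LinearMap.ker φ).map U.subtype ≤ F ∙ a from fun hle => by
        have h1 := Submodule.finrank_mono hle
        have h2 := φ.finrank_range_add_finrank_ker
        have h3 := Submodule.finrank_le (LinearMap.range φ)
        rw [Submodule.finrank_map_subtype_eq, finrank_span_singleton ha0] at h1
        rw [Module.finrank_prod, Module.finrank_self] at h3
        omega)
    obtain ⟨⟨b, hbU⟩, hbk, rfl⟩ := hb
    obtain ⟨h1, h2⟩ := Prod.ext_iff.1 (LinearMap.mem_ker.1 hbk)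
    exact ⟨b, ⟨⟨hbU, h1⟩, h2⟩, hba⟩
  obtain ⟨t, hgb, hQb, hcard⟩ := key b hb hab s hsU hQs hs0 has hbs hba
  set b' := b - t • a
  have hb'U : b' ∈ U := sub_mem hb (U.smul_mem _ ha)
  have h2 : (2 : F) = 0 := CfsgLib.Geom.OrthSub.two_zero hcard
  have hone : ∀ c : F, c ≠ 0 → c = 1 := fun c hc => CfsgLib.Geom.OrthSub.one_of_card hcard hc
  have hQaU : Q aU = 1 := by rw [← hgb, mem_quadIsoms.1 g.2, hQb]
  have hQaW : Q aW = 1 := by
    have := hQga
    rw [← heq, QuadraticMap.map_add (Q : QuadraticMap F V F), h.perp aU haU aW haW, add_zero, hQaU] at this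
    linear_combination this - h2
  have hself : ∀ x, polar Q x x = 0 := fun x => by rw [polar_self_two, h2, zero_mul]
  have hab' : polar Q a b' = 0 := by
    rw [QuadraticMap.polar_sub_right, QuadraticMap.polar_smul_right, hab, polar_self_of_singular Q hQa,
      smul_zero, sub_zero]
  -- a vector pairing with `b'`
  obtain ⟨c, hcU, hac, hbc⟩ : ∃ c ∈ U, polar Q a c = 0 ∧ polar Q b' c = 1 := by
    obtain ⟨c, h1, h2⟩ := exists_dual_pair (Q.comp U.subtype) h.sepQU
      (x := ⟨a, ha⟩) (y := ⟨b', hb'U⟩) ((LinearIndependent.pair_iff' fun e => ha0 (congrArg Subtype.val e)).2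
        fun r hr => hba (Submodule.mem_span_singleton.2 ⟨r + t, by
          rw [add_smul, show r • a = b' from congrArg Subtype.val hr, sub_add_cancel]⟩)) 0 1
    exact ⟨c, c.2, h1, h2⟩
  have hone' : ∀ x ∈ U, Q x = 0 → x ≠ 0 → polar Q aU x = 0 → polar Q (g.1 c) x = 1 := by
    intro x hx hQx hx0 hax
    refine hone _ fun hcx => ?_
    have hca : c ∉ F ∙ a := fun hmem => by
      obtain ⟨r, rfl⟩ := Submodule.mem_span_singleton.1 hmem
      rw [QuadraticMap.polar_smul_right, QuadraticMap.polar_comm, hab', smul_zero] at hbc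
      exact zero_ne_one hbc
    obtain ⟨r, hr, -, -⟩ := key c hcU hac x hx hQx hx0 hax hcx hca
    have e : polar Q b' (c - r • a) = 0 := by
      rw [← g.1.injective (hgb.trans hr.symm), hself]
    rw [QuadraticMap.polar_sub_right, QuadraticMap.polar_smul_right, hbc, QuadraticMap.polar_comm, hab',
      smul_zero, sub_zero] at e
    exact one_ne_zero e
  obtain ⟨cU, hcUU, cW, hcW, hceq⟩ := h.decomp (g.1 c)
  have haUc : polar Q aU (g.1 c) = 1 := by rw [← hgb, polar_map, hbc]
  have haWc : polar Q aW cW = 1 := by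
    have e := hga (b := c) hac
    rw [← heq, QuadraticMap.polar_add_left, haUc] at e
    rw [← hceq, QuadraticMap.polar_add_right, h.perp' haW hcUU] at e
    linear_combination e - h2
  have haUcU : polar Q aU cU = 1 := by
    rw [← hceq, QuadraticMap.polar_add_right, h.perp aU haU cW hcW, add_zero] at haUc
    exact haUc
  have hsc : polar Q cU s = 1 := by
    have := hone' s hsU hQs hs0 has
    rwa [← hceq, QuadraticMap.polar_add_left, h.perp' hcW hsU, add_zero] at this
  have hQcU : Q cU = 1 := by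
    refine hone _ fun e => ?_
    obtain ⟨z, hz0, hQz, hcz, hi⟩ := h.partner (u := ⟨cU, hcUU⟩) (fun e' => by
      rw [show cU = 0 from congrArg Subtype.val e'] at haUcU; simp at haUcU) e
    change polar Q cU (z : V) = 0 at hcz
    set s1 := (z : V) + polar Q aU z • cU with hs1
    have h1 : s1 ∈ U := add_mem z.2 (U.smul_mem _ hcUU)
    have h2' : Q s1 = 0 := by
      rw [hs1, quad_map_add_smul, hQz, e, QuadraticMap.polar_comm _ (z : V) cU, hcz]; ring
    have h3 : s1 ≠ 0 := fun e' => one_ne_zero (LinearIndependent.pair_iff.1 hi 1 _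
      (by rw [one_smul]; exact Subtype.ext (e' : (z : V) + polar Q aU z • cU = 0))).1
    have h4' : polar Q aU s1 = 0 := by
      rw [hs1, QuadraticMap.polar_add_right, QuadraticMap.polar_smul_right, haUcU, smul_eq_mul]
      linear_combination (polar Q aU z) * h2
    have h5 := hone' s1 h1 h2' h3 h4'
    rw [← hceq, QuadraticMap.polar_add_left, h.perp' hcW h1, hs1, QuadraticMap.polar_add_right,
      QuadraticMap.polar_smul_right, hcz, hself, smul_zero, add_zero, add_zero] at h5
    exact zero_ne_one h5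
  have hQc : Q c = 1 + Q cW := by
    rw [← mem_quadIsoms.1 g.2 c, ← hceq, QuadraticMap.map_add (Q : QuadraticMap F V F),
      h.perp cU hcUU cW hcW, hQcU, add_zero]
  set T := siegel Q (g.1 a) (g.1 c)
  have hTM : T ∈ M := hT c hcU hac
  have hT' : ∀ x, T.1 x = x + polar Q (g.1 a) x • g.1 c -
      (polar Q (g.1 c) x + Q c * polar Q (g.1 a) x) • g.1 a := fun x => by
    rw [siegel_apply Q hQga (hga hac), mem_quadIsoms.1 g.2]
  set r := s + aU with hr
  have hrU : r ∈ U := add_mem hsU haU
  have har : polar Q aU r = 0 := by rw [hr, QuadraticMap.polar_add_right, has, hself, add_zero]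
  have hcr : polar Q cU r = 0 := by
    rw [hr, QuadraticMap.polar_add_right, hsc, QuadraticMap.polar_comm _ cU, haUcU]
    linear_combination h2
  have pC : ∀ z ∈ U, polar Q (g.1 c) z = polar Q cU z := fun z hz => by
    rw [← hceq, QuadraticMap.polar_add_left, h.perp' hcW hz, add_zero]
  have hTr : T.1 r = r := by rw [hT', pU r hrU, har, pC r hrU, hcr]; simp
  have hn : (-1 : F) = 1 := by linear_combination -h2
  have hflip : ∀ x : V, -x = x := fun x => by rw [← neg_one_smul F x, hn, one_smul]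
  have hTaU : T.1 aU = aW := by
    rw [hT', pU aU haU, hself, pC aU haU, QuadraticMap.polar_comm _ cU, haUcU, zero_smul, add_zero,
      mul_zero, add_zero, one_smul, ← heq, sub_add_cancel_left, hflip]
  have hTaW : T.1 aW = aU := by
    rw [hT', pW aW haW, hself, ← hceq, QuadraticMap.polar_add_left, h.perp cU hcUU aW haW,
      QuadraticMap.polar_comm _ cW, haWc, zero_smul, add_zero, mul_zero, add_zero, zero_add, one_smul,
      ← heq, sub_add_cancel_right, hflip]
  -- products of two reflections stabilising both summands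
  have hk : ∀ z ∈ U, ∀ w ∈ W, (hz : Q z = 1) → (hw : Q w = 1) → ∃ k ∈ M, ∀ x,
      k.1 x = x - polar Q z x • z - polar Q w x • w := by
    intro z hz w hw hQz hQw
    have hz0 : Q z ≠ 0 := by rw [hQz]; exact one_ne_zero
    have hw0 : Q w ≠ 0 := by rw [hQw]; exact one_ne_zero
    refine ⟨_, hH _ (refl_pair_mem h.sep h.finrank_V (x := z) (y := w) hz0 hw0
      (hQz.trans hQw.symm)) fun x hx => ?_, fun x => ?_⟩
    · show reflEquiv Q z hz0 (reflEquiv Q w hw0 x) ∈ W
      rw [reflEquiv_apply Q w, reflEquiv_apply Q z, hQz, hQw, inv_one, one_mul, one_mul,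
        QuadraticMap.polar_sub_right, QuadraticMap.polar_smul_right, h.perp z hz x hx, h.perp z hz w hw]
      simpa using sub_mem hx (W.smul_mem _ hw)
    · show reflEquiv Q z hz0 (reflEquiv Q w hw0 x) = _
      rw [reflEquiv_apply Q w, reflEquiv_apply Q z, hQz, hQw, inv_one, one_mul, one_mul,
        QuadraticMap.polar_sub_right, QuadraticMap.polar_smul_right, h.perp z hz w hw, smul_zero, sub_zero]
      module
  have hfix : ∀ k ∈ M, k.1 r = r → k.1 aW = aW → ∀ u ∈ U, T.1 (k.1 (T.1 u)) ∈ U := by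
    intro k hk hkr hkW
    refine hstab (T * k * T) (mul_mem (mul_mem hTM hk) hTM) s hsU hQs hs0 ?_
    show T.1 (k.1 (T.1 s)) ∈ U
    have es : s = r + aU := by
      rw [hr, add_assoc, ← two_smul F aU, h2, zero_smul, add_zero]
    rw [es, map_add, hTr, hTaU, map_add, hkr, hkW, map_add, hTr, hTaW]
    exact add_mem hrU haU
  have hQr : Q r = 1 := by
    rw [hr, QuadraticMap.map_add (Q : QuadraticMap F V F), hQs, hQaU, QuadraticMap.polar_comm, has]; ring
  have hTcU : T.1 cU = cW + (Q c) • g.1 a := by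
    rw [hT', pU cU hcUU, haUcU, pC cU hcUU, hself, ← hceq, zero_add, mul_one, one_smul, sub_eq_add_neg,
      ← neg_smul, show -Q c = Q c by linear_combination -(Q c) * h2, ← add_assoc cU cU cW,
      ← two_smul F cU, h2, zero_smul, zero_add]
  have haWcU : polar Q aW cU = 0 := h.perp' haW hcUU
  rcases eq_or_ne (Q c) 0 with hc0 | hc1
  · -- a singular vector of `W` orthogonal to `aW` and `cW`
    have hQcW : Q cW = 1 := by linear_combination -hQc + hc0 - h2
    obtain ⟨s', hs'W, hs'0, hQs', has', hcs'⟩ : ∃ x ∈ W, x ≠ 0 ∧ Q x = 0 ∧ polar Q aW x = 0 ∧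
        polar Q cW x = 0 := by
      let φ : W →ₗ[F] F × F := ((Q.polarBilin aW).comp W.subtype).prod ((Q.polarBilin cW).comp W.subtype)
      set K := (LinearMap.ker φ).map W.subtype with hKdef
      have hK : ∀ x ∈ K, x ∈ W ∧ polar Q aW x = 0 ∧ polar Q cW x = 0 := by
        rintro _ ⟨x, hx, rfl⟩
        obtain ⟨h1, h2⟩ := Prod.ext_iff.1 (LinearMap.mem_ker.1 hx)
        exact ⟨x.2, h1, h2⟩
      by_contra hno
      push Not at hno
      have hQK : ∀ x ∈ K, x ≠ 0 → Q x = 1 := fun x hx hx0 =>
        hone _ fun e => hno x (hK x hx).1 hx0 e (hK x hx).2.1 (hK x hx).2.2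
      have hdK : 2 ≤ Module.finrank F K := by
        have h1 := φ.finrank_range_add_finrank_ker
        have h2' := Submodule.finrank_le (LinearMap.range φ)
        have h3 := h.sum_four h4
        rw [Module.finrank_prod, Module.finrank_self] at h2'
        rw [hKdef, Submodule.finrank_map_subtype_eq]
        omega
      obtain ⟨r1, hr1, hr10⟩ := Submodule.exists_mem_ne_zero_of_ne_bot (show K ≠ ⊥ from fun e => by
        rw [e, finrank_bot] at hdK; omega)
      obtain ⟨r2, hr2, hr2n⟩ := SetLike.not_le_iff_exists.1 (show ¬ K ≤ F ∙ r1 from fun hle => by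
        have := Submodule.finrank_mono hle
        rw [finrank_span_singleton hr10] at this
        omega)
      have hr20 : r2 ≠ 0 := fun e => hr2n (by rw [e]; exact Submodule.zero_mem _)
      have hr12 : polar Q r1 r2 = 1 := by
        have hs : r1 + r2 ≠ 0 := fun e => hr2n (by
          rw [eq_neg_of_add_eq_zero_right e]
          exact Submodule.neg_mem _ (Submodule.mem_span_singleton_self r1))
        have := hQK _ (add_mem hr1 hr2) hs
        rw [QuadraticMap.map_add (Q : QuadraticMap F V F), hQK r1 hr1 hr10, hQK r2 hr2 hr20] at this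
        linear_combination this - h2
      have e1 : Q (aW + r1) = 0 := by
        rw [QuadraticMap.map_add (Q : QuadraticMap F V F), hQaW, hQK r1 hr1 hr10, (hK r1 hr1).2.1]
        linear_combination h2
      have e2 : Q (cW + r2) = 0 := by
        rw [QuadraticMap.map_add (Q : QuadraticMap F V F), hQcW, hQK r2 hr2 hr20, (hK r2 hr2).2.2]
        linear_combination h2
      have e12 : polar Q (aW + r1) (cW + r2) = 0 := by
        simp only [QuadraticMap.polar_add_left, QuadraticMap.polar_add_right, haWc, hr12,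
          (hK r2 hr2).2.1, QuadraticMap.polar_comm _ r1 cW, (hK r1 hr1).2.2]
        linear_combination h2
      refine hnW (Submodule.span F {aW + r1, cW + r2}) (Submodule.span_le.2 ?_) (fun x hx => ?_)
        (finrank_span_two ?_)
      · rintro _ (rfl | rfl)
        · exact add_mem haW (hK r1 hr1).1
        · exact add_mem hcW (hK r2 hr2).1
      · obtain ⟨i, j, rfl⟩ := Submodule.mem_span_pair.1 hx
        rw [quad_map_add_smul, quad_smul, e1, e2, QuadraticMap.polar_smul_left, e12, smul_zero]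
        ring
      · refine linearIndependent_pair_of_polar Q (z := aW) (fun e => ?_) ?_ ?_
        · have := congrArg (polar Q cW) e
          rw [QuadraticMap.polar_add_right, QuadraticMap.polar_comm _ cW aW, haWc, (hK r1 hr1).2.2,
            add_zero, QuadraticMap.polar_zero_right] at this
          exact one_ne_zero this
        · rw [QuadraticMap.polar_add_right, haWc, (hK r2 hr2).2.1, add_zero]; exact one_ne_zero
        · rw [QuadraticMap.polar_add_right, hself, (hK r1 hr1).2.1, add_zero]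
    set w := aW + s' with hw
    have hwW : w ∈ W := add_mem haW hs'W
    have hQw : Q w = 1 := by
      rw [hw, QuadraticMap.map_add (Q : QuadraticMap F V F), hQaW, hQs', has']; ring
    have hwa : polar Q w aW = 0 := by
      rw [hw, QuadraticMap.polar_add_left, hself, QuadraticMap.polar_comm _ s', has', add_zero]
    have hwc : polar Q w cW = 1 := by
      rw [hw, QuadraticMap.polar_add_left, haWc, QuadraticMap.polar_comm _ s', hcs', add_zero]
    obtain ⟨k, hkM, hkx⟩ := hk r hrU w hwW hQr hQw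
    have hu := hfix k hkM
      (by rw [hkx, hself, h.perp' hwW hrU]; simp)
      (by rw [hkx, h.perp r hrU aW haW, hwa]; simp) cU hcUU
    rw [hTcU, hc0, zero_smul, add_zero, hkx, h.perp r hrU cW hcW, hwc, zero_smul, sub_zero, one_smul,
      sub_eq_add_neg, hflip, map_add] at hu
    have hTcW : T.1 cW = cU := by
      have e : T.1 cU = cW := by rw [hTcU, hc0, zero_smul, add_zero]
      rw [hT', pW cW hcW, haWc, hc0, ← hceq, QuadraticMap.polar_add_left, h.perp cU hcUU cW hcW, hself,
        add_zero, zero_mul, add_zero, zero_smul, sub_zero, one_smul, add_comm cU cW, ← add_assoc,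
        ← two_smul F cW, h2, zero_smul, zero_add]
    have hTw : T.1 w = s' + aU := by
      rw [hT', pW w hwW, QuadraticMap.polar_comm _ aW, hwa, ← hceq, QuadraticMap.polar_add_left,
        h.perp cU hcUU w hwW, QuadraticMap.polar_comm _ cW, hwc, zero_smul, add_zero, mul_zero, add_zero,
        zero_add, one_smul, sub_eq_add_neg, hflip, ← heq, hw, add_comm aU aW, ← add_assoc,
        add_comm aW s', add_assoc s', ← two_smul F aW, h2, zero_smul, add_zero]
    rw [hTcW, hTw] at hu
    have := (U.add_mem_iff_left haU).1 ((U.add_mem_iff_right hcUU).1 hu)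
    exact hs'0 (h.sepW hs'W fun z hz => by rw [h.perp s' this z hz])
  · have hc1' : Q c = 1 := hone _ hc1
    obtain ⟨k, hkM, hkx⟩ := hk cU hcUU aW haW hQcU hQaW
    have hu := hfix k hkM
      (by rw [hkx, hcr, h.perp' haW hrU]; simp)
      (by rw [hkx, h.perp cU hcUU aW haW, hself]; simp) cU hcUU
    have e1 : k.1 (T.1 cU) = g.1 c + aU := by
      rw [hTcU, hc1', one_smul, ← heq, hkx]
      simp only [QuadraticMap.polar_add_right, h.perp cU hcUU cW hcW, h.perp cU hcUU aW haW,
        QuadraticMap.polar_comm _ cU aU, haUcU, haWc, h.perp' haW haU, hself, add_zero, zero_add,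
        one_smul, sub_eq_add_neg, hflip, ← hceq]
      rw [show cW + (aU + aW) + cU + aW = cU + cW + aU + (aW + aW) by abel, ← two_smul F aW, h2,
        zero_smul, add_zero]
    have e2 : T.1 (g.1 c) = g.1 c := by rw [hT', hga hac, hself]; simp
    rw [e1, map_add, e2, hTaU, ← hceq, add_assoc] at hu
    have hm := (U.add_mem_iff_right hcUU).1 hu
    have e := h.perp _ hm aW haW
    rw [QuadraticMap.polar_add_left, QuadraticMap.polar_comm _ cW, haWc, hself, add_zero] at e
    exact one_ne_zero e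

/-- The dichotomy for the stabiliser of a non-degenerate subspace. -/
theorem maximal (hne : ∀ g : quadIsoms Q, ∃ u ∈ U, g.1 u ∉ W)
    (hex : ¬ (Nat.card F ≤ 3 ∧ Module.finrank F W = 2 ∧ ∃ z ∈ W, z ≠ 0 ∧ Q z = 0))
    (hH : ∀ g ∈ commutator (quadIsoms Q), (∀ x ∈ W, g.1 x ∈ W) → g ∈ M) :
    (∀ g ∈ M, ∀ x ∈ W, g.1 x ∈ W) ∨ commutator (quadIsoms Q) ≤ M := by
  let QU := Q.comp U.subtype
  by_cases hS : ∃ u w, u ∈ U ∧ Q u = 0 ∧ u ≠ 0 ∧ polar Q u w = 0 ∧ w ∉ U ∧ siegel Q u w ∈ M
  · obtain ⟨u, w, hu, hQu, hu0, huw, hwU, hM⟩ := hS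
    have hf := h.full_of_siegel hH hex hu hQu hu0 huw hwU hM
    obtain ⟨v', hv'⟩ := exists_partner QU h.sepQU (x := ⟨u, hu⟩) (fun e => hu0 (congrArg Subtype.val e))
    change polar Q u (v' : V) = 1 at hv'
    set v := (v' : V) + (-Q (v' : V)) • u with hv
    have hQv : Q v = 0 := by
      rw [hv, quad_map_add_smul, hQu, QuadraticMap.polar_comm _ _ u, hv']; ring
    have huv : polar Q u v = 1 := by
      rw [hv, QuadraticMap.polar_add_right, QuadraticMap.polar_smul_right, polar_self_of_singular Q hQu,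
        smul_zero, add_zero, hv']
    have hv0 : v ≠ 0 := fun e => by simp [e] at huv
    obtain ⟨k, hk, hk1, hk2⟩ := h.move hu (add_mem v'.2 (U.smul_mem _ hu)) hQu hQv hu0 hv0
    have hfv : Full M v := by
      have e : k.1 u = v := hk2
      rw [← e]; exact hf.conj (hH k hk fun x hx => by rw [hk1 x hx]; exact hx)
    exact Or.inr (commutator_le_of_pair h.sep h.finrank_V hf hfv hQu hQv (by rw [huv]; exact one_ne_zero))
  push Not at hS
  refine Or.inl fun g hg => ?_
  -- an element keeping one singular vector of `U` in `U` stabilises `U`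
  have hP : ∀ k ∈ M, ∀ a ∈ U, Q a = 0 → a ≠ 0 → k.1 a ∈ U → ∀ b ∈ U, polar Q a b = 0 → k.1 b ∈ U := by
    intro k hk a ha hQa ha0 hka b hb hab
    by_contra hkb
    have hmem : k * siegel Q a b * k⁻¹ ∈ M := by
      refine mul_mem (mul_mem hk (hH _ (h.siegel_mem a b) fun z hz => ?_)) (inv_mem hk)
      rw [siegel_apply Q hQa hab, h.perp a ha z hz, h.perp b hb z hz]
      simpa using hz
    rw [siegel_conj] at hmem
    exact hS _ _ hka ((mem_quadIsoms.1 k.2 a).trans hQa) (by simpa using ha0) (by rw [polar_map, hab]) hkb hmem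
  have hstab : ∀ k ∈ M, ∀ a ∈ U, Q a = 0 → a ≠ 0 → k.1 a ∈ U → ∀ u ∈ U, k.1 u ∈ U := by
    intro k hk a ha hQa ha0 hka u hu
    obtain ⟨a', ha'0, hQa', haa', hai⟩ :=
      h.partner (u := ⟨a, ha⟩) (fun e => ha0 (congrArg Subtype.val e)) hQa
    obtain ⟨y, hy1, hy2⟩ := exists_dual_pair QU h.sepQU hai 0 1
    have hka' : k.1 (a' : V) ∈ U := hP k hk a ha hQa ha0 hka _ a'.2 haa'
    have h1 : k.1 (y : V) ∈ U :=
      hP k hk _ a'.2 hQa' (fun e => ha'0 (Subtype.ext e)) hka' _ y.2 hy1
    have h2 := hP k hk a ha hQa ha0 hka (u - polar Q a u • (y : V)) (sub_mem hu (U.smul_mem _ y.2)) (by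
      rw [QuadraticMap.polar_sub_right, QuadraticMap.polar_smul_right,
        show polar Q a (y : V) = 1 from hy2, smul_eq_mul, mul_one, sub_self])
    simpa using add_mem h2 (U.smul_mem (polar Q a u) h1)
  by_contra hmove
  have hgU : ∀ a ∈ U, Q a = 0 → a ≠ 0 → g.1 a ∉ U := fun a ha hQa ha0 hga =>
    hmove (h.maps_W (hstab g hg a ha hQa ha0 hga))
  -- every singular vector of `U` is sent into `W`
  have hsingW : ∀ a ∈ U, Q a = 0 → g.1 a ∈ W := by
    intro a ha hQa
    by_contra haW
    have ha0 : a ≠ 0 := fun e => haW (by rw [e, map_zero]; exact W.zero_mem)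
    obtain ⟨aU, haU, aW, haW', haeq⟩ := h.decomp (g.1 a)
    have haU0 : (⟨aU, haU⟩ : U) ≠ 0 := fun e => haW (by
      rw [← haeq, show aU = 0 from congrArg Subtype.val e, zero_add]; exact haW')
    have haW0 : aW ≠ 0 := fun e => hgU a ha hQa ha0 (by rw [← haeq, e, add_zero]; exact haU)
    obtain ⟨y, hy⟩ := exists_partner QU h.sepQU haU0
    change polar Q aU (y : V) = 1 at hy
    have hQga : Q (g.1 a) = 0 := (mem_quadIsoms.1 g.2 a).trans hQa
    rcases h.dim with h5 | ⟨h4, h8, -, hnW⟩
    swap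
    · exact h.four_step hH h4 h8 hnW hstab hg hgU ha hQa ha0 haU haW' haeq y.2 hy haW0
    have hspan : ∀ b ∈ U, polar Q a b = 0 → ∃ t : F, g.1 b - t • g.1 a ∈ U := by
      intro b hb hab
      obtain ⟨bU, hbU, bW, hbW, hbeq⟩ := h.decomp (g.1 b)
      have hp : polar Q (g.1 a) (g.1 b) = 0 := by rw [polar_map, hab]
      have hxM : siegel Q (g.1 a) (g.1 b) ∈ M := by
        rw [← siegel_conj]
        refine mul_mem (mul_mem hg (hH _ (h.siegel_mem a b) fun z hz => ?_)) (inv_mem hg)
        rw [siegel_apply Q hQa hab, h.perp a ha z hz, h.perp b hb z hz]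
        simpa using hz
      obtain ⟨v, hv0, hav, hbv, hQv⟩ := exists_perp_singular QU h.sepQU h5 ⟨aU, haU⟩ ⟨bU, hbU⟩
      change polar Q aU (v : V) = 0 at hav
      change polar Q bU (v : V) = 0 at hbv
      have e1 : ∀ z ∈ U, polar Q (g.1 a) z = polar Q aU z := fun z hz => by
        rw [← haeq, QuadraticMap.polar_add_left, h.perp' haW' hz, add_zero]
      have e2 : ∀ z ∈ U, polar Q (g.1 b) z = polar Q bU z := fun z hz => by
        rw [← hbeq, QuadraticMap.polar_add_left, h.perp' hbW hz, add_zero]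
      have hfix : (siegel Q (g.1 a) (g.1 b)).1 (v : V) = v := by
        rw [siegel_apply Q hQga hp, e1 _ v.2, e2 _ v.2, hav, hbv]; simp
      have := hstab _ hxM v v.2 hQv (fun e => hv0 (Subtype.ext e)) (by rw [hfix]; exact v.2) _ y.2
      rw [siegel_apply Q hQga hp, e1 _ y.2, hy, one_smul, add_sub_assoc] at this
      exact ⟨_, (U.add_mem_iff_right y.2).1 this⟩
    obtain ⟨y', hy', hay⟩ : ∃ y ∈ W, polar Q aW y = 1 := by
      obtain ⟨z, hz⟩ := exists_partner Q h.sep haW0
      obtain ⟨zu, hzu, zw, hzw, rfl⟩ := h.decomp z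
      rw [QuadraticMap.polar_add_right, h.perp' haW' hzu, zero_add] at hz
      exact ⟨zw, hzw, hz⟩
    obtain ⟨pU, hpU, pW, hpW, hpeq⟩ := h.decomp ((g⁻¹).1 y')
    obtain ⟨v, hv0, hav, hpv, hQv⟩ := exists_perp_singular QU h.sepQU h5 ⟨a, ha⟩ ⟨pU, hpU⟩
    change polar Q a (v : V) = 0 at hav
    change polar Q pU (v : V) = 0 at hpv
    obtain ⟨t, ht⟩ := hspan v v.2 hav
    have h0 : polar Q (g.1 (v : V)) y' = 0 := by
      rw [← apply_inv g y', polar_map, ← hpeq, QuadraticMap.polar_add_right, h.perp _ v.2 pW hpW, add_zero,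
        QuadraticMap.polar_comm, hpv]
    have h1 := h.perp _ ht y' hy'
    rw [QuadraticMap.polar_sub_left, QuadraticMap.polar_smul_left, h0, ← haeq, QuadraticMap.polar_add_left,
      h.perp aU haU y' hy', hay, zero_add, smul_eq_mul, mul_one, zero_sub, neg_eq_zero] at h1
    rw [h1, zero_smul, sub_zero] at ht
    exact hgU v v.2 hQv (fun e => hv0 (Subtype.ext e)) ht
  obtain ⟨u, hu, hgu⟩ := hne g
  refine hgu ?_
  -- singular vectors span `U`
  rcases eq_or_ne (Q u) 0 with hQu | hQu
  · exact hsingW u hu hQu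
  obtain ⟨a, ha0, hQa⟩ := h.exists_sing
  change Q (a : V) = 0 at hQa
  have hcase : ∃ z : V, z ∈ U ∧ Q z = 0 ∧ polar Q z u ≠ 0 := by
    by_cases hau : polar Q (a : V) u = 0
    · obtain ⟨z, hQz, -, huz⟩ := exists_singular_dual QU h.sepQU (x := a) (y := ⟨u, hu⟩)
        ((LinearIndependent.pair_iff' ha0).2 fun t ht => hQu (by
          have e : t • (a : V) = u := congrArg Subtype.val (ht : t • a = (⟨u, hu⟩ : U))
          rw [← e, quad_smul, hQa, mul_zero]))
        hQa hau 1
      exact ⟨z, z.2, hQz, by rw [QuadraticMap.polar_comm, show polar Q u (z : V) = 1 from huz]; exact one_ne_zero⟩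
    · exact ⟨a, a.2, hQa, hau⟩
  obtain ⟨z, hz, hQz, hzu⟩ := hcase
  set t := -Q u / polar Q z u with ht
  have hs : Q (u + t • z) = 0 := by
    rw [quad_map_add_smul, hQz, QuadraticMap.polar_comm _ u z, ht, div_mul_cancel₀ _ hzu]; ring
  have := sub_mem (hsingW _ (add_mem hu (U.smul_mem t hz)) hs) (W.smul_mem t (hsingW z hz hQz))
  simpa using this

/-- Some element of the commutator subgroup moves `W`. -/
theorem moved (hW0 : W ≠ ⊥) : ∃ g ∈ commutator (quadIsoms Q), ∃ x ∈ W, g.1 x ∉ W := by
  obtain ⟨a, ha0, hQa⟩ := h.exists_sing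
  change Q (a : V) = 0 at hQa
  obtain ⟨c, hc, hc0⟩ := Submodule.exists_mem_ne_zero_of_ne_bot hW0
  obtain ⟨c', hc', hcc⟩ : ∃ y ∈ W, polar Q c y ≠ 0 := by
    by_contra hall
    push Not at hall
    exact hc0 (h.sepW hc hall)
  refine ⟨_, h.siegel_mem a c, c', hc', fun hmem => ha0 (Subtype.ext ?_)⟩
  rw [siegel_apply Q hQa (h.perp _ a.2 c hc), h.perp _ a.2 c' hc', zero_smul, add_zero, mul_zero, add_zero] at hmem
  have hW' : (a : V) ∈ W := by
    have := sub_mem hc' hmem
    rw [sub_sub_cancel] at this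
    exact (W.smul_mem_iff hcc).1 this
  exact h.sepW hW' fun y hy => h.perp _ a.2 y hy

end Split

end CfsgLib.Geom.OrthSub
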