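import Mathlib
import Cfsg.Agent.Lib.Geom.NondegMax
import Cfsg.Agent.Lib.Geom.OmegaMax
import Cfsg.Agent.Lib.Geom.PlusType
import Cfsg.Agent.Lib.Geom.SplitStab

set_option autoImplicit false

/-!
Maximality in `Cfsg.Geo.omegaGL` of the stabiliser of a non-degenerate subspace.
-/

namespace CfsgLib.Geom.OrthSub

open QuadraticMap (polar)

section

variable {F V : Type*} [Field F] [Finite F] [AddCommGroup V] [Module F V] [FiniteDimensional F V]
variable {Q : QuadraticForm F V} {U W : Submodule F V}

/-- Two isometric orthogonal complements of even dimension make the space of plus type. -/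
theorem exists_ts_of_isometric_halves (hQ : ∀ x, (∀ y, polar Q x y = 0) → x = 0)
    (hperp : ∀ u ∈ U, ∀ w ∈ W, polar Q u w = 0) (hc : IsCompl U W)
    (hev : Even (Module.finrank F U)) (hd : Module.finrank F U = Module.finrank F W)
    (g : quadIsoms Q) (hg : ∀ u ∈ U, g.1 u ∈ W) :
    ∃ S : Submodule F V, (∀ x ∈ S, Q x = 0) ∧ 2 * Module.finrank F S = Module.finrank F V := by
  classical
  have hsum : Module.finrank F U + Module.finrank F W = Module.finrank F V :=
    Submodule.finrank_add_eq_of_isCompl hc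
  by_cases h2 : (2 : F) = 0
  · -- the graph of the isometry
    let T : U →ₗ[F] V := U.subtype + g.1.toLinearMap ∘ₗ U.subtype
    have hinj : Function.Injective T := by
      rw [← LinearMap.ker_eq_bot, Submodule.eq_bot_iff]
      intro u hu
      have e : (u : V) + g.1 u = 0 := hu
      refine Subtype.ext (Submodule.disjoint_def.1 hc.disjoint u u.2 ?_)
      rw [eq_neg_of_add_eq_zero_left e]
      exact W.neg_mem (hg u u.2)
    refine ⟨LinearMap.range T, ?_, by rw [LinearMap.finrank_range_of_inj hinj]; omega⟩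
    rintro _ ⟨u, rfl⟩
    show Q ((u : V) + g.1 u) = 0
    rw [QuadraticMap.map_add (Q : QuadraticMap F V F), mem_quadIsoms.1 g.2, hperp u u.2 _ (hg u u.2), add_zero]
    linear_combination (Q (u : V)) * h2
  · let e : U ≃ₗ[F] W := LinearEquiv.ofBijective (g.1.toLinearMap.restrict hg)
      ⟨fun a b h => Subtype.ext (g.1.injective (congrArg Subtype.val h)),
        (LinearMap.injective_iff_surjective_of_finrank_eq_finrank hd).1
          fun a b h => Subtype.ext (g.1.injective (congrArg Subtype.val h))⟩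
    let bU := Module.finBasis F U
    let b := (bU.prod (bU.map e)).map (Submodule.prodEquivOfIsCompl U W hc)
    obtain ⟨k, hk⟩ := hev
    obtain ⟨S, hS, hQS⟩ := exists_totallySingular Q h2 hQ (m := Module.finrank F U) (by omega) b (by
      rw [show (LinearMap.toMatrix₂ b b Q.polarBilin) = Matrix.fromBlocks
          (Matrix.of fun i j => polar Q (bU i : V) (bU j)) 0 0
          (Matrix.of fun i j => polar Q (bU i : V) (bU j)) from ?_,
        Matrix.det_fromBlocks_zero₂₁, (Even.neg_one_pow ⟨k, hk⟩ : (-1 : F) ^ Module.finrank F U = 1), one_mul]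
      · exact ⟨_, rfl⟩
      · ext i j
        have he : ∀ x : U, ((e x : W) : V) = g.1 x := fun x => rfl
        rcases i with i | i <;> rcases j with j | j <;>
          simp [b, LinearMap.toMatrix₂_apply, he]
        · exact hperp _ (bU i).2 _ (hg _ (bU j).2)
        · rw [QuadraticMap.polar_comm]; exact hperp _ (bU j).2 _ (hg _ (bU i).2)
        · exact polar_map g _ _)
    exact ⟨S, hQS, by omega⟩

end

variable {F : Type*} [Field F] [Fintype F] {ι : Type} [Fintype ι] [DecidableEq ι]

/-- The stabiliser in `Ω` of a non-degenerate subspace is maximal. -/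
theorem nondeg_isMaximalIn (Q : QuadraticForm F (ι → F)) {f : (ι → F) → F} (hf : ⇑Q = f)
    (hQ : ∀ x, (∀ y, polar Q x y = 0) → x = 0)
    {W : Submodule F (ι → F)} (hn : 9 ≤ Fintype.card ι ∨ (8 ≤ Fintype.card ι ∧ 2 * Module.finrank F W ≠ Fintype.card ι))
    (hW0 : W ≠ ⊥) (hW1 : W ≠ ⊤) (hW : ∀ x ∈ W, (∀ y ∈ W, polar Q x y = 0) → x = 0)
    (hexW : ¬ (Fintype.card F ≤ 3 ∧ Module.finrank F W = 2 ∧ ∃ z ∈ W, z ≠ 0 ∧ Q z = 0))
    (hexU : ∀ U : Submodule F (ι → F), (∀ u ∈ U, ∀ w ∈ W, polar Q u w = 0) →
      Module.finrank F U + Module.finrank F W = Fintype.card ι →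
      (∀ x ∈ U, (∀ y ∈ U, polar Q x y = 0) → x = 0) →
      ¬ (Fintype.card F ≤ 3 ∧ Module.finrank F U = 2 ∧ ∃ z ∈ U, z ≠ 0 ∧ Q z = 0))
    (heq : 2 * Module.finrank F W = Fintype.card ι →
      Even (Module.finrank F W) ∧ ¬ ∃ S : Submodule F (ι → F), (∀ x ∈ S, Q x = 0) ∧
        2 * Module.finrank F S = Fintype.card ι) :
    Cfsg.Geo.IsMaximalIn (Cfsg.Geo.omegaGL f) (Cfsg.Geo.subspaceStabilizer W ⊓ Cfsg.Geo.omegaGL f) := by
  obtain ⟨U, hc, hU⟩ := exists_perp_compl Q.polarBilin
    (fun x y h => (QuadraticMap.polar_comm Q y x).trans h) W hW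
  have hperp : ∀ u ∈ U, ∀ w ∈ W, polar Q u w = 0 := fun u hu w hw =>
    (QuadraticMap.polar_comm Q u w).trans ((hU u).1 hu w hw)
  have hsum : Module.finrank F U + Module.finrank F W = Fintype.card ι := by
    rw [Submodule.finrank_add_eq_of_isCompl hc.symm, Module.finrank_fintype_fun_eq_card]
  have hsup : U ⊔ W = ⊤ := hc.symm.sup_eq_top
  have hU0 : U ≠ ⊥ := fun e => hW1 (by rwa [e, bot_sup_eq] at hsup)
  by_cases hle : Module.finrank F W ≤ Module.finrank F U
  · have h : Split Q U W := ⟨hQ, hperp, hsup, Or.inl (by omega)⟩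
    refine omega_isMaximalIn Q hf W (h.moved hW0) fun M hM => h.maximal ?_ (by
      rw [Nat.card_eq_fintype_card]; exact hexW) hM
    intro g
    by_contra hall
    push Not at hall
    have h1 : Module.finrank F U ≤ Module.finrank F W := LinearMap.finrank_le_finrank_of_injective
      (f := g.1.toLinearMap.restrict hall) fun a b e => Subtype.ext (g.1.injective (congrArg Subtype.val e))
    obtain ⟨hev, hno⟩ := heq (by omega)
    obtain ⟨S, hS, hd⟩ := exists_ts_of_isometric_halves hQ hperp hc.symm
      (by rwa [show Module.finrank F U = Module.finrank F W by omega]) (by omega) g hall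
    exact hno ⟨S, hS, by rw [hd, Module.finrank_fintype_fun_eq_card]⟩
  · have h : Split Q W U := ⟨hQ, fun w hw u hu => (hU u).1 hu w hw, by rw [sup_comm]; exact hsup, Or.inl (by omega)⟩
    refine omega_isMaximalIn Q hf W ?_ fun M hM => ?_
    · obtain ⟨g, hg, x, hx, hgx⟩ := h.moved hU0
      by_contra hall
      push Not at hall
      exact hgx (h.maps_W (hall g hg) x hx)
    · refine (h.maximal (fun g => ?_) ?_ fun g hg hgU => hM g hg (h.maps_U hgU)).imp_left
        fun hst g hg => h.maps_U (hst g hg)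
      · by_contra hall
        push Not at hall
        have h1 : Module.finrank F W ≤ Module.finrank F U := LinearMap.finrank_le_finrank_of_injective
          (f := g.1.toLinearMap.restrict hall) fun a b e => Subtype.ext (g.1.injective (congrArg Subtype.val e))
        omega
      · rw [Nat.card_eq_fintype_card]
        exact hexU U hperp hsum fun x hx h0 => h.sepW hx h0

/-- A singular vector makes a plane of plus type. -/
theorem isPlusTypeOn_of_singular {f : (ι → F) → F} {W : Submodule F (ι → F)}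
    (hsm : ∀ (c : F) (v : ι → F), f (c • v) = c ^ 2 * f v) (hd : Module.finrank F W = 2)
    (h : ∃ z ∈ W, z ≠ 0 ∧ f z = 0) : Cfsg.Geo.IsPlusTypeOn f W := by
  obtain ⟨z, hz, hz0, hfz⟩ := h
  refine ⟨F ∙ z, (Submodule.span_singleton_le_iff_mem _ _).2 hz, fun w hw => ?_, ?_⟩
  · obtain ⟨c, rfl⟩ := Submodule.mem_span_singleton.1 hw
    rw [hsm, hfz, mul_zero]
  · rw [finrank_span_singleton hz0, hd]

end CfsgLib.Geom.OrthSub
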