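import Cfsg.Agent.Lib.MaxSub.OFrameSpan
import Cfsg.Agent.Lib.MaxSub.OrthSing
import Cfsg.Agent.Lib.Geom.NondegMax

/-!
Maximality of the stabiliser of orthogonal complements of dimensions at least four and three, odd
characteristic.
-/

set_option autoImplicit false
set_option linter.unusedSectionVars false

namespace CfsgLib.Geom.NondegOdd

open CfsgLib.Classical CfsgLib.Geom CfsgLib.Geom.OrthSub CfsgLib.MaxSub CfsgLib.MaxSub.OFrame
open QuadraticMap (polar)

variable {F V : Type*} [Field F] [Finite F] [AddCommGroup V] [Module F V] [FiniteDimensional F V]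
variable {Q : QuadraticForm F V}

/-- An overgroup of the stabiliser of `A ⊕ B`. -/
structure Pair (Q : QuadraticForm F V) (A B : Submodule F V) (M : Subgroup (quadIsoms Q)) : Prop where
  two : (2 : F) ≠ 0
  sep : ∀ x, (∀ y, polar Q x y = 0) → x = 0
  perp : ∀ a ∈ A, ∀ b ∈ B, polar Q a b = 0
  sup : A ⊔ B = ⊤
  dimA : 4 ≤ Module.finrank F A
  dimB : 3 ≤ Module.finrank F B
  hH : ∀ g ∈ commutator (quadIsoms Q), (∀ x ∈ A, g.1 x ∈ A) → g ∈ M

namespace Pair

variable {A B : Submodule F V} {M : Subgroup (quadIsoms Q)} (h : Pair Q A B M)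
include h

theorem perp' {a b : V} (hb : b ∈ B) (ha : a ∈ A) : polar Q b a = 0 := by
  rw [QuadraticMap.polar_comm]; exact h.perp a ha b hb

theorem decomp (v : V) : ∃ a ∈ A, ∃ b ∈ B, a + b = v :=
  Submodule.mem_sup.1 (h.sup ▸ Submodule.mem_top : v ∈ A ⊔ B)

theorem ndA : NdOn Q A := fun x hx h0 => h.sep x fun v => by
  obtain ⟨a, ha, b, hb, rfl⟩ := h.decomp v
  rw [QuadraticMap.polar_add_right, h0 a ha, h.perp x hx b hb, add_zero]

theorem ndB : NdOn Q B := fun x hx h0 => h.sep x fun v => by
  obtain ⟨a, ha, b, hb, rfl⟩ := h.decomp v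
  rw [QuadraticMap.polar_add_right, h0 b hb, h.perp' hx ha, add_zero]

theorem five : 5 ≤ Module.finrank F V := by
  have h1 := Submodule.finrank_sup_add_finrank_inf_eq A B
  have h2 : A ⊓ B = ⊥ := (Submodule.eq_bot_iff _).2 fun x hx => h.ndA x hx.1 fun y hy => h.perp' hx.2 hy
  rw [h2, h.sup, finrank_top, finrank_bot] at h1
  have := h.dimA
  have := h.dimB
  omega

theorem siegel_comm (x w : V) : siegel Q x w ∈ commutator (quadIsoms Q) :=
  siegel_mem_commutator h.sep h.five x w

/-- Siegel transformations inside `A` -/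
theorem memA {u w : V} (hu : u ∈ A) (hw : w ∈ A) : siegel Q u w ∈ M := by
  refine h.hH _ (h.siegel_comm u w) fun z hz => ?_
  by_cases hc : Q u = 0 ∧ polar Q u w = 0
  · rw [siegel_apply Q hc.1 hc.2]
    exact sub_mem (add_mem hz (A.smul_mem _ hw)) (A.smul_mem _ hu)
  · rw [siegel_of_not Q hc]
    exact hz

/-- Siegel transformations inside `B` -/
theorem memB {u w : V} (hu : u ∈ B) (hw : w ∈ B) : siegel Q u w ∈ M := by
  refine h.hH _ (h.siegel_comm u w) fun z hz => ?_
  by_cases hc : Q u = 0 ∧ polar Q u w = 0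
  · rw [siegel_apply Q hc.1 hc.2, h.perp' hu hz, h.perp' hw hz]
    simpa using hz
  · rw [siegel_of_not Q hc]
    exact hz

/-- pairs of reflections at the summands -/
theorem refl_pair {x y : V} (hxA : x ∈ A ∨ x ∈ B) (hyA : y ∈ A ∨ y ∈ B) (hx : Q x ≠ 0) (hy : Q y ≠ 0)
    (hxy : Q x = Q y) :
    (⟨reflEquiv Q x hx, reflEquiv_mem Q x hx⟩ * ⟨reflEquiv Q y hy, reflEquiv_mem Q y hy⟩ : quadIsoms Q) ∈ M := by
  have key : ∀ r : V, ∀ hr : Q r ≠ 0, r ∈ A ∨ r ∈ B → ∀ z ∈ A, reflEquiv Q r hr z ∈ A := by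
    rintro r hr (hrA | hrB) z hz
    · rw [reflEquiv_apply]
      exact sub_mem hz (A.smul_mem _ hrA)
    · rw [reflEquiv_fix Q r hr (h.perp' hrB hz)]
      exact hz
  exact h.hH _ (refl_pair_mem h.sep h.five hx hy hxy) fun z hz => key x hx hxA _ (key y hy hyA z hz)

/-- a value is taken on `A` away from a singular vector -/
theorem exists_value_perp {u : V} (hu : u ∈ A) (hu0 : u ≠ 0) (hQu : Q u = 0) (c : F) (hc : c ≠ 0) :
    ∃ y ∈ A, polar Q u y = 0 ∧ Q y = c ∧ ∀ v ∈ A, Q v = 0 → polar Q u v = 1 →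
      ∃ y' ∈ A, polar Q u y' = 0 ∧ polar Q v y' = 0 ∧ Q y' = c := by
  classical
  have key : ∀ v ∈ A, Q v = 0 → polar Q u v = 1 →
      ∃ y' ∈ A, polar Q u y' = 0 ∧ polar Q v y' = 0 ∧ Q y' = c := by
    intro v hv hQv huv
    obtain ⟨P, hP⟩ : ∃ P, P = A ⊓ LinearMap.ker (pLin Q u) ⊓ LinearMap.ker (pLin Q v) := ⟨_, rfl⟩
    have hd : 2 ≤ Module.finrank F P := by
      have d1 := finrank_le_inf_ker A (pLin Q u)
      have d2 := finrank_le_inf_ker (A ⊓ LinearMap.ker (pLin Q u)) (pLin Q v)
      have := h.dimA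
      rw [hP]
      omega
    have hmem : ∀ x, x ∈ P → x ∈ A ∧ polar Q u x = 0 ∧ polar Q v x = 0 := fun x hx => by
      rw [hP] at hx
      exact ⟨hx.1.1, by rw [QuadraticMap.polar_comm]; exact hx.1.2, by rw [QuadraticMap.polar_comm]; exact hx.2⟩
    obtain ⟨y, hy⟩ := exists_value (Q.comp P.subtype) h.two (fun x hx => Subtype.ext (h.ndA x (hmem _ x.2).1
      fun z hz => by
        obtain ⟨-, hxu, hxv⟩ := hmem _ x.2
        have hz' : z - polar Q v z • u - polar Q u z • v ∈ P := by
          rw [hP]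
          refine ⟨⟨sub_mem (sub_mem hz (A.smul_mem _ hu)) (A.smul_mem _ hv), ?_⟩, ?_⟩
          · show polar Q _ u = 0
            rw [QuadraticMap.polar_sub_left, QuadraticMap.polar_sub_left, QuadraticMap.polar_smul_left,
              QuadraticMap.polar_smul_left, polar_self_of_singular Q hQu, QuadraticMap.polar_comm _ v u, huv,
              QuadraticMap.polar_comm _ z u, smul_eq_mul, smul_eq_mul]
            ring
          · show polar Q _ v = 0
            rw [QuadraticMap.polar_sub_left, QuadraticMap.polar_sub_left, QuadraticMap.polar_smul_left,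
              QuadraticMap.polar_smul_left, polar_self_of_singular Q hQv, huv, QuadraticMap.polar_comm _ z v,
              smul_eq_mul, smul_eq_mul]
            ring
        have h0 : polar Q (x : V) (z - polar Q v z • u - polar Q u z • v) = 0 := hx ⟨_, hz'⟩
        rwa [QuadraticMap.polar_sub_right, QuadraticMap.polar_sub_right, QuadraticMap.polar_smul_right,
          QuadraticMap.polar_smul_right, QuadraticMap.polar_comm _ (x : V) u, hxu,
          QuadraticMap.polar_comm _ (x : V) v, hxv, smul_zero, smul_zero, sub_zero, sub_zero] at h0)) hd c hc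
    exact ⟨y, (hmem _ y.2).1, (hmem _ y.2).2.1, (hmem _ y.2).2.2, hy⟩
  obtain ⟨v, hv, hQv, huv⟩ := h.ndA.exists_opposite hu hu0 hQu
  obtain ⟨y, hy, hyu, -, hQy⟩ := key v hv hQv huv
  exact ⟨y, hy, hyu, hQy, key⟩

/-- One Siegel transformation leaving `A` gives the commutator subgroup. -/
theorem le_of_siegel {u w : V} (hu : u ∈ A) (hQu : Q u = 0) (hu0 : u ≠ 0) (huw : polar Q u w = 0) (hw : w ∉ A)
    (hM : siegel Q u w ∈ M) : commutator (quadIsoms Q) ≤ M := by
  classical
  have h2 := h.two
  obtain ⟨a, ha, c, hc, rfl⟩ := h.decomp w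
  have hua : polar Q u a = 0 := by
    rwa [QuadraticMap.polar_add_right, h.perp u hu c hc, add_zero] at huw
  have hcM : siegel Q u c ∈ M := by
    rw [siegel_add Q hQu hua (h.perp u hu c hc)] at hM
    exact (Subgroup.mul_mem_cancel_left M (h.memA hu ha)).1 hM
  obtain ⟨v, hv, hQv, huv⟩ := h.ndA.exists_opposite hu hu0 hQu
  obtain ⟨y₁, hy₁, hy₁u, hy₁v, hQy₁⟩ := (h.exists_value_perp hu hu0 hQu 1 one_ne_zero).choose_spec.2.2.2 v hv hQv huv
  let L : AddSubgroup V :=
    { carrier := {x | x ∈ B ∧ siegel Q u x ∈ M}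
      add_mem' := fun {x y} hx hy => ⟨add_mem hx.1 hy.1, by
        rw [siegel_add Q hQu (h.perp u hu _ hx.1) (h.perp u hu _ hy.1)]; exact mul_mem hx.2 hy.2⟩
      zero_mem' := ⟨B.zero_mem, by rw [siegel_zero]; exact one_mem M⟩
      neg_mem' := fun {x} hx => ⟨B.neg_mem hx.1, by
        rw [← siegel_neg Q hQu (h.perp u hu _ hx.1)]; exact inv_mem hx.2⟩ }
  -- reflections of `B`
  have hrefl : ∀ r ∈ B, Q r ≠ 0 → ∀ x ∈ L, x - ((Q r)⁻¹ * polar Q r x) • r ∈ L := by
    intro r hr hQr x hx
    obtain ⟨y, hy, hyu, hQy, -⟩ := h.exists_value_perp hu hu0 hQu (Q r) hQr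
    have hQy' : Q y ≠ 0 := hQy ▸ hQr
    have hk := h.refl_pair (Or.inr hr) (Or.inl hy) hQr hQy' hQy.symm
    refine ⟨sub_mem hx.1 (B.smul_mem _ hr), ?_⟩
    have := mul_mem (mul_mem hk hx.2) (inv_mem hk)
    rw [siegel_conj] at this
    have e1 : reflEquiv Q r hQr (reflEquiv Q y hQy' u) = u := by
      rw [reflEquiv_fix Q y hQy' (by rw [QuadraticMap.polar_comm]; exact hyu),
        reflEquiv_fix Q r hQr (h.perp' hr hu)]
    have e2 : reflEquiv Q r hQr (reflEquiv Q y hQy' x) = x - ((Q r)⁻¹ * polar Q r x) • r := by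
      rw [reflEquiv_fix Q y hQy' (h.perp y hy x hx.1), reflEquiv_apply]
    rwa [show ((⟨reflEquiv Q r hQr, reflEquiv_mem Q r hQr⟩ * ⟨reflEquiv Q y hQy', reflEquiv_mem Q y hQy'⟩ :
        quadIsoms Q)).1 u = u from e1,
      show ((⟨reflEquiv Q r hQr, reflEquiv_mem Q r hQr⟩ * ⟨reflEquiv Q y hQy', reflEquiv_mem Q y hQy'⟩ :
        quadIsoms Q)).1 x = x - ((Q r)⁻¹ * polar Q r x) • r from e2] at this
  -- multiplication by squares
  have hsq : ∀ (κ : F), ∀ x ∈ L, (κ * κ) • x ∈ L := by
    intro κ x hx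
    rcases eq_or_ne κ 0 with rfl | hκ
    · rw [mul_zero, zero_smul]; exact L.zero_mem
    refine ⟨B.smul_mem _ hx.1, ?_⟩
    obtain ⟨p, hp⟩ : ∃ p, p = u + v := ⟨_, rfl⟩
    obtain ⟨p', hp'⟩ : ∃ p', p' = κ • u + κ⁻¹ • v := ⟨_, rfl⟩
    have hQp : Q p = 1 := by
      rw [hp, QuadraticMap.map_add (Q : QuadraticMap F V F) u v, hQu, hQv, huv, zero_add, zero_add]
    have hQp' : Q p' = 1 := by
      rw [hp', QuadraticMap.map_add (Q : QuadraticMap F V F) (κ • u) (κ⁻¹ • v), quad_smul, quad_smul, hQu, hQv,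
        QuadraticMap.polar_smul_left, QuadraticMap.polar_smul_right, huv, smul_eq_mul, smul_eq_mul, mul_zero,
        mul_zero, mul_one, zero_add, zero_add, mul_inv_cancel₀ hκ]
    have hp0 : Q p ≠ 0 := hQp ▸ one_ne_zero
    have hp'0 : Q p' ≠ 0 := hQp' ▸ one_ne_zero
    have hk := h.refl_pair (Or.inl (hp' ▸ add_mem (A.smul_mem _ hu) (A.smul_mem _ hv) : p' ∈ A))
      (Or.inl (hp ▸ add_mem hu hv : p ∈ A)) hp'0 hp0 (hQp'.trans hQp.symm)
    have := mul_mem (mul_mem hk hx.2) (inv_mem hk)
    rw [siegel_conj] at this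
    have e1 : reflEquiv Q p' hp'0 (reflEquiv Q p hp0 u) = (κ * κ) • u := by
      rw [reflEquiv_apply Q p hp0, hQp, hp, QuadraticMap.polar_add_left, polar_self_of_singular Q hQu,
        QuadraticMap.polar_comm _ v u, huv, inv_one, one_mul, zero_add, one_smul, reflEquiv_apply, hQp', hp',
        show u - (u + v) = -v by abel, QuadraticMap.polar_neg_right, QuadraticMap.polar_add_left,
        QuadraticMap.polar_smul_left, QuadraticMap.polar_smul_left, polar_self_of_singular Q hQv, huv,
        smul_eq_mul, smul_eq_mul]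
      match_scalars <;> field_simp <;> ring
    have e2 : reflEquiv Q p' hp'0 (reflEquiv Q p hp0 x) = x := by
      rw [reflEquiv_fix Q p hp0 (h.perp p (hp ▸ add_mem hu hv) x hx.1),
        reflEquiv_fix Q p' hp'0 (h.perp p' (hp' ▸ add_mem (A.smul_mem _ hu) (A.smul_mem _ hv)) x hx.1)]
    rw [← siegel_smul Q hQu (h.perp u hu x hx.1)]
    rwa [show ((⟨reflEquiv Q p' hp'0, reflEquiv_mem Q p' hp'0⟩ * ⟨reflEquiv Q p hp0, reflEquiv_mem Q p hp0⟩ :
        quadIsoms Q)).1 u = (κ * κ) • u from e1,
      show ((⟨reflEquiv Q p' hp'0, reflEquiv_mem Q p' hp'0⟩ * ⟨reflEquiv Q p hp0, reflEquiv_mem Q p hp0⟩ :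
        quadIsoms Q)).1 x = x from e2] at this
  have hsmul : ∀ (t : F), ∀ x ∈ L, t • x ∈ L := by
    intro t x hx
    obtain ⟨p, q, hpq⟩ := exists_binary_eq h2 (one_ne_zero (α := F)) one_ne_zero t
    have := L.add_mem (hsq p x hx) (hsq q x hx)
    rw [← add_smul, show p * p + q * q = t by linear_combination hpq] at this
    exact this
  let S : Submodule F V := { toAddSubmonoid := L.toAddSubmonoid, smul_mem' := fun t x hx => hsmul t x hx }
  -- `S` is all of `B`
  have hBS : B ≤ S := by
    have hc0 : c ≠ 0 := fun e => hw (by rw [e, add_zero]; exact ha)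
    have hcS : c ∈ S := ⟨hc, hcM⟩
    have hoff : ∀ r ∈ B, Q r ≠ 0 → polar Q r c ≠ 0 → r ∈ S := by
      intro r hr hQr hrc
      have h1 : c - (c - ((Q r)⁻¹ * polar Q r c) • r) ∈ S := sub_mem hcS (hrefl r hr hQr c hcS)
      rw [sub_sub_cancel] at h1
      exact (S.smul_mem_iff (mul_ne_zero (inv_ne_zero hQr) hrc)).1 h1
    by_contra hne
    obtain ⟨x, hx, hxS⟩ := SetLike.not_le_iff_exists.1 hne
    -- outside `S` and off the perpendicular of `c` every vector is singular
    obtain ⟨z, hz, hzc⟩ := h.ndB.exists_partner hc hc0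
    have hzc' : polar Q z c = 1 := by rw [QuadraticMap.polar_comm]; exact hzc
    obtain ⟨p, hp, hpS, hpc⟩ : ∃ p ∈ B, p ∉ S ∧ polar Q p c ≠ 0 := by
      by_cases hxc : polar Q x c ≠ 0
      · exact ⟨x, hx, hxS, hxc⟩
      push Not at hxc
      by_cases hzS : z ∈ S
      · refine ⟨x + z, add_mem hx hz, fun e => hxS ?_, by
          rw [QuadraticMap.polar_add_left, hxc, zero_add, hzc']; exact one_ne_zero⟩
        simpa using sub_mem e hzS
      · exact ⟨z, hz, hzS, by rw [hzc']; exact one_ne_zero⟩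
    have hsing : ∀ r ∈ B, r ∉ S → polar Q r c ≠ 0 → Q r = 0 :=
      fun r hr hrS hrc => by_contra fun hQr => hrS (hoff r hr hQr hrc)
    have hQp := hsing p hp hpS hpc
    -- then `B` has dimension at most two
    have hperpS : ∀ s ∈ S, polar Q s c = 0 → Q s = 0 ∧ polar Q p s = 0 := by
      intro s hs hsc
      have hsB : s ∈ B := hs.1
      have e1 := hsing (p + s) (add_mem hp hsB) (fun e => hpS (by simpa using sub_mem e hs))
        (by rwa [QuadraticMap.polar_add_left, hsc, add_zero])
      have e2 := hsing (p - s) (sub_mem hp hsB) (fun e => hpS (by simpa using add_mem e hs))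
        (by rwa [QuadraticMap.polar_sub_left, hsc, sub_zero])
      rw [QuadraticMap.map_add (Q : QuadraticMap F V F) p s, hQp, zero_add] at e1
      rw [sub_eq_add_neg, QuadraticMap.map_add (Q : QuadraticMap F V F) p (-s), hQp, zero_add,
        QuadraticMap.map_neg, QuadraticMap.polar_neg_right] at e2
      have e3 : 2 * Q s = 0 := by linear_combination e1 + e2
      have e4 := (mul_eq_zero.1 e3).resolve_left h2
      exact ⟨e4, by linear_combination e1 - e4⟩
    have hperpN : ∀ s ∈ B, polar Q s c = 0 → s ∈ S → ∀ r ∈ B, polar Q s r = 0 := by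
      intro s hs hsc hsS r hr
      obtain ⟨t, ht⟩ : ∃ t, t = r - (polar Q r c / polar Q p c) • p := ⟨_, rfl⟩
      have htc : polar Q t c = 0 := by
        rw [ht, QuadraticMap.polar_sub_left, QuadraticMap.polar_smul_left, smul_eq_mul, div_mul_cancel₀ _ hpc,
          sub_self]
      have hps := (hperpS s hsS hsc).2
      suffices polar Q s t = 0 by
        rw [ht, QuadraticMap.polar_sub_right, QuadraticMap.polar_smul_right, QuadraticMap.polar_comm _ s p, hps,
          smul_zero, sub_zero] at this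
        exact this
      by_cases htS : t ∈ S
      · have := (hperpS (s + t) (add_mem hsS htS) (by rw [QuadraticMap.polar_add_left, hsc, htc, add_zero])).1
        rw [QuadraticMap.map_add (Q : QuadraticMap F V F) s t, (hperpS s hsS hsc).1, (hperpS t htS htc).1] at this
        linear_combination this
      · -- `p + t` is outside `S` or `p - t` is
        have hcase : p + t ∉ S ∨ p - t ∉ S := by
          by_contra hh
          push Not at hh
          have := add_mem hh.1 hh.2
          rw [show p + t + (p - t) = (2 : F) • p by module] at this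
          exact hpS ((S.smul_mem_iff h2).1 this)
        rcases hcase with hout | hout
        · have e1 := hsing _ (add_mem hp (ht ▸ sub_mem hr (B.smul_mem _ hp))) hout
            (by rwa [QuadraticMap.polar_add_left, htc, add_zero])
          have e2 := hsing (p + t + s) (add_mem (add_mem hp (ht ▸ sub_mem hr (B.smul_mem _ hp))) hs)
            (fun e => hout (by simpa using sub_mem e hsS))
            (by rwa [QuadraticMap.polar_add_left, QuadraticMap.polar_add_left, htc, hsc, add_zero, add_zero])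
          rw [QuadraticMap.map_add (Q : QuadraticMap F V F) (p + t) s, e1, (hperpS s hsS hsc).1,
            QuadraticMap.polar_add_left, hps, QuadraticMap.polar_comm _ t s] at e2
          linear_combination e2
        · have e1 := hsing _ (sub_mem hp (ht ▸ sub_mem hr (B.smul_mem _ hp))) hout
            (by rwa [QuadraticMap.polar_sub_left, htc, sub_zero])
          have e2 := hsing (p - t + s) (add_mem (sub_mem hp (ht ▸ sub_mem hr (B.smul_mem _ hp))) hs)
            (fun e => hout (by simpa using sub_mem e hsS))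
            (by rwa [QuadraticMap.polar_add_left, QuadraticMap.polar_sub_left, htc, hsc, sub_zero, add_zero])
          rw [QuadraticMap.map_add (Q : QuadraticMap F V F) (p - t) s, e1, (hperpS s hsS hsc).1,
            QuadraticMap.polar_sub_left, hps, QuadraticMap.polar_comm _ t s] at e2
          linear_combination -e2
    -- vectors of `S` perpendicular to `c` vanish, so `S` is the line of `c`
    have hS1 : ∀ s ∈ S, polar Q s c = 0 → s = 0 :=
      fun s hs hsc => h.ndB s hs.1 (hperpN s hs.1 hsc hs)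
    have hQc : Q c ≠ 0 := fun e => hc0 (hS1 c hcS (by rw [polar_self_two, e, mul_zero]))
    obtain ⟨T, hT⟩ : ∃ T, T = B ⊓ LinearMap.ker (pLin Q c) := ⟨_, rfl⟩
    have hTd : 2 ≤ Module.finrank F T := by
      have := finrank_le_inf_ker B (pLin Q c)
      have := h.dimB
      rw [hT]; omega
    obtain ⟨t, htT, ht0, htne⟩ : ∃ t ∈ T, t ≠ 0 ∧ Q (c + t) ≠ 0 := by
      by_contra hall
      push Not at hall
      obtain ⟨t, ht, ht0⟩ := T.exists_mem_ne_zero_of_ne_bot (fun e => by rw [e, finrank_bot] at hTd; omega)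
      have htc : ∀ t ∈ T, polar Q c t = 0 := fun t ht => by
        rw [hT] at ht; rw [QuadraticMap.polar_comm]; exact ht.2
      have hval : ∀ t ∈ T, t ≠ 0 → Q t = -Q c := fun t ht ht0 => by
        have := hall t ht ht0
        rw [QuadraticMap.map_add (Q : QuadraticMap F V F) c t, htc t ht, add_zero] at this
        linear_combination this
      obtain ⟨t', ht', hind⟩ : ∃ t' ∈ T, t' ∉ F ∙ t := by
        by_contra hh
        push Not at hh
        have := Submodule.finrank_mono (fun x hx => hh x hx : T ≤ F ∙ t)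
        rw [finrank_span_singleton ht0] at this
        omega
      have n1 : t' ≠ 0 := fun e => hind (e ▸ Submodule.zero_mem _)
      have n2 : t + t' ≠ 0 := fun e => hind (by
        rw [eq_neg_of_add_eq_zero_right e]; exact Submodule.neg_mem _ (Submodule.mem_span_singleton_self t))
      have n3 : t - t' ≠ 0 := fun e => hind (by
        rw [← sub_eq_zero.1 e]; exact Submodule.mem_span_singleton_self t)
      have a1 := hval _ (add_mem ht ht') n2
      have a2 := hval _ (sub_mem ht ht') n3
      rw [QuadraticMap.map_add (Q : QuadraticMap F V F) t t', hval t ht ht0, hval t' ht' n1] at a1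
      rw [sub_eq_add_neg, QuadraticMap.map_add (Q : QuadraticMap F V F) t (-t'), QuadraticMap.map_neg,
        hval t ht ht0, hval t' ht' n1, QuadraticMap.polar_neg_right] at a2
      exact hQc ((mul_eq_zero.1 (show 2 * Q c = 0 by linear_combination -a1 - a2)).resolve_left h2)
    rw [hT] at htT
    have htc : polar Q t c = 0 := htT.2
    have hmem := hoff (c + t) (add_mem hc htT.1) htne (by
      rw [QuadraticMap.polar_add_left, htc, add_zero, polar_self_two]; exact mul_ne_zero h2 hQc)
    have : t ∈ S := by simpa using sub_mem hmem hcS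
    exact ht0 (hS1 t this htc)
  have hfull : Full M u := by
    intro z hz
    obtain ⟨zA, hzA, zB, hzB, rfl⟩ := h.decomp z
    have hzA' : polar Q u zA = 0 := by
      rwa [QuadraticMap.polar_add_right, h.perp u hu zB hzB, add_zero] at hz
    rw [siegel_add Q hQu hzA' (h.perp u hu zB hzB)]
    exact mul_mem (h.memA hu hzA) (hBS hzB).2
  -- the opposite point
  have hQp : Q (u + v) = 1 := by
    rw [QuadraticMap.map_add (Q : QuadraticMap F V F) u v, hQu, hQv, huv, zero_add, zero_add]
  have hp0 : Q (u + v) ≠ 0 := hQp ▸ one_ne_zero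
  have hy0 : Q y₁ ≠ 0 := hQy₁ ▸ one_ne_zero
  have hk := h.refl_pair (Or.inl (add_mem hu hv)) (Or.inl hy₁) hp0 hy0 (hQp.trans hQy₁.symm)
  have e1 : reflEquiv Q (u + v) hp0 (reflEquiv Q y₁ hy0 u) = -v := by
    rw [reflEquiv_fix Q y₁ hy0 (by rw [QuadraticMap.polar_comm]; exact hy₁u), reflEquiv_apply, hQp,
      QuadraticMap.polar_add_left, polar_self_of_singular Q hQu, QuadraticMap.polar_comm _ v u, huv]
    module
  have hfv := hfull.conj hk
  rw [show ((⟨reflEquiv Q (u + v) hp0, reflEquiv_mem Q (u + v) hp0⟩ * ⟨reflEquiv Q y₁ hy0, reflEquiv_mem Q y₁ hy0⟩ :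
      quadIsoms Q)).1 u = -v from e1] at hfv
  exact commutator_le_of_pair h.sep h.five hfull hfv hQu (by rw [QuadraticMap.map_neg, hQv])
    (by rw [QuadraticMap.polar_neg_right, huv, neg_ne_zero]; exact one_ne_zero)

/-- the stabiliser is maximal -/
theorem dichotomy (hlt : Module.finrank F B < Module.finrank F A) (hle : ¬ commutator (quadIsoms Q) ≤ M)
    {g : quadIsoms Q} (hg : g ∈ M) :
    ∀ x ∈ A, g.1 x ∈ A := by
  classical
  have h2 := h.two
  have hno : ∀ u ∈ A, Q u = 0 → u ≠ 0 → ∀ w, polar Q u w = 0 → siegel Q u w ∈ M → w ∈ A :=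
    fun u hu hQu hu0 w huw hM => by_contra fun hw => hle (h.le_of_siegel hu hQu hu0 huw hw hM)
  have hconj : ∀ k ∈ M, ∀ {a b : V}, a ∈ A → b ∈ A → siegel Q (k.1 a) (k.1 b) ∈ M := fun k hk a b ha hb => by
    rw [← siegel_conj]
    exact mul_mem (mul_mem hk (h.memA ha hb)) (inv_mem hk)
  have hconjB : ∀ k ∈ M, ∀ {a b : V}, a ∈ B → b ∈ B → siegel Q (k.1 a) (k.1 b) ∈ M := fun k hk a b ha hb => by
    rw [← siegel_conj]
    exact mul_mem (mul_mem hk (h.memB ha hb)) (inv_mem hk)
  -- an element keeping one singular vector of `A` in `A` stabilises `A`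
  have hstab : ∀ k ∈ M, ∀ u ∈ A, Q u = 0 → u ≠ 0 → k.1 u ∈ A → ∀ x ∈ A, k.1 x ∈ A := by
    intro k hk u hu hQu hu0 hku
    obtain ⟨w, hw⟩ : ∃ w, w = k.1 u := ⟨_, rfl⟩
    rw [← hw] at hku
    have hQw : Q w = 0 := by rw [hw, k.2, hQu]
    have hw0 : w ≠ 0 := fun e => hu0 (k.1.injective (by rw [← hw, e, map_zero]))
    have hP : ∀ x ∈ A, polar Q u x = 0 → k.1 x ∈ A := fun x hx hux =>
      hno w hku hQw hw0 _ (by rw [hw, polar_map, hux]) (hw ▸ hconj k hk hu hx)
    obtain ⟨K, hK⟩ : ∃ K, K = A ⊓ LinearMap.ker (pLin Q u) := ⟨_, rfl⟩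
    have hKmem : ∀ x ∈ K, x ∈ A ∧ polar Q u x = 0 := fun x hx => by
      rw [hK] at hx; exact ⟨hx.1, by rw [QuadraticMap.polar_comm]; exact hx.2⟩
    have hKeq : K.map k.1.toLinearMap = A ⊓ LinearMap.ker (pLin Q w) := by
      refine Submodule.eq_of_le_of_finrank_le ?_ ?_
      · rintro _ ⟨x, hx, rfl⟩
        obtain ⟨hxA, hux⟩ := hKmem x hx
        exact ⟨hP x hxA hux, show polar Q (k.1 x) w = 0 by rw [hw, polar_map, QuadraticMap.polar_comm, hux]⟩
      · rw [← (Submodule.equivMapOfInjective _ k.1.injective K).finrank_eq]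
        have hlt : Module.finrank F (A ⊓ LinearMap.ker (pLin Q w) : Submodule F V) < Module.finrank F A := by
          refine Submodule.finrank_lt_finrank_of_lt (lt_of_le_of_ne inf_le_left fun e => hw0 (h.ndA w hku ?_))
          intro y hy
          rw [← e] at hy
          rw [QuadraticMap.polar_comm]; exact hy.2
        have := finrank_le_inf_ker A (pLin Q u)
        rw [hK]
        omega
    -- the image of `B`
    have hB : ∀ z ∈ B, ∃ l : F, ∃ z' ∈ B, k.1 z = z' + l • w := by
      intro z hz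
      obtain ⟨zA, hzA, z', hz', he⟩ := h.decomp (k.1 z)
      obtain ⟨v, hv, hwv⟩ := h.ndA.exists_partner hku hw0
      refine ⟨polar Q zA v, z', hz', ?_⟩
      rw [← he, ← h.ndA.prop_of_perp hku hv hwv hzA fun x hx hwx => ?_]
      · abel
      · obtain ⟨x', hx', rfl⟩ : x ∈ K.map k.1.toLinearMap := by
          rw [hKeq]; exact ⟨hx, show polar Q x w = 0 by rw [QuadraticMap.polar_comm]; exact hwx⟩
        have e1 : polar Q (k.1 z) (k.1 x') = 0 := by rw [polar_map]; exact h.perp' hz (hKmem x' hx').1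
        rw [← he, QuadraticMap.polar_add_left, (show polar Q z' (k.1 x') = 0 from h.perp' hz' hx), add_zero] at e1
        exact e1
    have hsing : ∀ b ∈ B, Q b = 0 → k.1 b ∈ B := by
      intro b hb hQb
      rcases eq_or_ne b 0 with rfl | hb0
      · rw [map_zero]; exact B.zero_mem
      obtain ⟨c, hc, hbc, hQc⟩ := h.ndB.exists_aniso_perp h.dimB hb hb0
      obtain ⟨l, b', hb', hkb⟩ := hB b hb
      obtain ⟨m, c', hc', hkc⟩ := hB c hc
      have hwb : polar Q w b' = 0 := h.perp w hku b' hb'
      have hwc : polar Q w c' = 0 := h.perp w hku c' hc'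
      have hQb' : Q b' = 0 := by
        have e := k.2 b
        rw [hkb, quad_map_add_smul, hQw, QuadraticMap.polar_comm _ b' w, hwb, hQb] at e
        linear_combination e
      have hQc' : Q c' = Q c := by
        have e := k.2 c
        rw [hkc, quad_map_add_smul, hQw, QuadraticMap.polar_comm _ c' w, hwc] at e
        linear_combination e
      have hbc' : polar Q b' c' = 0 := by
        have e := polar_map k b c
        rw [hkb, hkc, QuadraticMap.polar_add_left, QuadraticMap.polar_add_right, QuadraticMap.polar_add_right,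
          QuadraticMap.polar_smul_left, QuadraticMap.polar_smul_left, QuadraticMap.polar_smul_right,
          QuadraticMap.polar_smul_right, hwc, QuadraticMap.polar_comm _ b' w, hwb,
          polar_self_of_singular Q hQw, hbc] at e
        simpa using e
      obtain ⟨β, hβ⟩ : ∃ β, β = l • c' - (l * Q c' + m) • b' := ⟨_, rfl⟩
      have hβB : β ∈ B := hβ ▸ sub_mem (B.smul_mem _ hc') (B.smul_mem _ hb')
      have hwβ : polar Q w β = 0 := h.perp w hku β hβB
      have hkb' : Q (k.1 b) = 0 := by rw [k.2, hQb]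
      have hkp : polar Q (k.1 b) (k.1 c) = 0 := by rw [polar_map, hbc]
      have e : siegel Q (k.1 b) (k.1 c) = siegel Q w β * siegel Q b' c' := by
        refine quadIsoms_ext Q fun z => ?_
        show _ = (siegel Q w β).1 ((siegel Q b' c').1 z)
        rw [siegel_apply Q hkb' hkp, siegel_apply Q hQb' hbc', map_sub, map_add, map_smul, map_smul,
          siegel_apply Q hQw hwβ z, siegel_apply Q hQw hwβ c', siegel_apply Q hQw hwβ b']
        have q1 : Q β = l * l * Q c' := by
          rw [hβ, sub_eq_add_neg, ← neg_smul, quad_map_add_smul, quad_smul, hQb',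
            QuadraticMap.polar_smul_left, QuadraticMap.polar_comm _ c' b', hbc']
          simp
        have q2 : polar Q β b' = 0 := by
          rw [hβ, QuadraticMap.polar_sub_left, QuadraticMap.polar_smul_left, QuadraticMap.polar_smul_left,
            QuadraticMap.polar_comm _ c' b', hbc', polar_self_of_singular Q hQb']
          simp
        have q3 : polar Q β c' = 2 * l * Q c' := by
          rw [hβ, QuadraticMap.polar_sub_left, QuadraticMap.polar_smul_left, QuadraticMap.polar_smul_left,
            polar_self_two, hbc']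
          simp only [smul_eq_mul]
          ring
        have q4 : polar Q β z = l * polar Q c' z - (l * Q c' + m) * polar Q b' z := by
          rw [hβ, QuadraticMap.polar_sub_left, QuadraticMap.polar_smul_left, QuadraticMap.polar_smul_left]
          simp only [smul_eq_mul]
        rw [hwc, hwb, q1, q2, q3, q4, hkb, hkc, quad_map_add_smul, hQw, QuadraticMap.polar_comm _ c' w, hwc,
          QuadraticMap.polar_add_left, QuadraticMap.polar_add_left, QuadraticMap.polar_smul_left,
          QuadraticMap.polar_smul_left, hβ]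
        simp only [smul_eq_mul]
        module
      have hβM : siegel Q w β ∈ M := by
        have h1 := hconjB k hk hb hc
        rw [e] at h1
        exact (Subgroup.mul_mem_cancel_right M (h.memB hb' hc')).1 h1
      have hβ0 : β = 0 := h.ndA β (hno w hku hQw hw0 β hwβ hβM) fun y hy => h.perp' hβB hy
      have hl : l = 0 := by
        have e1 : polar Q β c' = 0 := by rw [hβ0, QuadraticMap.polar_zero_left]
        rw [hβ, QuadraticMap.polar_sub_left, QuadraticMap.polar_smul_left, QuadraticMap.polar_smul_left,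
          polar_self_two, hbc', smul_zero, sub_zero, smul_eq_mul, mul_eq_zero] at e1
        exact e1.resolve_right (mul_ne_zero h2 (hQc' ▸ hQc))
      rw [hkb, hl, zero_smul, add_zero]
      exact hb'
    have hBB : ∀ z ∈ B, k.1 z ∈ B := by
      intro z hz
      rcases eq_or_ne (Q z) 0 with hQz | hQz
      · exact hsing z hz hQz
      obtain ⟨b, hb, hb0, hQb⟩ := exists_singular_in (Q := Q) (W := B) h.dimB
      obtain ⟨b', hb', hQb', hbb'⟩ := h.ndB.exists_opposite hb hb0 hQb
      obtain ⟨r, hr, hQr, hrz⟩ : ∃ r ∈ B, Q r = 0 ∧ polar Q r z ≠ 0 := by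
        by_cases p1 : polar Q b z ≠ 0
        · exact ⟨b, hb, hQb, p1⟩
        by_cases p2 : polar Q b' z ≠ 0
        · exact ⟨b', hb', hQb', p2⟩
        push Not at p1 p2
        refine ⟨b + (-Q z) • b' + z, add_mem (add_mem hb (B.smul_mem _ hb')) hz, ?_, ?_⟩
        · rw [QuadraticMap.map_add (Q : QuadraticMap F V F) (b + (-Q z) • b') z, quad_map_add_smul, hQb, hQb',
            hbb', QuadraticMap.polar_add_left, QuadraticMap.polar_smul_left, p1, p2]
          simp
        · rw [QuadraticMap.polar_add_left, QuadraticMap.polar_add_left, QuadraticMap.polar_smul_left, p1, p2,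
            smul_zero, zero_add, zero_add, polar_self_two]
          exact mul_ne_zero h2 hQz
      obtain ⟨s, hs⟩ : ∃ s, s = -Q z / polar Q r z := ⟨_, rfl⟩
      have hQzs : Q (z + s • r) = 0 := by
        rw [quad_map_add_smul, hQr, QuadraticMap.polar_comm _ z r, hs, div_mul_cancel₀ _ hrz]; ring
      have := sub_mem (hsing _ (add_mem hz (B.smul_mem s hr)) hQzs) (B.smul_mem s (hsing r hr hQr))
      simpa using this
    intro x hx
    obtain ⟨xA, hxA, xB, hxB, he⟩ := h.decomp (k.1 x)
    have hsurj := (LinearMap.injective_iff_surjective (f := k.1.toLinearMap.restrict hBB)).1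
      (fun a b e => Subtype.ext (k.1.injective (congrArg Subtype.val e)))
    have : xB = 0 := h.ndB xB hxB fun y hy => by
      obtain ⟨⟨y', hy'⟩, e⟩ := hsurj ⟨y, hy⟩
      have e' : k.1 y' = y := congrArg Subtype.val e
      have e1 := polar_map k x y'
      rw [e', h.perp x hx y' hy', ← he, QuadraticMap.polar_add_left, h.perp xA hxA y hy, zero_add] at e1
      exact e1
    rw [← he, this, add_zero]
    exact hxA
  by_contra hmove
  push Not at hmove
  obtain ⟨x₀, hx₀, hgx₀⟩ := hmove
  have hout : ∀ u ∈ A, Q u = 0 → u ≠ 0 → g.1 u ∉ A := fun u hu hQu hu0 e =>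
    hgx₀ (hstab g hg u hu hQu hu0 e x₀ hx₀)
  -- singular vectors of `A` go into `B`
  have hsingAB : ∀ u ∈ A, Q u = 0 → g.1 u ∈ B := by
    intro u hu hQu
    rcases eq_or_ne u 0 with rfl | hu0
    · rw [map_zero]; exact B.zero_mem
    obtain ⟨uA, huA, uB, huB, he⟩ := h.decomp (g.1 u)
    by_contra hgB
    have huA0 : uA ≠ 0 := fun e => hgB (by rw [← he, e, zero_add]; exact huB)
    have huB0 : uB ≠ 0 := fun e => hout u hu hQu hu0 (by rw [← he, e, add_zero]; exact huA)
    have hQgu : Q (g.1 u) = 0 := by rw [g.2, hQu]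
    have pA : ∀ y ∈ A, polar Q (g.1 u) y = polar Q uA y := fun y hy => by
      rw [← he, QuadraticMap.polar_add_left, h.perp' huB hy, add_zero]
    obtain ⟨s, hs, hs0, hQs⟩ := exists_singular_in (Q := Q) (W := A ⊓ LinearMap.ker (pLin Q uA)) (by
      have := finrank_le_inf_ker A (pLin Q uA)
      have := h.dimA
      omega)
    have hsA : s ∈ A := hs.1
    have hsu : polar Q s uA = 0 := hs.2
    obtain ⟨c, ⟨⟨hc, hcu⟩, hcs⟩, hcl⟩ : ∃ c ∈ A ⊓ LinearMap.ker (pLin Q u) ⊓
        LinearMap.ker (pLin Q ((g⁻¹).1 s)), c ∉ F ∙ u := by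
      by_contra hh
      push Not at hh
      have := Submodule.finrank_mono (fun x hx => hh x hx :
        A ⊓ LinearMap.ker (pLin Q u) ⊓ LinearMap.ker (pLin Q ((g⁻¹).1 s)) ≤ F ∙ u)
      rw [finrank_span_singleton hu0] at this
      have := finrank_le_inf_ker A (pLin Q u)
      have := finrank_le_inf_ker (A ⊓ LinearMap.ker (pLin Q u)) (pLin Q ((g⁻¹).1 s))
      have := h.dimA
      omega
    have hcu' : polar Q u c = 0 := by rw [QuadraticMap.polar_comm]; exact hcu
    have hgcs : polar Q (g.1 c) s = 0 := by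
      rw [← apply_inv g s, polar_map]; exact hcs
    have hguc : polar Q (g.1 u) (g.1 c) = 0 := by rw [polar_map, hcu']
    have hX := hconj g hg hu hc
    have hfix : (siegel Q (g.1 u) (g.1 c)).1 s = s := by
      rw [siegel_apply Q hQgu hguc, pA s hsA, QuadraticMap.polar_comm _ uA s, hsu, hgcs]
      simp
    have hXA := hstab _ hX s hsA hQs hs0 (by rw [hfix]; exact hsA)
    obtain ⟨y₀, hy₀, huy₀⟩ := h.ndA.exists_partner huA huA0
    obtain ⟨t, ht⟩ : ∃ t, t = polar Q (g.1 c) y₀ + Q c := ⟨_, rfl⟩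
    obtain ⟨c', hc'⟩ : ∃ c', c' = g.1 c - t • g.1 u := ⟨_, rfl⟩
    obtain ⟨cA, hcA, cB, hcB, hce⟩ := h.decomp (g.1 c)
    have hkey : ∀ y ∈ A, polar Q uA y • cB = (polar Q (g.1 c) y + Q c * polar Q uA y) • uB := by
      intro y hy
      have h1 := hXA y hy
      rw [siegel_apply Q hQgu hguc, pA y hy, g.2 c] at h1
      obtain ⟨d, hd⟩ : ∃ d, d = polar Q uA y • cB - (polar Q (g.1 c) y + Q c * polar Q uA y) • uB := ⟨_, rfl⟩
      have hdB : d ∈ B := hd ▸ sub_mem (B.smul_mem _ hcB) (B.smul_mem _ huB)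
      have hdA : d ∈ A := by
        have h3 := sub_mem (sub_mem h1 hy) (sub_mem (A.smul_mem (polar Q uA y) hcA)
          (A.smul_mem (polar Q (g.1 c) y + Q c * polar Q uA y) huA))
        have e : d = y + polar Q uA y • g.1 c - (polar Q (g.1 c) y + Q c * polar Q uA y) • g.1 u - y -
            (polar Q uA y • cA - (polar Q (g.1 c) y + Q c * polar Q uA y) • uA) := by
          rw [hd]
          conv_rhs => arg 1; arg 1; arg 1; arg 2; rw [← hce]
          conv_rhs => arg 1; arg 1; arg 2; rw [← he]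
          module
        rw [e]
        exact h3
      exact sub_eq_zero.1 (hd ▸ h.ndA d hdA fun z hz => h.perp' hdB hz)
    have hcB' : cB = t • uB := by
      have := hkey y₀ hy₀
      rwa [huy₀, one_smul, mul_one, ← ht] at this
    have hc'A : c' = cA - t • uA := by
      rw [hc', ← hce, ← he, hcB']; module
    have hc'v : c' = -(Q c) • uA := by
      refine sub_eq_zero.1 (h.ndA _ (sub_mem (hc'A ▸ sub_mem hcA (A.smul_mem _ huA)) (A.smul_mem _ huA))
        fun y hy => ?_)
      have h1 := hkey y hy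
      rw [hcB', smul_smul, ← sub_eq_zero, ← sub_smul, smul_eq_zero] at h1
      have h1' := h1.resolve_right huB0
      rw [QuadraticMap.polar_sub_left, hc', QuadraticMap.polar_sub_left, QuadraticMap.polar_smul_left,
        QuadraticMap.polar_smul_left, pA y hy, smul_eq_mul, smul_eq_mul]
      linear_combination -h1'
    have hQc' : Q c' = Q c := by
      rw [hc', sub_eq_add_neg, ← neg_smul, quad_map_add_smul, g.2, g.2, hQu, polar_map,
        (show polar Q c u = 0 from hcu)]
      ring
    have hpc : polar Q (g.1 u) c' = 0 := by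
      rw [hc', QuadraticMap.polar_sub_right, hguc, QuadraticMap.polar_smul_right,
        polar_self_of_singular Q hQgu, smul_zero, sub_zero]
    have hc'mem : c' ∈ A := hc'v ▸ A.smul_mem _ huA
    rw [pA c' hc'mem, hc'v, QuadraticMap.polar_smul_right, polar_self_two, smul_eq_mul, mul_eq_zero] at hpc
    rcases hpc with hQc | hQuA
    · have h0 : c' = 0 := by rw [hc'v, hQc, zero_smul]
      rw [hc', ← map_smul, ← map_sub, LinearEquiv.map_eq_zero_iff, sub_eq_zero] at h0
      exact hcl (Submodule.mem_span_singleton.2 ⟨t, h0.symm⟩)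
    · rw [hc'v, quad_smul, (mul_eq_zero.1 hQuA).resolve_left h2, mul_zero] at hQc'
      have h0 : c' = 0 := by rw [hc'v, ← hQc', neg_zero, zero_smul]
      rw [hc', ← map_smul, ← map_sub, LinearEquiv.map_eq_zero_iff, sub_eq_zero] at h0
      exact hcl (Submodule.mem_span_singleton.2 ⟨t, h0.symm⟩)
  -- so `A` goes into `B`
  have hAB : ∀ x ∈ A, g.1 x ∈ B := by
    intro z hz
    rcases eq_or_ne (Q z) 0 with hQz | hQz
    · exact hsingAB z hz hQz
    obtain ⟨b, hb, hb0, hQb⟩ := exists_singular_in (Q := Q) (W := A) (by have := h.dimA; omega)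
    obtain ⟨b', hb', hQb', hbb'⟩ := h.ndA.exists_opposite hb hb0 hQb
    obtain ⟨r, hr, hQr, hrz⟩ : ∃ r ∈ A, Q r = 0 ∧ polar Q r z ≠ 0 := by
      by_cases p1 : polar Q b z ≠ 0
      · exact ⟨b, hb, hQb, p1⟩
      by_cases p2 : polar Q b' z ≠ 0
      · exact ⟨b', hb', hQb', p2⟩
      push Not at p1 p2
      refine ⟨b + (-Q z) • b' + z, add_mem (add_mem hb (A.smul_mem _ hb')) hz, ?_, ?_⟩
      · rw [QuadraticMap.map_add (Q : QuadraticMap F V F) (b + (-Q z) • b') z, quad_map_add_smul, hQb, hQb',
          hbb', QuadraticMap.polar_add_left, QuadraticMap.polar_smul_left, p1, p2]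
        simp
      · rw [QuadraticMap.polar_add_left, QuadraticMap.polar_add_left, QuadraticMap.polar_smul_left, p1, p2,
          smul_zero, zero_add, zero_add, polar_self_two]
        exact mul_ne_zero h2 hQz
    obtain ⟨s, hs⟩ : ∃ s, s = -Q z / polar Q r z := ⟨_, rfl⟩
    have hQzs : Q (z + s • r) = 0 := by
      rw [quad_map_add_smul, hQr, QuadraticMap.polar_comm _ z r, hs, div_mul_cancel₀ _ hrz]; ring
    have := sub_mem (hsingAB _ (add_mem hz (A.smul_mem s hr)) hQzs) (B.smul_mem s (hsingAB r hr hQr))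
    simpa using this
  have hsumdim : Module.finrank F A ≤ Module.finrank F B := LinearMap.finrank_le_finrank_of_injective
    (f := g.1.toLinearMap.restrict hAB) fun a b e => Subtype.ext (g.1.injective (congrArg Subtype.val e))
  omega

end Pair

end CfsgLib.Geom.NondegOdd
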