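import Mathlib
import Cfsg.Agent.Lib.Geom.NegOne
import Cfsg.Agent.Lib.Geom.FormClass

set_option autoImplicit false

/-!
`Ω_{2m+1}(q)`, `q` odd, has trivial centre and at least `m` classes of involutions.
-/

namespace CfsgLib.Geom

open QuadraticMap (polar)
open Matrix

variable {F : Type*} [Field F] {ι : Type} [Fintype ι] [DecidableEq ι]

/-- The linear map of an isometry matrix. -/
noncomputable def isoLin {Q : (ι → F) → F} (g : Cfsg.isometryGroup F Q) : (ι → F) →ₗ[F] (ι → F) :=
  Matrix.toLin' ((g : Matrix.GeneralLinearGroup ι F) : Matrix ι ι F)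

theorem isoLin_mul {Q : (ι → F) → F} (g h : Cfsg.isometryGroup F Q) (z : ι → F) :
    isoLin (g * h) z = isoLin g (isoLin h z) := by
  simp [isoLin, Matrix.mulVec_mulVec]

theorem isoLin_one {Q : (ι → F) → F} (z : ι → F) : isoLin (1 : Cfsg.isometryGroup F Q) z = z := by
  simp [isoLin]

theorem isoLin_ext {Q : (ι → F) → F} {g h : Cfsg.isometryGroup F Q}
    (e : ∀ z, isoLin g z = isoLin h z) : g = h :=
  Subtype.ext (Units.ext (Matrix.toLin'.injective (LinearMap.ext e)))

theorem isoLin_injective {Q : (ι → F) → F} (g : Cfsg.isometryGroup F Q) :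
    Function.Injective (isoLin g) := fun a b h => by
  have := congrArg (isoLin g⁻¹) h
  rwa [← isoLin_mul, ← isoLin_mul, inv_mul_cancel, isoLin_one, isoLin_one] at this

theorem wordVal_eq (Q : QuadraticForm F (ι → F)) (L : List {v : ι → F // Q v ≠ 0})
    (hp : (L.map fun v => Q v.1).prod ≠ 0) :
    wordVal Q L = (Multiplicative.ofAdd (L.length : ZMod 2), sqClass hp) := by
  induction L with
  | nil => exact Prod.ext rfl ((sqClass_eq_one_iff hp).2 ⟨1, by simp⟩).symm
  | cons v M ih =>
    have hp' : (M.map fun v => Q v.1).prod ≠ 0 := fun h => hp (by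
      rw [List.map_cons, List.prod_cons, h, mul_zero])
    rw [wordVal, List.map_cons, List.prod_cons, ← wordVal, ih hp']
    refine Prod.ext ?_ ?_
    · show Multiplicative.ofAdd (1 : ZMod 2) * Multiplicative.ofAdd (M.length : ZMod 2) = _
      rw [← ofAdd_add, List.length_cons, Nat.cast_succ, add_comm]
    · show sqClass v.2 * sqClass hp' = _
      rw [← sqClass_mul]
      rfl

theorem wordVal_eq_one (Q : QuadraticForm F (ι → F)) (L : List {v : ι → F // Q v ≠ 0})
    (he : Even L.length) (hsq : IsSquare (L.map fun v => Q v.1).prod) : wordVal Q L = 1 := by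
  have hp : (L.map fun v => Q v.1).prod ≠ 0 := by
    simp only [Ne, List.prod_eq_zero_iff, List.mem_map, not_exists, not_and]
    exact fun v _ h => v.2 h
  rw [wordVal_eq Q L hp, ZMod.natCast_eq_zero_iff_even.2 he, (sqClass_eq_one_iff hp).2 hsq]
  rfl

theorem exists_omega_word [Finite F] (Q : QuadraticForm F (ι → F))
    (hQ : ∀ x, (∀ y, polar Q x y = 0) → x = 0) (h2 : (2 : F) ≠ 0)
    (L : List {v : ι → F // Q v ≠ 0}) (hL : wordVal Q L = 1) :
    ∃ g ∈ Cfsg.Omega F (⇑Q), ∀ z, isoLin g z = reflWord Q L z := by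
  have hm : reflWord Q L ∈ quadIsoms Q := by
    refine list_prod_mem fun x hx => ?_
    obtain ⟨v, -, rfl⟩ := List.mem_map.1 hx
    exact reflEquiv_mem Q v.1 v.2
  have hz : ∀ z, ((orEquiv Q ⟨_, hm⟩ : Cfsg.isometryGroup F (⇑Q)) :
      Matrix.GeneralLinearGroup ι F).val *ᵥ z = reflWord Q L z := fun z => orEquiv_mulVec Q _ z
  refine ⟨orEquiv Q ⟨_, hm⟩, ?_, fun z => by rw [isoLin, Matrix.toLin'_apply]; exact hz z⟩
  rw [omega_eq_ker_spinorHom Q hQ (exGen_of_odd h2), MonoidHom.mem_ker,
    spinorHom_prod_list Q hQ _ L _ hz, hL]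

/-- A vector negated by the product of two orthogonal reflections lies in their plane. -/
theorem mem_span_of_negated (Q : QuadraticForm F (ι → F)) (h2 : (2 : F) ≠ 0) {u v w : ι → F}
    (hu : Q u ≠ 0) (hv : Q v ≠ 0) (hw : reflEquiv Q u hu (reflEquiv Q v hv w) = -w) :
    ∃ a b : F, w = a • u + b • v := by
  rw [reflEquiv_apply, reflEquiv_apply] at hw
  refine ⟨(2 : F)⁻¹ * ((Q u)⁻¹ * polar Q u (w - ((Q v)⁻¹ * polar Q v w) • v)),
    (2 : F)⁻¹ * ((Q v)⁻¹ * polar Q v w), ?_⟩
  rw [mul_smul (2 : F)⁻¹, mul_smul (2 : F)⁻¹, ← smul_add, eq_inv_smul_iff₀ h2, two_smul]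
  generalize (Q u)⁻¹ * polar Q u (w - ((Q v)⁻¹ * polar Q v w) • v) = a at hw ⊢
  generalize (Q v)⁻¹ * polar Q v w = b at hw ⊢
  have h := congrArg (fun x => x + (a • u + b • v) + w) hw
  rw [show w - b • v - a • u + (a • u + b • v) + w = w + w by abel,
    show -w + (a • u + b • v) + w = a • u + b • v by abel] at h
  exact h

/-- Products of reflections at an orthogonal family act diagonally. -/
theorem reflWord_orth_apply {κ : Type*} [DecidableEq κ] (Q : QuadraticForm F (ι → F)) (b : κ → ι → F)
    (hbQ : ∀ i, Q (b i) ≠ 0) (hb : ∀ i j, i ≠ j → polar Q (b i) (b j) = 0) (l : List κ)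
    (hnd : l.Nodup) (j : κ) :
    reflWord Q (l.map fun i => ⟨b i, hbQ i⟩) (b j) = if j ∈ l then -b j else b j := by
  induction l with
  | nil => simp [reflWord]
  | cons i l ih =>
    rw [List.nodup_cons] at hnd
    rw [List.map_cons, show ∀ (v : {v : ι → F // Q v ≠ 0}) M, reflWord Q (v :: M) =
      reflEquiv Q v.1 v.2 * reflWord Q M from fun v M => by simp [reflWord],
      LinearEquiv.mul_apply, ih hnd.2]
    by_cases hij : j = i
    · subst hij
      simp [hnd.1, reflEquiv_self]
    · have h0 : polar Q (b i) (b j) = 0 := hb i j (Ne.symm hij)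
      by_cases hjl : j ∈ l
      · simp [hjl, reflEquiv_fix _ _ _ h0]
      · simp [hjl, hij, reflEquiv_fix _ _ _ h0]

/-- In odd dimension `2m + 1 ≥ 5` the centre of `Ω` is trivial and there are `m` pairwise non-conjugate
involutions. -/
theorem omega_odd_center_and_involutions [Finite F] (Q : QuadraticForm F (ι → F))
    (hQ : ∀ x, (∀ y, polar Q x y = 0) → x = 0) (h2 : (2 : F) ≠ 0) {m : ℕ} (hm : 2 ≤ m)
    (hcard : Fintype.card ι = 2 * m + 1) :
    Subgroup.center (Cfsg.Omega F (⇑Q)) = ⊥ ∧
      ∃ x : Fin m → Cfsg.Omega F (⇑Q), (∀ i, orderOf (x i) = 2) ∧ ∀ i j, IsConj (x i) (x j) → i = j := by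
  classical
  obtain ⟨b, d, hd, hb, hbv⟩ := exists_normal_basis Q h2 hQ (n := 2 * m)
    (by rw [Module.finrank_fintype_fun_eq_card, hcard])
  have hbQ : ∀ i, Q (b i) ≠ 0 := fun i => by rw [hbv]; split <;> simp [hd]
  have hone : ∀ i : Fin (2 * m + 1), (i : ℕ) < 2 * m → Q (b i) = 1 := fun i hi => by
    rw [hbv, if_neg]; intro h; rw [h, Fin.val_last] at hi; omega
  have hsmall : ∀ (i : Fin (2 * m + 1)), ∃ j k : Fin (2 * m + 1), (j : ℕ) < 2 * m ∧ (k : ℕ) < 2 * m ∧
      j ≠ i ∧ k ≠ i ∧ j ≠ k := by
    intro i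
    rcases (by omega : (i : ℕ) = 0 ∨ (i : ℕ) = 1 ∨ 2 ≤ (i : ℕ)) with h | h | h
    · exact ⟨⟨1, by omega⟩, ⟨2, by omega⟩, show 1 < _ by omega, show 2 < _ by omega,
        by simp [Fin.ext_iff]; omega, by simp [Fin.ext_iff]; omega, by simp⟩
    · exact ⟨⟨0, by omega⟩, ⟨2, by omega⟩, show 0 < _ by omega, show 2 < _ by omega,
        by simp [Fin.ext_iff]; omega, by simp [Fin.ext_iff]; omega, by simp⟩
    · exact ⟨⟨0, by omega⟩, ⟨1, by omega⟩, show 0 < _ by omega, show 1 < _ by omega,
        by simp [Fin.ext_iff]; omega, by simp [Fin.ext_iff]; omega, by simp⟩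
  have hrepr : ∀ i j, b.repr (b i) j = if i = j then 1 else 0 := fun i j => by
    rw [Module.Basis.repr_self, Finsupp.single_apply]
  refine ⟨?_, ?_⟩
  · rw [Subgroup.eq_bot_iff_forall]
    intro z hz
    have hcomm : ∀ L : List {v : ι → F // Q v ≠ 0}, wordVal Q L = 1 → ∀ w,
        isoLin z.1 (reflWord Q L w) = reflWord Q L (isoLin z.1 w) := by
      intro L hL w
      obtain ⟨g, hg, hgw⟩ := exists_omega_word Q hQ h2 L hL
      have h : g * z.1 = z.1 * g := congrArg Subtype.val (Subgroup.mem_center_iff.1 hz ⟨g, hg⟩)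
      rw [← hgw, ← hgw, ← isoLin_mul, ← isoLin_mul, h]
    have hzQ : ∀ w, Q (isoLin z.1 w) = Q w := fun w => by
      simpa [isoLin] using (mem_isometryGroup_iff _ _).1 z.1.2 w
    have hzP : ∀ u w, polar Q (isoLin z.1 u) (isoLin z.1 w) = polar Q u w := fun u w => by
      simp only [QuadraticMap.polar, ← map_add, hzQ]
    have hplane : ∀ {u v : ι → F} (hu : Q u ≠ 0) (hv : Q v ≠ 0), IsSquare (Q u * Q v) →
        polar Q u v = 0 → ∃ p r : F, isoLin z.1 u = p • u + r • v := by
      intro u v hu hv hsq huv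
      refine mem_span_of_negated Q h2 hu hv ?_
      have h := hcomm [⟨u, hu⟩, ⟨v, hv⟩]
        (wordVal_eq_one Q _ (by simp) (by simpa using hsq)) u
      have hu' : reflWord Q [⟨u, hu⟩, ⟨v, hv⟩] u = -u := by
        simp [reflWord, reflEquiv_fix Q v hv (by rw [QuadraticMap.polar_comm, huv] : polar Q v u = 0),
          reflEquiv_self]
      rw [hu', map_neg] at h
      rw [h]; simp [reflWord]
    -- each of the first `2m` basis vectors is an eigenvector
    have heig : ∀ a : Fin (2 * m + 1), (a : ℕ) < 2 * m → ∃ s : F, isoLin z.1 (b a) = s • b a := by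
      intro a ha
      obtain ⟨j, k, hj, hk, hja, hka, hjk⟩ := hsmall a
      obtain ⟨p, r, h1⟩ := hplane (hbQ a) (hbQ j) ⟨1, by rw [hone a ha, hone j hj]⟩ (hb a j hja.symm)
      obtain ⟨p', r', h1'⟩ := hplane (hbQ a) (hbQ k) ⟨1, by rw [hone a ha, hone k hk]⟩ (hb a k hka.symm)
      have h := congrArg (fun w => b.repr w j) (h1.symm.trans h1')
      simp [hrepr, hja.symm, hjk.symm] at h
      exact ⟨p, by rw [h1, h, zero_smul, add_zero]⟩
    choose s hs using heig
    let a0 : Fin (2 * m + 1) := ⟨0, by omega⟩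
    have ha0 : (a0 : ℕ) < 2 * m := show 0 < 2 * m by omega
    -- all signs agree
    have hsame : ∀ (a : Fin (2 * m + 1)) (ha : (a : ℕ) < 2 * m), s a ha = s a0 ha0 := by
      intro a ha
      by_cases haz : a = a0
      · subst haz; rfl
      -- two further indices
      obtain ⟨p, r, hp, hr, hpa, hpa0, hra, hra0, hpr⟩ : ∃ p r : Fin (2 * m + 1), (p : ℕ) < 2 * m ∧
          (r : ℕ) < 2 * m ∧ p ≠ a ∧ p ≠ a0 ∧ r ≠ a ∧ r ≠ a0 ∧ p ≠ r := by
        have ha1 : 1 ≤ (a : ℕ) := by
          have : (a : ℕ) ≠ 0 := fun h => haz (Fin.ext h)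
          omega
        rcases (by omega : (a : ℕ) = 1 ∨ (a : ℕ) = 2 ∨ 3 ≤ (a : ℕ)) with h | h | h
        · exact ⟨⟨2, by omega⟩, ⟨3, by omega⟩, show 2 < _ by omega, show 3 < _ by omega,
            by simp [Fin.ext_iff]; omega, by simp [a0], by simp [Fin.ext_iff]; omega, by simp [a0], by simp⟩
        · exact ⟨⟨1, by omega⟩, ⟨3, by omega⟩, show 1 < _ by omega, show 3 < _ by omega,
            by simp [Fin.ext_iff]; omega, by simp [a0], by simp [Fin.ext_iff]; omega, by simp [a0], by simp⟩
        · exact ⟨⟨1, by omega⟩, ⟨2, by omega⟩, show 1 < _ by omega, show 2 < _ by omega,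
            by simp [Fin.ext_iff]; omega, by simp [a0], by simp [Fin.ext_iff]; omega, by simp [a0], by simp⟩
      have hQd : ∀ i j : Fin (2 * m + 1), (i : ℕ) < 2 * m → (j : ℕ) < 2 * m → i ≠ j →
          Q (b i - b j) = 2 := by
        intro i j hi hj hij
        rw [sub_eq_add_neg, QuadraticMap.map_add Q, QuadraticMap.map_neg, QuadraticMap.polar_neg_right,
          hone i hi, hone j hj, hb i j hij]
        ring
      have h1 : Q (b a0 - b a) ≠ 0 := by rw [hQd a0 a ha0 ha (Ne.symm haz)]; exact h2
      have h1' : Q (b p - b r) ≠ 0 := by rw [hQd p r hp hr hpr]; exact h2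
      have h := hcomm [⟨_, h1⟩, ⟨_, h1'⟩] (wordVal_eq_one Q _ (by simp)
        (by simp [hQd a0 a ha0 ha (Ne.symm haz), hQd p r hp hr hpr])) (b a)
      have e1 : reflEquiv Q (b p - b r) h1' (b a) = b a := reflEquiv_fix _ _ _ (by
        simp [QuadraticMap.polar_sub_left, hb p a hpa, hb r a hra])
      have e2 : reflEquiv Q (b a0 - b a) h1 (b a) = b a0 :=
        reflEquiv_sub Q (by rw [hone a ha, hone a0 ha0]) h1
      have e3 : reflWord Q [⟨_, h1⟩, ⟨_, h1'⟩] (b a) = b a0 := by simp [reflWord, e1, e2]
      rw [e3, hs a0 ha0, hs a ha, map_smul, e3] at h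
      have := congrArg (fun w => b.repr w a0) h
      simpa [hrepr] using this.symm
    set S := s a0 ha0 with hS
    -- the last vector
    let la : Fin (2 * m + 1) := Fin.last (2 * m)
    have hS0 : S ≠ 0 := fun h0 => by
      have h := hs a0 ha0
      rw [← hS, h0, zero_smul] at h
      exact b.ne_zero a0 (isoLin_injective z.1 (h.trans (map_zero _).symm))
    have hne : ∀ j : Fin (2 * m + 1), (j : ℕ) < 2 * m → j ≠ la := fun j hj h => by
      subst h; simp [la] at hj
    obtain ⟨t, ht⟩ : ∃ t, isoLin z.1 (b la) = t • b la := by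
      refine ⟨b.repr (isoLin z.1 (b la)) la, ?_⟩
      conv_lhs => rw [← b.sum_repr (isoLin z.1 (b la))]
      refine Finset.sum_eq_single la (fun j _ hj => ?_) (by simp)
      have hj' : (j : ℕ) < 2 * m := by
        have : (j : ℕ) ≠ 2 * m := fun h => hj (Fin.ext h)
        have := j.2
        omega
      have h := hzP (b la) (b j)
      rw [hs j hj', hsame j hj', hb la j (Ne.symm hj), QuadraticMap.polar_smul_right] at h
      have h0 : polar Q (isoLin z.1 (b la)) (b j) = 0 := by simpa [hS0] using h
      suffices b.repr (isoLin z.1 (b la)) j = 0 by rw [this, zero_smul]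
      have hcalc : polar Q (isoLin z.1 (b la)) (b j) = b.repr (isoLin z.1 (b la)) j * polar Q (b j) (b j) := by
        conv_lhs => rw [← b.sum_repr (isoLin z.1 (b la)), ← QuadraticMap.polarBilin_apply_apply]
        simp only [map_sum, map_smul, LinearMap.coe_sum, Finset.sum_apply, LinearMap.smul_apply,
          QuadraticMap.polarBilin_apply_apply, smul_eq_mul]
        exact Finset.sum_eq_single j (fun k _ hk => by rw [hb k j hk, mul_zero]) (by simp)
      rw [hcalc, polar_self_two] at h0
      simpa [h2, hbQ j] using h0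
    -- the sign of the last vector agrees
    obtain ⟨y, y', hy⟩ := exists_binary_eq h2 one_ne_zero one_ne_zero (-d)
    have hts : t = S := by
      let i1 : Fin (2 * m + 1) := ⟨1, by omega⟩
      let i2 : Fin (2 * m + 1) := ⟨2, by omega⟩
      let i3 : Fin (2 * m + 1) := ⟨3, by omega⟩
      have l1 : (i1 : ℕ) < 2 * m := show 1 < 2 * m by omega
      have l2 : (i2 : ℕ) < 2 * m := show 2 < 2 * m by omega
      have l3 : (i3 : ℕ) < 2 * m := show 3 < 2 * m by omega
      have n01 : a0 ≠ i1 := by simp [a0, i1]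
      have n02 : a0 ≠ i2 := by simp [a0, i2]
      have n03 : a0 ≠ i3 := by simp [a0, i3]
      have n12 : i1 ≠ i2 := by simp [i1, i2]
      have n13 : i1 ≠ i3 := by simp [i1, i3]
      have n23 : i2 ≠ i3 := by simp [i2, i3]
      obtain ⟨v, hv⟩ : ∃ v, v = b a0 + y • b i2 + y' • b i3 + b la := ⟨_, rfl⟩
      have hQv : Q v = 1 := by
        rw [hv, QuadraticMap.map_add Q, quad_map_add_smul, quad_map_add_smul,
          QuadraticMap.polar_add_left, QuadraticMap.polar_add_left, QuadraticMap.polar_smul_left,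
          QuadraticMap.polar_add_left, QuadraticMap.polar_smul_left, QuadraticMap.polar_smul_left,
          hone a0 ha0, hone i2 l2, hone i3 l3, hbv la, if_pos rfl, hb a0 i2 n02, hb a0 i3 n03,
          hb i2 i3 n23, hb a0 la (hne a0 ha0), hb i2 la (hne i2 l2), hb i3 la (hne i3 l3)]
        simp only [smul_eq_mul, mul_zero, add_zero]
        linear_combination hy
      have hvb : polar Q v (b i1) = 0 := by
        rw [hv]
        simp [QuadraticMap.polar_add_left, hb a0 i1 n01, hb i2 i1 n12.symm, hb i3 i1 n13.symm,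
          hb la i1 (hne i1 l1).symm]
      obtain ⟨p, r, h1⟩ := hplane (by rw [hQv]; exact one_ne_zero) (hbQ i1)
        ⟨1, by rw [hQv, hone i1 l1]⟩ hvb
      rw [hv, map_add, map_add, map_add, map_smul, map_smul, hs a0 ha0, hs i2 l2, hs i3 l3,
        hsame i2 l2, hsame i3 l3, ht] at h1
      have e0 := congrArg (fun w => b.repr w a0) h1
      have el := congrArg (fun w => b.repr w la) h1
      simp [hrepr, n01.symm, n02.symm, n03.symm, (hne a0 ha0).symm] at e0
      simp [hrepr, hne a0 ha0, hne i1 l1, hne i2 l2, hne i3 l3] at el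
      rw [el, hS]; exact e0.symm
    have hall : isoLin z.1 = S • LinearMap.id := b.ext fun i => by
      simp only [LinearMap.smul_apply, LinearMap.id_apply]
      by_cases hi : (i : ℕ) < 2 * m
      · rw [hs i hi, hsame i hi]
      · have : i = la := Fin.ext (by have := i.2; simp [la]; omega)
        rw [this, ht, hts]
    have hdet := congrArg LinearMap.det hall
    rw [isoLin, LinearMap.det_toLin', LinearMap.det_smul, LinearMap.det_id, mul_one,
      Module.finrank_fintype_fun_eq_card, hcard] at hdet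
    have hz1 : Matrix.det ((z.1 : Matrix.GeneralLinearGroup ι F) : Matrix ι ι F) = 1 :=
      congrArg Units.val (omega_le_special Q z.2)
    rw [hz1] at hdet
    have hS2 : S * S = 1 := by
      have h := hzQ (b a0)
      rwa [hs a0 ha0, quad_smul, hone a0 ha0, mul_one] at h
    have hS1 : S = 1 := by
      rw [pow_succ, pow_mul, pow_two, hS2, one_pow, one_mul] at hdet
      exact hdet.symm
    refine Subtype.ext (isoLin_ext fun w => ?_)
    rw [hall, hS1, one_smul]
    exact (isoLin_one w).symm
  · let L : Fin m → List (Fin (2 * m + 1)) := fun j =>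
      (List.finRange (2 * m + 1)).filter fun i => decide ((i : ℕ) < 2 * ((j : ℕ) + 1))
    have hmem : ∀ j i, i ∈ L j ↔ (i : ℕ) < 2 * ((j : ℕ) + 1) := fun j i => by simp [L]
    have hnd : ∀ j, (L j).Nodup := fun j => (List.nodup_finRange _).filter _
    have hlen : ∀ j, (L j).length = 2 * ((j : ℕ) + 1) := by
      intro j
      rw [← List.toFinset_card_of_nodup (hnd j)]
      have hj := j.2
      have : (L j).toFinset = (Finset.range (2 * ((j : ℕ) + 1))).attach.map
          ⟨fun i => ⟨i.1, by have := Finset.mem_range.1 i.2; omega⟩,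
            fun i k h => Subtype.ext (Fin.ext_iff.1 h)⟩ := by
        ext i
        simp only [List.mem_toFinset, hmem, Finset.mem_map, Finset.mem_attach, true_and, Subtype.exists,
          Finset.mem_range]
        exact ⟨fun h => ⟨i, h, rfl⟩, by rintro ⟨a, ha, rfl⟩; exact ha⟩
      rw [this, Finset.card_map, Finset.card_attach, Finset.card_range]
    have hx : ∀ j : Fin m, ∃ g ∈ Cfsg.Omega F (⇑Q),
        ∀ i, isoLin g (b i) = if (i : ℕ) < 2 * ((j : ℕ) + 1) then -b i else b i := by
      intro j
      obtain ⟨g, hg, hgz⟩ := exists_omega_word Q hQ h2 ((L j).map fun i => ⟨b i, hbQ i⟩) (by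
        refine wordVal_eq_one Q _ (by simp [hlen]) ⟨1, ?_⟩
        rw [one_mul, List.prod_eq_one]
        simp only [List.mem_map]
        rintro x ⟨y, ⟨i, hi, rfl⟩, rfl⟩
        exact hone i (by have := (hmem j i).1 hi; have := j.2; omega))
      refine ⟨g, hg, fun i => ?_⟩
      rw [hgz, reflWord_orth_apply Q b hbQ hb _ (hnd j)]
      simp [hmem]
    choose g hg hgb using hx
    refine ⟨fun j => ⟨g j, hg j⟩, fun j => orderOf_eq_prime ?_ ?_, fun i j hij => ?_⟩
    · rw [pow_two]
      refine Subtype.ext (isoLin_ext fun w => ?_)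
      have : (isoLin (g j)).comp (isoLin (g j)) = LinearMap.id := b.ext fun i => by
        simp only [LinearMap.comp_apply, hgb]
        split_ifs with h <;> simp [hgb, h]
      show isoLin (g j * g j) w = isoLin 1 w
      rw [isoLin_mul, isoLin_one]
      exact LinearMap.congr_fun this w
    · intro h
      have h0 := hgb j ⟨0, by omega⟩
      rw [show g j = 1 from congrArg Subtype.val h, isoLin_one, if_pos (by simp)] at h0
      have := congrArg (fun w => b.repr w ⟨0, by omega⟩) h0
      simp [hrepr] at this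
      exact h2 (by linear_combination this)
    · obtain ⟨c, hc⟩ := isConj_iff.1 hij
      have hc' : c.1 * g i = g j * c.1 := by
        have := congrArg Subtype.val (mul_inv_eq_iff_eq_mul.1 hc)
        simpa using this
      -- eigenspaces for `-1`
      have hN : ∀ k, LinearMap.ker (isoLin (g k) + LinearMap.id) =
          Submodule.span F (b '' {a | (a : ℕ) < 2 * ((k : ℕ) + 1)}) := by
        intro k
        refine le_antisymm (fun w hw => ?_) (Submodule.span_le.2 ?_)
        · rw [Module.Basis.mem_span_image]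
          intro a ha
          simp only [Finset.mem_coe, Finsupp.mem_support_iff] at ha
          by_contra hna
          apply ha
          have hrep : ∀ w, b.repr (isoLin (g k) w) a = b.repr w a := by
            intro w
            have : ((b.coord a).comp (isoLin (g k))) = b.coord a := b.ext fun i => by
              simp only [LinearMap.comp_apply, Module.Basis.coord_apply, hgb]
              split_ifs with h
              · have : i ≠ a := fun e => hna (e ▸ h)
                simp [hrepr, this]
              · rfl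
            exact LinearMap.congr_fun this w
          have := congrArg (fun x => b.repr x a) (LinearMap.mem_ker.1 hw)
          simp [hrep] at this
          have h' : 2 * b.repr w a = 0 := by linear_combination this
          simpa [h2] using h'
        · rintro _ ⟨a, ha, rfl⟩
          simp [LinearMap.mem_ker, hgb, show (a : ℕ) < 2 * ((k : ℕ) + 1) from ha]
      have hdim : ∀ k, Module.finrank F (LinearMap.ker (isoLin (g k) + LinearMap.id)) =
          2 * ((k : ℕ) + 1) := by
        intro k
        rw [hN, Set.image_eq_range]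
        refine (finrank_span_eq_card (b.linearIndependent.comp _ Subtype.val_injective)).trans ?_
        refine Eq.trans ?_ ((List.toFinset_card_of_nodup (hnd k)).trans (hlen k))
        rw [← Fintype.card_coe]
        exact Fintype.card_congr (Equiv.subtypeEquivRight fun a => by simp [hmem])
      have hle : ∀ (p r : Fin m) (c : Cfsg.isometryGroup F (⇑Q)), c * g p = g r * c →
          2 * ((p : ℕ) + 1) ≤ 2 * ((r : ℕ) + 1) := by
        intro p r c hc
        rw [← hdim p, ← hdim r]
        let f : LinearMap.ker (isoLin (g p) + LinearMap.id) →ₗ[F]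
            LinearMap.ker (isoLin (g r) + LinearMap.id) := (isoLin c).restrict fun w hw => by
          simp only [LinearMap.mem_ker, LinearMap.add_apply, LinearMap.id_apply] at hw ⊢
          rw [← isoLin_mul, ← hc, isoLin_mul, ← map_add, hw, map_zero]
        exact LinearMap.finrank_le_finrank_of_injective (f := f)
          fun a a' h => Subtype.ext (isoLin_injective c (congrArg Subtype.val h))
      have h1 := hle i j c.1 hc'
      have h2' := hle j i c.1⁻¹ (by rw [inv_mul_eq_iff_eq_mul, ← mul_assoc, hc', mul_inv_cancel_right])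
      exact Fin.ext (by omega)

end CfsgLib.Geom
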