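import Mathlib
import Cfsg.Agent.Lib.Geom.Solubilizer
import Cfsg.Agent.Lib.Geom.InvolGraph

set_option autoImplicit false

/-!
The solubilizer of an involution of `PSL_2(2^n)`.
-/

namespace CfsgLib.Geom.Moebius

open Matrix
open scoped MatrixGroups
open MulAction (stabilizer)

variable {F : Type*} [Field F] [Fintype F]

local notation "PSL2" => ProjectiveSpecialLinearGroup (Fin 2) F
local notation "ψ" => Matrix.ProjectiveSpecialLinearGroup.toPGL (n := Fin 2) (R := F)

theorem closure_dihedral_solvable {G : Type*} [Group G] {a b : G} (ha : a * a = 1) (hb : b * b = 1) :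
    Group.IsSolvable (Subgroup.closure ({a, b} : Set G)) := by
  set H := Subgroup.closure ({a, b} : Set G)
  set c := a * b
  have hai : a⁻¹ = a := inv_eq_of_mul_eq_one_right ha
  have hbi : b⁻¹ = b := inv_eq_of_mul_eq_one_right hb
  have hN : ∀ g ∈ H, g * c * g⁻¹ = c ∨ g * c * g⁻¹ = c⁻¹ := by
    intro g hg
    induction hg using Subgroup.closure_induction with
    | mem g hg =>
      right
      rcases hg with rfl | rfl
      · simp only [c, _root_.mul_inv_rev, hai, hbi, ← mul_assoc, ha, one_mul]
      · simp only [c, _root_.mul_inv_rev, hai, hbi, mul_assoc, hb, mul_one]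
    | one => left; group
    | mul g h _ _ hg hh =>
      rcases hh with e | e <;> rw [show g * h * c * (g * h)⁻¹ = g * (h * c * h⁻¹) * g⁻¹ by group, e]
      · exact hg
      · rw [← conj_inv]
        rcases hg with e' | e' <;> rw [e']
        · exact Or.inr rfl
        · exact Or.inl (inv_inv c)
    | inv g _ hg =>
      rcases hg with e | e
      · left
        calc g⁻¹ * c * g⁻¹⁻¹ = g⁻¹ * (g * c * g⁻¹) * g⁻¹⁻¹ := by rw [e]
          _ = c := by group
      · right
        calc g⁻¹ * c * g⁻¹⁻¹ = g⁻¹ * (g * c * g⁻¹)⁻¹ * g⁻¹⁻¹ := by rw [e]; group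
          _ = c⁻¹ := by group
  let N : Subgroup H := (Subgroup.zpowers c).subgroupOf H
  have hn : N.Normal := ⟨fun n hn g => by
    obtain ⟨m, hm⟩ := Subgroup.mem_zpowers_iff.1 (Subgroup.mem_subgroupOf.1 hn)
    refine Subgroup.mem_subgroupOf.2 ?_
    simp only [Subgroup.coe_mul, InvMemClass.coe_inv, ← hm, ← conj_zpow]
    rcases hN g.1 g.2 with e | e <;> rw [e]
    · exact Subgroup.zpow_mem _ (Subgroup.mem_zpowers c) m
    · exact Subgroup.zpow_mem _ (inv_mem (Subgroup.mem_zpowers c)) m⟩
  have hgen : ∀ q : H ⧸ N, q ∈ Subgroup.zpowers (QuotientGroup.mk (⟨a, Subgroup.subset_closure (Set.mem_insert _ _)⟩ : H)) := by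
    intro q
    obtain ⟨⟨g, hg⟩, rfl⟩ := QuotientGroup.mk_surjective q
    induction hg using Subgroup.closure_induction with
    | mem g hg =>
      rcases hg with rfl | rfl
      · exact Subgroup.mem_zpowers _
      · refine ⟨1, ?_⟩
        show (QuotientGroup.mk _ : H ⧸ N) ^ (1 : ℤ) = _
        rw [_root_.zpow_one]
        exact QuotientGroup.eq.2 (Subgroup.mem_subgroupOf.2 (show a⁻¹ * g ∈ Subgroup.zpowers c by
          rw [hai]; exact Subgroup.mem_zpowers c))
    | one => exact one_mem _
    | mul g h _ _ hg hh => exact mul_mem hg hh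
    | inv g _ hg => exact inv_mem hg
  have : IsCyclic (H ⧸ N) := ⟨_, hgen⟩
  have : IsCyclic N := (Subgroup.subgroupOfEquivOfLe
    (Subgroup.zpowers_le.2 (mul_mem (Subgroup.subset_closure (Set.mem_insert _ _))
      (Subgroup.subset_closure (Set.mem_insert_of_mem _ rfl))) : Subgroup.zpowers c ≤ H)).isCyclic.2 inferInstance
  have : Group.IsSolvable N := isSolvable_of_comm fun a b => mul_comm' a b
  have : Group.IsSolvable (H ⧸ N) := isSolvable_of_comm fun a b => mul_comm' a b
  exact solvable_of_ker_le_range N.subtype (QuotientGroup.mk' N) (by rw [QuotientGroup.ker_mk', Subgroup.range_subtype])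

/-- Involutions generate a solvable group with their products too. -/
theorem mem_solSet_invol {G : Type*} [Group G] {x y : G} (hx : x * x = 1)
    (hy : y * y = 1 ∨ x * y * (x * y) = 1) : y ∈ solSet x := by
  rcases hy with hy | hy
  · exact closure_dihedral_solvable hx hy
  · have := closure_dihedral_solvable hx hy
    refine mem_solSet_of_le (K := Subgroup.closure ({x, x * y} : Set G)) (Subgroup.subset_closure (Set.mem_insert _ _)) ?_
    have hm : x * (x * y) ∈ Subgroup.closure ({x, x * y} : Set G) :=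
      mul_mem (Subgroup.subset_closure (Set.mem_insert _ _)) (Subgroup.subset_closure (Set.mem_insert_of_mem _ rfl))
    rwa [← mul_assoc, hx, one_mul] at hm

/-- The number of involutions is the index of a centraliser. -/
theorem ncard_involutions {x : PSL2} (hx : orderOf x = 2) :
    {y : PSL2 | y * y = 1 ∧ y ≠ 1}.ncard = (Subgroup.centralizer ({x} : Set PSL2)).index := by
  have e : {y : PSL2 | y * y = 1 ∧ y ≠ 1} = MulAction.orbit (ConjAct PSL2) x := by
    ext y
    constructor
    · rintro ⟨h1, h2⟩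
      obtain ⟨g, hg⟩ := isConj_iff.1 (isConj_involutions hx (orderOf_eq_prime (p := 2) (by rw [sq]; exact h1) h2))
      exact ⟨ConjAct.toConjAct g, hg⟩
    · rintro ⟨g, rfl⟩
      have ho : orderOf (g • x) = 2 := by
        show orderOf (ConjAct.ofConjAct g * x * (ConjAct.ofConjAct g)⁻¹) = 2
        refine Eq.trans ?_ hx
        exact orderOf_injective (MulAut.conj (ConjAct.ofConjAct g)).toMonoidHom (MulAut.conj _).injective x
      refine ⟨?_, fun e => by rw [show g • x = 1 from e, orderOf_one] at ho; omega⟩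
      have h := pow_orderOf_eq_one (g • x)
      rwa [ho, sq] at h
  rw [e, ← MulAction.index_stabilizer, ConjAct.stabilizer_eq_centralizer]
  rfl

theorem card_solSet_involution_even (h4 : 4 ≤ Fintype.card F) (heven : Even (Fintype.card F)) {x : PSL2}
    (hx : orderOf x = 2) : (solSet x).ncard = 3 * Fintype.card F * (Fintype.card F - 1) := by
  obtain ⟨E, _, _, f, hE, hQC⟩ := exists_quadExt F
  have := finite_pgl_two (F := F)
  have h2 : (2 : F) = 0 := by
    obtain ⟨p, hp⟩ := CharP.exists F
    obtain ⟨n, hprime, hn⟩ := FiniteField.card F p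
    have hp2 := ((Nat.prime_dvd_prime_iff_eq Nat.prime_two hprime).1
      (Nat.prime_two.dvd_of_dvd_pow (n := (n : ℕ)) (hn ▸ even_iff_two_dvd.1 heven)))
    subst hp2
    exact_mod_cast CharP.cast_eq_zero F 2
  have hsq : ∀ g : PSL2, g * g = 1 → ψ g * ψ g = 1 := fun g h => by rw [← map_mul, h, map_one]
  have hne : ∀ g : PSL2, g ≠ 1 → ψ g ≠ 1 := fun g h e =>
    h (Matrix.ProjectiveSpecialLinearGroup.toPGL_injective (e.trans (map_one _).symm))
  have hxx : x * x = 1 := by have h := pow_orderOf_eq_one x; rwa [hx, sq] at h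
  have hx1 : x ≠ 1 := fun e => by rw [e, orderOf_one] at hx; omega
  have hxi : x⁻¹ = x := inv_eq_of_mul_eq_one_right hxx
  obtain ⟨R, hR, hRu⟩ := involution_unique_fixed h2 (hsq x hxx) (hne x hx1)
  set B := {y : PSL2 | ψ y ∈ stabilizer PGL(2, F) R} with hB
  set C := Subgroup.centralizer ({x} : Set PSL2)
  have hCB : ∀ y ∈ C, y ∈ B := fun y hy => hRu _ (by
    rw [← mul_smul, ← map_mul, ← Subgroup.mem_centralizer_singleton_iff.1 hy, map_mul, mul_smul, hR])
  have hcC : Nat.card C = Fintype.card F := by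
    rcases card_centralizer_cases f hE hQC h4 x hx1 with h | ⟨k, hk, hd, -, -⟩
    · exact h
    · exfalso
      rw [hx] at hd
      rw [gcd_two_of_even heven, one_mul] at hk
      obtain ⟨i, hi⟩ := heven
      obtain ⟨j, hj⟩ := hd
      omega
  have hinvC : ∀ s : PSL2, s * s = 1 → s ∈ B → s ∈ C := by
    intro s hs hsB
    rw [Subgroup.mem_centralizer_singleton_iff]
    by_cases hs1 : s = 1
    · rw [hs1, one_mul, mul_one]
    refine Matrix.ProjectiveSpecialLinearGroup.toPGL_injective ?_
    rw [map_mul, map_mul]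
    obtain ⟨m, rfl⟩ := exists_map1 R
    have key : ∀ z : PGL(2, F), z • m • (inf : Line F) = m • inf → z * z = 1 →
        ∃ b, m⁻¹ * z * m = aff 1 b := by
      intro z hz hzz
      obtain ⟨a, b, hab⟩ := exists_aff_of_fix (g := m⁻¹ * z * m) (by rw [mul_smul, mul_smul, hz, inv_smul_smul])
      have e : aff (a * a) (a * b + b) = aff (1 : Fˣ) 0 := by
        rw [← aff_mul, ← hab, aff_one, show m⁻¹ * z * m * (m⁻¹ * z * m) = m⁻¹ * (z * z) * m by group, hzz]
        group
      exact ⟨b, by rw [hab, sq_eq_one_charTwo h2 (aff_inj e).1]⟩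
    obtain ⟨b, hb⟩ := key _ hR (hsq x hxx)
    obtain ⟨d, hd⟩ := key _ hsB (hsq s hs)
    have ec : m⁻¹ * ψ s * m * (m⁻¹ * ψ x * m) = m⁻¹ * ψ x * m * (m⁻¹ * ψ s * m) := by
      rw [hb, hd, aff_mul, aff_mul]; simp [add_comm]
    calc ψ s * ψ x = m * (m⁻¹ * ψ s * m * (m⁻¹ * ψ x * m)) * m⁻¹ := by group
      _ = ψ x * ψ s := by rw [ec]; group
  set I := {y : PSL2 | y * y = 1 ∧ y ≠ 1}
  set J := I \ (C : Set PSL2) with hJ
  have hJB : ∀ s ∈ J, s ∉ B := fun s hs hsB => hs.2 (hinvC s hs.1.1 hsB)
  have hsol : solSet x = B ∪ J ∪ (fun s => x * s) '' J := by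
    ext y
    constructor
    · intro h
      set H := Subgroup.closure ({x, y} : Set PSL2)
      have hxH : x ∈ H := Subgroup.subset_closure (Set.mem_insert _ _)
      have hyH : y ∈ H := Subgroup.subset_closure (Set.mem_insert_of_mem _ rfl)
      have : Group.IsSolvable H := h
      by_cases hyB : y ∈ B
      · exact Or.inl (Or.inl hyB)
      have hyC : y ∉ C := fun h => hyB (hCB y h)
      have hy1 : y ≠ 1 := fun e => hyC (e ▸ one_mem C)
      have hd : y * y = 1 ∨ x * y * (x * y) = 1 := by
        rcases solvable_cases H with hc | ⟨S, hS⟩ | ⟨n, hn, ⟨e⟩⟩ | ⟨h2', -⟩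
        · exact absurd (Subgroup.mem_centralizer_singleton_iff.2 (hc x hxH y hyH).symm) hyC
        · exact absurd (show ψ y • R = R by rw [← hRu S (hS x hxH)]; exact hS y hyH) hyB
        · exact ((dihedral_pair e hxH hyH).2 hxx).resolve_left
            fun e => hyC (Subgroup.mem_centralizer_singleton_iff.2 e.symm)
        · exact absurd h2 h2'
      rcases hd with hd | hd
      · exact Or.inl (Or.inr ⟨⟨hd, hy1⟩, hyC⟩)
      · refine Or.inr ⟨x * y, ⟨⟨hd, fun e => hyC ?_⟩, fun hc => hyC ?_⟩, by
          show x * (x * y) = y; rw [← mul_assoc, hxx, one_mul]⟩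
        · rw [show y = x * (x * y) by rw [← mul_assoc, hxx, one_mul], e, mul_one]
          exact Subgroup.mem_centralizer_singleton_iff.2 rfl
        · have hxC : x ∈ C := Subgroup.mem_centralizer_singleton_iff.2 rfl
          exact (mul_mem_cancel_left hxC).1 hc
    · rintro ((h | h) | ⟨s, hs, rfl⟩)
      · exact mem_solSet_fix hR h
      · exact mem_solSet_invol hxx (Or.inl h.1.1)
      · refine mem_solSet_invol hxx (Or.inr ?_)
        show x * (x * s) * (x * (x * s)) = 1
        rw [← mul_assoc x x s, hxx, one_mul]; exact hs.1.1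
  have hJ1 : Disjoint B J := Set.disjoint_left.2 fun y h1 h2 => hJB y h2 h1
  have hJ2 : Disjoint (B ∪ J) ((fun s => x * s) '' J) := by
    refine Set.disjoint_left.2 ?_
    rintro _ h ⟨s, hs, rfl⟩
    rcases h with h | h
    · refine hJB s hs ?_
      show ψ s • R = R
      have h' : ψ (x * s) • R = R := h
      rw [map_mul, mul_smul] at h'
      exact smul_left_cancel (ψ x) (h'.trans hR.symm)
    · refine h.2 (Subgroup.mem_centralizer_singleton_iff.2 ?_)
      have e1 : x * s * (x * s) = 1 := h.1.1
      have hsi : s⁻¹ = s := inv_eq_of_mul_eq_one_right hs.1.1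
      have e2 : x * s = s * x := by
        rw [mul_eq_one_iff_eq_inv, _root_.mul_inv_rev, hsi, hxi] at e1
        exact e1
      show x * s * x = x * (x * s)
      rw [mul_assoc, ← e2]
  have hIC : (I ∩ (C : Set PSL2)).ncard = Fintype.card F - 1 := by
    have e : I ∩ (C : Set PSL2) = (C : Set PSL2) \ {1} := by
      ext y
      constructor
      · rintro ⟨⟨-, h1⟩, h2⟩; exact ⟨h2, h1⟩
      · rintro ⟨hc, h1⟩
        refine ⟨⟨?_, h1⟩, hc⟩
        have hyB := hCB y hc
        obtain ⟨m, hm⟩ := exists_map1 R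
        refine Matrix.ProjectiveSpecialLinearGroup.toPGL_injective ?_
        rw [map_mul, map_one]
        obtain ⟨a, b, hab⟩ := exists_aff_of_fix (g := m⁻¹ * ψ y * m)
          (by rw [mul_smul, mul_smul, hm, show ψ y • R = R from hyB, ← hm, inv_smul_smul])
        obtain ⟨a', b', hab'⟩ := exists_aff_of_fix (g := m⁻¹ * ψ x * m)
          (by rw [mul_smul, mul_smul, hm, hR, ← hm, inv_smul_smul])
        have hx' : aff (a' * a') (a' * b' + b') = aff (1 : Fˣ) 0 := by
          rw [← aff_mul, ← hab', aff_one, show m⁻¹ * ψ x * m * (m⁻¹ * ψ x * m) = m⁻¹ * (ψ x * ψ x) * m by group,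
            hsq x hxx]
          group
        rw [sq_eq_one_charTwo h2 (aff_inj hx').1] at hab'
        have hb' : b' ≠ 0 := fun e => hne x hx1 (by
          rw [e, aff_one, mul_eq_one_iff_eq_inv, inv_mul_eq_iff_eq_mul, mul_inv_cancel] at hab'; exact hab')
        have ec : aff a b * aff 1 b' = aff 1 b' * aff a b := by
          rw [← hab, ← hab', show m⁻¹ * ψ y * m * (m⁻¹ * ψ x * m) = m⁻¹ * (ψ y * ψ x) * m by group, ← map_mul,
            Subgroup.mem_centralizer_singleton_iff.1 hc, map_mul]
          group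
        rw [aff_mul, aff_mul] at ec
        have e2 := (aff_inj ec).2
        simp only [Units.val_one, one_mul] at e2
        rw [show a = 1 from Units.ext (mul_right_cancel₀ hb' (show (a : F) * b' = 1 * b' by linear_combination e2))]
          at hab
        have e3 : aff 1 b * aff 1 b = (1 : PGL(2, F)) := by
          rw [aff_mul, mul_one, Units.val_one, one_mul, ← two_mul, h2, zero_mul, aff_one]
        rw [← hab] at e3
        calc ψ y * ψ y = m * (m⁻¹ * ψ y * m * (m⁻¹ * ψ y * m)) * m⁻¹ := by group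
          _ = 1 := by rw [e3]; group
    rw [e, Set.ncard_diff_singleton_of_mem (one_mem C), ← Nat.card_coe_set_eq]
    exact congrArg (· - 1) hcC
  have hI : I.ncard * Fintype.card F = (Fintype.card F + 1) * (Fintype.card F * (Fintype.card F - 1)) := by
    rw [ncard_involutions hx, ← hcC, (Subgroup.centralizer ({x} : Set PSL2)).index_mul_card, hcC]
    have := card_psl_two_split (F := F)
    rwa [gcd_two_of_even heven, one_mul] at this
  have hBc : B.ncard = Fintype.card F * (Fintype.card F - 1) := by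
    rw [hB, ncard_comap]
    have h := card_imL_two (F := F)
    rw [gcd_two_of_even heven, one_mul, ← card_pointStab_mul le_rfl R] at h
    exact Nat.eq_of_mul_eq_mul_left (Nat.succ_pos _) h
  have hJc : J.ncard + (Fintype.card F - 1) = I.ncard := by
    rw [hJ, ← hIC, add_comm, Set.ncard_inter_add_ncard_diff_eq_ncard]
  rw [hsol, Set.ncard_union_eq hJ2, Set.ncard_union_eq hJ1,
    Set.ncard_image_of_injective _ (mul_right_injective x), hBc]
  obtain ⟨r, hr⟩ : ∃ r, Fintype.card F = r + 1 := ⟨Fintype.card F - 1, by omega⟩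
  rw [hr, Nat.add_sub_cancel] at hI hJc ⊢
  have hI' : I.ncard = (r + 2) * r := Nat.eq_of_mul_eq_mul_right (show 0 < r + 1 by omega) (by rw [hI]; ring)
  have hJ' : J.ncard = (r + 1) * r := by rw [hI'] at hJc; linarith
  rw [hJ']; ring

end CfsgLib.Geom.Moebius
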