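import Mathlib
import Cfsg.Agent.Lib.Geom.SolubilizerEven
import Cfsg.Agent.Lib.Geom.SL2CJCard

set_option autoImplicit false

/-!
Solubilizers in `PSL_2(3^n)`, `n` odd.
-/

namespace CfsgLib.Geom.Moebius

open Matrix
open scoped MatrixGroups
open MulAction (stabilizer)
open SL2Anti (pr J0)

variable {F : Type*} [Field F] [Fintype F]

local notation "PSL2" => ProjectiveSpecialLinearGroup (Fin 2) F
local notation "ψ" => Matrix.ProjectiveSpecialLinearGroup.toPGL (n := Fin 2) (R := F)
local notation "M2" => Matrix (Fin 2) (Fin 2) F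

theorem mem_solSet_comm {G : Type*} [Group G] {x y : G} (h : x * y = y * x) : y ∈ solSet x := by
  have := Subgroup.isMulCommutative_closure (k := ({x, y} : Set G)) (by
    rintro a (rfl | rfl) b (rfl | rfl) <;> first | rfl | exact h | exact h.symm)
  exact isSolvable_of_comm fun a b => mul_comm' a b

theorem ncard_solSet_map {G : Type*} [Group G] (φ : G ≃* G) (x : G) : (solSet (φ x)).ncard = (solSet x).ncard := by
  have e : solSet (φ x) = φ '' solSet x := by
    ext y
    obtain ⟨z, rfl⟩ := φ.surjective y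
    rw [φ.injective.mem_set_image]
    show Group.IsSolvable (Subgroup.closure ({φ x, φ z} : Set G)) ↔
      Group.IsSolvable (Subgroup.closure ({x, z} : Set G))
    have e : Subgroup.closure ({φ x, φ z} : Set G) = (Subgroup.closure ({x, z} : Set G)).map φ.toMonoidHom := by
      rw [MonoidHom.map_closure, Set.image_pair]
      rfl
    let i := (Subgroup.closure ({x, z} : Set G)).equivMapOfInjective φ.toMonoidHom φ.injective
    rw [e]
    exact ⟨fun h => solvable_of_solvable_injective (f := i.toMonoidHom) i.injective,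
      fun h => solvable_of_solvable_injective (f := i.symm.toMonoidHom) i.symm.injective⟩
  rw [e, Set.ncard_image_of_injective _ φ.injective]

/-- An involution and an element of order three with product of order three generate a solvable group. -/
theorem mem_solSet_tetra {G : Type*} [Group G] {x y : G} (hx : x * x = 1) (hy : y ^ 3 = 1)
    (hxy : (x * y) ^ 3 = 1) : y ∈ solSet x := by
  set b := y * x * y⁻¹ with hb
  have hy' : y * (y * y) = 1 := by rw [← pow_three]; exact hy
  have hyi : y⁻¹ = y * y := inv_eq_of_mul_eq_one_right hy'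
  have hxi : x⁻¹ = x := inv_eq_of_mul_eq_one_right hx
  have hbb : b * b = 1 := by rw [hb, show y * x * y⁻¹ * (y * x * y⁻¹) = y * (x * x) * y⁻¹ by group, hx]; group
  have h3 : x * b * (y * b * y⁻¹) = 1 := by
    have e : x * y * (x * y * (x * y)) = 1 := by rw [← pow_three]; exact hxy
    rw [hb, show x * (y * x * y⁻¹) * (y * (y * x * y⁻¹) * y⁻¹) = x * y * (x * y * (x * (y⁻¹ * y⁻¹))) by group]
    rw [show y⁻¹ * y⁻¹ = y by rw [← _root_.mul_inv_rev, inv_eq_iff_eq_inv, hyi]]
    exact e
  have hc : y * b * y⁻¹ = b * x := by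
    rw [mul_eq_one_iff_inv_eq, _root_.mul_inv_rev, hxi, inv_eq_of_mul_eq_one_right hbb] at h3
    exact h3.symm
  have hcc : y * b * y⁻¹ * (y * b * y⁻¹) = 1 := by
    rw [show y * b * y⁻¹ * (y * b * y⁻¹) = y * (b * b) * y⁻¹ by group, hbb]; group
  have hcomm : x * b = b * x := by
    rw [hc] at hcc
    calc x * b = (b * x)⁻¹ := by rw [_root_.mul_inv_rev, hxi, inv_eq_of_mul_eq_one_right hbb]
      _ = b * x := inv_eq_of_mul_eq_one_right hcc
  set V := Subgroup.closure ({x, b} : Set G) with hV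
  have hxV : x ∈ V := Subgroup.subset_closure (Set.mem_insert _ _)
  have hbV : b ∈ V := Subgroup.subset_closure (Set.mem_insert_of_mem _ rfl)
  have := Subgroup.isMulCommutative_closure (k := ({x, b} : Set G)) (by
    rintro u (rfl | rfl) v (rfl | rfl) <;> first | rfl | exact hcomm | exact hcomm.symm)
  have hVs : Group.IsSolvable V := isSolvable_of_comm fun u v => mul_comm' u v
  have hx' : ∀ n ∈ V, x * n * x⁻¹ ∈ V := fun n hn => mul_mem (mul_mem hxV hn) (inv_mem hxV)
  have hy1 : ∀ n ∈ V, y * n * y⁻¹ ∈ V := by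
    intro n hn
    induction hn using Subgroup.closure_induction with
    | mem n hn =>
      rcases hn with rfl | rfl
      · exact hbV
      · rw [hc]; exact mul_mem hbV hxV
    | one => simp
    | mul g k _ _ hg hk =>
      rw [show y * (g * k) * y⁻¹ = y * g * y⁻¹ * (y * k * y⁻¹) by group]; exact mul_mem hg hk
    | inv g _ hg => rw [show y * g⁻¹ * y⁻¹ = (y * g * y⁻¹)⁻¹ by group]; exact inv_mem hg
  set H := Subgroup.closure ({x, y} : Set G) with hH
  have hxH : x ∈ H := Subgroup.subset_closure (Set.mem_insert _ _)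
  have hyH : y ∈ H := Subgroup.subset_closure (Set.mem_insert_of_mem _ rfl)
  have hnorm : ∀ g ∈ H, (∀ n ∈ V, g * n * g⁻¹ ∈ V) ∧ ∀ n ∈ V, g⁻¹ * n * g ∈ V := by
    intro g hg
    induction hg using Subgroup.closure_induction with
    | mem g hg =>
      rcases hg with rfl | rfl
      · exact ⟨hx', fun n hn => by have := hx' n hn; rwa [hxi] at this ⊢⟩
      · refine ⟨hy1, fun n hn => ?_⟩
        have := hy1 _ (hy1 n hn)
        have e : g⁻¹ * n * g = g * (g * n * g⁻¹) * g⁻¹ := by
          have e2 : g⁻¹ * g⁻¹ = g := by rw [← _root_.mul_inv_rev, inv_eq_iff_eq_inv, hyi]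
          calc g⁻¹ * n * g = g * g * n * (g⁻¹ * g⁻¹) := by rw [e2, hyi]
            _ = g * (g * n * g⁻¹) * g⁻¹ := by group
        rw [e]; exact this
    | one => simp
    | mul g k _ _ hg hk =>
      refine ⟨fun n hn => ?_, fun n hn => ?_⟩
      · rw [show g * k * n * (g * k)⁻¹ = g * (k * n * k⁻¹) * g⁻¹ by group]; exact hg.1 _ (hk.1 n hn)
      · rw [show (g * k)⁻¹ * n * (g * k) = k⁻¹ * (g⁻¹ * n * g) * k by group]; exact hk.2 _ (hg.2 n hn)
    | inv g _ hg => exact ⟨fun n hn => by rw [inv_inv]; exact hg.2 n hn, fun n hn => by rw [inv_inv]; exact hg.1 n hn⟩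
  have hle : V ≤ H := (Subgroup.closure_le H).2 (Set.insert_subset_iff.2
    ⟨hxH, Set.singleton_subset_iff.2 (mul_mem (mul_mem hyH hxH) (inv_mem hyH))⟩)
  let N : Subgroup H := V.subgroupOf H
  have hn : N.Normal := ⟨fun n hn g => Subgroup.mem_subgroupOf.2
    (by simpa using (hnorm g.1 g.2).1 _ (Subgroup.mem_subgroupOf.1 hn))⟩
  have hgen : ∀ q : H ⧸ N, q ∈ Subgroup.zpowers (QuotientGroup.mk (⟨y, hyH⟩ : H)) := by
    intro q
    obtain ⟨⟨g, hg⟩, rfl⟩ := QuotientGroup.mk_surjective q
    induction hg using Subgroup.closure_induction with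
    | mem g hg =>
      rcases hg with rfl | rfl
      · rw [(QuotientGroup.eq_one_iff _).2 (Subgroup.mem_subgroupOf.2 hxV : (⟨g, _⟩ : H) ∈ N)]; exact one_mem _
      · exact Subgroup.mem_zpowers _
    | one => exact one_mem _
    | mul g k _ _ hg hk => exact mul_mem hg hk
    | inv g _ hg => exact inv_mem hg
  have : IsCyclic (H ⧸ N) := ⟨_, hgen⟩
  have : Group.IsSolvable N :=
    solvable_of_solvable_injective (f := (Subgroup.subgroupOfEquivOfLe hle).toMonoidHom) (Subgroup.subgroupOfEquivOfLe hle).injective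
  have : Group.IsSolvable (H ⧸ N) := isSolvable_of_comm fun u v => mul_comm' u v
  exact solvable_of_ker_le_range N.subtype (QuotientGroup.mk' N) (by rw [QuotientGroup.ker_mk', Subgroup.range_subtype])

omit [Fintype F] in
theorem cube_eq (g : SL(2, F)) : ((g * g * g : SL(2, F)) : M2) =
    ((g : M2).trace * (g : M2).trace - 1) • (g : M2) - (g : M2).trace • (1 : M2) := by
  have hd := g.2
  rw [det_fin_two] at hd
  ext i j
  simp only [Matrix.SpecialLinearGroup.coe_mul, trace_fin_two]
  fin_cases i <;> fin_cases j <;> simp [Matrix.mul_apply, Fin.sum_univ_two]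
  · linear_combination (-(g : M2) 0 0 * 2 - (g : M2) 1 1) * hd
  · linear_combination (-(g : M2) 0 1) * hd
  · linear_combination (-(g : M2) 1 0) * hd
  · linear_combination (-(g : M2) 1 1 * 2 - (g : M2) 0 0) * hd

omit [Fintype F] in
theorem pr_cube (h2 : (2 : F) ≠ 0) {g : SL(2, F)} (h : (g : M2).trace * (g : M2).trace = 1) :
    (pr g : PSL2) ^ 3 = 1 := by
  rw [pow_three, ← map_mul, ← map_mul, ← mul_assoc, SL2Anti.pr_eq_one, SL2Anti.mem_center_iff_sign h2]
  have e := cube_eq g
  rw [h, sub_self, zero_smul, zero_sub] at e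
  rcases mul_self_eq_one_iff.1 h with h1 | h1 <;> rw [h1] at e
  · right; exact Subtype.ext (by rw [e]; simp)
  · left; exact Subtype.ext (by rw [e]; simp)

omit [Fintype F] in
theorem trace_of_cube (h3 : (3 : F) = 0) {g : SL(2, F)} (h : (pr g : PSL2) ^ 3 = 1) :
    (g : M2).trace * (g : M2).trace = 1 := by
  have h2 : (2 : F) ≠ 0 := fun e => one_ne_zero (α := F) (by linear_combination h3 - e)
  rw [pow_three, ← map_mul, ← map_mul, ← mul_assoc, SL2Anti.pr_eq_one, SL2Anti.mem_center_iff_sign h2] at h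
  obtain ⟨r, hr, e⟩ : ∃ r : F, r * r = 1 ∧ ((g * g * g : SL(2, F)) : M2) = r • (1 : M2) := by
    rcases h with h | h
    · exact ⟨1, one_mul 1, by rw [h]; simp⟩
    · exact ⟨-1, by ring, by rw [h]; simp⟩
  rw [cube_eq] at e
  set s := (g : M2).trace with hs
  by_contra hne
  have hd := g.2
  rw [det_fin_two] at hd
  have key : ∀ i j, (s * s - 1) * (g : M2) i j = (r + s) * (1 : M2) i j := fun i j => by
    have := congrFun (congrFun e i) j
    simp at this
    linear_combination this
  have h01 : (g : M2) 0 1 = 0 := (mul_eq_zero.1 (show (s * s - 1) * (g : M2) 0 1 = 0 by rw [key]; simp)).resolve_left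
    (sub_ne_zero.2 hne)
  have hab : (g : M2) 0 0 = (g : M2) 1 1 := mul_left_cancel₀ (sub_ne_zero.2 hne) (by rw [key, key]; simp)
  rw [h01, zero_mul, sub_zero, ← hab] at hd
  have hs' : s = (g : M2) 0 0 + (g : M2) 1 1 := trace_fin_two _
  rw [← hab] at hs'
  exact hne (by rw [hs']; linear_combination 4 * hd + h3)

omit [Fintype F] in
theorem sq_one_iff_trace (h2 : (2 : F) ≠ 0) {g : SL(2, F)} :
    ((pr g : PSL2) * pr g = 1 ∧ (pr g : PSL2) ≠ 1) ↔ (g : M2).trace = 0 := by
  rw [← map_mul, SL2Anti.pr_eq_one, ne_eq, SL2Anti.pr_eq_one, SL2Anti.mem_center_iff_sign h2,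
    SL2Anti.mem_center_iff_sign h2]
  constructor
  · rintro ⟨h | h, hn⟩
    · exact absurd (SL2Anti.eq_or_eq_neg_of_sq_one h2 h) hn
    · exact SL2Anti.trace_eq_zero_of_sq h
  · intro h
    refine ⟨Or.inr (SL2Anti.sq_eq_neg_one_of_trace h), ?_⟩
    rintro (rfl | rfl) <;> simp [trace_fin_two, ← two_mul] at h
    all_goals exact h2 (by linear_combination h)

theorem ncard_preimage_pr (h2 : (2 : F) ≠ 0) (s : Set PSL2) :
    ((pr : SL(2, F) → PSL2) ⁻¹' s).ncard = 2 * s.ncard := by
  rw [← Nat.card_coe_set_eq, ← Nat.card_coe_set_eq]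
  refine (Nat.card_congr (QuotientGroup.preimageMkEquivSubgroupProdSet (Subgroup.center SL(2, F)) s)).trans ?_
  rw [Nat.card_prod]
  congr 1
  rw [← SetLike.coe_sort_coe, Nat.card_coe_set_eq,
    show ((Subgroup.center SL(2, F) : Subgroup SL(2, F)) : Set SL(2, F)) = {1, -1} from
      Set.ext fun z => SL2Anti.mem_center_iff_sign h2,
    Set.ncard_pair (SL2Anti.one_ne_neg_one h2)]

theorem altFour_invol : ∀ a b : alternatingGroup (Fin 4),
    a * a = 1 → a ≠ 1 → a * b = b * a ∨ (b ^ 3 = 1 ∧ (a * b) ^ 3 = 1) := by decide +kernel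

/-- The hypotheses on `q = 3^n`, `n` odd. -/
structure Three (F : Type*) [Field F] [Fintype F] : Prop where
  h4 : 4 ≤ Fintype.card F
  hmod : Fintype.card F % 4 = 3
  h3 : (3 : F) = 0
  h24 : ¬ 24 ∣ Nat.card (ProjectiveSpecialLinearGroup (Fin 2) F)

variable (hF : Three F)
include hF

theorem Three.two_ne : (2 : F) ≠ 0 := fun e => one_ne_zero (α := F) (by linear_combination hF.h3 - e)

omit [Fintype F] hF in
theorem smul_inf_iff (Y : SL(2, F)) : ψ (pr Y : PSL2) • (inf : Line F) = inf ↔ (Y : M2) 1 0 = 0 := by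
  constructor
  · intro h
    change ProjGenLinGroup.mk (Matrix.SpecialLinearGroup.toGL Y) • Projectivization.mk F _ _ =
      Projectivization.mk F _ _ at h
    rw [Projectivization.PGL.mk_smul_mk, Projectivization.mk_eq_mk_iff'] at h
    obtain ⟨c, hc⟩ := h
    have := congrFun hc 1
    simpa [Units.smul_def, smul_eq_mulVec, mulVec, dotProduct] using this.symm
  · intro h
    exact gl_smul_mk_eq _ _ _ ⟨(Y : M2) 0 0, by ext i; fin_cases i <;> simp [h, mulVec, dotProduct]⟩

/-- The elements of the tetrahedral subgroups through the standard involution. -/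
theorem card_tetra : {y : PSL2 | y ^ 3 = 1 ∧ ((pr J0 : PSL2) * y) ^ 3 = 1}.ncard = 2 * (Fintype.card F + 1) := by
  have h2 := hF.two_ne
  have h3 := hF.h3
  set A := (pr : SL(2, F) → PSL2) ⁻¹' {y : PSL2 | y ^ 3 = 1 ∧ ((pr J0 : PSL2) * y) ^ 3 = 1} with hA
  have hm : ∀ Y : SL(2, F), Y ∈ A ↔ ((Y : M2) 0 0 + (Y : M2) 1 1) * ((Y : M2) 0 0 + (Y : M2) 1 1) = 1 ∧
      ((Y : M2) 0 1 - (Y : M2) 1 0) * ((Y : M2) 0 1 - (Y : M2) 1 0) = 1 := by
    intro Y
    have e : ((J0 * Y : SL(2, F)) : M2).trace = (Y : M2) 0 1 - (Y : M2) 1 0 := by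
      simp [trace_fin_two, Matrix.mul_apply, Fin.sum_univ_two, vecMul, dotProduct]; ring
    show (pr Y : PSL2) ^ 3 = 1 ∧ ((pr J0 : PSL2) * pr Y) ^ 3 = 1 ↔ _
    rw [← map_mul, ← e, ← trace_fin_two]
    exact ⟨fun h => ⟨trace_of_cube h3 h.1, trace_of_cube h3 h.2⟩, fun h => ⟨pr_cube h2 h.1, pr_cube h2 h.2⟩⟩
  set S := {s : F | s * s = 1}
  have hS : Nat.card S = 2 := by
    rw [Nat.card_coe_set_eq, show S = {1, -1} from Set.ext fun s => mul_self_eq_one_iff,
      Set.ncard_pair (fun e => h2 (by linear_combination e))]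
  have hdet : ∀ Y : SL(2, F), (Y : M2) 0 0 * (Y : M2) 1 1 - (Y : M2) 0 1 * (Y : M2) 1 0 = 1 := fun Y => by
    have h : (Y : M2).det = 1 := Y.2
    rwa [det_fin_two] at h
  let T : SL(2, F) → Prop := fun c => c ∈ SL2Anti.CJ F
  have key : A.ncard = Nat.card (S × S × SL2Anti.CJ F) := by
    rw [← Nat.card_coe_set_eq]
    let toF : A → S × S × SL2Anti.CJ F := fun Y =>
      (⟨(Y.1 : M2) 0 0 + (Y.1 : M2) 1 1, ((hm _).1 Y.2).1⟩, ⟨(Y.1 : M2) 0 1 - (Y.1 : M2) 1 0, ((hm _).1 Y.2).2⟩,
        ⟨⟨!![(Y.1 : M2) 0 0 + ((Y.1 : M2) 0 0 + (Y.1 : M2) 1 1), -((Y.1 : M2) 0 1 + ((Y.1 : M2) 0 1 - (Y.1 : M2) 1 0));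
            (Y.1 : M2) 0 1 + ((Y.1 : M2) 0 1 - (Y.1 : M2) 1 0), (Y.1 : M2) 0 0 + ((Y.1 : M2) 0 0 + (Y.1 : M2) 1 1)], by
            rw [det_fin_two_of]
            linear_combination ((hm _).1 Y.2).1 + ((hm _).1 Y.2).2 - hdet Y.1 +
              ((Y.1 : M2) 0 0 ^ 2 + (Y.1 : M2) 0 1 ^ 2 + (Y.1 : M2) 0 0 * (Y.1 : M2) 1 1 - (Y.1 : M2) 0 1 * (Y.1 : M2) 1 0) * h3⟩,
          SL2Anti.mem_CJ.2 ⟨by simp, by simp⟩⟩)
    refine Nat.card_eq_of_bijective toF ⟨fun Y Z h => ?_, fun ⟨⟨s, hs⟩, ⟨t, ht⟩, ⟨c, hc⟩⟩ => ?_⟩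
    · simp only [toF, Prod.mk.injEq, Subtype.mk.injEq] at h
      obtain ⟨hs, ht, hc⟩ := h
      have e00 := congrArg (fun m : SL2Anti.CJ F => (m.1 : M2) 0 0) hc
      have e10 := congrArg (fun m : SL2Anti.CJ F => (m.1 : M2) 1 0) hc
      simp at e00 e10
      refine Subtype.ext (Subtype.ext (Matrix.ext fun i j => ?_))
      fin_cases i <;> fin_cases j <;> simp
      · linear_combination e00 - hs
      · linear_combination e10 - ht
      · linear_combination e10 - 2 * ht
      · linear_combination 2 * hs - e00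
    · obtain ⟨c11, c01⟩ := SL2Anti.mem_CJ.1 hc
      have hcd := hdet c
      rw [c11, c01] at hcd
      have hs : s * s = 1 := hs
      have ht : t * t = 1 := ht
      let Y : SL(2, F) := ⟨!![(c : M2) 0 0 - s, (c : M2) 1 0 - t; (c : M2) 1 0 + t, -s - (c : M2) 0 0], by
        rw [det_fin_two_of]; linear_combination hs + ht - hcd⟩
      have hY : Y ∈ A := (hm Y).2 ⟨by
          show ((c : M2) 0 0 - s + (-s - (c : M2) 0 0)) * _ = 1
          simp [Y]
          linear_combination 4 * hs + h3,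
        by
          simp [Y]
          linear_combination 4 * ht + h3⟩
      refine ⟨⟨Y, hY⟩, ?_⟩
      simp only [toF, Prod.mk.injEq, Subtype.mk.injEq]
      refine ⟨?_, ?_, ?_⟩
      · simp [Y]; linear_combination -s * h3
      · simp [Y]; linear_combination -t * h3
      · refine Subtype.ext (Subtype.ext (Matrix.ext fun i j => ?_))
        fin_cases i <;> fin_cases j <;> simp [Y, c11, c01]
        all_goals first
          | linear_combination -s * h3
          | linear_combination -t * h3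
          | linear_combination t * h3
  rw [Nat.card_prod, Nat.card_prod, hS, SL2Anti.card_CJ_nonsplit (fun h =>
    FiniteField.isSquare_neg_one_iff.1 h hF.hmod), ncard_preimage_pr h2] at key
  omega

theorem card_solSet_involution_three {x : PSL2} (hx : orderOf x = 2) :
    (solSet x).ncard = Fintype.card F * (Fintype.card F + 1) := by
  have h2 := hF.two_ne
  have h3 := hF.h3
  have h4 := hF.h4
  have hmod := hF.hmod
  obtain ⟨X, hX, rfl⟩ := exists_lift_involution h2 hx
  obtain ⟨g, rfl⟩ := SL2Anti.exists_conj_J0 h2 hX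
  have e0 : (pr (g * J0 * g⁻¹) : PSL2) = MulAut.conj (pr g : PSL2) (pr J0) := by simp
  rw [e0] at hx ⊢
  rw [ncard_solSet_map]
  replace hx : orderOf (pr J0 : PSL2) = 2 := by rwa [MulEquiv.orderOf_eq] at hx
  set x : PSL2 := pr J0 with hxdef
  have hxx : x * x = 1 := SL2Anti.pr_mul_self_of_sq h2 SL2Anti.J0_sq
  have hx1 : x ≠ 1 := fun e => by rw [e, orderOf_one] at hx; omega
  have hxi : x⁻¹ = x := inv_eq_of_mul_eq_one_right hxx
  obtain ⟨E, _, _, f, hE, hQC⟩ := exists_quadExt F
  have := finite_pgl_two (F := F)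
  set C := Subgroup.centralizer ({x} : Set PSL2)
  have hC : Nat.card C = Fintype.card F + 1 := by
    rcases card_centralizer_cases f hE hQC h4 x hx1 with h | ⟨k, hk, hd, h, -⟩
    · exfalso
      have hd2 := orderOf_dvd_natCard (⟨x, Subgroup.mem_centralizer_singleton_iff.2 rfl⟩ : C)
      rw [Subgroup.orderOf_mk, hx, h] at hd2
      omega
    · rw [h hxx]
      rw [hx] at hd
      rw [gcd_two_of_odd (Nat.odd_iff.2 (by omega))] at hk
      obtain ⟨j, rfl⟩ := hd
      omega
  set I := {y : PSL2 | y * y = 1 ∧ y ≠ 1}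
  set J := I \ (C : Set PSL2) with hJ
  set T := {y : PSL2 | y ^ 3 = 1 ∧ (x * y) ^ 3 = 1} with hT
  have hxC : x ∈ C := Subgroup.mem_centralizer_singleton_iff.2 rfl
  have hsol : solSet x = (C : Set PSL2) ∪ J ∪ (fun s => x * s) '' J ∪ T := by
    ext y
    constructor
    · intro h
      set H := Subgroup.closure ({x, y} : Set PSL2)
      have hxH : x ∈ H := Subgroup.subset_closure (Set.mem_insert _ _)
      have hyH : y ∈ H := Subgroup.subset_closure (Set.mem_insert_of_mem _ rfl)
      have : Group.IsSolvable H := h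
      by_cases hyC : y ∈ C
      · exact Or.inl (Or.inl (Or.inl hyC))
      have hy1 : y ≠ 1 := fun e => hyC (e ▸ one_mem C)
      have hnc : x * y ≠ y * x := fun e => hyC (Subgroup.mem_centralizer_singleton_iff.2 e.symm)
      rcases solvable_cases H with hc | ⟨R, hR⟩ | ⟨n, hn, ⟨e⟩⟩ | ⟨-, he⟩
      · exact absurd (hc x hxH y hyH) hnc
      · exfalso
        have ho := odd_order_of_fix h4 hmod (g := ψ x) ⟨x, rfl⟩ (hR x hxH)
        rw [orderOf_injective _ Matrix.ProjectiveSpecialLinearGroup.toPGL_injective, hx] at ho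
        exact absurd ho (by decide)
      · rcases ((dihedral_pair e hxH hyH).2 hxx).resolve_left hnc with hd | hd
        · exact Or.inl (Or.inl (Or.inr ⟨⟨hd, hy1⟩, hyC⟩))
        · refine Or.inl (Or.inr ⟨x * y, ⟨⟨hd, fun e => hyC ?_⟩, fun hc => hyC ((mul_mem_cancel_left hxC).1 hc)⟩,
            by show x * (x * y) = y; rw [← mul_assoc, hxx, one_mul]⟩)
          rw [show y = x * (x * y) by rw [← mul_assoc, hxx, one_mul], e, mul_one]
          exact hxC
      · rcases he with ⟨⟨e⟩⟩ | he
        · rcases altFour_invol (e ⟨x, hxH⟩) (e ⟨y, hyH⟩) (by rw [← map_mul, MulEquiv.map_eq_one_iff]; exact Subtype.ext hxx)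
            (fun e' => hx1 (congrArg Subtype.val ((MulEquiv.map_eq_one_iff e).1 e'))) with h' | ⟨h1, h2⟩
          · rw [← map_mul, ← map_mul, e.injective.eq_iff] at h'
            exact absurd (congrArg Subtype.val h') hnc
          · rw [← map_pow, MulEquiv.map_eq_one_iff] at h1
            rw [← map_mul, ← map_pow, MulEquiv.map_eq_one_iff] at h2
            exact Or.inr ⟨congrArg Subtype.val h1, congrArg Subtype.val h2⟩
        · exact absurd (he ▸ Subgroup.card_subgroup_dvd_card H) hF.h24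
    · rintro (((h | h) | ⟨s, hs, rfl⟩) | ⟨h1, h2⟩)
      · exact mem_solSet_comm (Subgroup.mem_centralizer_singleton_iff.1 h).symm
      · exact mem_solSet_invol hxx (Or.inl h.1.1)
      · refine mem_solSet_invol hxx (Or.inr ?_)
        show x * (x * s) * (x * (x * s)) = 1
        rw [← mul_assoc x x s, hxx, one_mul]; exact hs.1.1
      · exact mem_solSet_tetra hxx h1 h2
  have hj : ∀ s ∈ J, x * s ∉ J := by
    intro s hs h
    refine hs.2 (Subgroup.mem_centralizer_singleton_iff.2 ?_)
    have e1 : x * s * (x * s) = 1 := h.1.1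
    rw [mul_eq_one_iff_eq_inv, _root_.mul_inv_rev, inv_eq_of_mul_eq_one_right hs.1.1, hxi] at e1
    exact e1.symm
  have d1 : Disjoint (C : Set PSL2) J := Set.disjoint_left.2 fun y h1 h2 => h2.2 h1
  have d2 : Disjoint ((C : Set PSL2) ∪ J) ((fun s => x * s) '' J) := by
    refine Set.disjoint_left.2 ?_
    rintro _ h ⟨s, hs, rfl⟩
    rcases h with h | h
    · exact hs.2 ((mul_mem_cancel_left hxC).1 h)
    · exact hj s hs h
  have d3 : Disjoint ((C : Set PSL2) ∪ J ∪ (fun s => x * s) '' J) T := by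
    refine Set.disjoint_left.2 ?_
    rintro y h ⟨h1, h2⟩
    have hy : ∀ z : PSL2, z * z = 1 → z ^ 3 = 1 → z = 1 := fun z a b => by
      rw [pow_three, a, mul_one] at b; exact b
    rcases h with (h | h) | ⟨s, hs, rfl⟩
    · have hcm : Commute x y := (Subgroup.mem_centralizer_singleton_iff.1 h).symm
      rw [hcm.mul_pow, h1, mul_one] at h2
      exact hx1 (hy x hxx h2)
    · exact h.1.2 (hy y h.1.1 h1)
    · rw [show x * (x * s) = s by rw [← mul_assoc, hxx, one_mul]] at h2
      exact hs.1.2 (hy s hs.1.1 h2)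
  have hIC : 2 * (I ∩ (C : Set PSL2)).ncard = Fintype.card F + 3 := by
    have hpC : ((pr : SL(2, F) → PSL2) ⁻¹' (C : Set PSL2)).ncard = 2 * (Fintype.card F + 1) := by
      rw [ncard_preimage_pr h2, ← hC]; exact congrArg _ (Nat.card_coe_set_eq _).symm
    set A := {Y : SL(2, F) | Y * J0 = -(J0 * Y)} with hA
    have hne : ∀ Z : SL(2, F), Z ≠ -Z := fun Z e => SL2Anti.one_ne_neg_one h2
      (mul_left_cancel (a := Z) (by rw [mul_one, mul_neg, mul_one]; exact e))
    have e1 : (pr : SL(2, F) → PSL2) ⁻¹' (C : Set PSL2) = (SL2Anti.CJ F : Set SL(2, F)) ∪ A := by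
      ext Y
      show (pr Y : PSL2) ∈ C ↔ _ ∨ _
      rw [Subgroup.mem_centralizer_singleton_iff, hxdef, ← map_mul, ← map_mul, SL2Anti.pr_eq_iff h2]
      exact or_congr_left' fun _ => Subgroup.mem_centralizer_singleton_iff.symm
    have dA : Disjoint (SL2Anti.CJ F : Set SL(2, F)) A := Set.disjoint_left.2 fun Y h1 h2' => by
      rw [SetLike.mem_coe, SL2Anti.CJ, Subgroup.mem_centralizer_singleton_iff] at h1
      have h2'' : Y * J0 = -(J0 * Y) := h2'
      rw [h1] at h2''
      exact hne _ h2''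
    have hAc : A.ncard = Fintype.card F + 1 := by
      have := Set.ncard_union_eq dA
      rw [← e1, hpC, ← Nat.card_coe_set_eq (SL2Anti.CJ F : Set SL(2, F)),
        show Nat.card ((SL2Anti.CJ F : Set SL(2, F))) = Nat.card (SL2Anti.CJ F) from rfl,
        SL2Anti.card_CJ_nonsplit (fun h => FiniteField.isSquare_neg_one_iff.1 h hmod)] at this
      omega
    have e2 : (pr : SL(2, F) → PSL2) ⁻¹' (I ∩ (C : Set PSL2)) = {J0, -J0} ∪ A := by
      rw [Set.preimage_inter, e1]
      ext Y
      have hYd := Y.2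
      rw [det_fin_two] at hYd
      show ((pr Y : PSL2) * pr Y = 1 ∧ (pr Y : PSL2) ≠ 1) ∧ (Y ∈ SL2Anti.CJ F ∨ Y ∈ A) ↔ (Y = J0 ∨ Y = -J0) ∨ Y ∈ A
      rw [sq_one_iff_trace h2, trace_fin_two]
      constructor
      · rintro ⟨ht, h | h⟩
        · obtain ⟨c11, c01⟩ := SL2Anti.mem_CJ.1 h
          have h00 : (Y : M2) 0 0 = 0 := (mul_eq_zero.1 (show (2 : F) * (Y : M2) 0 0 = 0 by
            linear_combination ht - c11)).resolve_left h2
          rw [c11, c01, h00] at hYd
          rcases mul_self_eq_one_iff.1 (show (Y : M2) 1 0 * (Y : M2) 1 0 = 1 by linear_combination hYd) with e | e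
          · left; left
            refine Subtype.ext (Matrix.ext fun i j => ?_)
            fin_cases i <;> fin_cases j <;> simp [h00, c11, c01, e]
          · left; right
            refine Subtype.ext (Matrix.ext fun i j => ?_)
            fin_cases i <;> fin_cases j <;> simp [h00, c11, c01, e]
        · exact Or.inr h
      · rintro ((rfl | rfl) | h)
        · exact ⟨by simp, Or.inl (SL2Anti.mem_CJ.2 ⟨by simp, by simp⟩)⟩
        · exact ⟨by simp, Or.inl (SL2Anti.mem_CJ.2 ⟨by simp, by simp⟩)⟩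
        · refine ⟨?_, Or.inr h⟩
          have e := congrArg (fun Z : SL(2, F) => (Z : M2) 0 1) (show Y * J0 = -(J0 * Y) from h)
          simp [Matrix.mul_apply, Fin.sum_univ_two, vecMul, dotProduct] at e
          linear_combination -e
    have dB : Disjoint ({J0, -J0} : Set SL(2, F)) A := Set.disjoint_left.2 fun Y h h' =>
      Set.disjoint_left.1 dA (by rcases h with rfl | rfl <;> exact SL2Anti.mem_CJ.2 ⟨by simp, by simp⟩) h'
    rw [← ncard_preimage_pr h2, e2, Set.ncard_union_eq dB, hAc, Set.ncard_pair (hne J0)]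
    omega
  have hI : I.ncard * (Fintype.card F + 1) * 2 = (Fintype.card F + 1) * (Fintype.card F * (Fintype.card F - 1)) := by
    rw [ncard_involutions hx, ← hC, (Subgroup.centralizer ({x} : Set PSL2)).index_mul_card, hC]
    have := card_psl_two_split (F := F)
    rw [gcd_two_of_odd (Nat.odd_iff.2 (by omega))] at this
    omega
  have hJc := Set.ncard_inter_add_ncard_diff_eq_ncard I (C : Set PSL2)
  rw [← hJ] at hJc
  have hTc : T.ncard = 2 * (Fintype.card F + 1) := card_tetra hF
  rw [hsol, Set.ncard_union_eq d3, Set.ncard_union_eq d2, Set.ncard_union_eq d1,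
    Set.ncard_image_of_injective _ (mul_right_injective x), hTc,
    show (C : Set PSL2).ncard = Fintype.card F + 1 from (Nat.card_coe_set_eq _).symm.trans hC]
  obtain ⟨r, hr⟩ : ∃ r, Fintype.card F = r + 1 := ⟨Fintype.card F - 1, by omega⟩
  rw [hr, Nat.add_sub_cancel] at hI
  rw [hr] at hIC ⊢
  have hI' : I.ncard * 2 = (r + 1) * r := Nat.eq_of_mul_eq_mul_right (show 0 < r + 1 + 1 by omega)
    (by linarith [hI])
  linarith

/-- The elements of the tetrahedral subgroups through a unipotent element. -/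
theorem card_tetra_unipotent {β : F} (hβ : β ≠ 0) :
    {Y : SL(2, F) | β * (Y : M2) 1 0 * (β * (Y : M2) 1 0) = 1 ∧
      ((Y : M2) 0 0 + (Y : M2) 1 1) ^ 3 = (Y : M2) 0 0 + (Y : M2) 1 1}.ncard = 6 * Fintype.card F := by
  have h2 := hF.two_ne
  set S := {s : F | s * s = 1}
  have hS : Nat.card S = 2 := by
    rw [Nat.card_coe_set_eq, show S = {1, -1} from Set.ext fun s => mul_self_eq_one_iff,
      Set.ncard_pair (fun e => h2 (by linear_combination e))]
  set S3 := {s : F | s ^ 3 = s}
  have hS3 : Nat.card S3 = 3 := by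
    have e : S3 = {0, 1, -1} := by
      ext s
      constructor
      · intro h
        have h' : s ^ 3 = s := h
        have : s * ((s - 1) * (s + 1)) = 0 := by linear_combination h'
        rcases mul_eq_zero.1 this with h | h
        · exact Or.inl h
        rcases mul_eq_zero.1 h with h | h
        · exact Or.inr (Or.inl (sub_eq_zero.1 h))
        · exact Or.inr (Or.inr (add_eq_zero_iff_eq_neg.1 h))
      · rintro (rfl | rfl | rfl) <;> simp [S3] <;> ring
    rw [Nat.card_coe_set_eq, e, Set.ncard_insert_of_notMem (by simp),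
      Set.ncard_pair (fun e => h2 (by linear_combination e))]
  rw [← Nat.card_coe_set_eq, show 6 * Fintype.card F = Nat.card (S × S3 × F) by
    rw [Nat.card_prod, Nat.card_prod, hS, hS3, Nat.card_eq_fintype_card]; ring]
  refine Nat.card_eq_of_bijective (fun Y => (⟨β * (Y.1 : M2) 1 0, Y.2.1⟩,
    ⟨(Y.1 : M2) 0 0 + (Y.1 : M2) 1 1, Y.2.2⟩, (Y.1 : M2) 0 0)) ⟨fun Y Z h => ?_, fun ⟨⟨e, he⟩, ⟨s, hs⟩, a⟩ => ?_⟩
  · simp only [Prod.mk.injEq, Subtype.mk.injEq] at h
    obtain ⟨hc, hs, ha⟩ := h
    have hc' := mul_left_cancel₀ hβ hc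
    have hd : (Y.1 : M2) 1 1 = (Z.1 : M2) 1 1 := by linear_combination hs - ha
    have h10 : (Y.1 : M2) 1 0 ≠ 0 := fun e => by
      have := Y.2.1; rw [e, mul_zero, zero_mul] at this; exact zero_ne_one this
    have hy := Y.1.2
    have hz := Z.1.2
    rw [det_fin_two] at hy hz
    have hb : (Y.1 : M2) 0 1 = (Z.1 : M2) 0 1 := mul_right_cancel₀ h10 (by
      rw [← ha, ← hd, ← hc'] at hz
      linear_combination hz - hy)
    refine Subtype.ext (Subtype.ext (Matrix.ext fun i j => ?_))
    fin_cases i <;> fin_cases j <;> simp [ha, hb, hc', hd]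
  · have he : e * e = 1 := he
    have he0 : e ≠ 0 := fun h => by rw [h, mul_zero] at he; exact zero_ne_one he
    let Y : SL(2, F) := ⟨!![a, (a * (s - a) - 1) / (e / β); e / β, s - a], by
      rw [det_fin_two_of, div_mul_cancel₀ _ (div_ne_zero he0 hβ)]; ring⟩
    have e1 : β * (e / β) = e := by field_simp
    refine ⟨⟨Y, ⟨?_, ?_⟩⟩, ?_⟩
    · simp [Y, e1, he]
    · simp [Y]; exact hs
    · simp [Y, e1]

theorem card_solSet_order_three {x : PSL2} (hx : orderOf x = 3) :
    2 * (solSet x).ncard = Fintype.card F * (Fintype.card F + 5) := by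
  have h2 := hF.two_ne
  have h3 := hF.h3
  have h4 := hF.h4
  obtain ⟨E, _, _, f, hE, hQC⟩ := exists_quadExt F
  have := finite_pgl_two (F := F)
  have hx1 : x ≠ 1 := fun e => by rw [e, orderOf_one] at hx; omega
  -- move the fixed point to infinity
  have hψ : ψ x ≠ 1 := fun e => hx1 (Matrix.ProjectiveSpecialLinearGroup.toPGL_injective (e.trans (map_one _).symm))
  have hx3 : x ^ 3 = 1 := hx ▸ pow_orderOf_eq_one x
  obtain ⟨P, hP⟩ : ∃ P : Line F, ψ x • P = P := by
    obtain ⟨P, hP⟩ := exists_fixed f hQC (ψ x)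
    by_cases hu : ∀ R, extHom f (ψ x) • R = R → R = P
    · obtain ⟨P', rfl⟩ := rational_of_unique f hQC hu
      exact ⟨P', extPt_injective f (by rw [← extHom_smul, hP])⟩
    · exfalso
      push Not at hu
      obtain ⟨Q, hQ, hne⟩ := hu
      obtain ⟨-, hcard, -⟩ := torus_pair f hE hQC hne.symm hψ hP hQ
      have hd := Subgroup.orderOf_dvd_natCard (fixExt f P ⊓ fixExt f Q : Subgroup PGL(2, F)) (x := ψ x) ⟨hP, hQ⟩
      rw [orderOf_injective _ Matrix.ProjectiveSpecialLinearGroup.toPGL_injective, hx] at hd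
      obtain ⟨p, hp⟩ := CharP.exists F
      obtain ⟨n, hprime, hn⟩ := FiniteField.card F p
      have hp3 : p = 3 := ((Nat.prime_dvd_prime_iff_eq hprime Nat.prime_three).1
        ((CharP.cast_eq_zero_iff F p 3).1 (by exact_mod_cast h3)))
      subst hp3
      have : 3 ∣ Fintype.card F := hn ▸ dvd_pow_self 3 n.pos.ne'
      omega
  obtain ⟨g, rfl⟩ := exists_psl_to P
  rw [← ncard_solSet_map (MulAut.conj g⁻¹) x]
  set x' := MulAut.conj g⁻¹ x with hx'
  have ho : orderOf x' = 3 := by rw [hx', MulEquiv.orderOf_eq, hx]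
  have hfix : ψ x' • (inf : Line F) = inf := by
    rw [hx', MulAut.conj_apply, inv_inv, map_mul, map_mul, map_inv, mul_smul, mul_smul, hP, inv_smul_smul]
  clear_value x'
  clear hx' hP hψ hx hx1 hx3 x
  rename' x' => x, ho => hx
  have hx3 : x ^ 3 = 1 := hx ▸ pow_orderOf_eq_one x
  have hx1 : x ≠ 1 := fun e => by rw [e, orderOf_one] at hx; omega
  have hxx : x * x ≠ 1 := fun e => hx1 (by rw [pow_three, e, mul_one] at hx3; exact hx3)
  obtain ⟨a, b, hab⟩ := exists_aff_of_fix hfix
  have ha : a = 1 := by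
    have h : (aff a b) ^ 3 = 1 := by rw [← hab, ← map_pow, hx3, map_one]
    rw [pow_three, aff_mul, aff_mul, ← aff_one] at h
    have h' := congrArg Units.val (aff_inj h).1
    simp at h'
    refine Units.ext (sub_eq_zero.1 (pow_eq_zero_iff (n := 3) (by norm_num) |>.1 ?_))
    rw [Units.val_one]
    linear_combination h' - ((a : F) * a - a) * h3
  subst ha
  have hxu : x = pr (CfsgLib.Classical.uElt b) := Matrix.ProjectiveSpecialLinearGroup.toPGL_injective
    (hab.trans (toPGL_uElt b).symm)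
  have hb : b ≠ 0 := fun e => hx1 (Matrix.ProjectiveSpecialLinearGroup.toPGL_injective
    (by rw [hab, e, aff_one, map_one]))
  set U : SL(2, F) := CfsgLib.Classical.uElt b with hU
  have hU' : (U : M2) = !![1, b; 0, 1] := by
    ext i j; fin_cases i <;> fin_cases j <;> simp [hU, CfsgLib.Classical.uElt, Matrix.SpecialLinearGroup.transvection, Matrix.transvection, Matrix.single]
  have hfixu : ∀ R : Line F, ψ x • R = R → R = inf := by
    intro R hR
    rw [hab] at hR
    rcases fixed_aff_cases hR with e | ⟨e, -⟩ | ⟨-, e⟩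
    · exact e
    · exact absurd rfl e
    · exact absurd e hb
  set B := {y : PSL2 | ψ y ∈ stabilizer PGL(2, F) (inf : Line F)} with hB
  set W := solSet x \ B with hW
  have hWp : (pr : SL(2, F) → PSL2) ⁻¹' W = {Y : SL(2, F) | b * (Y : M2) 1 0 * (b * (Y : M2) 1 0) = 1 ∧
      ((Y : M2) 0 0 + (Y : M2) 1 1) ^ 3 = (Y : M2) 0 0 + (Y : M2) 1 1} := by
    ext Y
    have t1 : ((U * Y : SL(2, F)) : M2).trace = (Y : M2) 0 0 + (Y : M2) 1 1 + b * (Y : M2) 1 0 := by
      rw [Matrix.SpecialLinearGroup.coe_mul, hU']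
      simp [trace_fin_two, Matrix.mul_apply, Fin.sum_univ_two, vecMul, dotProduct]; ring
    have t2 : ((U * U * Y : SL(2, F)) : M2).trace = (Y : M2) 0 0 + (Y : M2) 1 1 - b * (Y : M2) 1 0 := by
      rw [Matrix.SpecialLinearGroup.coe_mul, Matrix.SpecialLinearGroup.coe_mul, hU']
      simp [trace_fin_two, Matrix.mul_apply, Fin.sum_univ_two, vecMul, dotProduct]
      linear_combination (b * (Y : M2) 1 0) * h3
    set s := (Y : M2) 0 0 + (Y : M2) 1 1 with hs
    set c := b * (Y : M2) 1 0 with hc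
    constructor
    · rintro ⟨hsol, hnB⟩
      have hc0 : c ≠ 0 := fun e => hnB ((smul_inf_iff Y).2 ((mul_eq_zero.1 e).resolve_left hb))
      set H := Subgroup.closure ({x, (pr Y : PSL2)} : Set PSL2)
      have hxH : x ∈ H := Subgroup.subset_closure (Set.mem_insert _ _)
      have hyH : (pr Y : PSL2) ∈ H := Subgroup.subset_closure (Set.mem_insert_of_mem _ rfl)
      have : Group.IsSolvable H := hsol
      have mv : ∀ j : PSL2, (j = x ∨ j = x⁻¹) → (pr Y : PSL2) * x * (pr Y)⁻¹ = j → (pr Y : PSL2) ∈ B := by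
        intro j hj e
        refine hfixu _ ?_
        have hjx : ψ j • (ψ (pr Y : PSL2) • (inf : Line F)) = ψ (pr Y : PSL2) • inf := by
          rw [← mul_smul, ← map_mul, ← mul_inv_eq_iff_eq_mul.1 e, map_mul, mul_smul, hfix]
        rcases hj with rfl | rfl
        · exact hjx
        · rw [map_inv, inv_smul_eq_iff] at hjx; exact hjx.symm
      rcases solvable_cases H with hcm | ⟨R, hR⟩ | ⟨n, hn, ⟨e⟩⟩ | ⟨-, he⟩
      · exact absurd (mv x (Or.inl rfl) (mul_inv_eq_iff_eq_mul.2 (hcm x hxH _ hyH).symm)) hnB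
      · exact absurd (show ψ (pr Y : PSL2) • inf = inf by rw [← hfixu R (hR x hxH)]; exact hR _ hyH) hnB
      · rcases (dihedral_pair e hxH hyH).1 hxx with h | h
        · exact absurd (mv x (Or.inl rfl) h) hnB
        · exact absurd (mv _ (Or.inr rfl) h) hnB
      · rcases he with ⟨⟨e⟩⟩ | he
        swap
        · exact absurd (he ▸ Subgroup.card_subgroup_dvd_card H) hF.h24
        have trc : ∀ Z : SL(2, F), (pr Z : PSL2) ∈ H → (Z : M2).trace ^ 3 = (Z : M2).trace := by
          intro Z hZ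
          rcases CfsgLib.Classical.altFour_facts.1 (e ⟨_, hZ⟩) with h | h <;>
            rw [← map_pow, MulEquiv.map_eq_one_iff, Subtype.ext_iff] at h
          · by_cases h1 : (pr Z : PSL2) = 1
            · rw [SL2Anti.pr_eq_one, SL2Anti.mem_center_iff_sign h2] at h1
              rcases h1 with rfl | rfl <;> simp [trace_fin_two] <;>
                first | linear_combination 2 * h3 | linear_combination -2 * h3
            · rw [(sq_one_iff_trace h2).1 ⟨by rw [← sq]; exact h, h1⟩]; ring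
          · linear_combination (Z : M2).trace * trace_of_cube h3 (g := Z) h
        have e0 := trc Y hyH
        have e1 := trc (U * Y) (by rw [map_mul, ← hxu]; exact mul_mem hxH hyH)
        rw [trace_fin_two, ← hs] at e0
        rw [t1] at e1
        refine ⟨?_, e0⟩
        have hc3 : c ^ 3 = c := by linear_combination e1 - e0 - (s * s * c + s * c * c) * h3
        exact mul_left_cancel₀ hc0 (by linear_combination hc3)
    · rintro ⟨hc1, hs3⟩
      replace hc1 : c * c = 1 := hc1
      replace hs3 : s ^ 3 = s := hs3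
      have hc0 : c ≠ 0 := fun e => by rw [e, mul_zero] at hc1; exact zero_ne_one hc1
      refine ⟨?_, fun hB' => hc0 (by rw [hc, (smul_inf_iff Y).1 hB', mul_zero])⟩
      have key : ∀ z : PSL2, z * z = 1 → (z * x) ^ 3 = 1 →
          (∀ K : Subgroup PSL2, x ∈ K → z ∈ K → (pr Y : PSL2) ∈ K) → (pr Y : PSL2) ∈ solSet x := by
        intro z hz hzx hY'
        have : Group.IsSolvable ↥(Subgroup.closure ({z, x} : Set PSL2)) := mem_solSet_tetra hz hx3 hzx
        exact mem_solSet_of_le (K := Subgroup.closure ({z, x} : Set PSL2))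
          (Subgroup.subset_closure (Set.mem_insert_of_mem _ rfl))
          (hY' _ (Subgroup.subset_closure (Set.mem_insert_of_mem _ rfl)) (Subgroup.subset_closure (Set.mem_insert _ _)))
      have inv0 : ∀ Z : SL(2, F), (Z : M2).trace = 0 → (pr Z : PSL2) * pr Z = 1 := fun Z h =>
        SL2Anti.pr_mul_self_of_sq h2 (SL2Anti.sq_eq_neg_one_of_trace h)
      have conj3 : ∀ u v : PSL2, (u * v) ^ 3 = 1 → (v * u) ^ 3 = 1 := fun u v h => by
        rw [show v * u = v * (u * v) * v⁻¹ by group, conj_pow, h]; group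
      have hcs : s = 0 ∨ s + c = 0 ∨ s - c = 0 := by
        rcases eq_or_ne s 0 with h | h
        · exact Or.inl h
        right
        have hss : s * s = c * c := by
          rw [hc1]
          exact mul_left_cancel₀ h (by linear_combination hs3)
        rcases mul_self_eq_mul_self_iff.1 hss with e | e
        · exact Or.inr (sub_eq_zero.2 e)
        · exact Or.inl (by rw [e]; ring)
      rcases hcs with h | h | h
      · refine key (pr Y) (inv0 Y (by rw [trace_fin_two, ← hs, h])) (conj3 _ _ ?_) fun K _ hzK => hzK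
        rw [hxu, ← map_mul]
        exact pr_cube h2 (by rw [t1, h, zero_add, hc1])
      · refine key (pr (U * Y)) (inv0 _ (by rw [t1, h])) ?_ fun K hxK hzK => ?_
        · refine conj3 _ _ ?_
          rw [hxu, ← map_mul, ← mul_assoc]
          refine pr_cube h2 ?_
          rw [t2]; linear_combination (s - 3 * c) * h + 4 * hc1 + h3
        · rw [map_mul, ← hxu] at hzK
          exact (mul_mem_cancel_left hxK).1 hzK
      · refine key (pr (U * U * Y)) (inv0 _ (by rw [t2, h])) ?_ fun K hxK hzK => ?_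
        · refine conj3 _ _ ?_
          rw [map_mul, map_mul, ← hxu, show x * (x * x * pr Y) = x ^ 3 * pr Y by rw [pow_three]; group, hx3, one_mul]
          refine pr_cube h2 ?_
          rw [trace_fin_two, ← hs]; linear_combination (s + c) * h + hc1
        · rw [map_mul, map_mul, ← hxu] at hzK
          exact (mul_mem_cancel_left (mul_mem hxK hxK)).1 hzK
  have hWc : W.ncard = 3 * Fintype.card F := by
    have := card_tetra_unipotent hF hb
    rw [← hWp, ncard_preimage_pr h2] at this
    omega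
  have hBc : 2 * B.ncard = Fintype.card F * (Fintype.card F - 1) := by
    rw [hB, ncard_comap]
    have h := card_imL_two (F := F)
    rw [gcd_two_of_odd (Nat.odd_iff.2 (by have := hF.hmod; omega)), ← card_pointStab_mul le_rfl (inf : Line F),
      mul_left_comm] at h
    exact Nat.eq_of_mul_eq_mul_left (Nat.succ_pos _) h
  have hBs : B ⊆ solSet x := fun y hy => mem_solSet_fix hfix hy
  rw [← Set.ncard_sdiff_add_ncard_of_subset hBs, ← hW, hWc]
  obtain ⟨r, hr⟩ : ∃ r, Fintype.card F = r + 1 := ⟨Fintype.card F - 1, by omega⟩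
  rw [hr, Nat.add_sub_cancel] at hBc
  rw [hr]
  linarith

end CfsgLib.Geom.Moebius
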