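import Mathlib
import Cfsg.Agent.Lib.Geom.PSLTwoCentralizer
import Cfsg.Agent.Lib.Geom.DicksonCases
import Cfsg.Agent.Lib.Geom.InvolGraph
import Cfsg.Agent.Lib.Geom.SolubilizerThree
import Cfsg.Agent.Lib.ClassK.SmallSimple
import Cfsg.Agent.S5891

set_option autoImplicit false

/-!
The icosahedral subgroups of `PSL_2(11)`.
-/

namespace CfsgLib.Geom.Moebius

open Matrix
open scoped MatrixGroups Pointwise
open SL2Anti (pr J0)

variable {F : Type*} [Field F] [Fintype F]

local notation "PSL2" => ProjectiveSpecialLinearGroup (Fin 2) F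
local notation "ψ" => Matrix.ProjectiveSpecialLinearGroup.toPGL (n := Fin 2) (R := F)
local notation "M2" => Matrix (Fin 2) (Fin 2) F

namespace Eleven

variable (h11 : Fintype.card F = 11)
include h11

theorem card_psl : Nat.card PSL2 = 660 := CfsgLib.Classical.card_psl_two_eq h11 660 (by norm_num)

theorem two_ne : (2 : F) ≠ 0 :=
  CfsgLib.Classical.two_ne_zero_of_odd (by rw [h11]; decide)

theorem four_le : 4 ≤ Fintype.card F := by omega

theorem simple : IsSimpleGroup PSL2 := CfsgLib.ClassK.isSimpleGroup_psl_two (four_le h11)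

/-- Subgroup orders. -/
theorem orders (H : Subgroup PSL2) (hH : H ≠ ⊤) :
    Nat.card H ∣ 55 ∨ Nat.card H ∣ 6 ∨ Nat.card H = 4 ∨ Nat.card H = 10 ∨ Nat.card H = 12 ∨
      (Nat.card H = 60 ∧ Nonempty (H ≃* alternatingGroup (Fin 5))) := by
  have hd := Subgroup.card_subgroup_dvd_card H
  rw [card_psl h11] at hd
  have htd : ∀ k, TorusDvd F k → k ∣ 6 ∨ k ∣ 5 := fun k hk => by
    rw [TorusDvd, h11] at hk; exact hk
  have hu : ∀ (K : Subfield F) (u : ℕ), 3 ≤ u → Nat.card K = u → u = 11 := fun K u hu hK => by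
    have hdu : u ∣ 11 := by
      have h := AddSubgroup.card_addSubgroup_dvd_card K.toSubring.toAddSubgroup
      rw [Nat.card_eq_fintype_card (α := F), h11] at h
      exact hK ▸ h
    rcases (Nat.dvd_prime (show Nat.Prime 11 by norm_num)).1 hdu with e | e <;> omega
  rcases dickson H with ⟨k, hk, -, hcard⟩ | ⟨P, hP⟩ | ⟨n, hn, hk, -, hcard⟩ | ⟨-, hcard⟩ | ⟨-, hcard⟩ | ⟨hi, hcard⟩ |
    ⟨K, u, hu', hK, -, hcard⟩ | ⟨K, u, hu', hK, -, hcard⟩
  · rw [hcard]
    rcases htd k hk with h | h
    · exact Or.inr (Or.inl h)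
    · exact Or.inl (h.trans (by norm_num))
  · left
    have hle : H ≤ (MulAction.stabilizer PGL(2, F) P ⊓ imL F).comap ψ := fun x hx => ⟨hP x hx, x, rfl⟩
    have h := Subgroup.card_dvd_of_le hle
    rw [card_comap_toPGL inf_le_right] at h
    have h2 := card_imL_two (F := F)
    rw [← card_pointStab_mul le_rfl P, h11, show Nat.gcd 2 (11 - 1) = 2 by norm_num] at h2
    exact h.trans (dvd_of_eq (by omega))
  · rw [hcard]
    rcases htd n hk with h | h
    · have := Nat.le_of_dvd (by norm_num) h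
      interval_cases n <;> omega
    · rcases (Nat.dvd_prime Nat.prime_five).1 h with e | e <;> subst e <;> omega
  · omega
  · rw [hcard] at hd; norm_num at hd
  · exact Or.inr (Or.inr (Or.inr (Or.inr (Or.inr ⟨hcard, hi⟩))))
  · exfalso; rw [hu K u hu' hK] at hcard; norm_num at hcard; rw [hcard] at hd; norm_num at hd
  · exfalso
    rw [hu K u hu' hK] at hcard
    exact hH (Subgroup.eq_top_of_card_eq H (by rw [card_psl h11]; norm_num at hcard; omega))

omit [Fintype F] h11 in
theorem card_altFive : Nat.card (alternatingGroup (Fin 5)) = 60 := by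
  rw [nat_card_alternatingGroup, Nat.card_fin]; rfl

theorem ne_top_of_equiv {H : Subgroup PSL2} (e : H ≃* alternatingGroup (Fin 5)) : H ≠ ⊤ := fun he => by
  have h := Nat.card_congr e.toEquiv
  rw [card_altFive, he, Subgroup.card_top, card_psl h11] at h
  omega

/-- Icosahedral subgroups are self-normalising of index eleven. -/
theorem normalizer_eq {H : Subgroup PSL2} (e : H ≃* alternatingGroup (Fin 5)) :
    Subgroup.normalizer (H : Set PSL2) = H := by
  have := simple h11
  have hc : Nat.card H = 60 := (Nat.card_congr e.toEquiv).trans card_altFive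
  refine (Subgroup.eq_of_le_of_card_ge Subgroup.le_normalizer ?_).symm
  have hN : Subgroup.normalizer (H : Set PSL2) ≠ ⊤ := fun h => by
    rcases (Subgroup.normalizer_eq_top_iff.1 h).eq_bot_or_eq_top with e' | e'
    · rw [e', Subgroup.card_bot] at hc; omega
    · exact ne_top_of_equiv h11 e e'
  have hd := Subgroup.card_dvd_of_le (Subgroup.le_normalizer : H ≤ Subgroup.normalizer (H : Set PSL2))
  rw [hc] at hd ⊢
  rcases orders h11 _ hN with h | h | h | h | h | ⟨h, -⟩
  · have := hd.trans h; omega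
  · have := hd.trans h; omega
  all_goals omega

theorem exists_altFive : ∃ H : Subgroup PSL2, Nonempty (H ≃* alternatingGroup (Fin 5)) := by
  have hodd : Odd (Fintype.card F) := by rw [h11]; decide
  have := Fact.mk (show Nat.Prime 11 by norm_num)
  have : CharP F 11 := charP_of_card_eq_prime h11
  refine exists_altFive_psl hodd (φ := 4) ?_
  have h : ((11 : ℕ) : F) = 0 := CharP.cast_eq_zero F 11
  push_cast at h
  linear_combination h

theorem index_eq {H : Subgroup PSL2} (e : H ≃* alternatingGroup (Fin 5)) : H.index = 11 := by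
  have h := H.index_mul_card
  rw [(Nat.card_congr e.toEquiv).trans card_altFive, card_psl h11] at h
  omega

omit [Fintype F] h11 in
theorem altFour_set : ((Finset.univ : Finset (alternatingGroup (Fin 4))).filter fun a => a * a = 1).card ≤ 4 ∧
    ∀ a : alternatingGroup (Fin 4), a ^ 4 = 1 → a * a = 1 := by decide +kernel

omit [Fintype F] h11 in
theorem altFive_no_six : ∀ a : alternatingGroup (Fin 5), a ^ 6 = 1 → a * a = 1 ∨ a ^ 3 = 1 := by decide +kernel

/-- Icosahedral subgroups meet their other conjugates in subgroups of order other than twelve. -/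
theorem inter_ne_twelve {H : Subgroup PSL2} (e : H ≃* alternatingGroup (Fin 5)) {g : PSL2} (hg : g ∉ H) :
    Nat.card (H ⊓ H.map (MulAut.conj g).toMonoidHom : Subgroup PSL2) ≠ 12 := by
  classical
  have := simple h11
  intro hc
  set K := H ⊓ H.map (MulAut.conj g).toMonoidHom with hK
  have := Fact.mk Nat.prime_two
  have hKtop : K ≠ ⊤ := fun h => by rw [h, Subgroup.card_top, card_psl h11] at hc; omega
  have hKA : Nonempty (K ≃* alternatingGroup (Fin 4)) := by
    rcases dickson K with ⟨k, hk, -, hcard⟩ | ⟨P, hP⟩ | ⟨n, hn, hk, ⟨d⟩, hcard⟩ | ⟨ha, -⟩ | ⟨-, hcard⟩ | ⟨-, hcard⟩ |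
      ⟨L, u, hu', -, -, hcard⟩ | ⟨L, u, hu', hL, ⟨i⟩, hcard⟩
    · exfalso; rw [TorusDvd, h11] at hk
      rw [← hcard, hc] at hk; norm_num at hk
    · exfalso
      have hle : K ≤ (MulAction.stabilizer PGL(2, F) P ⊓ imL F).comap ψ := fun x hx => ⟨hP x hx, x, rfl⟩
      have h := Subgroup.card_dvd_of_le hle
      rw [card_comap_toPGL inf_le_right, hc] at h
      have h2 := card_imL_two (F := F)
      rw [← card_pointStab_mul le_rfl P, h11, show Nat.gcd 2 (11 - 1) = 2 by norm_num] at h2
      omega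
    · exfalso
      rw [hcard] at hc
      obtain rfl : n = 6 := by omega
      obtain ⟨x, hx⟩ := d.surjective (DihedralGroup.r 1)
      have ho : orderOf x = 6 := by
        rw [← MulEquiv.orderOf_eq d, hx, DihedralGroup.orderOf_r_one]
      have h6 : (e ⟨x.1, x.2.1⟩) ^ 6 = 1 := by
        rw [← map_pow, MulEquiv.map_eq_one_iff]
        exact Subtype.ext (by rw [SubgroupClass.coe_pow, ← SubgroupClass.coe_pow x, ← ho, pow_orderOf_eq_one]; rfl)
      rcases altFive_no_six _ h6 with h | h
      · rw [← map_mul, MulEquiv.map_eq_one_iff, Subtype.ext_iff] at h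
        have := orderOf_dvd_of_pow_eq_one (x := x) (n := 2) (by rw [sq]; exact Subtype.ext h)
        rw [ho] at this; omega
      · rw [← map_pow, MulEquiv.map_eq_one_iff, Subtype.ext_iff, SubgroupClass.coe_pow] at h
        have := orderOf_dvd_of_pow_eq_one (x := x) (n := 3) (Subtype.ext (by rw [SubgroupClass.coe_pow]; exact h))
        rw [ho] at this; omega
    · exact ha
    · omega
    · omega
    · exfalso; rw [hc] at hcard; have := Nat.mul_le_mul (show 4 ≤ u + 1 by omega) (Nat.mul_le_mul hu' (show 2 ≤ u - 1 by omega)); omega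
    · obtain rfl : u = 3 := by
        rw [hc] at hcard
        by_contra hu
        have := Nat.mul_le_mul (show 5 ≤ u + 1 by omega) (Nat.mul_le_mul (show 4 ≤ u by omega) (show 3 ≤ u - 1 by omega))
        omega
      let _ : Fintype L := Fintype.ofFinite L
      exact ⟨i.trans (psl_three_equiv (F := L) (by rw [← Nat.card_eq_fintype_card, hL])).some⟩
  obtain ⟨eK⟩ := hKA
  have h4 : ∀ (G : Subgroup PSL2) (Q : Sylow 2 G), (Nat.card G).factorization 2 = 2 → Nat.card Q = 4 := fun G Q h => by
    rw [Q.card_eq_multiplicity, h]; norm_num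
  have hf12 : (12 : ℕ).factorization 2 = 2 := by
    rw [show (12 : ℕ) = 2 ^ 2 * 3 by norm_num, Nat.factorization_mul (by norm_num) (by norm_num), Finsupp.add_apply,
      Nat.prime_two.factorization_pow, Finsupp.single_eq_same, Nat.factorization_eq_zero_of_not_dvd (n := 3) (by norm_num)]
  have hf60 : (60 : ℕ).factorization 2 = 2 := by
    rw [show (60 : ℕ) = 2 ^ 2 * 15 by norm_num, Nat.factorization_mul (by norm_num) (by norm_num), Finsupp.add_apply,
      Nat.prime_two.factorization_pow, Finsupp.single_eq_same, Nat.factorization_eq_zero_of_not_dvd (n := 15) (by norm_num)]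
  have hsub : Subsingleton (Sylow 2 K) := by
    refine ⟨fun P Q => Sylow.ext (SetLike.coe_injective ?_)⟩
    have hset : ∀ R : Sylow 2 K, ((R : Subgroup K) : Set K) = {x | x * x = 1} := by
      intro R
      refine Set.eq_of_subset_of_ncard_le ?_ ?_ (Set.toFinite _)
      · intro x hx
        have h4' : x ^ 4 = 1 := by
          have h := pow_card_eq_one' (x := (⟨x, hx⟩ : (R : Subgroup K)))
          rw [h4 K R (by rw [hc, hf12])] at h
          exact congrArg Subtype.val h
        have := altFour_set.2 (eK x) (by rw [← map_pow, h4', map_one])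
        rw [← map_mul] at this
        exact (MulEquiv.map_eq_one_iff eK).1 this
      · rw [show ((R : Subgroup K) : Set K).ncard = 4 from (Nat.card_coe_set_eq _).symm.trans (h4 K R (by rw [hc, hf12]))]
        refine le_trans ?_ altFour_set.1
        rw [← Set.ncard_image_of_injective _ eK.injective, ← Set.ncard_coe_finset]
        refine Set.ncard_le_ncard ?_ (Set.toFinite _)
        rintro _ ⟨x, hx, rfl⟩
        simp only [Finset.coe_filter, Finset.mem_univ, true_and]
        show eK x * eK x = 1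
        rw [← map_mul, show x * x = 1 from hx, map_one]
    exact (hset P).trans (hset Q).symm
  obtain ⟨Q⟩ : Nonempty (Sylow 2 K) := inferInstance
  set V := (Q : Subgroup K).map K.subtype
  have hVc : Nat.card V = 4 :=
    (Nat.card_congr ((Q : Subgroup K).equivMapOfInjective _ K.subtype_injective).toEquiv).symm.trans
      (h4 K Q (by rw [hc, hf12]))
  have hVK : V ≤ K := Subgroup.map_subtype_le _
  have hKN : K ≤ Subgroup.normalizer (V : Set PSL2) := by
    refine (Subgroup.normal_subgroupOf_iff_le_normalizer hVK).1 ?_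
    rw [show V.subgroupOf K = (Q : Subgroup K) from Subgroup.comap_map_eq_self_of_injective K.subtype_injective _]
    exact Sylow.normal_of_subsingleton Q
  have hNK : Subgroup.normalizer (V : Set PSL2) = K := by
    refine (Subgroup.eq_of_le_of_card_ge hKN ?_).symm
    have hne : Subgroup.normalizer (V : Set PSL2) ≠ ⊤ := fun h => by
      rcases (Subgroup.normalizer_eq_top_iff.1 h).eq_bot_or_eq_top with e' | e'
      · rw [e', Subgroup.card_bot] at hVc; omega
      · rw [e', Subgroup.card_top, card_psl h11] at hVc; omega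
    have hd := Subgroup.card_dvd_of_le hKN
    rw [hc] at hd ⊢
    rcases orders h11 _ hne with h | h | h | h | h | ⟨h, ⟨i⟩⟩
    · have := hd.trans h; omega
    · have := hd.trans h; omega
    · omega
    · omega
    · omega
    · exfalso
      have hVN : V ≤ Subgroup.normalizer (V : Set PSL2) := Subgroup.le_normalizer
      have hn : (V.subgroupOf (Subgroup.normalizer (V : Set PSL2))).Normal := Subgroup.normal_in_normalizer
      have := (hn.map i.toMonoidHom i.surjective).eq_bot_or_eq_top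
      have hcV : Nat.card ((V.subgroupOf (Subgroup.normalizer (V : Set PSL2))).map i.toMonoidHom) = 4 := by
        rw [← Nat.card_congr (Subgroup.equivMapOfInjective _ i.toMonoidHom i.injective).toEquiv,
          Nat.card_congr (Subgroup.subgroupOfEquivOfLe hVN).toEquiv, hVc]
      rcases this with e' | e' <;> rw [e'] at hcV
      · rw [Subgroup.card_bot] at hcV; omega
      · rw [Subgroup.card_top, card_altFive] at hcV; omega
  have hVH : V ≤ H := hVK.trans inf_le_left
  have hV' : V.map (MulAut.conj g⁻¹).toMonoidHom ≤ H := by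
    rintro _ ⟨v, hv, rfl⟩
    obtain ⟨w, hw, rfl⟩ := (hVK hv).2
    simpa [MulAut.conj_apply, mul_assoc] using hw
  have hV'c : Nat.card (V.map (MulAut.conj g⁻¹).toMonoidHom) = 4 :=
    (Nat.card_congr (V.equivMapOfInjective _ (MulAut.conj g⁻¹).injective).toEquiv).symm.trans hVc
  have hH60 : Nat.card H = 60 := (Nat.card_congr e.toEquiv).trans card_altFive
  let S1 : Sylow 2 H := Sylow.ofCard (V.subgroupOf H) (by
    rw [Nat.card_congr (Subgroup.subgroupOfEquivOfLe hVH).toEquiv, hVc, hH60, hf60]; norm_num)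
  let S2 : Sylow 2 H := Sylow.ofCard ((V.map (MulAut.conj g⁻¹).toMonoidHom).subgroupOf H) (by
    rw [Nat.card_congr (Subgroup.subgroupOfEquivOfLe hV').toEquiv, hV'c, hH60, hf60]; norm_num)
  obtain ⟨h, hh⟩ := MulAction.exists_smul_eq H S2 S1
  have key : (V.map (MulAut.conj g⁻¹).toMonoidHom).map (MulAut.conj (h : PSL2)).toMonoidHom = V := by
    have e1 : MulAut.conj h • (S2 : Subgroup H) = (S1 : Subgroup H) := by
      rw [← Sylow.coe_subgroup_smul, hh]
    simp only [S1, S2, Sylow.coe_ofCard] at e1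
    ext x
    constructor
    · rintro ⟨y, hy, rfl⟩
      have : MulAut.conj h (⟨y, hV' hy⟩ : H) ∈ V.subgroupOf H := by
        rw [← e1]
        exact Subgroup.smul_mem_pointwise_smul _ _ _ hy
      exact this
    · intro hx
      have : (⟨x, hVH hx⟩ : H) ∈ MulAut.conj h • ((V.map (MulAut.conj g⁻¹).toMonoidHom).subgroupOf H) := by
        rw [e1]; exact hx
      obtain ⟨y, hy, hye⟩ := this
      exact ⟨y.1, hy, congrArg Subtype.val hye⟩
  have hmem : (h : PSL2) * g⁻¹ ∈ Subgroup.normalizer (V : Set PSL2) := by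
    refine Subgroup.mem_normalizer_fintype (S := (V : Set PSL2)) fun v hv => ?_
    rw [SetLike.mem_coe, ← key]
    refine ⟨g⁻¹ * v * g, ⟨v, hv, by simp⟩, ?_⟩
    simp [mul_assoc]
  rw [hNK] at hmem
  have : (h : PSL2) * g⁻¹ ∈ H := (inf_le_left : K ≤ H) hmem
  exact hg (by
    have h' := mul_mem (inv_mem this) h.2
    simpa using h')

/-- The action on the cosets is two-transitive. -/
theorem two_transitive {H : Subgroup PSL2} (e : H ≃* alternatingGroup (Fin 5)) :
    MulAction.IsMultiplyPretransitive PSL2 (PSL2 ⧸ H) 2 := by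
  classical
  have hc : Nat.card H = 60 := (Nat.card_congr e.toEquiv).trans card_altFive
  have hn : Nat.card (PSL2 ⧸ H) = 11 := index_eq h11 e
  set x0 : PSL2 ⧸ H := ((1 : PSL2) : PSL2 ⧸ H) with hx0
  have hst : MulAction.stabilizer PSL2 x0 = H := MulAction.stabilizer_quotient H
  have hsize : ∀ a : PSL2 ⧸ H, a ≠ x0 → 6 ≤ (MulAction.orbit H a).ncard := by
    intro a ha
    obtain ⟨g, rfl⟩ := QuotientGroup.mk_surjective a
    have hg : g ∉ H := fun hg => ha (QuotientGroup.eq.2 (by rw [mul_one]; exact inv_mem hg))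
    have hs : MulAction.stabilizer H ((g : PSL2) : PSL2 ⧸ H) =
        (H ⊓ H.map (MulAut.conj g).toMonoidHom).subgroupOf H := by
      ext k
      rw [MulAction.mem_stabilizer_iff, Subgroup.mem_subgroupOf, Subgroup.mem_inf]
      show ((k.1 * g : PSL2) : PSL2 ⧸ H) = (g : PSL2 ⧸ H) ↔ _
      rw [QuotientGroup.eq]
      constructor
      · intro h
        exact ⟨k.2, g⁻¹ * k.1 * g, by simpa [mul_assoc] using inv_mem h, by simp [mul_assoc]⟩
      · rintro ⟨-, w, hw, hwe⟩
        rw [← hwe]
        simpa [MulAut.conj_apply, mul_assoc] using inv_mem hw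
    have h := MulAction.index_stabilizer H ((g : PSL2) : PSL2 ⧸ H)
    rw [hs] at h
    have hm := ((H ⊓ H.map (MulAut.conj g).toMonoidHom).subgroupOf H).index_mul_card
    rw [h, Nat.card_congr (Subgroup.subgroupOfEquivOfLe inf_le_left).toEquiv, hc] at hm
    have hne : Nat.card (H ⊓ H.map (MulAut.conj g).toMonoidHom : Subgroup PSL2) ≠ 60 := by
      intro h60
      have e1 : H ≤ H.map (MulAut.conj g).toMonoidHom := inf_eq_left.1
        (Subgroup.eq_of_le_of_card_ge inf_le_left (by rw [h60, hc]))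
      have e2 : H = H.map (MulAut.conj g).toMonoidHom := Subgroup.eq_of_le_of_card_ge e1
        (Nat.card_congr (H.equivMapOfInjective _ (MulAut.conj g).injective).toEquiv).ge
      refine hg ?_
      rw [← normalizer_eq h11 e]
      refine Subgroup.mem_normalizer_fintype (S := (H : Set PSL2)) fun v hv => ?_
      rw [SetLike.mem_coe, e2]
      exact ⟨v, hv, rfl⟩
    have h12 := inter_ne_twelve h11 e hg
    have hd : Nat.card (H ⊓ H.map (MulAut.conj g).toMonoidHom : Subgroup PSL2) ∣ 60 := ⟨_, by rw [← hm, mul_comm]⟩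
    have hbig : Nat.card (H ⊓ H.map (MulAut.conj g).toMonoidHom : Subgroup PSL2) ≤ 10 := by
      have hne' : H ⊓ H.map (MulAut.conj g).toMonoidHom ≠ (⊤ : Subgroup PSL2) := fun h =>
        ne_top_of_equiv h11 e (top_le_iff.1 (h ▸ inf_le_left))
      rcases orders h11 _ hne' with h | h | h | h | h | ⟨h, -⟩
      · have h5 := Nat.dvd_gcd h hd
        rw [show Nat.gcd 55 60 = 5 by norm_num] at h5
        have := Nat.le_of_dvd (by norm_num) h5
        omega
      · have := Nat.le_of_dvd (by norm_num) h; omega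
      all_goals omega
    have := Nat.mul_le_mul_left (MulAction.orbit H ((g : PSL2) : PSL2 ⧸ H)).ncard hbig
    omega
  have htr : ∀ a b : PSL2 ⧸ H, a ≠ x0 → b ≠ x0 → ∃ k : H, k • a = b := by
    intro a b ha hb
    by_contra hne
    have hd : Disjoint (MulAction.orbit H a) (MulAction.orbit H b) := by
      refine Set.disjoint_left.2 fun z hz1 hz2 => hne ?_
      have : b ∈ MulAction.orbit H a := by
        rw [← MulAction.orbit_eq_iff.2 hz1, MulAction.orbit_eq_iff.2 hz2]
        exact MulAction.mem_orbit_self b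
      exact this
    have hx : ∀ c, c ≠ x0 → x0 ∉ MulAction.orbit H c := by
      rintro c hc' ⟨k, hk⟩
      refine hc' ?_
      rw [← inv_smul_eq_iff.2 hk.symm]
      have : ((k⁻¹ : H) : PSL2) ∈ MulAction.stabilizer PSL2 x0 := hst.symm ▸ (k⁻¹).2
      exact this
    have hsub : MulAction.orbit H a ∪ MulAction.orbit H b ⊆ ({x0}ᶜ : Set (PSL2 ⧸ H)) := by
      rintro z (hz | hz) rfl
      · exact hx a ha hz
      · exact hx b hb hz
    have := Set.ncard_le_ncard hsub (Set.toFinite _)
    rw [Set.ncard_union_eq hd, Set.ncard_compl, Set.ncard_singleton, hn] at this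
    have := hsize a ha
    have := hsize b hb
    omega
  rw [MulAction.is_two_pretransitive_iff]
  intro a b c d hab hcd
  obtain ⟨g1, hg1⟩ := MulAction.exists_smul_eq PSL2 a x0
  obtain ⟨g2, hg2⟩ := MulAction.exists_smul_eq PSL2 c x0
  obtain ⟨k, hk⟩ := htr (g1 • b) (g2 • d) (fun e' => hab (smul_left_cancel g1 (hg1.trans e'.symm)))
    (fun e' => hcd (smul_left_cancel g2 (hg2.trans e'.symm)))
  have hkx : (k : PSL2) • x0 = x0 := by
    have : (k : PSL2) ∈ MulAction.stabilizer PSL2 x0 := hst.symm ▸ k.2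
    exact this
  refine ⟨g2⁻¹ * k * g1, ?_, ?_⟩
  · rw [mul_smul, mul_smul, hg1, hkx, inv_smul_eq_iff, hg2]
  · rw [mul_smul, mul_smul, show (k : PSL2) • g1 • b = g2 • d from hk, inv_smul_smul]

/-- Generating pairs of orders two, three, five. -/
def pairSet (G : Type*) [Group G] : Set (G × G) :=
  {p | p.1 * p.1 = 1 ∧ p.1 ≠ 1 ∧ p.2 ^ 3 = 1 ∧ p.2 ≠ 1 ∧ (p.1 * p.2) ^ 5 = 1 ∧ p.1 * p.2 ≠ 1}

omit [Fintype F] h11 in
theorem altFive_pairs : ((Finset.univ : Finset (alternatingGroup (Fin 5) × alternatingGroup (Fin 5))).filter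
    fun p => p.1 * p.1 = 1 ∧ p.1 ≠ 1 ∧ p.2 ^ 3 = 1 ∧ p.2 ≠ 1 ∧ (p.1 * p.2) ^ 5 = 1 ∧ p.1 * p.2 ≠ 1).card = 120 := by
  decide +kernel

omit h11 in
theorem trace_five (h2 : (2 : F) ≠ 0) {g : SL(2, F)} (h : (pr g : PSL2) ^ 5 = 1) (h1 : (pr g : PSL2) ≠ 1) :
    (g : M2).trace ^ 4 - 3 * (g : M2).trace ^ 2 + 1 = 0 := by
  rw [← map_pow, SL2Anti.pr_eq_one, SL2Anti.mem_center_iff_sign h2] at h
  obtain ⟨r, hr, e⟩ : ∃ r : F, r * r = 1 ∧ ((g ^ 5 : SL(2, F)) : M2) = r • (1 : M2) := by
    rcases h with h | h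
    · exact ⟨1, one_mul 1, by rw [h]; simp⟩
    · exact ⟨-1, by ring, by rw [h]; simp⟩
  have hd : (g : M2).det = 1 := g.2
  set s := (g : M2).trace with hs
  have e2 : (g : M2) * (g : M2) = s • (g : M2) - 1 := by
    rw [det_fin_two] at hd
    ext i j
    fin_cases i <;> fin_cases j <;> simp [hs, trace_fin_two, Matrix.mul_apply, Fin.sum_univ_two]
    · linear_combination -hd
    · ring
    · ring
    · linear_combination -hd
  have e5 : ((g ^ 5 : SL(2, F)) : M2) = (s ^ 4 - 3 * s ^ 2 + 1) • (g : M2) - (s ^ 3 - 2 * s) • (1 : M2) := by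
    rw [Matrix.SpecialLinearGroup.coe_pow, show (g : M2) ^ 5 = (g : M2) * (g : M2) * ((g : M2) * (g : M2)) * (g : M2) by
      noncomm_ring, e2]
    simp only [sub_mul, mul_sub, smul_mul_assoc, mul_smul_comm, one_mul, mul_one, e2, smul_sub, smul_smul]
    module
  rw [e5] at e
  by_contra hne
  set c := s ^ 4 - 3 * s ^ 2 + 1 with hc
  set t := (r + (s ^ 3 - 2 * s)) / c with ht
  have hg : (g : M2) = t • (1 : M2) := by
    have e' : c • (g : M2) = (r + (s ^ 3 - 2 * s)) • (1 : M2) := by
      conv_rhs => rw [add_smul, ← e]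
      abel
    rw [ht, div_eq_inv_mul, ← smul_smul, ← e', smul_smul, inv_mul_cancel₀ hne, one_smul]
  refine h1 (SL2Anti.pr_eq_one.2 (Matrix.SpecialLinearGroup.mem_center_iff.2 ⟨t, ?_, ?_⟩))
  · rw [hg, Matrix.det_smul, det_one, mul_one] at hd
    exact hd
  · rw [hg]
    ext i j
    fin_cases i <;> fin_cases j <;> simp

omit [Fintype F] h11 in
theorem ncard_conic [Finite F] (h2 : (2 : F) ≠ 0) {r : F} (hr : r ≠ 0) :
    {p : F × F | p.1 * p.1 + p.2 * p.2 = r}.ncard ≤ Nat.card (SL2Anti.CJ F) := by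
  obtain ⟨u, v, huv⟩ := exists_binary_eq h2 (one_ne_zero (α := F)) one_ne_zero r
  rw [one_mul, one_mul] at huv
  rw [← Nat.card_coe_set_eq]
  have key : ∀ p : {p : F × F | p.1 * p.1 + p.2 * p.2 = r},
      ((p.1.1 * u + p.1.2 * v) / r) * ((p.1.1 * u + p.1.2 * v) / r) -
        (-((p.1.2 * u - p.1.1 * v) / r)) * ((p.1.2 * u - p.1.1 * v) / r) = 1 := fun p => by
    have hp : p.1.1 * p.1.1 + p.1.2 * p.1.2 = r := p.2
    field_simp
    linear_combination (u * u + v * v) * hp + r * huv
  refine Nat.card_le_card_of_injective (fun p => (⟨⟨!![(p.1.1 * u + p.1.2 * v) / r, -((p.1.2 * u - p.1.1 * v) / r);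
      (p.1.2 * u - p.1.1 * v) / r, (p.1.1 * u + p.1.2 * v) / r], by rw [det_fin_two_of]; exact key p⟩,
    SL2Anti.mem_CJ.2 ⟨by simp, by simp⟩⟩ : SL2Anti.CJ F)) fun p q e => ?_
  have e00 := congrArg (fun m : SL2Anti.CJ F => (m.1 : M2) 0 0) e
  have e10 := congrArg (fun m : SL2Anti.CJ F => (m.1 : M2) 1 0) e
  simp at e00 e10
  rw [div_left_inj' hr] at e00 e10
  refine Subtype.ext (Prod.ext (mul_left_cancel₀ hr ?_) (mul_left_cancel₀ hr ?_))
  · linear_combination u * e00 - v * e10 + (q.1.1 - p.1.1) * huv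
  · linear_combination v * e00 + u * e10 + (q.1.2 - p.1.2) * huv

theorem card_pairs_le : (pairSet PSL2).ncard ≤ 2640 := by
  classical
  have h2 := two_ne h11
  have h4 := four_le h11
  have := Fact.mk (show Nat.Prime 11 by norm_num)
  have : CharP F 11 := charP_of_card_eq_prime h11
  have h0 : (11 : F) = 0 := by
    have h : ((11 : ℕ) : F) = 0 := CharP.cast_eq_zero F 11
    exact_mod_cast h
  have hns : ¬ IsSquare (-1 : F) := fun h => FiniteField.isSquare_neg_one_iff.1 h (by rw [h11])
  have hne : ∀ n : ℕ, 0 < n → n < 11 → (n : F) ≠ 0 := fun n h1 h2 e => by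
    have := Nat.le_of_dvd h1 ((CharP.cast_eq_zero_iff F 11 n).1 e)
    omega
  set x : PSL2 := pr J0 with hx
  set W := {Y : SL(2, F) | ((Y : M2) 0 0 + (Y : M2) 1 1) ∈ ({1, -1} : Finset F) ∧
    ((Y : M2) 0 1 - (Y : M2) 1 0) ∈ ({3, -3, 4, -4} : Finset F)}
  set T := {b : PSL2 | b ^ 3 = 1 ∧ b ≠ 1 ∧ (x * b) ^ 5 = 1 ∧ x * b ≠ 1}
  have hTW : (pr : SL(2, F) → PSL2) ⁻¹' T ⊆ W := by
    rintro Y ⟨h3, h31, h5, h51⟩
    refine ⟨?_, ?_⟩
    · have hd : (Y : M2).det = 1 := Y.2
      rw [det_fin_two] at hd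
      have e := cube_eq Y
      rw [trace_fin_two] at e
      set s := (Y : M2) 0 0 + (Y : M2) 1 1
      simp only [Finset.mem_insert, Finset.mem_singleton]
      refine mul_self_eq_one_iff.1 ?_
      by_contra hs
      rw [pow_three, ← map_mul, ← map_mul, ← mul_assoc, SL2Anti.pr_eq_one, SL2Anti.mem_center_iff_sign h2] at h3
      obtain ⟨r, hr, e'⟩ : ∃ r : F, r * r = 1 ∧ ((Y * Y * Y : SL(2, F)) : M2) = r • (1 : M2) := by
        rcases h3 with h | h
        · exact ⟨1, one_mul 1, by rw [h]; simp⟩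
        · exact ⟨-1, by ring, by rw [h]; simp⟩
      rw [e'] at e
      have hg : (Y : M2) = ((r + s) / (s * s - 1)) • (1 : M2) := by
        rw [div_eq_inv_mul, ← smul_smul, add_smul, e, sub_add_cancel, smul_smul,
          inv_mul_cancel₀ (sub_ne_zero.2 hs), one_smul]
      refine h31 (SL2Anti.pr_eq_one.2 (Matrix.SpecialLinearGroup.mem_center_iff.2 ⟨(r + s) / (s * s - 1), ?_, ?_⟩))
      · have hd' : (Y : M2).det = 1 := Y.2
        rwa [hg, Matrix.det_smul, det_one, mul_one] at hd'
      · rw [hg]; ext i j; fin_cases i <;> fin_cases j <;> simp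
    · rw [hx, ← map_mul] at h5 h51
      have e := trace_five h2 h5 h51
      have ht : ((J0 * Y : SL(2, F)) : M2).trace = (Y : M2) 0 1 - (Y : M2) 1 0 := by
        simp [trace_fin_two, Matrix.mul_apply, Fin.sum_univ_two, vecMul, dotProduct]; ring
      rw [ht] at e
      set τ := (Y : M2) 0 1 - (Y : M2) 1 0
      have h' : ((τ - 3) * (τ + 3)) * ((τ - 4) * (τ + 4)) = 0 := by
        linear_combination e + (13 - 2 * τ ^ 2) * h0
      simp only [Finset.mem_insert, Finset.mem_singleton]
      rcases mul_eq_zero.1 h' with h | h <;> rcases mul_eq_zero.1 h with h | h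
      · exact Or.inl (sub_eq_zero.1 h)
      · exact Or.inr (Or.inl (add_eq_zero_iff_eq_neg.1 h))
      · exact Or.inr (Or.inr (Or.inl (sub_eq_zero.1 h)))
      · exact Or.inr (Or.inr (Or.inr (add_eq_zero_iff_eq_neg.1 h)))
  have hW : W.ncard ≤ 96 := by
    let C : F → F → Set SL(2, F) := fun s τ => {Y | (Y : M2) 0 0 + (Y : M2) 1 1 = s ∧ (Y : M2) 0 1 - (Y : M2) 1 0 = τ}
    have hC : ∀ s τ : F, s * s = 1 → (τ * τ = 9 ∨ τ * τ = 16) → (C s τ).ncard ≤ 12 := by
      intro s τ hs hτ
      have hr : s * s + τ * τ - 4 ≠ 0 := by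
        intro e
        rcases hτ with h | h
        · exact hne 6 (by norm_num) (by norm_num) (by push_cast; linear_combination e - hs - h)
        · exact hne 2 (by norm_num) (by norm_num) (by push_cast; linear_combination e - hs - h - h0)
      have hcj : Nat.card (SL2Anti.CJ F) = 12 := by rw [SL2Anti.card_CJ_nonsplit hns, h11]
      rw [← hcj]
      refine le_trans ?_ (ncard_conic h2 hr)
      refine Set.ncard_le_ncard_of_injOn (fun Y => (2 * (Y : M2) 0 0 - s, 2 * (Y : M2) 0 1 - τ)) ?_ ?_ (Set.toFinite _)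
      · rintro Y ⟨hY1, hY2⟩
        have hd : (Y : M2).det = 1 := Y.2
        rw [det_fin_two] at hd
        show (2 * (Y : M2) 0 0 - s) * (2 * (Y : M2) 0 0 - s) + (2 * (Y : M2) 0 1 - τ) * (2 * (Y : M2) 0 1 - τ) = _
        linear_combination (-4 : F) * hd + 4 * (Y : M2) 0 0 * hY1 + 4 * (Y : M2) 0 1 * hY2
      · rintro Y ⟨hY1, hY2⟩ Z ⟨hZ1, hZ2⟩ e
        simp only [Prod.mk.injEq] at e
        have e00 : (Y : M2) 0 0 = (Z : M2) 0 0 := mul_left_cancel₀ h2 (by linear_combination e.1)
        have e01 : (Y : M2) 0 1 = (Z : M2) 0 1 := mul_left_cancel₀ h2 (by linear_combination e.2)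
        refine Subtype.ext (Matrix.ext fun i j => ?_)
        fin_cases i <;> fin_cases j <;> simp
        · exact e00
        · exact e01
        · linear_combination e01 - hY2 + hZ2
        · linear_combination hY1 - hZ1 - e00
    have hsub : W ⊆ ⋃ p ∈ (({1, -1} : Finset F) ×ˢ ({3, -3, 4, -4} : Finset F)), C p.1 p.2 := by
      rintro Y ⟨h1, h2⟩
      exact Set.mem_biUnion (x := (_, _)) (Finset.mem_product.2 ⟨h1, h2⟩) ⟨rfl, rfl⟩
    refine (Set.ncard_le_ncard hsub (Set.toFinite _)).trans ((Finset.set_ncard_biUnion_le _ _).trans ?_)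
    refine (Finset.sum_le_card_nsmul _ _ 12 ?_).trans ?_
    · rintro ⟨s, τ⟩ h
      simp only [Finset.mem_product, Finset.mem_insert, Finset.mem_singleton] at h
      refine hC s τ ?_ ?_
      · rcases h.1 with rfl | rfl <;> ring
      · rcases h.2 with rfl | rfl | rfl | rfl <;> first | (left; ring1) | (right; ring1)
    · rw [smul_eq_mul, Finset.card_product]
      have a1 := Finset.card_insert_le (1 : F) {-1}
      have a2 := Finset.card_insert_le (3 : F) {-3, 4, -4}
      have a3 := Finset.card_insert_le (-3 : F) {4, -4}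
      have a4 := Finset.card_insert_le (4 : F) {-4}
      simp only [Finset.card_singleton] at a1 a4
      have := Nat.mul_le_mul a1 (show ({3, -3, 4, -4} : Finset F).card ≤ 4 by omega)
      omega
  have hT : T.ncard ≤ 48 := by
    have := (Set.ncard_le_ncard hTW (Set.toFinite _)).trans hW
    rw [ncard_preimage_pr h2] at this
    omega
  have hxo : orderOf x = 2 := orderOf_eq_prime (by rw [sq]; exact SL2Anti.pr_mul_self_of_sq h2 SL2Anti.J0_sq)
    ((sq_one_iff_trace h2 (g := J0)).2 (by simp [trace_fin_two])).2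
  have hI : {y : PSL2 | y * y = 1 ∧ y ≠ 1}.ncard = 55 := by
    rw [ncard_involutions hxo]
    obtain ⟨E, _, _, f, hE, hQC⟩ := exists_quadExt F
    have hx1 : x ≠ 1 := fun e => by rw [e, orderOf_one] at hxo; omega
    have h := (Subgroup.centralizer ({x} : Set PSL2)).index_mul_card
    rw [card_psl h11] at h
    have hd2 := Subgroup.orderOf_dvd_natCard (Subgroup.centralizer ({x} : Set PSL2)) (x := x)
      (Subgroup.mem_centralizer_singleton_iff.2 rfl)
    rw [hxo] at hd2
    rcases card_centralizer_cases f hE hQC h4 x hx1 with hC | ⟨k, hk, hd, hC, -⟩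
    · rw [hC, h11] at hd2; omega
    · have hxx : x * x = 1 := SL2Anti.pr_mul_self_of_sq h2 SL2Anti.J0_sq
      rw [hC hxx] at h
      rw [hxo] at hd
      rw [h11, show Nat.gcd 2 (11 - 1) = 2 by norm_num] at hk
      obtain ⟨j, rfl⟩ := hd
      have : j = 3 := by omega
      subst this; omega
  have hfib : ∀ a : PSL2, a * a = 1 → a ≠ 1 →
      {b : PSL2 | b ^ 3 = 1 ∧ b ≠ 1 ∧ (a * b) ^ 5 = 1 ∧ a * b ≠ 1}.ncard ≤ 48 := by
    intro a ha ha1
    obtain ⟨g, hg⟩ := isConj_iff.1 (isConj_involutions hxo (orderOf_eq_prime (p := 2) (by rw [sq]; exact ha) ha1))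
    refine le_trans ?_ hT
    refine Set.ncard_le_ncard_of_injOn (fun b => g⁻¹ * b * g) ?_ ?_ (Set.toFinite _)
    · rintro b ⟨b1, b2, b3, b4⟩
      have hc : ∀ (y : PSL2) (n : ℕ), (g⁻¹ * y * g) ^ n = g⁻¹ * y ^ n * g := fun y n => by
        have := conj_pow (a := g⁻¹) (b := y) (i := n); rwa [inv_inv] at this
      have hab : x * (g⁻¹ * b * g) = g⁻¹ * (a * b) * g := by rw [← hg]; group
      refine ⟨?_, ?_, ?_, ?_⟩
      · rw [hc, b1]; group
      · exact fun e => b2 (by calc b = g * (g⁻¹ * b * g) * g⁻¹ := by group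
                                _ = 1 := by rw [e]; group)
      · rw [hab, hc, b3]; group
      · rw [hab]
        exact fun e => b4 (by calc a * b = g * (g⁻¹ * (a * b) * g) * g⁻¹ := by group
                                _ = 1 := by rw [e]; group)
    · intro b _ c _ e
      exact mul_left_cancel (mul_right_cancel e)
  let J := (Set.toFinite {y : PSL2 | y * y = 1 ∧ y ≠ 1}).toFinset
  have hsub : pairSet PSL2 ⊆ ⋃ a ∈ J,
      Prod.mk a '' {b : PSL2 | b ^ 3 = 1 ∧ b ≠ 1 ∧ (a * b) ^ 5 = 1 ∧ a * b ≠ 1} := by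
    rintro ⟨a, b⟩ ⟨a1, a2, h⟩
    exact Set.mem_biUnion ((Set.Finite.mem_toFinset _).2 ⟨a1, a2⟩) ⟨b, h, rfl⟩
  refine (Set.ncard_le_ncard hsub (Set.toFinite _)).trans ((Finset.set_ncard_biUnion_le _ _).trans ?_)
  refine (Finset.sum_le_card_nsmul _ _ 48 fun a ha => ?_).trans ?_
  · rw [Set.Finite.mem_toFinset] at ha
    rw [Set.ncard_image_of_injective _ (Prod.mk_right_injective a)]
    exact hfib a ha.1 ha.2
  · rw [← Set.ncard_eq_toFinset_card _ (Set.toFinite _), hI, smul_eq_mul]

theorem card_altFive_le :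
    Nat.card {H : Subgroup PSL2 // Nonempty (H ≃* alternatingGroup (Fin 5))} ≤ 22 := by
  classical
  have hP := card_pairs_le h11
  let A := pairSet (alternatingGroup (Fin 5))
  have hA : Nat.card A = 120 := by
    rw [Nat.card_coe_set_eq]
    refine Eq.trans ?_ altFive_pairs
    rw [← Set.ncard_coe_finset]
    refine congrArg Set.ncard (Set.ext fun p => ?_)
    simp only [A, pairSet, Finset.coe_filter, Finset.mem_univ, true_and]
  have hmem : ∀ (H : {H : Subgroup PSL2 // Nonempty (H ≃* alternatingGroup (Fin 5))}) (p : A),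
      (((H.2.some.symm p.1.1 : H.1) : PSL2), ((H.2.some.symm p.1.2 : H.1) : PSL2)) ∈ pairSet PSL2 := by
    rintro H ⟨⟨a, b⟩, p1, p2, p3, p4, p5, p6⟩
    set i := H.2.some.symm
    refine ⟨?_, ?_, ?_, ?_, ?_, ?_⟩
    · rw [← Subgroup.coe_mul, ← map_mul, p1, map_one]; rfl
    · exact fun e => p2 (i.map_eq_one_iff.1 (Subtype.ext e))
    · rw [← SubgroupClass.coe_pow, ← map_pow, p3, map_one]; rfl
    · exact fun e => p4 (i.map_eq_one_iff.1 (Subtype.ext e))
    · rw [← Subgroup.coe_mul, ← map_mul, ← SubgroupClass.coe_pow, ← map_pow, p5, map_one]; rfl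
    · intro e
      rw [← Subgroup.coe_mul, ← map_mul] at e
      exact p6 (i.map_eq_one_iff.1 (Subtype.ext e))
  let Φ : {H : Subgroup PSL2 // Nonempty (H ≃* alternatingGroup (Fin 5))} × A → pairSet PSL2 :=
    fun q => ⟨_, hmem q.1 q.2⟩
  have hgen : ∀ q, Subgroup.closure {(Φ q).1.1, (Φ q).1.2} = q.1.1 := by
    rintro ⟨⟨H, hH⟩, p⟩
    obtain ⟨a1, a2, b1, b2, c1, c2⟩ := (Φ (⟨H, hH⟩, p)).2
    set a := (Φ (⟨H, hH⟩, p)).1.1
    set b := (Φ (⟨H, hH⟩, p)).1.2
    set K := Subgroup.closure {a, b}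
    have haK : a ∈ K := Subgroup.subset_closure (Set.mem_insert _ _)
    have hbK : b ∈ K := Subgroup.subset_closure (Set.mem_insert_of_mem _ rfl)
    have hle : K ≤ H := (Subgroup.closure_le H).2 (Set.insert_subset_iff.2
      ⟨SetLike.coe_mem _, Set.singleton_subset_iff.2 (SetLike.coe_mem _)⟩)
    refine Subgroup.eq_of_le_of_card_ge hle ?_
    have := Fact.mk Nat.prime_two
    have := Fact.mk Nat.prime_three
    have := Fact.mk Nat.prime_five
    have d2 : 2 ∣ Nat.card K :=
      (orderOf_eq_prime (p := 2) (by rw [sq]; exact a1) a2).symm.dvd.trans (Subgroup.orderOf_dvd_natCard K haK)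
    have d3 : 3 ∣ Nat.card K := (orderOf_eq_prime (p := 3) b1 b2).symm.dvd.trans (Subgroup.orderOf_dvd_natCard K hbK)
    have d5 : 5 ∣ Nat.card K :=
      (orderOf_eq_prime (p := 5) c1 c2).symm.dvd.trans (Subgroup.orderOf_dvd_natCard K (mul_mem haK hbK))
    have hKtop : K ≠ ⊤ := fun e => ne_top_of_equiv h11 hH.some (top_le_iff.1 (e ▸ hle))
    rw [show Nat.card H = 60 from (Nat.card_congr hH.some.toEquiv).trans card_altFive]
    rcases orders h11 K hKtop with h | h | h | h | h | ⟨h, -⟩
    · have := d2.trans h; omega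
    · have := d5.trans h; omega
    all_goals omega
  have hinj : Function.Injective Φ := by
    intro q q' e
    have h1 : q.1.1 = q'.1.1 := by rw [← hgen q, ← hgen q', e]
    obtain ⟨H, p⟩ := q
    obtain ⟨H', p'⟩ := q'
    obtain rfl : H = H' := Subtype.ext h1
    obtain ⟨e1, e2⟩ := Prod.ext_iff.1 (congrArg Subtype.val e)
    rw [show p = p' from Subtype.ext (Prod.ext (H.2.some.symm.injective (Subtype.ext e1))
      (H.2.some.symm.injective (Subtype.ext e2)))]
  have h := Nat.card_le_card_of_injective Φ hinj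
  rw [Nat.card_prod, hA, Nat.card_coe_set_eq] at h
  omega

theorem altFive_classes :
    Nat.card {H : Subgroup PSL2 // Nonempty (H ≃* alternatingGroup (Fin 5))} = 22 ∧
      ∃ H K : Subgroup PSL2, Nonempty (H ≃* alternatingGroup (Fin 5)) ∧ Nonempty (K ≃* alternatingGroup (Fin 5)) ∧
        (∀ g : PSL2, MulAut.conj g • H ≠ K) ∧
        ∀ L : Subgroup PSL2, Nonempty (L ≃* alternatingGroup (Fin 5)) →
          ∃ g : PSL2, MulAut.conj g • L = H ∨ MulAut.conj g • L = K := by
  classical
  have := finite_pgl_two (F := F)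
  obtain ⟨H, ⟨e⟩⟩ := exists_altFive h11
  have hodd : Odd (Fintype.card F) := by rw [h11]; decide
  obtain ⟨t, -, ht⟩ : ∃ t ∈ (⊤ : Subgroup PGL(2, F)), t ∉ imL F := SetLike.exists_of_lt (lt_top_iff_ne_top.2 fun h => by
    have := imL_index hodd
    rw [h, Subgroup.index_top] at this
    omega)
  set M := (H.map ψ).map (MulAut.conj t).toMonoidHom with hM
  have hMle : M ≤ imL F := by
    rw [← map_conj_imL t]
    exact Subgroup.map_mono (Subgroup.map_le_range _ _)
  set K := M.comap ψ
  have hKM : K.map ψ = M := Subgroup.map_comap_eq_self hMle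
  have eK : K ≃* alternatingGroup (Fin 5) :=
    (((K.equivMapOfInjective ψ Matrix.ProjectiveSpecialLinearGroup.toPGL_injective).trans
      (MulEquiv.subgroupCongr hKM)).trans
      ((H.map ψ).equivMapOfInjective (MulAut.conj t).toMonoidHom (MulAut.conj t).injective).symm).trans
      ((H.equivMapOfInjective ψ Matrix.ProjectiveSpecialLinearGroup.toPGL_injective).symm.trans e)
  have hsep : ∀ g : PSL2, MulAut.conj g • H ≠ K := by
    intro g hgK
    set w := t⁻¹ * ψ g
    have hw : w ∉ imL F := fun h => ht (by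
      have h' := mul_mem (⟨g, rfl⟩ : ψ g ∈ imL F) (inv_mem h)
      rw [show ψ g * w⁻¹ = t by simp only [w]; group] at h'
      exact h')
    have hnorm : w ∈ Subgroup.normalizer ((H.map ψ : Subgroup PGL(2, F)) : Set PGL(2, F)) := by
      refine Subgroup.mem_normalizer_fintype (S := ((H.map ψ : Subgroup PGL(2, F)) : Set PGL(2, F))) ?_
      rintro _ ⟨v, hv, rfl⟩
      have : ψ (g * v * g⁻¹) ∈ M := by
        rw [← hKM, ← hgK]
        exact ⟨g * v * g⁻¹, Subgroup.smul_mem_pointwise_smul v (MulAut.conj g) H hv, rfl⟩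
      obtain ⟨y, hy, hye⟩ := this
      have e2 : w * ψ v * w⁻¹ = y := by
        rw [map_mul, map_mul, map_inv] at hye
        simp only [w]
        calc t⁻¹ * ψ g * ψ v * (t⁻¹ * ψ g)⁻¹ = t⁻¹ * (ψ g * ψ v * (ψ g)⁻¹) * t := by group
          _ = t⁻¹ * ((MulAut.conj t).toMonoidHom y) * t := by rw [hye]
          _ = y := by simp [mul_assoc]
      show w * ψ v * w⁻¹ ∈ _
      rw [e2]; exact hy
    set N := Subgroup.normalizer ((H.map ψ : Subgroup PGL(2, F)) : Set PGL(2, F))
    have hNc : 60 ∣ Nat.card N := by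
      have := Subgroup.card_dvd_of_le (Subgroup.le_normalizer : H.map ψ ≤ N)
      rwa [card_map_toPGL, (Nat.card_congr e.toEquiv).trans card_altFive] at this
    have hN : N ≠ ⊤ := by
      intro hN
      refine imL_not_le_normalizer (four_le h11) (Subgroup.map_le_range _ _) (fun h => ?_) (fun h => ?_)
        (show imL F ≤ N from hN ▸ le_top)
      · have := card_map_toPGL H
        rw [h, Subgroup.card_bot, (Nat.card_congr e.toEquiv).trans card_altFive] at this
        omega
      · have := card_map_toPGL H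
        rw [h, (Nat.card_congr e.toEquiv).trans card_altFive] at this
        have h2 := card_imL_two (F := F)
        rw [h11, this] at h2
        norm_num at h2
    obtain ⟨Mx, hMx, hNM⟩ := (eq_top_or_exists_le_coatom N).resolve_left hN
    have hML : ¬ (Matrix.ProjGenLinGroup.mk.comp Matrix.SpecialLinearGroup.toGL).range ≤ Mx := by
      rw [range_toGL_eq]
      intro hle
      have hi := imL_index hodd
      refine hMx.1 ?_
      have hlt : imL F < Mx := lt_of_le_of_ne hle fun e' => hw (by rw [e']; exact hNM hnorm)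
      have h1 := (imL F).relIndex_mul_index hlt.le
      refine Subgroup.index_eq_one.1 ?_
      have h2' : (imL F).relIndex Mx ∣ (imL F).index := Dvd.intro _ h1
      rw [hi] at h2'
      rcases (Nat.dvd_prime Nat.prime_two).1 h2' with h | h
      · exact absurd (Subgroup.relIndex_eq_one.1 h) hlt.not_ge
      · rw [hi, h] at h1
        omega
    have hd := hNc.trans (Subgroup.card_dvd_of_le hNM)
    rcases Cfsg.Agent.S5891.result hodd (by omega) Mx hMx hML with h | ⟨-, ⟨i⟩⟩ | ⟨⟨i⟩⟩ | ⟨-, -, ⟨i⟩⟩ |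
      ⟨F₀, _, _, r, hr, hro, hF, -⟩
    · rw [h, h11] at hd; norm_num at hd
    · rw [Nat.card_congr i.toEquiv, DihedralGroup.nat_card, h11] at hd; norm_num at hd
    · rw [Nat.card_congr i.toEquiv, DihedralGroup.nat_card, h11] at hd; norm_num at hd
    · rw [Nat.card_congr i.toEquiv, Nat.card_perm, Nat.card_fin] at hd; norm_num [Nat.factorial] at hd
    · have hp := h11 ▸ hF
      have h11' : (11 : ℕ).Prime := by norm_num
      rw [hp] at h11'
      have := Nat.Prime.eq_one_of_pow h11'
      rw [this] at hro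
      exact hr.one_lt.ne' this
  have horb : ∀ L : Subgroup PSL2, Nonempty (L ≃* alternatingGroup (Fin 5)) →
      (Set.range fun g : PSL2 => MulAut.conj g • L).ncard = 11 := by
    rintro L ⟨i⟩
    have hx : (Set.range fun g : PSL2 => MulAut.conj g • L) = MulAction.orbit (ConjAct PSL2) L := by
      ext X
      constructor
      · rintro ⟨g, rfl⟩; exact ⟨ConjAct.toConjAct g, rfl⟩
      · rintro ⟨g, rfl⟩; exact ⟨ConjAct.ofConjAct g, rfl⟩
    rw [hx, ← MulAction.index_stabilizer]
    have hs : ∀ g : ConjAct PSL2, g ∈ MulAction.stabilizer (ConjAct PSL2) L ↔ ConjAct.ofConjAct g ∈ L := by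
      intro g
      rw [MulAction.mem_stabilizer_iff]
      constructor
      · intro hg
        rw [← normalizer_eq h11 i]
        refine Subgroup.mem_normalizer_fintype (S := (L : Set PSL2)) fun v hv => ?_
        rw [SetLike.mem_coe, ← hg]
        exact ⟨v, hv, rfl⟩
      · intro hg
        exact Subgroup.conjAct_pointwise_smul_eq_self (Subgroup.le_normalizer hg)
    have hcs : Nat.card (MulAction.stabilizer (ConjAct PSL2) L) = 60 :=
      (Nat.card_congr (Equiv.subtypeEquiv ConjAct.ofConjAct.toEquiv hs)).trans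
        ((Nat.card_congr i.toEquiv).trans card_altFive)
    have hCA : Nat.card (ConjAct PSL2) = 660 :=
      (Nat.card_congr ConjAct.ofConjAct.toEquiv).trans (card_psl h11)
    have h := (MulAction.stabilizer (ConjAct PSL2) L).index_mul_card
    rw [hcs, hCA] at h
    omega
  have hK : Nonempty (K ≃* alternatingGroup (Fin 5)) := ⟨eK⟩
  set RH := Set.range fun g : PSL2 => MulAut.conj g • H
  set RK := Set.range fun g : PSL2 => MulAut.conj g • K
  have hd : Disjoint RH RK := Set.disjoint_left.2 fun X ⟨g, hg⟩ ⟨k, hk⟩ => hsep (k⁻¹ * g) (by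
    rw [map_mul, mul_smul, show MulAut.conj g • H = X from hg, ← hk, ← mul_smul, ← map_mul, inv_mul_cancel, map_one,
      one_smul])
  have hconjA : ∀ (g : PSL2) (L : Subgroup PSL2), Nonempty (L ≃* alternatingGroup (Fin 5)) →
      Nonempty ((MulAut.conj g • L : Subgroup PSL2) ≃* alternatingGroup (Fin 5)) :=
    fun g L ⟨i⟩ => ⟨(Subgroup.equivSMul (MulAut.conj g) L).symm.trans i⟩
  set S := {L : Subgroup PSL2 | Nonempty (L ≃* alternatingGroup (Fin 5))}
  have hsub : RH ∪ RK ⊆ S := by
    rintro X (⟨g, rfl⟩ | ⟨g, rfl⟩)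
    · exact hconjA g H ⟨e⟩
    · exact hconjA g K hK
  have hS : S.ncard ≤ 22 := (Nat.card_coe_set_eq S).symm.trans_le (card_altFive_le h11)
  have hU : (RH ∪ RK).ncard = 22 := by rw [Set.ncard_union_eq hd, horb H ⟨e⟩, horb K hK]
  have heq : RH ∪ RK = S := Set.eq_of_subset_of_ncard_le hsub (by omega) (Set.toFinite _)
  refine ⟨?_, H, K, ⟨e⟩, hK, hsep, fun L hL => ?_⟩
  · rw [show Nat.card {L : Subgroup PSL2 // Nonempty (L ≃* alternatingGroup (Fin 5))} = S.ncard from Nat.card_coe_set_eq S,
      ← heq, hU]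
  · have hL' : L ∈ RH ∪ RK := heq ▸ hL
    rcases hL' with ⟨g, hg⟩ | ⟨g, hg⟩
    · exact ⟨g⁻¹, Or.inl (by rw [← hg, ← mul_smul, ← map_mul, inv_mul_cancel, map_one, one_smul])⟩
    · exact ⟨g⁻¹, Or.inr (by rw [← hg, ← mul_smul, ← map_mul, inv_mul_cancel, map_one, one_smul])⟩

end Eleven

end CfsgLib.Geom.Moebius
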