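import Mathlib
import Cfsg.Agent.Lib.Geom.PSLTwoCentralizer
import Cfsg.Agent.Lib.Geom.DicksonCases
import Cfsg.Agent.Lib.Geom.MaxBridge
import Cfsg.Agent.Lib.Geom.PSLTwoTetra

set_option autoImplicit false

/-!
Hall `{2,3}`-subgroups of `PSL_2(q)`.
-/

namespace CfsgLib.Geom.Moebius

open Matrix
open scoped MatrixGroups

theorem dihedral_subgroup {k m : ℕ} [NeZero k] (hm : m ∣ k) :
    ∃ S : Subgroup (DihedralGroup k), Nat.card S = 2 * m := by
  obtain ⟨c, hc⟩ := hm
  have hm0 : 0 < m := Nat.pos_of_ne_zero fun e => NeZero.ne k (by rw [hc, e, zero_mul])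
  have : NeZero m := ⟨hm0.ne'⟩
  let φ : ZMod m →+ ZMod k := ZMod.lift m ⟨(Int.castAddHom (ZMod k)).comp (AddMonoidHom.mulLeft (c : ℤ)), by
    show (((c : ℤ) * (m : ℤ) : ℤ) : ZMod k) = 0
    rw [ZMod.intCast_zmod_eq_zero_iff_dvd]; exact ⟨1, by rw [hc]; push_cast; ring⟩⟩
  have hφ : Function.Injective φ := by
    rw [injective_iff_map_eq_zero]
    intro a ha
    obtain ⟨a, rfl⟩ := ZMod.intCast_surjective a
    simp only [φ, ZMod.lift_coe] at ha
    change (((c : ℤ) * a : ℤ) : ZMod k) = 0 at ha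
    rw [ZMod.intCast_zmod_eq_zero_iff_dvd] at ha ⊢
    have hc0 : (c : ℤ) ≠ 0 := by
      intro e
      exact NeZero.ne k (by rw [hc, Int.ofNat_eq_zero.1 e, mul_zero])
    rw [hc] at ha
    push_cast at ha
    rw [mul_comm (m : ℤ)] at ha
    exact Int.dvd_of_mul_dvd_mul_left hc0 ha
  let F : DihedralGroup m →* DihedralGroup k := MonoidHom.mk'
    (fun x => match x with | .r i => .r (φ i) | .sr i => .sr (φ i))
    (by rintro (i | i) (j | j) <;> simp [map_add, map_sub])
  have hF : Function.Injective F := by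
    rintro (i | i) (j | j) e <;> simp [F] at e
    · rw [hφ e]
    · rw [hφ e]
  exact ⟨F.range, by rw [← Nat.card_congr (MonoidHom.ofInjective hF).toEquiv, DihedralGroup.nat_card]⟩

theorem part_of_dvd {n h : ℕ} (hn : n ≠ 0) (hd : h ∣ n) (hsupp : ∀ r : ℕ, r.Prime → r ∣ h → r = 2 ∨ r = 3)
    (h2 : ¬ 2 ∣ n / h) (h3 : ¬ 3 ∣ n / h) : h = 2 ^ n.factorization 2 * 3 ^ n.factorization 3 := by
  obtain ⟨c, hc⟩ := hd
  have hh : h ≠ 0 := fun e => hn (by rw [hc, e, zero_mul])
  have hc0 : c ≠ 0 := fun e => hn (by rw [hc, e, mul_zero])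
  rw [hc, Nat.mul_div_cancel_left _ (Nat.pos_of_ne_zero hh)] at h2 h3
  have e2 : n.factorization 2 = h.factorization 2 := by
    rw [hc, Nat.factorization_mul hh hc0, Finsupp.add_apply, Nat.factorization_eq_zero_of_not_dvd h2, add_zero]
  have e3 : n.factorization 3 = h.factorization 3 := by
    rw [hc, Nat.factorization_mul hh hc0, Finsupp.add_apply, Nat.factorization_eq_zero_of_not_dvd h3, add_zero]
  rw [e2, e3]
  refine Nat.eq_of_factorization_eq hh (by positivity) fun r => ?_
  rw [Nat.factorization_mul (by positivity) (by positivity), Finsupp.add_apply, Nat.prime_two.factorization_pow,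
    Nat.prime_three.factorization_pow]
  by_cases h1 : r = 2
  · subst h1; simp
  by_cases h4 : r = 3
  · subst h4; simp
  rw [Finsupp.single_eq_of_ne h1, Finsupp.single_eq_of_ne h4, add_zero]
  by_cases hr : r.Prime
  · exact Nat.factorization_eq_zero_of_not_dvd fun hd => (hsupp r hr hd).elim h1 h4
  · exact Nat.factorization_eq_zero_of_not_prime _ hr

variable {F : Type*} [Field F] [Fintype F]

local notation "PSL2" => ProjectiveSpecialLinearGroup (Fin 2) F
local notation "ψ" => Matrix.ProjectiveSpecialLinearGroup.toPGL (n := Fin 2) (R := F)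

theorem exists_sub_dihedral (h4 : 4 ≤ Fintype.card F) (hodd : Odd (Fintype.card F)) {k m : ℕ}
    (hk : 2 * k = Fintype.card F - 1 ∨ 2 * k = Fintype.card F + 1) (hm : m ∣ k) :
    ∃ S : Subgroup PSL2, Nat.card S = 2 * m := by
  obtain ⟨E, _, _, f, hE, hQC⟩ := exists_quadExt F
  have := finite_pgl_two (F := F)
  obtain ⟨P, Q, g, hne, hg, hgP, hgQ, hcard⟩ : ∃ (P Q : Line E) (g : PGL(2, F)), P ≠ Q ∧ g ≠ 1 ∧
      extHom f g • P = P ∧ extHom f g • Q = Q ∧
      Nat.card (fixExt f P ⊓ fixExt f Q : Subgroup PGL(2, F)) = 2 * k := by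
    rcases hk with e | e <;> rw [e]
    · exact exists_torus_split f h4
    · exact exists_torus_nonsplit f hE hQC
  obtain ⟨k', -, hk', ⟨e⟩, -, -⟩ := pair_imL f hE hQC h4 hodd hne hg hgP hgQ
  have h2 := (torus_inf_imL f hE hQC hodd h4 hne hg hgP hgQ).1
  rw [hk', hcard] at h2
  obtain rfl : k' = k := by omega
  have hk0 : k' ≠ 0 := by omega
  have : NeZero k' := ⟨hk0⟩
  obtain ⟨S, hS⟩ := dihedral_subgroup hm
  let ι : DihedralGroup k' →* PGL(2, F) := (Subgroup.subtype _).comp e.symm.toMonoidHom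
  have hι : Function.Injective ι := Subtype.val_injective.comp e.symm.injective
  have hle : S.map ι ≤ imL F := by
    rintro _ ⟨y, -, rfl⟩; exact (e.symm y).2.2
  exact ⟨(S.map ι).comap ψ, by
    rw [card_comap_toPGL hle, ← hS]; exact (Nat.card_congr (S.equivMapOfInjective ι hι).toEquiv).symm⟩

theorem hall_iff {p : ℕ} [Fact p.Prime] [CharP F p] (hp : 5 ≤ p) (q : ℕ) (hq : Fintype.card F = q) :
    (∃ H : Subgroup PSL2, (∀ r : ℕ, r.Prime → r ∣ Nat.card H → r ∈ ({2, 3} : Set ℕ)) ∧
        ∀ r : ℕ, r.Prime → r ∈ ({2, 3} : Set ℕ) → ¬ r ∣ H.index) ↔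
      (3 ∣ q - 1 ∧ q % 4 = 1) ∨ (3 ∣ q + 1 ∧ q % 4 = 3) ∨
        2 ^ (q ^ 2 - 1).factorization 2 * 3 ^ (q ^ 2 - 1).factorization 3 = 24 ∨
        2 ^ (q ^ 2 - 1).factorization 2 * 3 ^ (q ^ 2 - 1).factorization 3 = 48 := by
  subst hq
  obtain ⟨n, hprime, hn⟩ := FiniteField.card F p
  have hp2 : p ≠ 2 := by omega
  have hp3 : p ≠ 3 := by omega
  have hpr : ∀ r : ℕ, r.Prime → r ∣ Fintype.card F → r = p := fun r hr h =>
    (Nat.prime_dvd_prime_iff_eq hr hprime).1 (hr.dvd_of_dvd_pow (n := (n : ℕ)) (hn ▸ h))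
  have h2q : ¬ 2 ∣ Fintype.card F := fun h => hp2 (hpr 2 Nat.prime_two h).symm
  have h3q : ¬ 3 ∣ Fintype.card F := fun h => hp3 (hpr 3 Nat.prime_three h).symm
  have hodd : Odd (Fintype.card F) := Nat.odd_iff.2 (by omega)
  have h4 : 4 ≤ Fintype.card F := by
    have := Nat.le_self_pow n.pos.ne' p
    omega
  set N := (Fintype.card F + 1) * (Fintype.card F - 1) with hN
  have hN' : Fintype.card F ^ 2 - 1 = N := by rw [hN, ← Nat.sq_sub_sq, one_pow]
  rw [hN']
  have hG : 2 * Nat.card PSL2 = Fintype.card F * N := by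
    have h := card_psl_two_split (F := F)
    rw [gcd_two_of_odd hodd] at h
    rw [h, hN]; ring
  have hN0 : N ≠ 0 := Nat.mul_ne_zero (by omega) (by omega)
  have h24 : 8 ∣ N ∧ 3 ∣ N := by
    refine ⟨?_, ?_⟩
    · obtain ⟨j, hj⟩ := hodd
      obtain ⟨i, hi⟩ := (Nat.even_mul_succ_self j)
      refine ⟨i, ?_⟩
      rw [hN, hj, show 2 * j + 1 + 1 = 2 * (j + 1) by ring, show 2 * j + 1 - 1 = 2 * j by omega]
      linarith
    · rcases (show Fintype.card F % 3 = 1 ∨ Fintype.card F % 3 = 2 by omega) with h | h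
      · exact Dvd.dvd.mul_left (by omega) _
      · exact Dvd.dvd.mul_right (by omega) _
  -- a subgroup with order supported on `{2,3}` is Hall iff its order is the half part
  have crit : ∀ H : Subgroup PSL2, (∀ r : ℕ, r.Prime → r ∣ Nat.card H → r = 2 ∨ r = 3) →
      ((∀ r : ℕ, r.Prime → r ∈ ({2, 3} : Set ℕ) → ¬ r ∣ H.index) ↔
        2 * Nat.card H = 2 ^ N.factorization 2 * 3 ^ N.factorization 3) := by
    intro H hH
    have hi : 2 * Nat.card H * H.index = Fintype.card F * N := by
      rw [mul_assoc, Subgroup.card_mul_index, hG]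
    have h0 : Fintype.card F * N ≠ 0 := Nat.mul_ne_zero (by omega) hN0
    have e2 : (Fintype.card F * N).factorization 2 = N.factorization 2 := by
      rw [Nat.factorization_mul (by omega) hN0, Finsupp.add_apply, Nat.factorization_eq_zero_of_not_dvd h2q, zero_add]
    have e3 : (Fintype.card F * N).factorization 3 = N.factorization 3 := by
      rw [Nat.factorization_mul (by omega) hN0, Finsupp.add_apply, Nat.factorization_eq_zero_of_not_dvd h3q, zero_add]
    have hHpos : 0 < Nat.card H := Nat.card_pos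
    constructor
    · intro h
      rw [← e2, ← e3]
      refine part_of_dvd h0 ⟨_, hi.symm⟩ ?_ ?_ ?_
      · intro r hr hd
        rcases (Nat.Prime.dvd_mul hr).1 hd with e | e
        · exact Or.inl ((Nat.prime_dvd_prime_iff_eq hr Nat.prime_two).1 e)
        · exact hH r hr e
      · rw [← hi, Nat.mul_div_cancel_left _ (by omega)]; exact h 2 Nat.prime_two (Or.inl rfl)
      · rw [← hi, Nat.mul_div_cancel_left _ (by omega)]; exact h 3 Nat.prime_three (Or.inr rfl)
    · intro h r hr hrm hd
      have hmain : Fintype.card F * N = 2 ^ N.factorization 2 * 3 ^ N.factorization 3 * H.index := by rw [← h, hi]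
      have hi0 : H.index ≠ 0 := Subgroup.index_ne_zero_of_finite
      have hz := congrArg (fun x : ℕ => x.factorization r) hmain
      have hP : (2 ^ N.factorization 2 * 3 ^ N.factorization 3 : ℕ) ≠ 0 := by positivity
      rw [Nat.factorization_mul (show Fintype.card F ≠ 0 by omega) hN0, Nat.factorization_mul hP hi0,
        Nat.factorization_mul (a := 2 ^ N.factorization 2) (b := 3 ^ N.factorization 3) (by positivity) (by positivity),
        Nat.prime_two.factorization_pow, Nat.prime_three.factorization_pow] at hz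
      simp only [Finsupp.add_apply] at hz
      have hpos : 0 < H.index.factorization r := hr.factorization_pos_of_dvd hi0 hd
      rcases hrm with rfl | rfl
      · rw [Nat.factorization_eq_zero_of_not_dvd h2q, Finsupp.single_eq_same,
          Finsupp.single_eq_of_ne (show (2 : ℕ) ≠ 3 by norm_num)] at hz
        omega
      · rw [Nat.factorization_eq_zero_of_not_dvd h3q, Finsupp.single_eq_same,
          Finsupp.single_eq_of_ne (show (3 : ℕ) ≠ 2 by norm_num)] at hz
        omega
  constructor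
  · rintro ⟨H, hsupp, hidx⟩
    have hs : ∀ r : ℕ, r.Prime → r ∣ Nat.card H → r = 2 ∨ r = 3 := fun r hr hd => hsupp r hr hd
    have he := (crit H hs).1 hidx
    have h12 : 12 ∣ Nat.card H := by
      have : 24 ∣ 2 * Nat.card H := by
        rw [he, show 24 = 2 ^ 3 * 3 ^ 1 by norm_num]
        exact Nat.mul_dvd_mul (pow_dvd_pow 2 ((Nat.prime_two.pow_dvd_iff_le_factorization hN0).1 h24.1))
          (pow_dvd_pow 3 ((Nat.prime_three.pow_dvd_iff_le_factorization hN0).1 (by rw [pow_one]; exact h24.2)))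
      omega
    have tor : ∀ k, TorusDvd F k → 6 ∣ k →
        (3 ∣ Fintype.card F - 1 ∧ Fintype.card F % 4 = 1) ∨ (3 ∣ Fintype.card F + 1 ∧ Fintype.card F % 4 = 3) := by
      intro k hk h6
      rw [TorusDvd, gcd_two_of_odd hodd] at hk
      rcases hk with h | h
      · have := h6.trans h; right; omega
      · have := h6.trans h; left; omega
    rcases dickson H with ⟨k, hk, -, hcard⟩ | ⟨P, hP⟩ | ⟨m, hm, hk, -, hcard⟩ | ⟨-, hcard⟩ | ⟨-, hcard⟩ | ⟨-, hcard⟩ |
      ⟨K, u, hu, hK, -, hcard⟩ | ⟨K, u, hu, hK, -, hcard⟩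
    · rcases tor k hk (by rw [← hcard]; exact dvd_trans (by norm_num) h12) with h | h
      · exact Or.inl h
      · exact Or.inr (Or.inl h)
    · left
      have hle : H ≤ (MulAction.stabilizer PGL(2, F) P ⊓ imL F).comap ψ := fun x hx => ⟨hP x hx, x, rfl⟩
      have h := Subgroup.card_dvd_of_le hle
      rw [card_comap_toPGL inf_le_right] at h
      have h2 := card_imL_two (F := F)
      rw [← card_pointStab_mul le_rfl P, gcd_two_of_odd hodd, mul_left_comm] at h2
      have h3 := Nat.eq_of_mul_eq_mul_left (Nat.succ_pos _) h2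
      have h24' : 24 ∣ Fintype.card F * (Fintype.card F - 1) := h3 ▸ Nat.mul_dvd_mul_left 2 (h12.trans h)
      have hcop : Nat.Coprime 24 (Fintype.card F) := by
        rw [show 24 = 2 ^ 3 * 3 by norm_num]
        exact Nat.Coprime.mul_left (Nat.Coprime.pow_left _ (Nat.prime_two.coprime_iff_not_dvd.2 h2q))
          (Nat.prime_three.coprime_iff_not_dvd.2 h3q)
      have := hcop.dvd_of_dvd_mul_left h24'
      omega
    · rcases tor m hk (by omega) with h | h
      · exact Or.inl h
      · exact Or.inr (Or.inl h)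
    · exact Or.inr (Or.inr (Or.inl (by omega)))
    · exact Or.inr (Or.inr (Or.inr (by omega)))
    · exfalso
      rcases hs 5 Nat.prime_five (by rw [hcard]; norm_num) with e | e <;> omega
    all_goals
      exfalso
      have hdu : u ∣ Fintype.card F := by
        rw [← hK, ← Nat.card_eq_fintype_card]
        exact AddSubgroup.card_addSubgroup_dvd_card K.toSubring.toAddSubgroup
      have hru : p ∣ u := by
        have hr := Nat.minFac_prime (show u ≠ 1 by omega)
        exact (hpr _ hr ((Nat.minFac_dvd u).trans hdu)) ▸ Nat.minFac_dvd u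
      have hpd : p ∣ (u + 1) * (u * (u - 1)) := Dvd.dvd.mul_left (hru.trans (dvd_mul_right u _)) _
      rw [← hcard] at hpd
      first
        | exact (hs p hprime hpd).elim (fun e => hp2 e) (fun e => hp3 e)
        | rcases (Nat.Prime.dvd_mul hprime).1 hpd with e | e
          · exact hp2 ((Nat.prime_dvd_prime_iff_eq hprime Nat.prime_two).1 e)
          · exact (hs p hprime e).elim (fun e => hp2 e) (fun e => hp3 e)
  · intro h
    suffices ∃ H : Subgroup PSL2, 2 * Nat.card H = 2 ^ N.factorization 2 * 3 ^ N.factorization 3 by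
      obtain ⟨H, hH⟩ := this
      have hs : ∀ r : ℕ, r.Prime → r ∣ Nat.card H → r = 2 ∨ r = 3 := by
        intro r hr hd
        have h' := hH ▸ Dvd.dvd.mul_left hd 2
        rcases (Nat.Prime.dvd_mul hr).1 h' with e | e
        · exact Or.inl ((Nat.prime_dvd_prime_iff_eq hr Nat.prime_two).1 (hr.dvd_of_dvd_pow e))
        · exact Or.inr ((Nat.prime_dvd_prime_iff_eq hr Nat.prime_three).1 (hr.dvd_of_dvd_pow e))
      exact ⟨H, fun r hr hd => hs r hr hd, (crit H hs).2 hH⟩
    have torus : ∀ k o : ℕ, (2 * k = Fintype.card F - 1 ∨ 2 * k = Fintype.card F + 1) → Odd o → ¬ 3 ∣ o →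
        N = 2 * o * (2 * k) → ∃ H : Subgroup PSL2, 2 * Nat.card H = 2 ^ N.factorization 2 * 3 ^ N.factorization 3 := by
      intro k o hk ho h3o he
      have hk0 : k ≠ 0 := by omega
      have ho0 : o ≠ 0 := ho.pos.ne'
      have h2o : ¬ 2 ∣ o := fun h => Nat.not_even_iff_odd.2 ho (even_iff_two_dvd.2 h)
      have hm : 2 ^ k.factorization 2 * 3 ^ k.factorization 3 ∣ k :=
        Nat.Coprime.mul_dvd_of_dvd_of_dvd (Nat.Coprime.pow _ _ (by norm_num)) (Nat.ordProj_dvd k 2) (Nat.ordProj_dvd k 3)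
      obtain ⟨S, hS⟩ := exists_sub_dihedral h4 hodd hk hm
      refine ⟨S, ?_⟩
      have e4 : N = 2 ^ 2 * (o * k) := by rw [he]; ring
      have e2 : N.factorization 2 = k.factorization 2 + 2 := by
        rw [e4, Nat.factorization_mul (by norm_num) (mul_ne_zero ho0 hk0), Nat.factorization_mul ho0 hk0,
          Finsupp.add_apply, Finsupp.add_apply, Nat.prime_two.factorization_pow, Finsupp.single_eq_same,
          Nat.factorization_eq_zero_of_not_dvd h2o]
        omega
      have e3 : N.factorization 3 = k.factorization 3 := by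
        rw [e4, Nat.factorization_mul (by norm_num) (mul_ne_zero ho0 hk0), Nat.factorization_mul ho0 hk0,
          Finsupp.add_apply, Finsupp.add_apply, Nat.prime_two.factorization_pow,
          Finsupp.single_eq_of_ne (show (3 : ℕ) ≠ 2 by norm_num), Nat.factorization_eq_zero_of_not_dvd h3o]
        omega
      rw [hS, e2, e3, pow_add]; ring
    rcases h with ⟨h3, h4'⟩ | ⟨h3, h4'⟩ | h | h
    · refine torus ((Fintype.card F - 1) / 2) ((Fintype.card F + 1) / 2) (Or.inl (by omega)) (Nat.odd_iff.2 (by omega))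
        (by omega) ?_
      rw [hN, show 2 * ((Fintype.card F + 1) / 2) = Fintype.card F + 1 by omega,
        show 2 * ((Fintype.card F - 1) / 2) = Fintype.card F - 1 by omega]
    · refine torus ((Fintype.card F + 1) / 2) ((Fintype.card F - 1) / 2) (Or.inr (by omega)) (Nat.odd_iff.2 (by omega))
        (by omega) ?_
      rw [hN, show 2 * ((Fintype.card F + 1) / 2) = Fintype.card F + 1 by omega,
        show 2 * ((Fintype.card F - 1) / 2) = Fintype.card F - 1 by omega, mul_comm]
    · obtain ⟨H, ⟨e⟩⟩ := SL2Anti.exists_altFour_psl (CfsgLib.Classical.two_ne_zero_of_odd hodd) (F := F)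
      exact ⟨H, by rw [Nat.card_congr e.toEquiv, finset_card_altFour, h]⟩
    · have h16 : 16 ∣ N := by
        have := Nat.ordProj_dvd N 2
        have h' : 16 ∣ 2 ^ N.factorization 2 * 3 ^ N.factorization 3 := h ▸ (by norm_num)
        exact ((Nat.Coprime.pow _ _ (by norm_num : Nat.Coprime 2 3)).dvd_of_dvd_mul_right
          (show 2 ^ 4 ∣ _ from h')).trans this
      have hmod : Fintype.card F % 8 = 1 ∨ Fintype.card F % 8 = 7 := by
        have hN16 : ((Fintype.card F + 1) * (Fintype.card F - 1)) % 16 = 0 := Nat.mod_eq_zero_of_dvd (hN ▸ h16)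
        rw [Nat.mul_mod] at hN16
        have h1 : (Fintype.card F + 1) % 16 = (Fintype.card F % 16 + 1) % 16 := by omega
        have h2 : (Fintype.card F - 1) % 16 = (Fintype.card F % 16 + 15) % 16 := by omega
        rw [h1, h2] at hN16
        have h3 : Fintype.card F % 16 < 16 := Nat.mod_lt _ (by norm_num)
        have h5 : Fintype.card F % 8 = Fintype.card F % 16 % 8 := by omega
        rw [h5]
        interval_cases Fintype.card F % 16 <;> omega
      obtain ⟨H, ⟨e⟩⟩ := SL2Anti.exists_permFour_psl (CfsgLib.Classical.two_ne_zero_of_odd hodd) (F := F)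
        (isSquare_two_of_mod (by omega))
      exact ⟨H, by rw [Nat.card_congr e.toEquiv, Nat.card_perm, Nat.card_fin, h]; rfl⟩

end CfsgLib.Geom.Moebius
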