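import Mathlib
import Cfsg.Agent.Lib.Geom.PSLTwoCentralizer
import Cfsg.Agent.Lib.Geom.DicksonCases
import Cfsg.Agent.Lib.Geom.MaxExclude
import Cfsg.Agent.Lib.ClassK.SmallSimple

set_option autoImplicit false

/-!
Normalizers of subgroups of `PSL_2(13)` and `SL_2(13)`.
-/

namespace CfsgLib.Geom.Thirteen

open CfsgLib.Geom

/-- The properties used. -/
structure Like (G : Type*) [Group G] : Prop where
  card : Nat.card G = 1092
  simple : IsSimpleGroup G
  orders : ∀ H : Subgroup G, H ≠ ⊤ → Nat.card H ∣ 78 ∨ Nat.card H = 4 ∨ Nat.card H = 7 ∨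
    Nat.card H = 12 ∨ Nat.card H = 14
  cent : ∀ g : G, (orderOf g = 2 → Nat.card (Subgroup.centralizer {g}) = 12) ∧
    (orderOf g = 3 → Nat.card (Subgroup.centralizer {g}) = 6) ∧
    (orderOf g = 13 → Nat.card (Subgroup.centralizer {g}) = 13)

variable {G : Type*} [Group G] (hG : Like G)
include hG

theorem dvd_cases {n : ℕ} (h : n ∣ 78) :
    n = 1 ∨ n = 2 ∨ n = 3 ∨ n = 6 ∨ n = 13 ∨ n = 26 ∨ n = 39 ∨ n = 78 := by
  have := Nat.le_of_dvd (by norm_num) h
  interval_cases n <;> omega

theorem coatom_of_card (M : Subgroup G) (h : Nat.card M = 78 ∨ Nat.card M = 14 ∨ Nat.card M = 12) : IsCoatom M := by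
  have : Finite G := Nat.finite_of_card_ne_zero (by rw [hG.card]; norm_num)
  refine ⟨fun e => by rw [e, Subgroup.card_top, hG.card] at h; omega, fun N hN => ?_⟩
  by_contra hne
  have hd := Subgroup.card_dvd_of_le hN.le
  have hlt : Nat.card M < Nat.card N := by
    by_contra hle
    exact hN.ne (Subgroup.eq_of_le_of_card_ge hN.le (not_lt.1 hle))
  rcases hG.orders N hne with h' | h'
  · rcases dvd_cases hG h' with e | e | e | e | e | e | e | e <;> rw [e] at hd hlt <;>
      rcases h with h | h | h <;> rw [h] at hd hlt <;> omega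
  · rcases h' with e | e | e | e <;> rw [e] at hlt hd <;>
      rcases h with h | h | h <;> rw [h] at hd hlt <;> omega

omit hG in
theorem normal_le_normalizer {H N : Subgroup G} (hle : H ≤ N) (hn : (H.subgroupOf N).Normal) :
    N ≤ Subgroup.normalizer (H : Set G) :=
  (Subgroup.normal_subgroupOf_iff_le_normalizer hle).1 hn

theorem sylow_cases (p a : ℕ) [Fact p.Prime] (h : (1092 : ℕ).factorization p = a) (P : Sylow p G) :
    Nat.card P = p ^ a ∧
      ∃ m, Nat.card (Subgroup.normalizer ((P : Subgroup G) : Set G)) * m = 1092 ∧ m % p = 1 % p := by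
  have : Finite G := Nat.finite_of_card_ne_zero (by rw [hG.card]; norm_num)
  refine ⟨by rw [P.card_eq_multiplicity, hG.card, h], Nat.card (Sylow p G), ?_, card_sylow_modEq_one p G⟩
  rw [P.card_eq_index_normalizer]
  exact (Subgroup.card_mul_index _).trans hG.card

theorem normalizer_ne_top {H : Subgroup G} (h1 : H ≠ ⊥) (h2 : H ≠ ⊤) : Subgroup.normalizer (H : Set G) ≠ ⊤ := by
  intro h
  have := hG.simple
  have hn : H.Normal := Subgroup.normalizer_eq_top_iff.1 h
  exact (hn.eq_bot_or_eq_top).elim h1 h2

/-- The normalizer of a Sylow subgroup. -/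
theorem card_normalizer_three (P : Sylow 3 G) :
    Nat.card (Subgroup.normalizer ((P : Subgroup G) : Set G)) = 12 := by
  have : Finite G := Nat.finite_of_card_ne_zero (by rw [hG.card]; norm_num)
  obtain ⟨hc, m, hm, hmod⟩ := sylow_cases hG 3 1 (by
    rw [show (1092 : ℕ) = 3 * 364 by norm_num, Nat.factorization_mul (by norm_num) (by norm_num), Finsupp.add_apply,
      Nat.prime_three.factorization_self, Nat.factorization_eq_zero_of_not_dvd (n := 364) (by norm_num)]) P
  rw [pow_one] at hc
  obtain ⟨g, hg, hg1⟩ := (Subgroup.bot_or_exists_ne_one (P : Subgroup G)).resolve_left fun e => by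
    rw [e, Subgroup.card_bot] at hc; omega
  have ho : orderOf g = 3 := by
    have h := Subgroup.orderOf_dvd_natCard _ hg
    rw [hc] at h
    exact ((Nat.dvd_prime Nat.prime_three).1 h).resolve_left (fun e => hg1 (orderOf_eq_one_iff.1 e))
  have hPg : (P : Subgroup G) = Subgroup.zpowers g :=
    (Subgroup.eq_of_le_of_card_ge (Subgroup.zpowers_le.2 hg) (by rw [hc, Nat.card_zpowers, ho])).symm
  have hCN : Subgroup.centralizer {g} ≤ Subgroup.normalizer ((P : Subgroup G) : Set G) := by
    intro x hx
    refine Subgroup.centralizer_le_normalizer _ ?_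
    rw [hPg]
    rw [Subgroup.mem_centralizer_iff]
    intro z hz
    obtain ⟨i, rfl⟩ := Subgroup.mem_zpowers_iff.1 hz
    exact ((Commute.zpow_left (Subgroup.mem_centralizer_singleton_iff.1 hx).symm i)).eq
  have h6 := Subgroup.card_dvd_of_le hCN
  rw [(hG.cent g).2.1 ho] at h6
  rcases hG.orders _ (normalizer_ne_top hG (H := (P : Subgroup G)) (fun e => by rw [e, Subgroup.card_bot] at hc; omega)
    (fun e => by rw [e, Subgroup.card_top, hG.card] at hc; omega)) with h | h | h | h | h
  · rcases dvd_cases hG h with e | e | e | e | e | e | e | e <;> rw [e] at h6 hm <;> omega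
  all_goals rw [h] at h6 hm ⊢ <;> omega

/-- Every proper nontrivial subgroup has a maximal normalizer. -/
theorem coatom_normalizer {H : Subgroup G} (h1 : H ≠ ⊥) (h2 : H ≠ ⊤) :
    IsCoatom (Subgroup.normalizer (H : Set G)) := by
  have : Finite G := Nat.finite_of_card_ne_zero (by rw [hG.card]; norm_num)
  refine coatom_of_card hG _ ?_
  have hN := normalizer_ne_top hG h1 h2
  have hle : H ≤ Subgroup.normalizer (H : Set G) := Subgroup.le_normalizer
  have hnc := hG.orders _ hN
  have hdvd := Subgroup.card_dvd_of_le hle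
  have h13 : ∀ g : G, orderOf g = 13 → g ∈ H → Nat.card (Subgroup.normalizer (H : Set G)) = 78 := by
    intro g hg hgH
    have hHc : 13 ∣ Nat.card H := hg ▸ Subgroup.orderOf_dvd_natCard H hgH
    have := Fact.mk (show Nat.Prime 13 by norm_num)
    obtain ⟨P, hP⟩ := (IsPGroup.of_card (p := 13) (G := Subgroup.zpowers g) (n := 1)
      (by rw [Nat.card_zpowers, hg, pow_one])).exists_le_sylow
    obtain ⟨hc, m, hm, hmod⟩ := sylow_cases hG 13 1 (by
      rw [show (1092 : ℕ) = 13 * 84 by norm_num, Nat.factorization_mul (by norm_num) (by norm_num), Finsupp.add_apply,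
        (show Nat.Prime 13 by norm_num).factorization_self, Nat.factorization_eq_zero_of_not_dvd (n := 84) (by norm_num)]) P
    rw [pow_one] at hc
    have hPg : (P : Subgroup G) = Subgroup.zpowers g :=
      (Subgroup.eq_of_le_of_card_ge hP (by rw [hc, Nat.card_zpowers, hg])).symm
    have hPH : (P : Subgroup G) ≤ H := hPg ▸ Subgroup.zpowers_le.2 hgH
    set B := Subgroup.normalizer ((P : Subgroup G) : Set G)
    have hB : Nat.card B = 78 := by
      have h13 := Subgroup.card_dvd_of_le (show (P : Subgroup G) ≤ B from Subgroup.le_normalizer)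
      rw [hc] at h13
      rcases hG.orders B (normalizer_ne_top hG (H := (P : Subgroup G)) (fun e => by rw [e, Subgroup.card_bot] at hc; omega)
        (fun e => by rw [e, Subgroup.card_top, hG.card] at hc; omega)) with h | h | h | h | h
      · rcases dvd_cases hG h with e | e | e | e | e | e | e | e <;> rw [e] at h13 hm <;> omega
      all_goals rw [h] at h13; omega
    -- `P` is the only Sylow subgroup of `H`
    have hHB : H ≤ B := by
      refine normal_le_normalizer hPH ?_
      have hcard : Nat.card H ∣ 78 := by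
        rcases hG.orders H h2 with h | h | h | h | h
        · exact h
        all_goals rw [h] at hHc; omega
      have : Subsingleton (Sylow 13 H) := by
        refine (Nat.card_eq_one_iff_unique.1 ?_).1
        have hm13 : Nat.card (Sylow 13 H) % 13 = 1 % 13 := card_sylow_modEq_one 13 H
        obtain ⟨Q⟩ : Nonempty (Sylow 13 H) := inferInstance
        have hd := Q.card_dvd_index
        have hQ : Nat.card Q = 13 := by
          rw [Q.card_eq_multiplicity]
          rcases dvd_cases hG hcard with e | e | e | e | e | e | e | e <;> rw [e] at hHc ⊢ <;>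
            first | omega | skip
          · rw [(show Nat.Prime 13 by norm_num).factorization_self, pow_one]
          all_goals first
            | rw [show (26 : ℕ) = 13 * 2 by norm_num, Nat.factorization_mul (by norm_num) (by norm_num),
                Finsupp.add_apply, (show Nat.Prime 13 by norm_num).factorization_self,
                Nat.factorization_eq_zero_of_not_dvd (n := 2) (by norm_num), pow_one]
            | rw [show (39 : ℕ) = 13 * 3 by norm_num, Nat.factorization_mul (by norm_num) (by norm_num),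
                Finsupp.add_apply, (show Nat.Prime 13 by norm_num).factorization_self,
                Nat.factorization_eq_zero_of_not_dvd (n := 3) (by norm_num), pow_one]
            | rw [show (78 : ℕ) = 13 * 6 by norm_num, Nat.factorization_mul (by norm_num) (by norm_num),
                Finsupp.add_apply, (show Nat.Prime 13 by norm_num).factorization_self,
                Nat.factorization_eq_zero_of_not_dvd (n := 6) (by norm_num), pow_one]
        have hi := (Q : Subgroup H).index_mul_card
        rw [show Nat.card (Q : Subgroup H) = 13 from hQ] at hi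
        have hi6 : (Q : Subgroup H).index ≤ 6 := by
          have := Nat.le_of_dvd (by norm_num) hcard
          omega
        have hpos : 0 < (Q : Subgroup H).index := Nat.pos_of_ne_zero Subgroup.index_ne_zero_of_finite
        have := Nat.le_of_dvd hpos hd
        omega
      have e : (P : Subgroup G).subgroupOf H = ((P.subtype hPH : Sylow 13 H) : Subgroup H) := rfl
      rw [e]
      exact Sylow.normal_of_subsingleton _
    have hcomm : (H.subgroupOf B).Normal := by
      refine ⟨fun n hn b => ?_⟩
      rw [Subgroup.mem_subgroupOf] at hn ⊢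
      have key : ∀ c ∈ B, ∀ d ∈ B, c * d * c⁻¹ * d⁻¹ ∈ (P : Subgroup G) := by
        intro c hc' d hd'
        have hgP : g ∈ (P : Subgroup G) := hP (Subgroup.mem_zpowers g)
        have hcg := (Subgroup.mem_normalizer_iff.1 hc' g).1 hgP
        have hdg := (Subgroup.mem_normalizer_iff.1 hd' g).1 hgP
        rw [hPg] at hcg hdg
        obtain ⟨i, hi⟩ := Subgroup.mem_zpowers_iff.1 hcg
        obtain ⟨j, hj⟩ := Subgroup.mem_zpowers_iff.1 hdg
        have hPc : (P : Subgroup G) = Subgroup.centralizer {g} := by
          refine Subgroup.eq_of_le_of_card_ge ?_ (by rw [(hG.cent g).2.2 hg, hc])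
          rw [hPg]
          exact Subgroup.zpowers_le.2 (Subgroup.mem_centralizer_singleton_iff.2 rfl)
        rw [hPc, Subgroup.mem_centralizer_singleton_iff]
        have hcd : c * d * g * (c * d)⁻¹ = d * c * g * (d * c)⁻¹ := by
          rw [show c * d * g * (c * d)⁻¹ = c * (d * g * d⁻¹) * c⁻¹ by group,
            show d * c * g * (d * c)⁻¹ = d * (c * g * c⁻¹) * d⁻¹ by group, ← hi, ← hj, ← conj_zpow, ← conj_zpow,
            ← hi, ← hj, ← zpow_mul, ← zpow_mul, mul_comm]
        have e2 : (d * c)⁻¹ * (c * d) * g * ((d * c)⁻¹ * (c * d))⁻¹ = g := by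
          rw [show (d * c)⁻¹ * (c * d) * g * ((d * c)⁻¹ * (c * d))⁻¹ =
            (d * c)⁻¹ * (c * d * g * (c * d)⁻¹) * (d * c) by group, hcd]
          group
        have e3 := (Subgroup.mem_normalizer_iff.1 (mul_mem hd' hc') g).1 hgP
        have hPcomm : ∀ u ∈ (P : Subgroup G), ∀ v ∈ (P : Subgroup G), u * v = v * u := by
          intro u hu v hv
          rw [hPg] at hu hv
          obtain ⟨a, rfl⟩ := Subgroup.mem_zpowers_iff.1 hu
          obtain ⟨a', rfl⟩ := Subgroup.mem_zpowers_iff.1 hv
          rw [← zpow_add, ← zpow_add, add_comm]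
        have hmem : (d * c)⁻¹ * (c * d) ∈ (P : Subgroup G) := by
          rw [hPc, Subgroup.mem_centralizer_singleton_iff]
          exact mul_inv_eq_iff_eq_mul.1 e2
        have hmem' : c * d * c⁻¹ * d⁻¹ ∈ (P : Subgroup G) := by
          have h := (Subgroup.mem_normalizer_iff.1 (mul_mem hd' hc') _).1 hmem
          rwa [show d * c * ((d * c)⁻¹ * (c * d)) * (d * c)⁻¹ = c * d * c⁻¹ * d⁻¹ by group] at h
        exact (Subgroup.mem_centralizer_singleton_iff.1 (hPc ▸ hmem'))
      rw [show ((b * n * b⁻¹ : B) : G) = (b : G) * n * (b : G)⁻¹ * (n : G)⁻¹ * n by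
        simp only [Subgroup.coe_mul, InvMemClass.coe_inv, inv_mul_cancel_right]]
      exact mul_mem (hPH (key _ b.2 _ n.2)) hn
    have h78 := Subgroup.card_dvd_of_le (normal_le_normalizer hHB hcomm)
    rw [hB] at h78
    rcases hnc with h | h | h | h | h
    · exact Nat.dvd_antisymm h h78
    all_goals rw [h] at h78; omega
  have htwo : ∀ z : G, orderOf z = 2 → H = Subgroup.zpowers z →
      Nat.card (Subgroup.normalizer (H : Set G)) = 12 := by
    intro z hz hH
    have hCN : Subgroup.centralizer {z} ≤ Subgroup.normalizer (H : Set G) := by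
      intro x hx
      refine Subgroup.centralizer_le_normalizer _ ?_
      rw [hH, Subgroup.mem_centralizer_iff]
      intro w hw
      obtain ⟨i, rfl⟩ := Subgroup.mem_zpowers_iff.1 hw
      exact ((Commute.zpow_left (Subgroup.mem_centralizer_singleton_iff.1 hx).symm i)).eq
    have h12 := Subgroup.card_dvd_of_le hCN
    rw [(hG.cent z).1 hz] at h12
    rcases hnc with h | h | h | h | h
    · rcases dvd_cases hG h with e | e | e | e | e | e | e | e <;> rw [e] at h12 <;> omega
    all_goals rw [h] at h12 ⊢ <;> omega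
  have hcase := hG.orders H h2
  have hd78 : Nat.card H ∣ 78 → 13 ∣ Nat.card H ∨ Nat.card H = 2 ∨ Nat.card H = 3 ∨ Nat.card H = 6 := by
    intro h
    rcases dvd_cases hG h with e | e | e | e | e | e | e | e <;> rw [e] <;> norm_num
    exact absurd ((Subgroup.card_eq_one).1 e) h1
  rcases hcase with h | h | h | h | h
  · rcases hd78 h with e | e | e | e
    · have := Fact.mk (show Nat.Prime 13 by norm_num)
      obtain ⟨⟨g, hgH⟩, hg⟩ := exists_prime_orderOf_dvd_card' (G := H) 13 e
      rw [Subgroup.orderOf_mk] at hg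
      exact Or.inl (h13 g hg hgH)
    · have := Fact.mk Nat.prime_two
      obtain ⟨⟨g, hgH⟩, hg⟩ := exists_prime_orderOf_dvd_card' (G := H) 2 (by rw [e])
      rw [Subgroup.orderOf_mk] at hg
      exact Or.inr (Or.inr (htwo g hg
        (Subgroup.eq_of_le_of_card_ge (Subgroup.zpowers_le.2 hgH) (by rw [e, Nat.card_zpowers, hg])).symm))
    · have := Fact.mk Nat.prime_three
      obtain ⟨P, hP⟩ := (IsPGroup.of_card (p := 3) (n := 1) (by rw [e, pow_one]) : IsPGroup 3 H).exists_le_sylow
      obtain ⟨hc, -⟩ := sylow_cases hG 3 1 (by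
        rw [show (1092 : ℕ) = 3 * 364 by norm_num, Nat.factorization_mul (by norm_num) (by norm_num), Finsupp.add_apply,
          Nat.prime_three.factorization_self, Nat.factorization_eq_zero_of_not_dvd (n := 364) (by norm_num)]) P
      rw [Subgroup.eq_of_le_of_card_ge hP (by rw [e, hc, pow_one])]
      exact Or.inr (Or.inr (card_normalizer_three hG P))
    · have := Fact.mk Nat.prime_three
      obtain ⟨⟨g, hgH⟩, hg⟩ := exists_prime_orderOf_dvd_card' (G := H) 3 (by rw [e]; norm_num)
      rw [Subgroup.orderOf_mk] at hg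
      obtain ⟨P, hP⟩ := (IsPGroup.of_card (p := 3) (n := 1) (by rw [Nat.card_zpowers, hg, pow_one]) :
        IsPGroup 3 (Subgroup.zpowers g)).exists_le_sylow
      obtain ⟨hc, -⟩ := sylow_cases hG 3 1 (by
        rw [show (1092 : ℕ) = 3 * 364 by norm_num, Nat.factorization_mul (by norm_num) (by norm_num), Finsupp.add_apply,
          Nat.prime_three.factorization_self, Nat.factorization_eq_zero_of_not_dvd (n := 364) (by norm_num)]) P
      rw [pow_one] at hc
      have hPH : (P : Subgroup G) ≤ H := (Subgroup.eq_of_le_of_card_ge hP (by rw [hc, Nat.card_zpowers, hg])) ▸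
        Subgroup.zpowers_le.2 hgH
      have hi : ((P : Subgroup G).subgroupOf H).index = 2 := by
        have hh := ((P : Subgroup G).subgroupOf H).index_mul_card
        rw [Nat.card_congr (Subgroup.subgroupOfEquivOfLe hPH).toEquiv, hc, e] at hh
        omega
      have hHN := normal_le_normalizer hPH (Subgroup.normal_of_index_eq_two hi)
      have hi' : (H.subgroupOf (Subgroup.normalizer ((P : Subgroup G) : Set G))).index = 2 := by
        have hh := (H.subgroupOf (Subgroup.normalizer ((P : Subgroup G) : Set G))).index_mul_card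
        rw [Nat.card_congr (Subgroup.subgroupOfEquivOfLe hHN).toEquiv, e, card_normalizer_three hG P] at hh
        omega
      have h12 := Subgroup.card_dvd_of_le (normal_le_normalizer hHN (Subgroup.normal_of_index_eq_two hi'))
      rw [card_normalizer_three hG P] at h12
      rcases hnc with h' | h' | h' | h' | h'
      · rcases dvd_cases hG h' with e | e | e | e | e | e | e | e <;> rw [e] at h12 <;> omega
      all_goals rw [h'] at h12 ⊢ <;> omega
  · -- order four
    have := Fact.mk Nat.prime_two
    obtain ⟨P, hP⟩ := (IsPGroup.of_card (p := 2) (n := 2) (by rw [h]; norm_num) : IsPGroup 2 H).exists_le_sylow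
    obtain ⟨hc, m, hm, -⟩ := sylow_cases hG 2 2 (by
      rw [show (1092 : ℕ) = 2 ^ 2 * 273 by norm_num, Nat.factorization_mul (by norm_num) (by norm_num), Finsupp.add_apply,
        Nat.prime_two.factorization_pow, Finsupp.single_eq_same,
        Nat.factorization_eq_zero_of_not_dvd (n := 273) (by norm_num)]) P
    obtain rfl : H = P := Subgroup.eq_of_le_of_card_ge hP (by rw [h, hc]; norm_num)
    rcases hnc with h' | h' | h' | h' | h'
    · have h4 := hdvd.trans h'
      rw [h] at h4; omega
    · exfalso
      have hNP : Subgroup.normalizer ((P : Subgroup G) : Set G) ≤ Subgroup.centralizer ((P : Subgroup G) : Set G) := by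
        rw [← Subgroup.eq_of_le_of_card_ge (Subgroup.le_normalizer (H := (P : Subgroup G))) (by rw [h', h])]
        intro x hx
        rw [Subgroup.mem_centralizer_iff]
        intro y hy
        have := IsPGroup.isMulCommutative_of_card_eq_prime_sq (p := 2) (G := (P : Subgroup G)) (by rw [h]; norm_num)
        exact congrArg Subtype.val (mul_comm' (⟨y, hy⟩ : (P : Subgroup G)) ⟨x, hx⟩)
      have hK := MonoidHom.ker_transferSylow_isComplement' P hNP
      have hn : (MonoidHom.transferSylow P hNP).ker.Normal := inferInstance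
      have hcard := hK.card_mul
      rw [h, hG.card] at hcard
      have := hG.simple
      rcases hn.eq_bot_or_eq_top with e | e
      · rw [e, Subgroup.card_bot] at hcard; omega
      · rw [e, Subgroup.card_top, hG.card] at hcard; omega
    · rw [h, h'] at hdvd; omega
    · exact Or.inr (Or.inr h')
    · rw [h, h'] at hdvd; omega
  · -- order seven
    have := Fact.mk (show Nat.Prime 7 by norm_num)
    obtain ⟨P, hP⟩ := (IsPGroup.of_card (p := 7) (n := 1) (by rw [h, pow_one]) : IsPGroup 7 H).exists_le_sylow
    obtain ⟨hc, m, hm, hmod⟩ := sylow_cases hG 7 1 (by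
      rw [show (1092 : ℕ) = 7 * 156 by norm_num, Nat.factorization_mul (by norm_num) (by norm_num), Finsupp.add_apply,
        (show Nat.Prime 7 by norm_num).factorization_self, Nat.factorization_eq_zero_of_not_dvd (n := 156) (by norm_num)]) P
    obtain rfl : H = P := Subgroup.eq_of_le_of_card_ge hP (by rw [h, hc, pow_one])
    rcases hnc with h' | h' | h' | h' | h'
    · have h4 := hdvd.trans h'
      rw [h] at h4; omega
    · rw [h, h'] at hdvd; omega
    · exfalso; rw [h'] at hm; omega
    · rw [h, h'] at hdvd; omega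
    · exact Or.inr (Or.inl h')
  · have hco := coatom_of_card hG H (Or.inr (Or.inr h))
    rcases eq_or_lt_of_le hle with e | e
    · exact Or.inr (Or.inr (by rw [← e]; exact h))
    · exact absurd (hco.2 _ e) hN
  · have hco := coatom_of_card hG H (Or.inr (Or.inl h))
    rcases eq_or_lt_of_le hle with e | e
    · exact Or.inr (Or.inl (by rw [← e]; exact h))
    · exact absurd (hco.2 _ e) hN

omit hG

open Moebius in
theorem like_psl : Like (Matrix.ProjectiveSpecialLinearGroup (Fin 2) (ZMod 13)) := by
  have : Fact (Nat.Prime 13) := ⟨by norm_num⟩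
  have h4 : 4 ≤ Fintype.card (ZMod 13) := by rw [ZMod.card]; norm_num
  have hc : Nat.card (Matrix.ProjectiveSpecialLinearGroup (Fin 2) (ZMod 13)) = 1092 :=
    CfsgLib.Classical.card_psl_two_eq (ZMod.card 13) 1092 (by norm_num)
  refine ⟨hc, CfsgLib.ClassK.isSimpleGroup_psl_two h4, fun H hH => ?_, fun g => ?_⟩
  · have htd : ∀ k, TorusDvd (ZMod 13) k → k ∣ 7 ∨ k ∣ 6 := fun k hk => by
      rw [TorusDvd, ZMod.card] at hk
      exact hk
    have hd := Subgroup.card_subgroup_dvd_card H
    rw [hc] at hd
    have hu : ∀ (K : Subfield (ZMod 13)) (u : ℕ), 3 ≤ u → Nat.card K = u → u = 13 := fun K u hu hK => by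
      have hdu : u ∣ 13 := by
        have h := AddSubgroup.card_addSubgroup_dvd_card K.toSubring.toAddSubgroup
        rw [Nat.card_zmod] at h
        exact hK ▸ h
      rcases (Nat.dvd_prime (show Nat.Prime 13 by norm_num)).1 hdu with e | e <;> omega
    rcases dickson H with ⟨k, hk, -, hcard⟩ | ⟨P, hP⟩ | ⟨n, hn, hk, -, hcard⟩ | ⟨-, hcard⟩ | ⟨-, hcard⟩ | ⟨-, hcard⟩ |
      ⟨K, u, hu', hK, -, hcard⟩ | ⟨K, u, hu', hK, -, hcard⟩
    · rw [hcard]
      rcases htd k hk with h | h
      · rcases (Nat.dvd_prime (show Nat.Prime 7 by norm_num)).1 h with e | e <;> subst e <;> norm_num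
      · exact Or.inl (h.trans (by norm_num))
    · left
      have hle : H ≤ (MulAction.stabilizer (Matrix.ProjGenLinGroup (Fin 2) (ZMod 13)) P ⊓ imL (ZMod 13)).comap
          Matrix.ProjectiveSpecialLinearGroup.toPGL := fun x hx => ⟨hP x hx, x, rfl⟩
      have h := Subgroup.card_dvd_of_le hle
      rw [card_comap_toPGL inf_le_right] at h
      have h2 := card_imL_two (F := ZMod 13)
      rw [← card_pointStab_mul le_rfl P, ZMod.card, show Nat.gcd 2 (13 - 1) = 2 by norm_num] at h2
      refine h.trans (dvd_of_eq ?_)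
      omega
    · rw [hcard]
      rcases htd n hk with h | h
      · rcases (Nat.dvd_prime (show Nat.Prime 7 by norm_num)).1 h with e | e <;> subst e <;> omega
      · have := Nat.le_of_dvd (by norm_num) h
        interval_cases n <;> omega
    · rw [hcard]; norm_num
    · rw [hcard] at hd; norm_num at hd
    · rw [hcard] at hd; norm_num at hd
    · exfalso; rw [hu K u hu' hK] at hcard; norm_num at hcard; rw [hcard] at hd; norm_num at hd
    · exfalso
      rw [hu K u hu' hK] at hcard
      exact hH (Subgroup.eq_top_of_card_eq H (by rw [hc]; norm_num at hcard; omega))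
  · have key : ∀ (m : ℕ), orderOf g = m → 2 ≤ m → Nat.card (Subgroup.centralizer {g}) = 13 ∧ m ∣ 13 ∨
        ∃ k, (k = 6 ∨ k = 7) ∧ m ∣ k ∧ (g * g = 1 → Nat.card (Subgroup.centralizer {g}) = 2 * k) ∧
          (g * g ≠ 1 → Nat.card (Subgroup.centralizer {g}) = k) := by
      intro m hm h2
      obtain ⟨E, _, _, f, hE, hQC⟩ := exists_quadExt (ZMod 13)
      have hg1 : g ≠ 1 := fun e => by rw [e, orderOf_one] at hm; omega
      rcases card_centralizer_cases f hE hQC h4 g hg1 with h | ⟨k, hk, hd, h, h'⟩
      · left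
        rw [ZMod.card] at h
        refine ⟨h, ?_⟩
        have hd := Subgroup.orderOf_dvd_natCard (Subgroup.centralizer {g}) (x := g)
          (Subgroup.mem_centralizer_singleton_iff.2 rfl)
        rwa [h, hm] at hd
      · right
        rw [ZMod.card, show Nat.gcd 2 (13 - 1) = 2 by norm_num] at hk
        exact ⟨k, by omega, hm ▸ hd, h, h'⟩
    have hne : ∀ m, orderOf g = m → 3 ≤ m → g * g ≠ 1 := fun m hm h3 e => by
      have := Nat.le_of_dvd two_pos (orderOf_dvd_of_pow_eq_one (x := g) (n := 2) (by rw [sq]; exact e))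
      omega
    refine ⟨fun h => ?_, fun h => ?_, fun h => ?_⟩
    · rcases key 2 h le_rfl with ⟨-, hd⟩ | ⟨k, hk, hd, h', -⟩
      · norm_num at hd
      · have hgg : g * g = 1 := by have e := pow_orderOf_eq_one g; rwa [h, sq] at e
        rw [h' hgg]; omega
    · rcases key 3 h (by norm_num) with ⟨-, hd⟩ | ⟨k, hk, hd, -, h'⟩
      · norm_num at hd
      · rw [h' (hne 3 h le_rfl)]; omega
    · rcases key 13 h (by norm_num) with ⟨hd, -⟩ | ⟨k, hk, hd, -, -⟩
      · exact hd
      · exfalso; omega

/-- Passing to a central extension by a group of order at most two. -/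
theorem coatom_normalizer_cover {K G : Type*} [Group K] [Group G] [Finite K] (hG : Like G) (π : K →* G)
    (hπ : Function.Surjective π) (hker : π.ker ≤ Subgroup.center K) (h2 : Nat.card π.ker ≤ 2)
    (hu : ∀ z : K, orderOf z = 2 → π z = 1 ∨ π.ker = ⊥) {H : Subgroup K} (hH : ¬ H.Normal) :
    IsCoatom (Subgroup.normalizer (H : Set K)) := by
  have hne : H.map π ≠ ⊥ := fun e => hH ⟨fun n hn g => by
    rw [Subgroup.mem_center_iff.1 (hker ((MonoidHom.mem_ker).2 ((Subgroup.map_eq_bot_iff _).1 e hn))) g,
      mul_inv_cancel_right]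
    exact hn⟩
  have hN : Subgroup.normalizer (H : Set K) = (Subgroup.normalizer ((H.map π : Subgroup G) : Set G)).comap π := by
    refine le_antisymm (Subgroup.map_le_iff_le_comap.1 (Subgroup.le_normalizer_map π)) fun g hg => ?_
    rw [Subgroup.mem_comap, Subgroup.mem_normalizer_iff] at hg
    refine Subgroup.mem_normalizer_fintype (S := (H : Set K)) fun h hh => ?_
    obtain ⟨h', hh', e⟩ := (hg (π h)).1 ⟨h, hh, rfl⟩
    have hz : h'⁻¹ * (g * h * g⁻¹) ∈ π.ker := by
      rw [MonoidHom.mem_ker]; rw [map_mul, map_inv, e, map_mul, map_mul, map_inv, inv_mul_cancel]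
    set z := h'⁻¹ * (g * h * g⁻¹) with hzdef
    have hgh : g * h * g⁻¹ = h' * z := by rw [hzdef, mul_inv_cancel_left]
    rw [hgh]
    refine mul_mem hh' ?_
    by_cases hodd : Odd (Nat.card H)
    · -- the kernel part vanishes
      have hcomm : Commute h' z := (Subgroup.mem_center_iff.1 (hker hz) h')
      have e1 : (g * h * g⁻¹) ^ Nat.card H = 1 := by
        rw [conj_pow, orderOf_dvd_iff_pow_eq_one.1 (Subgroup.orderOf_dvd_natCard H hh)]; group
      rw [hgh, hcomm.mul_pow, orderOf_dvd_iff_pow_eq_one.1 (Subgroup.orderOf_dvd_natCard H hh'), one_mul] at e1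
      have hzo : orderOf z ≤ 2 := le_trans (Nat.le_of_dvd Nat.card_pos (Subgroup.orderOf_dvd_natCard _ hz)) h2
      have hzd := orderOf_dvd_of_pow_eq_one e1
      have : orderOf z ≠ 2 := fun e => Nat.not_even_iff_odd.2 hodd (even_iff_two_dvd.2 (e ▸ hzd))
      have hz1 : orderOf z = 1 := by have := orderOf_pos z; omega
      rw [orderOf_eq_one_iff.1 hz1]
      exact one_mem H
    · have := Fact.mk Nat.prime_two
      obtain ⟨⟨w, hwH⟩, hw⟩ := exists_prime_orderOf_dvd_card' (G := H) 2 (even_iff_two_dvd.1 (Nat.not_odd_iff_even.1 hodd))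
      rw [Subgroup.orderOf_mk] at hw
      rcases hu w hw with hw1 | hbot
      · have hle : π.ker = Subgroup.zpowers w := (Subgroup.eq_of_le_of_card_ge (Subgroup.zpowers_le.2 hw1)
          (by rw [Nat.card_zpowers, hw]; exact h2)).symm
        rw [hle] at hz
        exact Subgroup.zpowers_le.2 hwH hz
      · rw [hbot, Subgroup.mem_bot] at hz
        rw [hz]; exact one_mem H
  have hne' : H.map π ≠ ⊤ := fun e => by
    refine hH (Subgroup.normalizer_eq_top_iff.1 ?_)
    rw [hN, e, Subgroup.normalizer_eq_top_iff.2 inferInstance, Subgroup.comap_top]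
  rw [hN]
  exact Subgroup.isCoatom_comap_of_surjective hπ (coatom_normalizer hG hne hne')

theorem coatom_normalizer_prod {K S : Type*} [Group K] [CommGroup S] [Finite K] [Finite S]
    (hKS : (Nat.card K).Coprime (Nat.card S))
    (hK : ∀ H : Subgroup K, ¬ H.Normal → IsCoatom (Subgroup.normalizer (H : Set K)))
    (H : Subgroup (K × S)) (hH : ¬ H.Normal) : IsCoatom (Subgroup.normalizer (H : Set (K × S))) := by
  set H1 := H.comap (MonoidHom.inl K S)
  have split : ∀ x : K × S, x ∈ H → (x.1, (1 : S)) ∈ H ∧ ((1 : K), x.2) ∈ H := by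
    intro x hx
    obtain ⟨e, he1, he2⟩ := Nat.chineseRemainder hKS 1 0
    have e1 : x.1 ^ e = x.1 := by
      conv_rhs => rw [← pow_one x.1]
      exact pow_eq_pow_iff_modEq.2 (he1.of_dvd (orderOf_dvd_natCard _))
    have e2 : x.2 ^ e = 1 := orderOf_dvd_iff_pow_eq_one.1 ((orderOf_dvd_natCard _).trans (Nat.modEq_zero_iff_dvd.1 he2))
    have h : (x.1, (1 : S)) ∈ H := by
      have := pow_mem hx e
      rwa [show x ^ e = (x.1, 1) from Prod.ext (by simpa using e1) (by simpa using e2)] at this
    refine ⟨h, ?_⟩
    have := mul_mem (inv_mem h) hx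
    rwa [show (x.1, (1 : S))⁻¹ * x = ((1 : K), x.2) from Prod.ext (by simp) (by simp)] at this
  have hmem : ∀ x : K × S, x ∈ H ↔ x.1 ∈ H1 ∧ ((1 : K), x.2) ∈ H := fun x =>
    ⟨fun hx => split x hx, fun ⟨h1, h2⟩ => by
      have := mul_mem (show (x.1, (1 : S)) ∈ H from h1) h2
      rwa [show (x.1, (1 : S)) * ((1 : K), x.2) = x from Prod.ext (by simp) (by simp)] at this⟩
  have hN : Subgroup.normalizer (H : Set (K × S)) = (Subgroup.normalizer (H1 : Set K)).comap (MonoidHom.fst K S) := by
    ext g
    rw [Subgroup.mem_comap, Subgroup.mem_normalizer_iff, Subgroup.mem_normalizer_iff]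
    constructor
    · intro h n
      have := h (n, 1)
      rw [hmem, hmem (g * (n, 1) * g⁻¹)] at this
      simp only [Prod.fst_mul, Prod.snd_mul, Prod.fst_inv, Prod.snd_inv, mul_one, mul_inv_cancel] at this
      have h1 : ((1 : K), (1 : S)) ∈ H := one_mem H
      simp only [h1, and_true] at this
      exact this
    · intro h x
      rw [hmem, hmem (g * x * g⁻¹)]
      simp only [Prod.fst_mul, Prod.snd_mul, Prod.fst_inv, Prod.snd_inv, mul_inv_cancel_comm]
      exact and_congr_left fun _ => h x.1
  have hH1 : ¬ H1.Normal := fun hn => hH (Subgroup.normalizer_eq_top_iff.1 (by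
    rw [hN, Subgroup.normalizer_eq_top_iff.2 hn, Subgroup.comap_top]))
  rw [hN]
  exact Subgroup.isCoatom_comap_of_surjective Prod.fst_surjective (hK H1 hH1)

end CfsgLib.Geom.Thirteen
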