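import Mathlib
import Cfsg.Agent.Lib.Geom.CharTwoCA

set_option autoImplicit false

/-!
`PSL_2(2^n)` as a product `A B A`.
-/

namespace CfsgLib.Geom.Moebius

open Matrix
open scoped MatrixGroups

variable {F : Type*} [Field F] [Fintype F]

local notation "PSL2" => ProjectiveSpecialLinearGroup (Fin 2) F
local notation "ψ" => Matrix.ProjectiveSpecialLinearGroup.toPGL (n := Fin 2) (R := F)
local notation "M2" => Matrix (Fin 2) (Fin 2) F

theorem exists_aba (h4 : 4 ≤ Fintype.card F) (heven : Even (Fintype.card F)) :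
    ∃ A B : Subgroup PSL2, IsCyclic A ∧ Nat.card A = Fintype.card F + 1 ∧ IsMulCommutative B ∧
      (∀ b ∈ B, b * b = 1) ∧ Nat.card B = Fintype.card F ∧
      ∀ g : PSL2, ∃ a ∈ A, ∃ b ∈ B, ∃ c ∈ A, g = a * b * c := by
  classical
  obtain ⟨E, _, _, f, hE, hQC⟩ := exists_quadExt F
  have := finite_pgl_two (F := F)
  have h2 : (2 : F) = 0 := by
    obtain ⟨p, hp⟩ := CharP.exists F
    obtain ⟨n, hprime, hn⟩ := FiniteField.card F p
    have hp2 := ((Nat.prime_dvd_prime_iff_eq Nat.prime_two hprime).1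
      (Nat.prime_two.dvd_of_dvd_pow (n := (n : ℕ)) (hn ▸ even_iff_two_dvd.1 heven)))
    subst hp2
    exact_mod_cast CharP.cast_eq_zero F 2
  have hd := gcd_two_of_even (F := F) heven
  have hinj : Function.Injective (SL2Anti.pr : SL(2, F) → PSL2) := by
    rw [← MonoidHom.coe_coe, injective_iff_map_eq_one]
    intro z hz
    obtain ⟨r, hr, e⟩ := Matrix.SpecialLinearGroup.mem_center_iff.1 (SL2Anti.pr_eq_one.1 hz)
    have hr1 : r = 1 := by
      have h : (r - 1) * (r - 1) = 0 := by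
        rw [Fintype.card_fin] at hr
        linear_combination hr - (r - 1) * h2
      exact sub_eq_zero.1 (mul_self_eq_zero.1 h)
    rw [hr1, map_one] at e
    exact Subtype.ext e.symm
  obtain ⟨g, hg⟩ := exists_psl_of_dvd f hE hQC h4 (k := Fintype.card F + 1) dvd_rfl (Or.inr (by rw [hd, one_mul]))
  have hg1 : g ≠ 1 := fun e => by rw [e, orderOf_one] at hg; omega
  have hgg : g * g ≠ 1 := fun e => by
    have := Nat.le_of_dvd two_pos (orderOf_dvd_of_pow_eq_one (x := g) (n := 2) (by rw [sq]; exact e))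
    omega
  set A := Subgroup.zpowers g with hA
  have hAC : Subgroup.centralizer ({g} : Set PSL2) = A := by
    refine (Subgroup.eq_of_le_of_card_ge (Subgroup.zpowers_le.2 (Subgroup.mem_centralizer_singleton_iff.2 rfl)) ?_).symm
    rw [Nat.card_zpowers, hg]
    rcases card_centralizer_cases f hE hQC h4 g hg1 with h | ⟨k, hk, hdvd, -, h⟩
    · exfalso
      have h' := Subgroup.orderOf_dvd_natCard (Subgroup.centralizer ({g} : Set PSL2)) (x := g)
        (Subgroup.mem_centralizer_singleton_iff.2 rfl)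
      rw [hg, h] at h'
      have := Nat.le_of_dvd (by omega) h'
      omega
    · rw [h hgg]
      rw [hd, one_mul] at hk
      omega
  obtain ⟨G0, hG0⟩ := SL2Anti.pr_surjective g
  set a := (G0 : M2) 0 0 with ha
  set b := (G0 : M2) 0 1 with hb
  set c := (G0 : M2) 1 0 with hc
  set d := (G0 : M2) 1 1 with hdd
  have hc0 : c ≠ 0 := by
    intro e
    have hfix : ψ g • (inf : Line F) = inf := by
      rw [← hG0]
      exact gl_smul_mk_eq _ _ _ ⟨a, by ext i; fin_cases i <;> simp [← ha, ← hc, e, mulVec, dotProduct]⟩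
    have h := Subgroup.orderOf_dvd_natCard (MulAction.stabilizer PGL(2, F) (inf : Line F) ⊓ imL F) (x := ψ g)
      ⟨hfix, g, rfl⟩
    rw [orderOf_injective _ Matrix.ProjectiveSpecialLinearGroup.toPGL_injective, hg] at h
    have h' := card_imL_two (F := F)
    rw [hd, one_mul, ← card_pointStab_mul le_rfl (inf : Line F)] at h'
    rw [Nat.eq_of_mul_eq_mul_left (Nat.succ_pos _) h'] at h
    obtain ⟨r, hr⟩ := heven
    have h1 : Nat.Coprime (Fintype.card F + 1) (Fintype.card F) := by simp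
    have h2 := Nat.le_of_dvd (by omega) (h1.dvd_of_dvd_mul_left h)
    omega
  let T : F → SL(2, F) := fun t => ⟨!![1, t; 0, 1], by simp [det_fin_two_of]⟩
  have hTadd : ∀ s t, T s * T t = T (s + t) := fun s t => Subtype.ext (by
    show (!![1, s; 0, 1] : M2) * !![1, t; 0, 1] = !![1, s + t; 0, 1]
    ext i j; fin_cases i <;> fin_cases j <;> simp [Matrix.mul_apply, Fin.sum_univ_two, add_comm])
  have hT0 : T 0 = 1 := Subtype.ext (by ext i j; fin_cases i <;> fin_cases j <;> simp [T])
  have hTinv : ∀ t, (T t)⁻¹ = T t := fun t => inv_eq_of_mul_eq_one_right (by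
    rw [hTadd, ← two_mul, h2, zero_mul, hT0])
  let u : Multiplicative F →* PSL2 :=
    { toFun := fun t => SL2Anti.pr (T (Multiplicative.toAdd t))
      map_one' := (congrArg SL2Anti.pr hT0).trans (map_one _)
      map_mul' := fun s t => by
        rw [← map_mul, hTadd]; rfl }
  have huinj : Function.Injective u := fun s t e => by
    have h := congrArg (fun m : SL(2, F) => (m : M2) 0 1) (hinj e)
    simpa [T] using h
  set B := u.range with hB
  refine ⟨A, B, inferInstance, by rw [Nat.card_zpowers, hg], ⟨⟨?_⟩⟩, ?_, ?_, ?_⟩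
  · rintro ⟨_, s, rfl⟩ ⟨_, t, rfl⟩
    refine Subtype.ext ?_
    show u s * u t = u t * u s
    rw [← map_mul, ← map_mul, mul_comm]
  · rintro _ ⟨t, rfl⟩
    show SL2Anti.pr _ * SL2Anti.pr _ = 1
    rw [← map_mul, hTadd, ← two_mul, h2, zero_mul, hT0, map_one]
  · rw [← Nat.card_congr (MonoidHom.ofInjective huinj).toEquiv]
    exact (Nat.card_congr Multiplicative.toAdd).trans Nat.card_eq_fintype_card
  -- the invariant of a double coset
  let inv' : SL(2, F) → F := fun W => ((G0 * (W * G0 * W⁻¹) : SL(2, F)) : M2).trace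
  have hcomm : ∀ W : SL(2, F), (SL2Anti.pr W : PSL2) ∈ A → W * G0 = G0 * W := by
    intro W hW
    rw [← hAC, Subgroup.mem_centralizer_singleton_iff, ← hG0, ← map_mul, ← map_mul] at hW
    exact hinj hW
  have hinvA : ∀ W V U : SL(2, F), (SL2Anti.pr W : PSL2) ∈ A → (SL2Anti.pr U : PSL2) ∈ A →
      inv' (W * V * U) = inv' V := by
    intro W V U hW hU
    have e1 : U * G0 * U⁻¹ = G0 := by rw [hcomm U hU, mul_inv_cancel_right]
    have e2 : W⁻¹ * G0 * W = G0 := by rw [mul_assoc, ← hcomm W hW, inv_mul_cancel_left]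
    show ((G0 * (W * V * U * G0 * (W * V * U)⁻¹) : SL(2, F)) : M2).trace = _
    rw [show G0 * (W * V * U * G0 * (W * V * U)⁻¹) = W * ((W⁻¹ * G0 * W) * (V * (U * G0 * U⁻¹) * V⁻¹)) * W⁻¹ by group,
      e1, e2, Matrix.SpecialLinearGroup.coe_mul, Matrix.trace_mul_comm, ← Matrix.SpecialLinearGroup.coe_mul,
      inv_mul_cancel_left]
  have hdet : a * d - b * c = 1 := by
    have h : (G0 : M2).det = 1 := G0.2
    rwa [det_fin_two] at h
  have hX : ∀ t, ((T t * G0 * (T t)⁻¹ : SL(2, F)) : M2) =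
      !![a + t * c, (a + t * c) * t + b + t * d; c, c * t + d] := fun t => by
    rw [hTinv]
    show (!![1, t; 0, 1] : M2) * (G0 : M2) * !![1, t; 0, 1] = _
    ext i j
    fin_cases i <;> fin_cases j <;>
      simp [Matrix.mul_apply, Fin.sum_univ_two, vecMul, dotProduct, ← ha, ← hb, ← hc, ← hdd] <;> ring
  have hinvT : ∀ t, inv' (T t) = (a + d) * (a + d) + c * t * (c * t) := fun t => by
    show ((G0 * (T t * G0 * (T t)⁻¹) : SL(2, F)) : M2).trace = _
    rw [Matrix.SpecialLinearGroup.coe_mul, hX, trace_fin_two]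
    simp [Matrix.mul_apply, Fin.sum_univ_two, vecMul, dotProduct, ← ha, ← hb, ← hc, ← hdd]
    linear_combination (a * t * c + c * d * t + b * c - a * d) * h2
  have hsp : ∀ t, T t * G0 * (T t)⁻¹ * G0 = G0 * (T t * G0 * (T t)⁻¹) → t = 0 ∨ t = (a + d) / c := by
    intro t e
    have e00 := congrArg (fun m : SL(2, F) => (m : M2) 0 0) e
    simp only [Matrix.SpecialLinearGroup.coe_mul] at e00
    rw [← Matrix.SpecialLinearGroup.coe_mul, ← Matrix.SpecialLinearGroup.coe_mul, hX] at e00
    simp [Matrix.mul_apply, Fin.sum_univ_two, vecMul, dotProduct, ← ha, ← hb, ← hc] at e00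
    have h : (t * c) * (c * t - (a + d)) = 0 := by linear_combination e00 - (a * t * c + c * d * t) * h2
    rcases mul_eq_zero.1 h with h | h
    · exact Or.inl ((mul_eq_zero.1 h).resolve_right hc0)
    · right; rw [eq_div_iff hc0]; linear_combination h
  -- injectivity and counting
  set t0 := (a + d) / c with ht0
  have ht0' : t0 ≠ 0 := by
    rw [ht0]
    refine div_ne_zero (fun e => hgg ?_) hc0
    have htr : (G0 : M2).trace = 0 := by rw [trace_fin_two]; exact e
    rw [← hG0, ← map_mul, SL2Anti.sq_eq_neg_one_of_trace htr]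
    rw [show (-1 : SL(2, F)) = 1 from Subtype.ext (by
      ext i j; fin_cases i <;> fin_cases j <;> simp <;> linear_combination -h2), map_one]
  let Φ : A × ({0, t0} : Finset F) ⊕ A × (({0, t0} : Finset F)ᶜ : Finset F) × A → PSL2 := fun x =>
    match x with
    | .inl (p, t) => p.1 * SL2Anti.pr (T t.1)
    | .inr (p, t, p') => p.1 * SL2Anti.pr (T t.1) * p'.1
  have hinvΦ : ∀ (p q : A) (t : F) (W : SL(2, F)), (SL2Anti.pr W : PSL2) = p.1 * SL2Anti.pr (T t) * q.1 →
      inv' W = inv' (T t) := by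
    intro p q t W hW
    obtain ⟨P, hP⟩ := SL2Anti.pr_surjective p.1
    obtain ⟨Q, hQ⟩ := SL2Anti.pr_surjective q.1
    rw [← hP, ← hQ, ← map_mul, ← map_mul] at hW
    rw [hinj hW]
    exact hinvA P _ Q (hP ▸ p.2) (hQ ▸ q.2)
  have hteq : ∀ s t, inv' (T s) = inv' (T t) → s = t := by
    intro s t e
    rw [hinvT, hinvT] at e
    have h : c * c * ((s - t) * (s - t)) = 0 := by linear_combination e + c * c * (t * t - s * t) * h2
    exact sub_eq_zero.1 (mul_self_eq_zero.1 ((mul_eq_zero.1 h).resolve_left (mul_ne_zero hc0 hc0)))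
  have hgen : ∀ (p q p' q' : A) (s t : F), p.1 * SL2Anti.pr (T s) * q.1 = p'.1 * SL2Anti.pr (T t) * q'.1 →
      s = t := by
    intro p q p' q' s t e
    obtain ⟨W, hW⟩ := SL2Anti.pr_surjective (p.1 * SL2Anti.pr (T s) * q.1)
    exact hteq s t ((hinvΦ p q s W hW).symm.trans (hinvΦ p' q' t W (hW.trans e)))
  have h1A : (1 : PSL2) ∈ A := one_mem A
  have hΦ : Function.Injective Φ := by
    rintro (⟨p, s⟩ | ⟨p, s, q⟩) (⟨p', t⟩ | ⟨p', t, q'⟩) e
    · have hst : s.1 = t.1 := hgen p ⟨1, h1A⟩ p' ⟨1, h1A⟩ s.1 t.1 (by simpa [Φ] using e)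
      obtain rfl : s = t := Subtype.ext hst
      obtain rfl : p = p' := Subtype.ext (mul_right_cancel e)
      rfl
    · exfalso
      have hst : s.1 = t.1 := hgen p ⟨1, h1A⟩ p' q' s.1 t.1 (by simpa [Φ] using e)
      exact Finset.mem_compl.1 t.2 (hst ▸ s.2)
    · exfalso
      have hst : s.1 = t.1 := hgen p q p' ⟨1, h1A⟩ s.1 t.1 (by simpa [Φ] using e)
      exact Finset.mem_compl.1 s.2 (hst ▸ t.2)
    · have hst : s.1 = t.1 := hgen p q p' q' s.1 t.1 e
      obtain rfl : s = t := Subtype.ext hst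
      set τ : PSL2 := SL2Anti.pr (T s.1) with hτ
      have e' : p.1 * τ * q.1 = p'.1 * τ * q'.1 := e
      set w := p'.1⁻¹ * p.1 with hw
      have hwA : w ∈ A := mul_mem (inv_mem p'.2) p.2
      have hw' : τ⁻¹ * w * τ = q'.1 * q.1⁻¹ := by
        rw [hw]
        calc τ⁻¹ * (p'.1⁻¹ * p.1) * τ = τ⁻¹ * p'.1⁻¹ * (p.1 * τ * q.1) * q.1⁻¹ := by group
          _ = q'.1 * q.1⁻¹ := by rw [e']; group
      by_cases hw1 : w = 1
      · obtain rfl : p = p' := Subtype.ext (by
          rw [hw, inv_mul_eq_one] at hw1; exact hw1.symm)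
        obtain rfl : q = q' := Subtype.ext (mul_left_cancel e')
        rfl
      · exfalso
        have hm : τ⁻¹ * w * τ ∈ A := hw' ▸ mul_mem q'.2 (inv_mem q.2)
        have hm1 : τ⁻¹ * w * τ ≠ 1 := fun h => hw1 (by
          calc w = τ * (τ⁻¹ * w * τ) * τ⁻¹ := by group
            _ = 1 := by rw [h]; group)
        rw [← hAC] at hm hwA
        have c1 := centralizer_eq_of_mem h4 heven hg1 hwA hw1
        have c2 := centralizer_eq_of_mem h4 heven hg1 hm hm1
        have hgm : τ * g * τ⁻¹ ∈ Subgroup.centralizer ({g} : Set PSL2) := by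
          rw [← c1, Subgroup.mem_centralizer_singleton_iff]
          have hgc : g ∈ Subgroup.centralizer ({τ⁻¹ * w * τ} : Set PSL2) := by
            rw [c2, Subgroup.mem_centralizer_singleton_iff]
          rw [Subgroup.mem_centralizer_singleton_iff] at hgc
          calc τ * g * τ⁻¹ * w = τ * (g * (τ⁻¹ * w * τ)) * τ⁻¹ := by group
            _ = w * (τ * g * τ⁻¹) := by rw [hgc]; group
        rw [Subgroup.mem_centralizer_singleton_iff, hτ, ← hG0, ← map_inv, ← map_mul, ← map_mul, ← map_mul,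
          ← map_mul] at hgm
        have hmem := Finset.mem_compl.1 s.2
        rcases hsp s.1 (hinj hgm) with h | h
        · exact hmem (by simp [h])
        · exact hmem (by simp [h, ← ht0])
  intro x
  have hcard : Nat.card PSL2 = Nat.card (A × ({0, t0} : Finset F) ⊕ A × (({0, t0} : Finset F)ᶜ : Finset F) × A) := by
    have hAc : Nat.card A = Fintype.card F + 1 := by rw [Nat.card_zpowers, hg]
    have h := card_psl_two_split (F := F)
    rw [hd, one_mul] at h
    rw [h, Nat.card_sum, Nat.card_prod, Nat.card_prod, Nat.card_prod, hAc, Nat.card_eq_finsetCard,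
      Nat.card_eq_finsetCard, Finset.card_compl, Finset.card_pair (Ne.symm ht0')]
    obtain ⟨r, hr⟩ : ∃ r, Fintype.card F = r + 2 := ⟨Fintype.card F - 2, by omega⟩
    rw [hr, show r + 2 - 2 = r by omega, show r + 2 - 1 = r + 1 by omega]
    ring
  obtain ⟨y, hy⟩ := ((Nat.bijective_iff_injective_and_card Φ).2 ⟨hΦ, hcard.symm⟩).2 x
  rcases y with ⟨p, t⟩ | ⟨p, t, q⟩
  · exact ⟨p.1, p.2, _, ⟨Multiplicative.ofAdd t.1, rfl⟩, 1, h1A, by rw [mul_one]; exact hy.symm⟩
  · exact ⟨p.1, p.2, _, ⟨Multiplicative.ofAdd t.1, rfl⟩, q.1, q.2, hy.symm⟩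

end CfsgLib.Geom.Moebius
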