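import Mathlib
import Cfsg.Prelude.Def_ClassicalGeometry
import Cfsg.Agent.Lib.MaxSub.Transvection

set_option autoImplicit false

/-!
Maximal parabolic subgroups of `GL_n`: stabilisers of the span of the first `k` basis vectors.
-/

namespace CfsgLib.Geom

open CfsgLib.MaxSub
open Matrix

variable {F : Type*} [Field F]

/-- The stabiliser in `GL_n` of the first `k` coordinates. -/
abbrev parab (F : Type*) [Field F] (n k : ℕ) : Subgroup (GL (Fin n) F) :=
  Cfsg.stabilizing (Cfsg.glToMat (Fin n) F) {v : Fin n → F | ∀ i : Fin n, k ≤ (i : ℕ) → v i = 0}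

/-- The span of the first `k` coordinate vectors. -/
def coordSub (F : Type*) [Field F] (n k : ℕ) : Submodule F (Fin n → F) where
  carrier := {v | ∀ i : Fin n, k ≤ (i : ℕ) → v i = 0}
  add_mem' ha hb i hi := by simp [ha i hi, hb i hi]
  zero_mem' _ _ := rfl
  smul_mem' c _ ha i hi := by simp [ha i hi]

theorem mem_coordSub {n k : ℕ} {v : Fin n → F} :
    v ∈ coordSub F n k ↔ ∀ i : Fin n, k ≤ (i : ℕ) → v i = 0 := Iff.rfl

theorem mem_parab {n k : ℕ} {g : GL (Fin n) F} :
    g ∈ parab F n k ↔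
      ∀ i j : Fin n, k ≤ (i : ℕ) → (j : ℕ) < k → (g : Matrix (Fin n) (Fin n) F) i j = 0 := by
  constructor
  · intro h i j hi hj
    have := (h (Pi.single j 1)).1 (fun l hl => Pi.single_eq_of_ne (by rintro rfl; omega) _) i hi
    simpa using this
  · intro h
    have hmap : ∀ v ∈ coordSub F n k, (g : Matrix (Fin n) (Fin n) F) *ᵥ v ∈ coordSub F n k := by
      intro v hv i hi
      show ∑ j, (g : Matrix (Fin n) (Fin n) F) i j * v j = 0
      refine Finset.sum_eq_zero fun j _ => ?_
      by_cases hj : (j : ℕ) < k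
      · rw [h i j hi hj, zero_mul]
      · rw [hv j (by omega), mul_zero]
    let L : coordSub F n k →ₗ[F] coordSub F n k :=
      (Matrix.mulVecLin (g : Matrix (Fin n) (Fin n) F)).restrict hmap
    have hinj : Function.Injective L := fun x y hxy => by
      refine Subtype.ext (Matrix.mulVec_injective_of_isUnit g.isUnit ?_)
      exact congrArg Subtype.val hxy
    intro v
    refine ⟨fun hv => hmap v hv, fun hv => ?_⟩
    obtain ⟨w, hw⟩ := LinearMap.surjective_of_injective hinj ⟨_, hv⟩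
    have : (w : Fin n → F) = v :=
      Matrix.mulVec_injective_of_isUnit g.isUnit (congrArg Subtype.val hw)
    rw [← this]
    exact w.2

theorem hasTv_parab {n k : ℕ} {a φ : Fin n → F} (h : φ ⬝ᵥ a = 0)
    (hk : (∀ i : Fin n, k ≤ (i : ℕ) → a i = 0) ∨ ∀ j : Fin n, (j : ℕ) < k → φ j = 0) :
    HasTv (parab F n k) a φ := by
  refine (hasTv_iff h).2 (mem_parab.2 fun i j hi hj => ?_)
  have hne : i ≠ j := by rintro rfl; omega
  rcases hk with hk | hk
  · simp [tvMat, Matrix.vecMulVec_apply, hne, hk i hi]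
  · simp [tvMat, Matrix.vecMulVec_apply, hne, hk j hj]

theorem parab_ne_top {n k : ℕ} (hk0 : 0 < k) (hkn : k < n) : parab F n k ≠ ⊤ := by
  intro h
  let i : Fin n := ⟨n - 1, by omega⟩
  let j : Fin n := ⟨0, by omega⟩
  have hij : i ≠ j := fun e => by have := congrArg Fin.val e; simp only [i, j] at this; omega
  have hd : dotProduct (Pi.single j 1 : Fin n → F) (Pi.single i 1) = 0 := by simp [hij.symm]
  have hmem : tvGL _ _ hd ∈ parab F n k := by rw [h]; trivial
  have := mem_parab.1 hmem i j (by simp only [i]; omega) (by simp only [j]; omega)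
  simp [tvMat, Matrix.vecMulVec_apply, hij] at this

/-- `parab` is transitive on the vectors outside the subspace. -/
theorem exists_parab_map {n k : ℕ} {a b : Fin n → F} (ha : a ∉ coordSub F n k)
    (hb : b ∉ coordSub F n k) :
    ∃ p ∈ parab F n k, (p : Matrix (Fin n) (Fin n) F) *ᵥ a = b := by
  obtain ⟨i, hi, hai⟩ : ∃ i : Fin n, k ≤ (i : ℕ) ∧ a i ≠ 0 := by
    simpa [mem_coordSub] using ha
  obtain ⟨i', hi', hbi⟩ : ∃ i : Fin n, k ≤ (i : ℕ) ∧ b i ≠ 0 := by
    simpa [mem_coordSub] using hb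
  obtain ⟨χ, hχW, hχa, hχb⟩ : ∃ χ : Fin n → F, (∀ j : Fin n, (j : ℕ) < k → χ j = 0) ∧
      χ ⬝ᵥ a ≠ 0 ∧ χ ⬝ᵥ b ≠ 0 := by
    have hz : ∀ l : Fin n, k ≤ (l : ℕ) → ∀ j : Fin n, (j : ℕ) < k → (Pi.single l (1 : F) : Fin n → F) j = 0 :=
      fun l hl j hj => Pi.single_eq_of_ne (by rintro rfl; omega) _
    by_cases h1 : b i = 0
    · by_cases h2 : a i' = 0
      · refine ⟨Pi.single i 1 + Pi.single i' 1, fun j hj => ?_, ?_, ?_⟩
        · rw [Pi.add_apply, hz i hi j hj, hz i' hi' j hj, add_zero]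
        · simpa [h2] using hai
        · simpa [h1] using hbi
      · exact ⟨_, hz i' hi', by simpa using h2, by simpa using hbi⟩
    · exact ⟨_, hz i hi, by simpa using hai, by simpa using h1⟩
  let ψ : Fin n → F := (χ ⬝ᵥ a)⁻¹ • χ
  let M := tvMat (b - a) ψ
  have hMdet : M.det ≠ 0 := by
    have : M = 1 + Matrix.replicateCol Unit (b - a) * Matrix.replicateRow Unit ψ := by
      ext r s
      simp [M, tvMat, vecMulVec_apply, Matrix.mul_apply]
    rw [this, Matrix.det_one_add_replicateCol_mul_replicateRow, smul_dotProduct, dotProduct_sub,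
      smul_eq_mul, mul_sub, inv_mul_cancel₀ hχa, add_sub_cancel]
    exact mul_ne_zero (inv_ne_zero hχa) hχb
  refine ⟨Matrix.GeneralLinearGroup.mkOfDetNeZero M hMdet, mem_parab.2 fun r s hr hs => ?_, ?_⟩
  · have hne : r ≠ s := by rintro rfl; omega
    show M r s = 0
    simp [M, ψ, tvMat, Matrix.vecMulVec_apply, hne, hχW s hs]
  · show M *ᵥ a = b
    rw [tvMat_mulVec, smul_dotProduct, smul_eq_mul, inv_mul_cancel₀ hχa, one_smul, add_sub_cancel]

/-- Maximality of the maximal parabolic subgroups. -/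
theorem eq_top_of_parab_lt {n k : ℕ} (hk0 : 0 < k) (hkn : k < n) {H : Subgroup (GL (Fin n) F)}
    (hH : parab F n k < H) : H = ⊤ := by
  classical
  obtain ⟨g, hgH, hg⟩ := SetLike.exists_of_lt hH
  have hg' : g⁻¹ ∉ parab F n k := fun h => hg (by simpa using inv_mem h)
  obtain ⟨i, j, hi, hj, hgij⟩ : ∃ i j : Fin n, k ≤ (i : ℕ) ∧ (j : ℕ) < k ∧
      (g : Matrix (Fin n) (Fin n) F) i j ≠ 0 := by simpa [mem_parab] using hg
  obtain ⟨i', j', hi', hj', hgij'⟩ : ∃ i j : Fin n, k ≤ (i : ℕ) ∧ (j : ℕ) < k ∧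
      ((g⁻¹ : GL (Fin n) F) : Matrix (Fin n) (Fin n) F) i j ≠ 0 := by
    rw [mem_parab] at hg'; push Not at hg'; exact hg'
  set a := (g : Matrix (Fin n) (Fin n) F) *ᵥ (Pi.single j (1 : F)) with ha
  set ψ := (Pi.single i' (1 : F) : Fin n → F) ᵥ* ((g⁻¹ : GL (Fin n) F) : Matrix (Fin n) (Fin n) F)
    with hψ
  have hsingle : ∀ c : F, HasTv H a (c • ψ) := by
    intro c
    have hd : dotProduct (c • (Pi.single i' 1 : Fin n → F)) (Pi.single j 1) = 0 := by
      have hne : i' ≠ j := by rintro rfl; omega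
      simp [hne.symm]
    have h1 := (hasTv_parab hd (Or.inl fun l hl =>
      Pi.single_eq_of_ne (show l ≠ j by rintro rfl; omega) _)).mono hH.le
    have h2 := h1.conj hgH
    rwa [smul_vecMul, ← ha, ← hψ] at h2
  set b : Fin n → F := Pi.single j' (ψ j')⁻¹ with hb
  have hψj : ψ j' ≠ 0 := by simpa [hψ] using hgij'
  have hψb : ψ ⬝ᵥ b = 1 := by simp [hb, hψj]
  have hbW : ∀ l : Fin n, k ≤ (l : ℕ) → b l = 0 := fun l hl =>
    Pi.single_eq_of_ne (show l ≠ j' by rintro rfl; omega) _
  have hall : ∀ χ : Fin n → F, χ ⬝ᵥ a = 0 → HasTv H a χ := by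
    intro χ hχ
    have hψa : ψ ⬝ᵥ a = 0 := by simpa using (hsingle 1).1
    set χ' := χ - (χ ⬝ᵥ b) • ψ with hχ'
    have hd : χ' ⬝ᵥ b = 0 := by simp [hχ', sub_dotProduct, hψb]
    have hχ'a : χ' ⬝ᵥ a = 0 := by simp [hχ', sub_dotProduct, hχ, hψa]
    have h1 := ((hasTv_parab hd (Or.inl hbW)).mono hH.le).comm (hsingle 1) hχ'a
    rw [one_smul, hψb, one_smul] at h1
    have h2 := h1.add (hsingle (χ ⬝ᵥ b))
    rwa [hχ', sub_add_cancel] at h2
  have haW : a ∉ coordSub F n k := fun h => hgij (by simpa [ha] using h i hi)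
  have hSL : Cfsg.Geo.specialLinear (Fin n) F ≤ H := by
    refine specialLinear_le_of_forall_center fun a' χ ha' hχ => ?_
    by_cases h : a' ∈ coordSub F n k
    · exact (hasTv_parab hχ (Or.inl h)).mono hH.le
    · obtain ⟨p, hp, hpa⟩ := exists_parab_map haW h
      have h1 : (χ ᵥ* (p : Matrix (Fin n) (Fin n) F)) ⬝ᵥ a = 0 := by
        rw [← dotProduct_mulVec, hpa, hχ]
      have h2 := (hall _ h1).conj (hH.le hp)
      rwa [hpa, vecMul_vecMul, ← Units.val_mul, mul_inv_cancel, Units.val_one, vecMul_one] at h2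
  rw [Subgroup.eq_top_iff']
  intro x
  let z : Fin n := ⟨0, by omega⟩
  let D : Matrix (Fin n) (Fin n) F :=
    Matrix.diagonal (Function.update (1 : Fin n → F) z (x : Matrix (Fin n) (Fin n) F).det)
  have hDdet : D.det = (x : Matrix (Fin n) (Fin n) F).det := by
    simp [D, Matrix.det_diagonal, Finset.prod_update_of_mem]
  have hx0 : (x : Matrix (Fin n) (Fin n) F).det ≠ 0 := by simpa using x.det.ne_zero
  let d : GL (Fin n) F := Matrix.GeneralLinearGroup.mkOfDetNeZero D (by rw [hDdet]; exact hx0)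
  have hdP : d ∈ parab F n k := mem_parab.2 fun r s hr hs => by
    show D r s = 0
    exact Matrix.diagonal_apply_ne _ (by rintro rfl; omega)
  have hdx : d⁻¹ * x ∈ H := hSL (by
    show Matrix.GeneralLinearGroup.det (d⁻¹ * x) = 1
    rw [map_mul, map_inv, inv_mul_eq_one]
    exact Units.ext hDdet)
  simpa using mul_mem (hH.le hdP) hdx

/-- An invariant subspace of a maximal parabolic is `⊥`, the coordinate subspace, or `⊤`. -/
theorem eq_of_parab_invariant {n k : ℕ} {T : Submodule F (Fin n → F)}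
    (hT : ∀ p ∈ parab F n k, ∀ v ∈ T, (p : Matrix (Fin n) (Fin n) F) *ᵥ v ∈ T) :
    T = ⊥ ∨ T = coordSub F n k ∨ T = ⊤ := by
  classical
  have step : ∀ v ∈ T, ∀ a b : Fin n, v b ≠ 0 → a ≠ b → ((a : ℕ) < k ∨ k ≤ (b : ℕ)) →
      (Pi.single a 1 : Fin n → F) ∈ T := by
    intro v hv a b hvb hab hor
    have hd : dotProduct (Pi.single b 1 : Fin n → F) (Pi.single a 1) = 0 := by simp [hab.symm]
    have htv : HasTv (parab F n k) (Pi.single a 1) (Pi.single b 1) := hasTv_parab hd (by
      rcases hor with h | h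
      · exact Or.inl fun l hl => Pi.single_eq_of_ne (by rintro rfl; omega) _
      · exact Or.inr fun l hl => Pi.single_eq_of_ne (by rintro rfl; omega) _)
    have h1 := hT _ ((hasTv_iff hd).1 htv) v hv
    rw [coe_tvGL, tvMat_mulVec] at h1
    have h2 := T.smul_mem (v b)⁻¹ (T.sub_mem h1 hv)
    rwa [add_sub_cancel_left, single_one_dotProduct, inv_smul_smul₀ hvb] at h2
  by_cases hle : T ≤ coordSub F n k
  · rcases eq_or_ne T ⊥ with h | h
    · exact Or.inl h
    refine Or.inr (Or.inl (le_antisymm hle fun w hw => ?_))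
    obtain ⟨v, hv, hv0⟩ := T.exists_mem_ne_zero_of_ne_bot h
    obtain ⟨b, hb⟩ := Function.ne_iff.1 hv0
    have hbk : (b : ℕ) < k := by
      by_contra hbk
      exact hb (hle hv b (by omega))
    have hsing : ∀ a : Fin n, (a : ℕ) < k → (Pi.single a 1 : Fin n → F) ∈ T := by
      intro a ha
      by_cases hab : a = b
      · subst hab
        by_cases hex : ∃ c : Fin n, (c : ℕ) < k ∧ c ≠ a
        · obtain ⟨c, hc, hca⟩ := hex
          exact step _ (step v hv c a hb hca (Or.inl hc)) a c (by simp) hca.symm (Or.inl ha)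
        · have hv' : v = v a • (Pi.single a 1 : Fin n → F) := funext fun l => by
            by_cases hl : l = a
            · subst hl; simp
            · have : k ≤ (l : ℕ) := not_lt.1 fun h => hex ⟨l, h, hl⟩
              simp [hl, hle hv l this]
          have := T.smul_mem (v a)⁻¹ hv
          have h5 := congrArg (fun u => (v a)⁻¹ • u) hv'
          rwa [h5, inv_smul_smul₀ hb] at this
      · exact step v hv a b hb hab (Or.inl ha)
    rw [pi_eq_sum_univ' w]
    refine T.sum_mem fun l _ => ?_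
    by_cases hl : (l : ℕ) < k
    · exact T.smul_mem _ (hsing l hl)
    · rw [hw l (by omega), zero_smul]; exact T.zero_mem
  · refine Or.inr (Or.inr (eq_top_iff.2 fun w _ => ?_))
    obtain ⟨v, hv, hvW⟩ := SetLike.not_le_iff_exists.1 hle
    obtain ⟨b, hbk, hb⟩ : ∃ b : Fin n, k ≤ (b : ℕ) ∧ v b ≠ 0 := by simpa [mem_coordSub] using hvW
    have hsing : ∀ a : Fin n, (Pi.single a 1 : Fin n → F) ∈ T := by
      intro a
      by_cases hab : a = b
      · subst hab
        have hv' : v - ∑ l ∈ Finset.univ.erase a, v l • (Pi.single l 1 : Fin n → F) =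
            v a • (Pi.single a 1 : Fin n → F) := by
          conv_lhs => arg 1; rw [pi_eq_sum_univ' v, ← Finset.add_sum_erase _ _ (Finset.mem_univ a)]
          rw [add_sub_cancel_right]
        have h1 : v a • (Pi.single a 1 : Fin n → F) ∈ T := hv' ▸ T.sub_mem hv (T.sum_mem fun l hl =>
          T.smul_mem _ (step v hv l a hb (Finset.ne_of_mem_erase hl) (Or.inr hbk)))
        have := T.smul_mem (v a)⁻¹ h1
        rwa [inv_smul_smul₀ hb] at this
      · exact step v hv a b hb hab (Or.inr hbk)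
    rw [pi_eq_sum_univ' w]
    exact T.sum_mem fun l _ => T.smul_mem _ (hsing l)

theorem finrank_coordSub {n k : ℕ} (hk : k ≤ n) : Module.finrank F (coordSub F n k) = k := by
  let e : coordSub F n k ≃ₗ[F] (Fin k → F) :=
    { toFun := fun v i => v.1 (Fin.castLE hk i)
      map_add' := fun _ _ => rfl
      map_smul' := fun _ _ => rfl
      invFun := fun f => ⟨fun i => if h : (i : ℕ) < k then f ⟨i, h⟩ else 0,
        fun i hi => dif_neg (by omega)⟩
      left_inv := fun v => Subtype.ext (funext fun i => by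
        by_cases h : (i : ℕ) < k
        · simp [h]
        · simp [h, v.2 i (by omega)])
      right_inv := fun f => funext fun i => by simp }
  rw [e.finrank_eq]
  simp

/-- Transpose-inverse followed by reversal of the indices. -/
noncomputable def revInvTr (F : Type*) [Field F] (n : ℕ) : GL (Fin n) F ≃* GL (Fin n) F where
  toFun g := ⟨((g⁻¹ : GL (Fin n) F) : Matrix (Fin n) (Fin n) F)ᵀ.submatrix Fin.revPerm Fin.revPerm,
    (g : Matrix (Fin n) (Fin n) F)ᵀ.submatrix Fin.revPerm Fin.revPerm,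
    by rw [Matrix.submatrix_mul_equiv, ← Matrix.transpose_mul, g.mul_inv]; simp,
    by rw [Matrix.submatrix_mul_equiv, ← Matrix.transpose_mul, g.inv_mul]; simp⟩
  invFun g := ⟨((g⁻¹ : GL (Fin n) F) : Matrix (Fin n) (Fin n) F)ᵀ.submatrix Fin.revPerm Fin.revPerm,
    (g : Matrix (Fin n) (Fin n) F)ᵀ.submatrix Fin.revPerm Fin.revPerm,
    by rw [Matrix.submatrix_mul_equiv, ← Matrix.transpose_mul, g.mul_inv]; simp,
    by rw [Matrix.submatrix_mul_equiv, ← Matrix.transpose_mul, g.inv_mul]; simp⟩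
  left_inv g := Units.ext (by ext i j; simp)
  right_inv g := Units.ext (by ext i j; simp)
  map_mul' g h := Units.ext (by
    show ((((g * h)⁻¹ : GL (Fin n) F)) : Matrix (Fin n) (Fin n) F)ᵀ.submatrix Fin.revPerm Fin.revPerm = _
    rw [_root_.mul_inv_rev, Units.val_mul, Matrix.transpose_mul, ← Matrix.submatrix_mul_equiv _ _ _ Fin.revPerm]
    rfl)

theorem revInvTr_mem_parab {n k : ℕ} (hk : k ≤ n) (g : GL (Fin n) F) :
    revInvTr F n g ∈ parab F n (n - k) ↔ g ∈ parab F n k := by
  rw [← inv_mem_iff (x := g), mem_parab, mem_parab]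
  have hent : ∀ i j, (revInvTr F n g : Matrix (Fin n) (Fin n) F) i j =
      ((g⁻¹ : GL (Fin n) F) : Matrix (Fin n) (Fin n) F) (Fin.rev j) (Fin.rev i) := fun i j => rfl
  constructor
  · intro h i j hi hj
    have := h (Fin.rev j) (Fin.rev i) (by rw [Fin.val_rev]; omega) (by rw [Fin.val_rev]; omega)
    rwa [hent, Fin.rev_rev, Fin.rev_rev] at this
  · intro h i j hi hj
    rw [hent]
    exact h _ _ (by rw [Fin.val_rev]; omega) (by rw [Fin.val_rev]; omega)

end CfsgLib.Geom
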