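import Mathlib
import Cfsg.Agent.Lib.Geom.SiegelFull
import Cfsg.Agent.Lib.Geom.OmegaMax
import Cfsg.Agent.Lib.Geom.MaxTS
import Cfsg.Agent.Lib.Geom.NondegMax

set_option autoImplicit false

/-!
Maximality of the stabiliser of a non-singular point in even characteristic, and the non-maximal subspace
stabilisers in `Ω`.
-/

namespace CfsgLib.Geom.OrthSub

open CfsgLib.Classical
open QuadraticMap (polar)

variable {F V : Type*} [Field F] [AddCommGroup V] [Module F V] [FiniteDimensional F V]
variable {Q : QuadraticForm F V}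

/-- In characteristic two, a singular vector perpendicular to four given ones. -/
theorem exists_singular_perp_four [Finite F] (h2 : (2 : F) = 0) (h7 : 7 ≤ Module.finrank F V)
    (a b c d : V) : ∃ u, u ≠ 0 ∧ Q u = 0 ∧
      polar Q a u = 0 ∧ polar Q b u = 0 ∧ polar Q c u = 0 ∧ polar Q d u = 0 := by
  let L : V →ₗ[F] (Fin 4 → F) := LinearMap.pi fun i => QuadraticMap.polarBilin Q (![a, b, c, d] i)
  set K := LinearMap.ker L with hK
  have hKd : 3 ≤ Module.finrank F K := by
    have h1 := L.finrank_range_add_finrank_ker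
    have h2 := Submodule.finrank_le (LinearMap.range L)
    simp at h2
    rw [hK]
    omega
  obtain ⟨x, hx, hx0⟩ := Submodule.exists_mem_ne_zero_of_ne_bot
    (show K ≠ ⊥ from fun e => by rw [e, finrank_bot] at hKd; omega)
  obtain ⟨y, hy, hyn⟩ : ∃ y ∈ K ⊓ LinearMap.ker (QuadraticMap.polarBilin Q x), y ∉ F ∙ x := by
    by_contra hall
    push Not at hall
    have h3 := Submodule.finrank_mono (show K ⊓ LinearMap.ker (QuadraticMap.polarBilin Q x) ≤ F ∙ x from hall)
    rw [finrank_span_singleton hx0] at h3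
    have h4 := Submodule.finrank_sup_add_finrank_inf_eq K (LinearMap.ker (QuadraticMap.polarBilin Q x))
    have h5 := (QuadraticMap.polarBilin Q x).finrank_range_add_finrank_ker
    have h6 := Submodule.finrank_le (LinearMap.range (QuadraticMap.polarBilin Q x))
    have h8 := Submodule.finrank_le (K ⊔ LinearMap.ker (QuadraticMap.polarBilin Q x))
    rw [Module.finrank_self] at h6
    omega
  have hmem : ∀ z ∈ K, polar Q a z = 0 ∧ polar Q b z = 0 ∧ polar Q c z = 0 ∧ polar Q d z = 0 :=
    fun z hz => ⟨congrFun hz 0, congrFun hz 1, congrFun hz 2, congrFun hz 3⟩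
  have hy0 : y ≠ 0 := fun e => hyn (e ▸ Submodule.zero_mem _)
  rcases eq_or_ne (Q y) 0 with hQy | hQy
  · exact ⟨y, hy0, hQy, hmem y hy.1⟩
  have hchar : ringChar F = 2 := by
    have h := (ringChar.spec F 2).1 (by exact_mod_cast h2)
    rcases (Nat.dvd_prime Nat.prime_two).1 h with h1 | h1
    · exact absurd h1 (CharP.ringChar_ne_one)
    · exact h1
  obtain ⟨t, ht⟩ := FiniteField.isSquare_of_char_two hchar (Q x / Q y)
  refine ⟨x + t • y, fun e => ?_, ?_, hmem _ (K.add_mem hx (K.smul_mem _ hy.1))⟩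
  · rcases eq_or_ne t 0 with rfl | ht0
    · exact hx0 (by simpa using e)
    · refine hyn ((Submodule.smul_mem_iff _ ht0).1 ?_)
      rw [eq_neg_of_add_eq_zero_right e]
      exact Submodule.neg_mem _ (Submodule.mem_span_singleton_self x)
  · rw [quad_map_add_smul, show polar Q x y = 0 from hy.2, mul_zero, add_zero, ← ht,
      div_mul_cancel₀ _ hQy, ← two_mul, h2, zero_mul]

variable [Finite F]

theorem point_moved (hQ : ∀ x, (∀ y, polar Q x y = 0) → x = 0) (h5 : 5 ≤ Module.finrank F V) {v : V}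
    (hv : Q v ≠ 0) : ∃ g ∈ commutator (quadIsoms Q), ∃ x ∈ F ∙ v, g.1 x ∉ F ∙ v := by
  obtain ⟨u, hu0, hvu, -, hQu⟩ := exists_perp_singular Q hQ h5 v v
  have hi : LinearIndependent F ![u, v] := (LinearIndependent.pair_iff' hu0).2 fun a ha => hv (by
    rw [← ha, quad_smul, hQu, mul_zero])
  obtain ⟨w, hwu, hwv⟩ := exists_dual_pair Q hQ hi 0 1
  refine ⟨_, siegel_mem_commutator hQ h5 u w, v, Submodule.mem_span_singleton_self v, fun hmem => ?_⟩
  rw [siegel_apply Q hQu hwu, QuadraticMap.polar_comm _ u v, hvu, zero_smul, add_zero, mul_zero, add_zero,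
    QuadraticMap.polar_comm _ w v, hwv, one_smul] at hmem
  have h1 := sub_mem (Submodule.mem_span_singleton_self (R := F) v) hmem
  rw [sub_sub_cancel, Submodule.mem_span_singleton] at h1
  obtain ⟨c, hc⟩ := h1
  rcases eq_or_ne c 0 with rfl | hc0
  · exact hu0 (by rw [← hc, zero_smul])
  · rw [← hc, quad_smul, mul_eq_zero, mul_eq_zero, or_self] at hQu
    exact hv (hQu.resolve_left hc0)

/-- The stabiliser of a non-singular point in even characteristic. -/
theorem point_maximal (hQ : ∀ x, (∀ y, polar Q x y = 0) → x = 0) (h2 : (2 : F) = 0)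
    (h7 : 7 ≤ Module.finrank F V) {v : V} (hv : Q v ≠ 0) {M : Subgroup (quadIsoms Q)}
    (hH : ∀ g ∈ commutator (quadIsoms Q), (∀ x ∈ F ∙ v, g.1 x ∈ F ∙ v) → g ∈ M) :
    (∀ g ∈ M, ∀ x ∈ F ∙ v, g.1 x ∈ F ∙ v) ∨ commutator (quadIsoms Q) ≤ M := by
  have h5 : 5 ≤ Module.finrank F V := by omega
  by_cases hstab : ∀ g ∈ M, g.1 v ∈ F ∙ v
  · refine Or.inl fun g hg x hx => ?_
    obtain ⟨c, rfl⟩ := Submodule.mem_span_singleton.1 hx
    rw [map_smul]; exact Submodule.smul_mem _ c (hstab g hg)
  push Not at hstab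
  obtain ⟨g, hg, hgv⟩ := hstab
  refine Or.inr ?_
  set v' := g.1 v
  have hv0 : v ≠ 0 := fun e => hv (by rw [e, QuadraticMap.map_zero])
  have hi : LinearIndependent F ![v, v'] := (LinearIndependent.pair_iff' hv0).2 fun a ha =>
    hgv (ha ▸ Submodule.smul_mem _ a (Submodule.mem_span_singleton_self v))
  -- Siegel transformations fixing the point
  have hbase : ∀ x w, Q x = 0 → polar Q x w = 0 → polar Q x v = 0 → polar Q w v = 0 → siegel Q x w ∈ M := by
    intro x w hx hxw hxv hwv
    refine hH _ (siegel_mem_commutator hQ h5 x w) fun z hz => ?_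
    obtain ⟨c, rfl⟩ := Submodule.mem_span_singleton.1 hz
    rw [map_smul, siegel_apply Q hx hxw, hxv, hwv]
    simpa using Submodule.smul_mem _ c (Submodule.mem_span_singleton_self v)
  have hconj : ∀ x w, Q x = 0 → polar Q x w = 0 → polar Q x v' = 0 → polar Q w v' = 0 → siegel Q x w ∈ M := by
    intro x w hx hxw hxv hwv
    obtain ⟨x, rfl⟩ : ∃ z, g.1 z = x := ⟨_, apply_inv g x⟩
    obtain ⟨w, rfl⟩ : ∃ z, g.1 z = w := ⟨_, apply_inv g w⟩
    rw [polar_map] at hxw hxv hwv
    rw [← siegel_conj]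
    exact mul_mem (mul_mem hg (hbase x w (by rwa [mem_quadIsoms.1 g.2] at hx) hxw hxv hwv)) (inv_mem hg)
  have hfull : ∀ u, Q u = 0 → polar Q v u = 0 → polar Q v' u = 0 → u ∉ Submodule.span F {v, v'} →
      Full M u := by
    intro u hQu hvu hv'u hu w huw
    have hu0 : u ≠ 0 := fun e => hu (e ▸ Submodule.zero_mem _)
    have hnot : v ∉ Submodule.span F {u, v'} := by
      rw [Submodule.mem_span_pair]
      rintro ⟨a, b, hab⟩
      rcases eq_or_ne a 0 with rfl | ha
      · rw [zero_smul, zero_add] at hab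
        rcases eq_or_ne b 0 with rfl | hb
        · exact hv0 (by rw [← hab, zero_smul])
        · rw [LinearIndependent.pair_iff] at hi
          exact one_ne_zero (hi 1 (-b) (by rw [one_smul, neg_smul, hab, add_neg_cancel])).1
      · refine hu ?_
        rw [Submodule.mem_span_pair]
        refine ⟨a⁻¹, -(a⁻¹ * b), ?_⟩
        rw [← hab, smul_add, smul_smul, inv_mul_cancel₀ ha, one_smul, smul_smul, neg_smul, add_neg_cancel_right]
    obtain ⟨w0, hw0, hvw0⟩ := exists_perp_pair Q.polarBilin hQ (Submodule.span F {u, v'}) hnot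
    change polar Q v w0 = 1 at hvw0
    have huw0 : polar Q u w0 = 0 := hw0 u (Submodule.subset_span (Or.inl rfl))
    have hv'w0 : polar Q v' w0 = 0 := hw0 v' (Submodule.subset_span (Or.inr rfl))
    set t := polar Q v w
    have e : w = (w - t • w0) + t • w0 := (sub_add_cancel _ _).symm
    have h1 : polar Q u (w - t • w0) = 0 := by
      rw [QuadraticMap.polar_sub_right, QuadraticMap.polar_smul_right, huw, huw0, smul_zero, sub_zero]
    have h3 : polar Q u (t • w0) = 0 := by rw [QuadraticMap.polar_smul_right, huw0, smul_zero]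
    rw [e, siegel_add Q hQu h1 h3]
    refine mul_mem (hbase _ _ hQu h1 ((QuadraticMap.polar_comm Q u v).trans hvu) ?_)
      (hconj _ _ hQu h3 ((QuadraticMap.polar_comm Q u v').trans hv'u) ?_)
    · rw [QuadraticMap.polar_comm, QuadraticMap.polar_sub_right, QuadraticMap.polar_smul_right, hvw0,
        smul_eq_mul, mul_one, sub_self]
    · rw [QuadraticMap.polar_comm, QuadraticMap.polar_smul_right, hv'w0, smul_zero]
  obtain ⟨p, hvp, hv'p⟩ := exists_dual_pair Q hQ hi 1 0
  obtain ⟨p', hvp', hv'p'⟩ := exists_dual_pair Q hQ hi 0 1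
  obtain ⟨u, hu0, hQu, hvu, hv'u, hpu, hp'u⟩ := exists_singular_perp_four (Q := Q) h2 h7 v v' p p'
  have hus : u ∉ Submodule.span F {v, v'} := by
    rw [Submodule.mem_span_pair]
    rintro ⟨a, b, rfl⟩
    rw [QuadraticMap.polar_add_right, QuadraticMap.polar_smul_right, QuadraticMap.polar_smul_right,
      QuadraticMap.polar_comm _ p v, hvp, QuadraticMap.polar_comm _ p v', hv'p] at hpu
    rw [QuadraticMap.polar_add_right, QuadraticMap.polar_smul_right, QuadraticMap.polar_smul_right,
      QuadraticMap.polar_comm _ p' v, hvp', QuadraticMap.polar_comm _ p' v', hv'p'] at hp'u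
    simp at hpu hp'u
    simp [hpu, hp'u] at hu0
  obtain ⟨z0, hz0, huz0⟩ := exists_perp_pair Q.polarBilin hQ (Submodule.span F {v, v'}) hus
  change polar Q u z0 = 1 at huz0
  set z := z0 + (-Q z0) • u with hz
  have hQz : Q z = 0 := by
    rw [hz, quad_map_add_smul, hQu, QuadraticMap.polar_comm _ z0 u, huz0]; ring
  have hvz : ∀ a ∈ ({v, v'} : Set V), polar Q a z = 0 := by
    intro a ha
    have h0 : polar Q a z0 = 0 := hz0 a (Submodule.subset_span ha)
    rw [hz, QuadraticMap.polar_add_right, QuadraticMap.polar_smul_right, h0, zero_add]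
    rcases ha with rfl | rfl
    · rw [hvu, smul_zero]
    · rw [hv'u, smul_zero]
  have huz : polar Q u z = 1 := by
    rw [hz, QuadraticMap.polar_add_right, QuadraticMap.polar_smul_right, polar_self_of_singular Q hQu,
      smul_zero, add_zero, huz0]
  have hzs : z ∉ Submodule.span F {v, v'} := by
    rw [Submodule.mem_span_pair]
    rintro ⟨a, b, hab⟩
    rw [← hab, QuadraticMap.polar_add_right, QuadraticMap.polar_smul_right, QuadraticMap.polar_smul_right,
      QuadraticMap.polar_comm _ u v, hvu, QuadraticMap.polar_comm _ u v', hv'u] at huz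
    simp at huz
  exact commutator_le_of_pair hQ h5 (hfull u hQu hvu hv'u hus)
    (hfull z hQz (hvz v (Or.inl rfl)) (hvz v' (Or.inr rfl)) hzs) hQu hQz (by rw [huz]; exact one_ne_zero)

/-- An element of the commutator subgroup maps a maximal totally singular subspace to one of the same family. -/
theorem even_codim_of_commutator (hQ : ∀ x, (∀ y, polar Q x y = 0) → x = 0) {m : ℕ}
    (hdim : Module.finrank F V = 2 * m) {U : Submodule F V} (hU : IsMaxTS Q m U) {g : quadIsoms Q}
    (hg : g ∈ commutator (quadIsoms Q)) :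
    Even (m - Module.finrank F (U ⊓ U.map g.1.toLinearMap : Submodule F V)) := by
  have hnd : Q.polarBilin.Nondegenerate :=
    ⟨fun x hx => hQ x hx, fun y hy => hQ y fun x => by rw [QuadraticMap.polar_comm]; exact hy x⟩
  have himg : ∀ g : quadIsoms Q, IsMaxTS Q m (U.map g.1.toLinearMap) := fun g =>
    ⟨(LinearEquiv.finrank_map_eq g.1 U).trans hU.1, by
      rintro _ ⟨u, hu, rfl⟩
      exact (mem_quadIsoms.1 g.2 u).trans (hU.2 u hu)⟩
  let χ : quadIsoms Q → ZMod 2 := fun g =>
    ((m - Module.finrank F (U ⊓ U.map g.1.toLinearMap : Submodule F V) : ℕ) : ZMod 2)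
  have hmul : ∀ g k : quadIsoms Q, χ (g * k) = χ g + χ k := by
    intro g k
    have h := even_sum_codim Q hnd hdim hU (himg g) (himg (g * k))
    have e : U.map (g * k).1.toLinearMap = (U.map k.1.toLinearMap).map g.1.toLinearMap := by
      rw [← Submodule.map_comp]; rfl
    have hk : Module.finrank F (U.map g.1.toLinearMap ⊓ U.map (g * k).1.toLinearMap : Submodule F V) =
        Module.finrank F (U ⊓ U.map k.1.toLinearMap : Submodule F V) := by
      rw [e, ← Submodule.map_inf g.1.toLinearMap g.1.injective]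
      exact LinearEquiv.finrank_map_eq g.1 _
    rw [hk] at h
    have h' := (ZMod.natCast_eq_zero_iff_even).2 h
    simp only [Nat.cast_add] at h'
    show χ (g * k) = χ g + χ k
    simp only [χ] at *
    have hneg : ∀ a b c : ZMod 2, a + b + c = 0 → c = a + b := by decide
    exact hneg _ _ _ h'
  let φ : quadIsoms Q →* Multiplicative (ZMod 2) := MonoidHom.mk' (fun g => Multiplicative.ofAdd (χ g))
    fun a b => congrArg Multiplicative.ofAdd (hmul a b)
  have := Abelianization.commutator_subset_ker φ hg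
  exact ZMod.natCast_eq_zero_iff_even.1 (Multiplicative.ofAdd.injective (MonoidHom.mem_ker.1 this))

/-- The stabiliser in `Ω` of a totally singular subspace of dimension `m - 1` fixes both maximal ones above it. -/
theorem stab_above (hQ : ∀ x, (∀ y, polar Q x y = 0) → x = 0) {m : ℕ} (hm : 1 ≤ m)
    (hdim : Module.finrank F V = 2 * m) {W U : Submodule F V} (hW : Module.finrank F W + 1 = m)
    (hU : IsMaxTS Q m U) (hWU : W ≤ U) {g : quadIsoms Q} (hg : g ∈ commutator (quadIsoms Q))
    (hgW : ∀ x ∈ W, g.1 x ∈ W) : ∀ x ∈ U, g.1 x ∈ U := by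
  have hev := even_codim_of_commutator hQ hdim hU hg
  have hle : W ≤ U ⊓ U.map g.1.toLinearMap := by
    refine le_inf hWU fun w hw => ?_
    obtain ⟨⟨v, hv⟩, e⟩ := (LinearMap.injective_iff_surjective (f := g.1.toLinearMap.restrict hgW)).1
      (fun a b e => Subtype.ext (g.1.injective (congrArg Subtype.val e))) ⟨w, hw⟩
    exact ⟨v, hWU hv, congrArg Subtype.val e⟩
  have h1 := Submodule.finrank_mono hle
  have h2 := Submodule.finrank_mono (inf_le_left : U ⊓ U.map g.1.toLinearMap ≤ U)
  have hU1 := hU.1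
  obtain ⟨k, hk⟩ := hev
  have heq : U ⊓ U.map g.1.toLinearMap = U := Submodule.eq_of_le_of_finrank_eq inf_le_left (by omega)
  intro x hx
  have heq' : U = U.map g.1.toLinearMap := Submodule.eq_of_le_of_finrank_eq (inf_eq_left.1 heq)
    (LinearEquiv.finrank_map_eq g.1 U).symm
  rw [heq']
  exact ⟨x, hx, rfl⟩

end CfsgLib.Geom.OrthSub

namespace CfsgLib.Geom

open QuadraticMap (polar)

/-- A subgroup strictly between a stabiliser and `Ω`. -/
theorem omega_exists_between {F : Type*} [Field F] [Fintype F] {ι : Type} [Fintype ι] [DecidableEq ι]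
    (Q : QuadraticForm F (ι → F)) {f : (ι → F) → F} (hf : ⇑Q = f) (W U : Submodule F (ι → F))
    (hsub : ∀ g ∈ commutator (quadIsoms Q), (∀ x ∈ W, g.1 x ∈ W) → ∀ x ∈ U, g.1 x ∈ U)
    (hext : ∃ g ∈ commutator (quadIsoms Q), (∀ x ∈ U, g.1 x ∈ U) ∧ ∃ x ∈ W, g.1 x ∉ W)
    (hmove : ∃ g ∈ commutator (quadIsoms Q), ∃ x ∈ U, g.1 x ∉ U) :
    ∃ K : Subgroup (Matrix.GeneralLinearGroup ι F),
      Cfsg.Geo.subspaceStabilizer W ⊓ Cfsg.Geo.omegaGL f < K ∧ K < Cfsg.Geo.omegaGL f := by
  subst hf
  refine ⟨Cfsg.Geo.subspaceStabilizer U ⊓ Cfsg.Geo.omegaGL ⇑Q, lt_of_le_not_ge ?_ fun hle => ?_,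
    lt_of_le_not_ge inf_le_right fun hle => ?_⟩
  · rintro _ ⟨hW, hΩ⟩
    obtain ⟨g, hg, rfl⟩ : _ ∈ (commutator (quadIsoms Q)).map (isomsToGL Q) := omegaGL_eq_map Q ▸ hΩ
    exact ⟨(isomsToGL_mem_stabilizer Q g U).2 (hsub g hg ((isomsToGL_mem_stabilizer Q g W).1 hW)), hΩ⟩
  · obtain ⟨g, hg, hgU, x, hx, hgx⟩ := hext
    exact hgx ((isomsToGL_mem_stabilizer Q g W).1 (hle ⟨(isomsToGL_mem_stabilizer Q g U).2 hgU,
      omegaGL_eq_map Q ▸ Subgroup.mem_map_of_mem _ hg⟩).1 x hx)
  · obtain ⟨g, hg, x, hx, hgx⟩ := hmove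
    exact hgx ((isomsToGL_mem_stabilizer Q g U).1
      (hle (omegaGL_eq_map Q ▸ Subgroup.mem_map_of_mem _ hg)).1 x hx)

namespace OrthSub

open CfsgLib.Classical

variable {F : Type*} [Field F] [Fintype F] {ι : Type} [Fintype ι] [DecidableEq ι]

/-- Non-maximality of the stabiliser of a plus-type plane over the fields of two and three elements. -/
theorem plane_between (Q : QuadraticForm F (ι → F)) {f : (ι → F) → F} (hf : ⇑Q = f)
    (hQ : ∀ x, (∀ y, polar Q x y = 0) → x = 0) (hn : 5 ≤ Fintype.card ι) (hq : Fintype.card F ≤ 3)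
    {W : Submodule F (ι → F)} (hd : Module.finrank F W = 2)
    (hW : Cfsg.Geo.IsNondegenerateOn (QuadraticMap.polar f) W) (hWp : Cfsg.Geo.IsPlusTypeOn f W) :
    ∃ K : Subgroup (Matrix.GeneralLinearGroup ι F),
      Cfsg.Geo.subspaceStabilizer W ⊓ Cfsg.Geo.omegaGL f < K ∧ K < Cfsg.Geo.omegaGL f := by
  subst hf
  have h5 : 5 ≤ Module.finrank F (ι → F) := by rwa [Module.finrank_fintype_fun_eq_card]
  obtain ⟨S, hSW, hS, hSd⟩ := hWp
  obtain ⟨e, he, he0⟩ := Submodule.exists_mem_ne_zero_of_ne_bot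
    (show S ≠ ⊥ from fun h => by rw [h, finrank_bot, hd] at hSd; omega)
  have hQe : Q e = 0 := hS e he
  have heW := hSW he
  obtain ⟨y, hy, hey⟩ := (hW e heW he0).2
  obtain ⟨f0, hf0W, hef0⟩ : ∃ z ∈ W, polar Q e z = 1 := ⟨(polar Q e y)⁻¹ • y, W.smul_mem _ hy, by
    rw [QuadraticMap.polar_smul_right, smul_eq_mul, inv_mul_cancel₀ hey]⟩
  obtain ⟨e', hfW, hQe', hee'⟩ : ∃ z ∈ W, Q z = 0 ∧ polar Q e z = 1 :=
    ⟨f0 + (-Q f0) • e, add_mem hf0W (W.smul_mem _ heW), by
      rw [quad_map_add_smul, hQe, QuadraticMap.polar_comm _ f0 e, hef0]; ring, by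
      rw [QuadraticMap.polar_add_right, QuadraticMap.polar_smul_right, polar_self_of_singular Q hQe,
        smul_zero, add_zero, hef0]⟩
  have hc : ∀ a b, polar Q a b = polar Q b a := QuadraticMap.polar_comm Q
  have hee : polar Q e e = 0 := polar_self_of_singular Q hQe
  have hff : polar Q e' e' = 0 := polar_self_of_singular Q hQe'
  have hi : LinearIndependent F ![e, e'] := (LinearIndependent.pair_iff' he0).2 fun a ha => by
    rw [← ha, QuadraticMap.polar_smul_right, hee, smul_zero] at hee'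
    exact zero_ne_one hee'
  have hspan : W = Submodule.span F {e, e'} := (Submodule.eq_of_le_of_finrank_eq
    (Submodule.span_le.2 (by rintro _ (rfl | rfl) <;> assumption))
    (by rw [finrank_span_two hi, hd])).symm
  have hpm : ∀ a : F, a ≠ 0 → a = 1 ∨ a = -1 := by
    intro a ha
    have h := FiniteField.pow_card_sub_one_eq_one a ha
    have h1 := Fintype.one_lt_card (α := F)
    rcases (show Fintype.card F = 2 ∨ Fintype.card F = 3 by omega) with e | e <;> rw [e] at h
    · exact Or.inl (by simpa using h)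
    · exact mul_self_eq_one_iff.1 (by rw [← h]; norm_num; ring)
  -- the points of `W` with value one
  have hval : ∀ z ∈ W, Q z = 1 → z ∈ F ∙ (e + e') := by
    intro z hz hQz
    rw [hspan, Submodule.mem_span_pair] at hz
    obtain ⟨a, b, rfl⟩ := hz
    rw [quad_map_add_smul, quad_smul, hQe, hQe', QuadraticMap.polar_smul_left, hee', smul_eq_mul] at hQz
    have hab : a * b = 1 := by linear_combination hQz
    have ha : a ≠ 0 := left_ne_zero_of_mul_eq_one hab
    have : b = a := mul_left_cancel₀ ha (hab.trans (by rcases hpm a ha with rfl | rfl <;> ring))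
    rw [this, ← smul_add]
    exact Submodule.smul_mem _ a (Submodule.mem_span_singleton_self _)
  obtain ⟨u, hu0, heu, hfu, hQu⟩ := exists_perp_singular Q hQ h5 e e'
  have hnotW : u ∉ W := by
    rw [hspan, Submodule.mem_span_pair]
    rintro ⟨a, b, rfl⟩
    rw [QuadraticMap.polar_add_right, QuadraticMap.polar_smul_right, QuadraticMap.polar_smul_right, hee,
      hee'] at heu
    rw [QuadraticMap.polar_add_right, QuadraticMap.polar_smul_right, QuadraticMap.polar_smul_right, hff,
      hc e' e, hee'] at hfu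
    simp at heu hfu
    simp [heu, hfu] at hu0
  have hQv : Q (e + e') = 1 := by
    rw [QuadraticMap.map_add (Q : QuadraticMap F (ι → F) F), hQe, hQe', hee']; ring
  refine omega_exists_between Q rfl W (F ∙ (e + e')) (fun g _ hgW x hx => ?_) ?_
    (point_moved hQ h5 (by rw [hQv]; exact one_ne_zero))
  · obtain ⟨c, rfl⟩ := Submodule.mem_span_singleton.1 hx
    rw [map_smul]
    exact Submodule.smul_mem _ c (hval _ (hgW _ (add_mem heW hfW)) (by rw [mem_quadIsoms.1 g.2, hQv]))
  · have huw : polar Q u (e - e') = 0 := by rw [QuadraticMap.polar_sub_right, hc u e, heu, hc u e', hfu, sub_zero]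
    refine ⟨_, siegel_mem_commutator hQ h5 u (e - e'), fun x hx => ?_, e, heW, fun hmem => hnotW ?_⟩
    · obtain ⟨c, rfl⟩ := Submodule.mem_span_singleton.1 hx
      rw [map_smul, siegel_apply Q hQu huw, QuadraticMap.polar_add_right, hc u e, heu, hc u e', hfu,
        QuadraticMap.polar_sub_left, QuadraticMap.polar_add_right, QuadraticMap.polar_add_right, hee, hee',
        hc e' e, hee', hff]
      simpa using Submodule.smul_mem _ c (Submodule.mem_span_singleton_self (e + e'))
    · rw [siegel_apply Q hQu huw, hc u e, heu, QuadraticMap.polar_sub_left, hee, hc e' e, hee'] at hmem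
      have := sub_mem hmem heW
      simpa using this

end OrthSub

end CfsgLib.Geom
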