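import Mathlib

set_option autoImplicit false

/-!
Matrix groups permuting a finite family of points.
-/

namespace CfsgLib.Geom

open Matrix

/-- A matrix group preserving the lines through a finite family of independent vectors permutes the family. -/
theorem exists_perm_hom {F ι G α : Type*} [Field F] [Fintype ι] [DecidableEq ι] [Group G] [Finite α]
    (act : G →* Matrix ι ι F) (p : α → ι → F) (hp : ∀ i, p i ≠ 0)
    (hind : ∀ i j (t : F), p i = t • p j → i = j)
    (himg : ∀ g i, ∃ j, ∃ t : F, act g *ᵥ p i = t • p j) :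
    ∃ σ : G →* Equiv.Perm α, ∀ g i, ∃ t : F, t ≠ 0 ∧ act g *ᵥ p i = t • p (σ g i) := by
  choose j t hjt using himg
  have hcancel : ∀ g (v : ι → F), act g⁻¹ *ᵥ (act g *ᵥ v) = v := fun g v => by
    rw [mulVec_mulVec, ← map_mul, inv_mul_cancel, map_one, one_mulVec]
  have ht : ∀ g i, t g i ≠ 0 := fun g i h => by
    have := hcancel g (p i)
    rw [hjt, h, zero_smul, mulVec_zero] at this
    exact hp i this.symm
  have huniq : ∀ g i k (s : F), act g *ᵥ p i = s • p k → j g i = k := fun g i k s h => by
    refine hind _ _ ((t g i)⁻¹ * s) ?_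
    rw [mul_smul, ← h, hjt, inv_smul_smul₀ (ht g i)]
  have hone : ∀ i, j 1 i = i := fun i => huniq 1 i i 1 (by rw [map_one, one_mulVec, one_smul])
  have hmul : ∀ g h i, j (g * h) i = j g (j h i) := fun g h i =>
    huniq _ i _ (t h i * t g (j h i)) (by
      rw [map_mul, ← mulVec_mulVec, hjt, mulVec_smul, hjt, smul_smul])
  let σ : G →* Equiv.Perm α :=
    { toFun := fun g => ⟨j g, j g⁻¹, fun i => by rw [← hmul, inv_mul_cancel, hone],
        fun i => by rw [← hmul, mul_inv_cancel, hone]⟩
      map_one' := Equiv.ext hone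
      map_mul' := fun g h => Equiv.ext (hmul g h) }
  exact ⟨σ, fun g i => ⟨t g i, ht g i, hjt g i⟩⟩

/-- A matrix is determined by its action on standard vectors. -/
theorem matrix_eq_one_of_single {F ι : Type*} [Field F] [Fintype ι] [DecidableEq ι] (A : Matrix ι ι F)
    (h : ∀ i, A *ᵥ Pi.single i 1 = Pi.single i 1) : A = 1 :=
  Matrix.ext_of_mulVec_single fun i => by rw [one_mulVec]; exact h i

end CfsgLib.Geom
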