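import Cfsg.Agent.Lib.Geom.OmegaIndex
import Cfsg.Agent.Lib.Geom.FiniteField
import Cfsg.Agent.Lib.Trans3.BraidClass

/-!
Reflections of a fixed norm over the field with three elements.
-/

set_option autoImplicit false

namespace CfsgLib.Geom.ReflThree

open QuadraticMap (polar)
open Matrix CfsgLib.Geom

local instance : Fact (Nat.Prime 3) := ⟨Nat.prime_three⟩

theorem z3 : ∀ a : ZMod 3, a = 0 ∨ a = 1 ∨ a = -1 := by decide

theorem two_ne : (2 : ZMod 3) ≠ 0 := by decide

variable {n : ℕ} (Q : QuadraticForm (ZMod 3) (Fin n → ZMod 3))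

/-- the isometry group -/
abbrev Og := Cfsg.isometryGroup (ZMod 3) (⇑Q)

/-- action on vectors -/
abbrev act (g : Og Q) (x : Fin n → ZMod 3) : Fin n → ZMod 3 :=
  ((g : GL (Fin n) (ZMod 3)) : Matrix (Fin n) (Fin n) (ZMod 3)) *ᵥ x

theorem og_ext {g h : Og Q} (e : ∀ x, act Q g x = act Q h x) : g = h :=
  Subtype.ext (Units.ext (Matrix.ext_iff_mulVec.2 e))

theorem act_mul (g h : Og Q) (x : Fin n → ZMod 3) : act Q (g * h) x = act Q g (act Q h x) := by
  simp [act, mulVec_mulVec]

theorem act_inv (g : Og Q) (x : Fin n → ZMod 3) : act Q g (act Q g⁻¹ x) = x := by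
  rw [← act_mul, mul_inv_cancel]; simp [act]

/-- `g` is the reflection of `v` -/
def IsRefl (g : Og Q) (v : Fin n → ZMod 3) : Prop :=
  ((g : GL (Fin n) (ZMod 3)) : Matrix (Fin n) (Fin n) (ZMod 3)) = Cfsg.reflectionMatrix (⇑Q) v

theorem IsRefl.act_eq {g : Og Q} {v : Fin n → ZMod 3} (h : IsRefl Q g v) (x : Fin n → ZMod 3) :
    act Q g x = x - ((Q v)⁻¹ * polar Q v x) • v := by
  show _ *ᵥ x = _
  rw [h, reflectionMatrix_mulVec]

theorem exists_refl {v : Fin n → ZMod 3} (hv : Q v ≠ 0) : ∃ g : Og Q, IsRefl Q g v :=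
  ⟨orEquiv Q ⟨reflEquiv Q v hv, reflEquiv_mem Q v hv⟩, by
    rw [IsRefl, orEquiv_coe, glOfEquiv_reflEquiv]⟩

theorem map_act (g : Og Q) (x : Fin n → ZMod 3) : Q (act Q g x) = Q x := g.2 x x

theorem polar_act (g : Og Q) (x y : Fin n → ZMod 3) : polar Q (act Q g x) (act Q g y) = polar Q x y := by
  simp only [QuadraticMap.polar]
  rw [show act Q g x + act Q g y = act Q g (x + y) from (Matrix.mulVec_add _ x y).symm,
    map_act, map_act, map_act]

theorem IsRefl.conj {d : Og Q} {v : Fin n → ZMod 3} (h : IsRefl Q d v) (g : Og Q) :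
    IsRefl Q (g * d * g⁻¹) (act Q g v) := by
  refine Matrix.ext_iff_mulVec.2 fun x => ?_
  rw [reflectionMatrix_mulVec]
  show act Q (g * d * g⁻¹) x = _
  rw [act_mul, act_mul, h.act_eq, map_act]
  conv_rhs => rw [← act_inv Q g x, polar_act]
  exact ((Matrix.mulVec_sub _ _ _).trans (congrArg₂ (· - ·) rfl (Matrix.mulVec_smul _ _ _)))

theorem IsRefl.eq {g h : Og Q} {v : Fin n → ZMod 3} (hg : IsRefl Q g v) (hh : IsRefl Q h v) : g = h :=
  og_ext Q fun x => by rw [hg.act_eq, hh.act_eq]

theorem IsRefl.sq_ne {g : Og Q} {v : Fin n → ZMod 3} (hg : IsRefl Q g v) (hv : Q v ≠ 0) :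
    g * g = 1 ∧ g ≠ 1 := by
  refine ⟨og_ext Q fun x => ?_, fun e => ?_⟩
  · rw [act_mul, hg.act_eq, hg.act_eq, QuadraticMap.polar_sub_right, QuadraticMap.polar_smul_right,
      polar_self_two, smul_eq_mul]
    simp only [act, OneMemClass.coe_one, Units.val_one, Matrix.one_mulVec]
    match_scalars
    · ring
    · field_simp
      ring
  · have h1 := hg.act_eq Q v
    rw [polar_self_two, e] at h1
    simp only [act, OneMemClass.coe_one, Units.val_one, Matrix.one_mulVec] at h1
    have hv0 : v ≠ 0 := fun e0 => hv (by rw [e0, QuadraticMap.map_zero])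
    have h2 : ((Q v)⁻¹ * (2 * Q v)) • v = 0 := by linear_combination (norm := module) h1
    rcases smul_eq_zero.1 h2 with h3 | h3
    · field_simp at h3
      exact two_ne h3
    · exact hv0 h3

theorem comm_or_braid {g h : Og Q} {v w : Fin n → ZMod 3} (hg : IsRefl Q g v) (hh : IsRefl Q h w)
    (hv : Q v ≠ 0) (hvw : Q w = Q v) :
    (polar Q v w = 0 → g * h = h * g) ∧ (polar Q v w ≠ 0 → g * h * g = h * g * h) := by
  have hwv : polar Q w v = polar Q v w := QuadraticMap.polar_comm _ _ _
  constructor <;> intro hp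
  · refine og_ext Q fun x => ?_
    simp only [act_mul, hg.act_eq, hh.act_eq, QuadraticMap.polar_sub_right, QuadraticMap.polar_smul_right,
      smul_eq_mul, hwv, hp, mul_zero, sub_zero]
    abel
  · obtain ⟨s, hs, hs2⟩ : ∃ s : ZMod 3, polar Q v w = s * Q v ∧ s * s = 1 := by
      have : ∀ a c : ZMod 3, a ≠ 0 → c ≠ 0 → ∃ s, a = s * c ∧ s * s = 1 := by decide
      exact this _ _ hp hv
    refine og_ext Q fun x => ?_
    simp only [act_mul, hg.act_eq, hh.act_eq, QuadraticMap.polar_sub_right, QuadraticMap.polar_smul_right,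
      smul_eq_mul, polar_self_two, hwv, hs, hvw]
    match_scalars
    · ring
    · field_simp
      linear_combination (-polar Q v x) * hs2
    · field_simp
      linear_combination (polar Q w x) * hs2

/-- A value is taken orthogonally to a subspace of small enough dimension and radical. -/
theorem exists_value_orth (hQ : (QuadraticMap.polarBilin Q).Nondegenerate) (S : Submodule (ZMod 3) (Fin n → ZMod 3))
    (hdimS : Module.finrank (ZMod 3) S +
      Module.finrank (ZMod 3) (LinearMap.BilinForm.orthogonal (QuadraticMap.polarBilin Q) S ⊓ S : Submodule _ _) + 2 ≤ n)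
    {a : ZMod 3} (ha : a ≠ 0) : ∃ z, Q z = a ∧ ∀ s ∈ S, polar Q s z = 0 := by
  classical
  let B := QuadraticMap.polarBilin Q
  let U := LinearMap.BilinForm.orthogonal B S
  have hdimS' : Module.finrank (ZMod 3) S + Module.finrank (ZMod 3) (U ⊓ S : Submodule _ _) + 2 ≤ n := hdimS
  have hrefl : B.IsRefl := fun x y h => by
    show polar Q y x = 0
    rwa [QuadraticMap.polar_comm]
  have hU : n ≤ Module.finrank (ZMod 3) U + Module.finrank (ZMod 3) S := by
    have h := LinearMap.BilinForm.finrank_orthogonal hQ S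
    rw [Module.finrank_fin_fun] at h
    change Module.finrank (ZMod 3) U = _ at h
    omega
  obtain ⟨W', hW'⟩ := Submodule.exists_isCompl ((U ⊓ S).comap U.subtype)
  let Q' : QuadraticForm (ZMod 3) W' := Q.comp (U.subtype.comp W'.subtype)
  have hcomap : Module.finrank (ZMod 3) ((U ⊓ S).comap U.subtype) = Module.finrank (ZMod 3) (U ⊓ S : Submodule _ _) :=
    (Submodule.comapSubtypeEquivOfLe inf_le_left).finrank_eq
  have hdim : 2 ≤ Module.finrank (ZMod 3) W' := by
    have h := Submodule.finrank_add_eq_of_isCompl hW'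
    omega
  have hsep : ∀ x : W', (∀ y : W', polar Q' x y = 0) → x = 0 := by
    intro x hx
    have key : ∀ u : U, polar Q (x : U).1 u.1 = 0 := fun u => by
      obtain ⟨a, ha, b, hb, rfl⟩ := Submodule.mem_sup.1 (hW'.sup_eq_top ▸ Submodule.mem_top : u ∈ (U ⊓ S).comap U.subtype ⊔ W')
      rw [Submodule.coe_add, QuadraticMap.polar_add_right]
      have h1 : polar Q (x : U).1 a.1 = 0 := by
        rw [QuadraticMap.polar_comm]
        exact (x : U).2 a.1 ha.2
      have h2 := hx ⟨b, hb⟩
      simp only [Q', QuadraticMap.polar, QuadraticMap.comp_apply, LinearMap.comp_apply, Submodule.subtype_apply,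
        Submodule.coe_add] at h2
      rw [h1, zero_add]
      exact h2
    have hxS : (x : U).1 ∈ S := by
      rw [← LinearMap.BilinForm.orthogonal_orthogonal hQ hrefl S]
      intro u hu
      show polar Q u (x : U).1 = 0
      rw [QuadraticMap.polar_comm]
      exact key ⟨u, hu⟩
    have hmem : (x : U) ∈ (U ⊓ S).comap U.subtype := ⟨(x : U).2, hxS⟩
    have := hW'.disjoint.le_bot ⟨hmem, x.2⟩
    exact Subtype.ext this
  obtain ⟨z, hz⟩ := CfsgLib.Geom.exists_value Q' two_ne hsep hdim a ha
  exact ⟨(z : U).1, hz, fun s hs => (z : U).2 s hs⟩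

theorem exists_value_perp (hn : 5 ≤ n) (hQ : (QuadraticMap.polarBilin Q).Nondegenerate)
    (v w : Fin n → ZMod 3) (hv : Q v ≠ 0) {a : ZMod 3} (ha : a ≠ 0) :
    ∃ z, Q z = a ∧ polar Q v z = 0 ∧ polar Q w z = 0 := by
  classical
  let B := QuadraticMap.polarBilin Q
  let S := Submodule.span (ZMod 3) ({v, w} : Set (Fin n → ZMod 3))
  let U := LinearMap.BilinForm.orthogonal B S
  have hS : Module.finrank (ZMod 3) S ≤ 2 := by
    have h := finrank_span_finset_le_card (R := ZMod 3) ({v, w} : Finset (Fin n → ZMod 3))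
    rw [Finset.coe_insert, Finset.coe_singleton] at h
    exact h.trans Finset.card_le_two
  have hR : Module.finrank (ZMod 3) (U ⊓ S : Submodule _ _) ≤ 1 := by
    by_contra hgt
    have heq : U ⊓ S = S := Submodule.eq_of_le_of_finrank_le inf_le_right (by omega)
    have hvS : v ∈ S := Submodule.subset_span (Set.mem_insert v {w})
    have hvU : v ∈ U := (heq.symm ▸ hvS : v ∈ U ⊓ S).1
    have h := hvU v hvS
    change polar Q v v = 0 at h
    rw [polar_self_two] at h
    exact mul_ne_zero two_ne hv h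
  obtain ⟨z, hz, hzS⟩ := exists_value_orth Q hQ S (by show _ + Module.finrank (ZMod 3) (U ⊓ S : Submodule _ _) + 2 ≤ n; omega) ha
  exact ⟨z, hz, hzS v (Submodule.subset_span (Set.mem_insert v {w})),
    hzS w (Submodule.subset_span (Set.mem_insert_of_mem v rfl))⟩

end CfsgLib.Geom.ReflThree
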