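import Cfsg.Agent.Lib.Geom.ReflThree
import Cfsg.Prelude.Def_FischerSpaces

/-!
The reflections of a fixed norm over the field with three elements generate a subgroup of index two.
-/

set_option autoImplicit false

namespace CfsgLib.Geom.ReflThree

open QuadraticMap (polar)
open Matrix CfsgLib.Geom
open scoped Pointwise

attribute [local instance] Classical.propDecidable

local instance : Fact (Nat.Prime 3) := ⟨Nat.prime_three⟩

variable {n : ℕ} (Q : QuadraticForm (ZMod 3) (Fin n → ZMod 3))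

theorem mem_refl {c : ZMod 3} {g : Og Q} {v : Fin n → ZMod 3} (hv : Q v = c) (hg : IsRefl Q g v) :
    g ∈ Cfsg.reflectionSubgroup (⇑Q) c := Subgroup.subset_closure ⟨v, hv, hg⟩

theorem reflectionSubgroup_normal (c : ZMod 3) : (Cfsg.reflectionSubgroup (⇑Q) c).Normal := by
  refine ⟨fun x hx g => ?_⟩
  induction hx using Subgroup.closure_induction with
  | mem y hy =>
    obtain ⟨v, hv, hy⟩ := hy
    exact mem_refl Q ((map_act Q g v).trans hv) (IsRefl.conj Q hy g)
  | one => rw [mul_one, mul_inv_cancel]; exact one_mem _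
  | mul a b _ _ iha ihb =>
    have e : g * (a * b) * g⁻¹ = g * a * g⁻¹ * (g * b * g⁻¹) := by group
    rw [e]; exact mul_mem iha ihb
  | inv a _ iha =>
    have e : g * a⁻¹ * g⁻¹ = (g * a * g⁻¹)⁻¹ := by group
    rw [e]; exact inv_mem iha

theorem mul_mem_of_orth {c : ZMod 3} (hc : c ≠ 0) {g h : Og Q} {v w : Fin n → ZMod 3}
    (hg : IsRefl Q g v) (hh : IsRefl Q h w) (hv : Q v = -c) (hw : Q w = -c) (hp : polar Q v w = 0) :
    g * h ∈ Cfsg.reflectionSubgroup (⇑Q) c := by
  have hwv : polar Q w v = 0 := by rw [QuadraticMap.polar_comm]; exact hp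
  have e2 : ∀ a : ZMod 3, -a + -a = a := by decide
  have h1 : Q (v + w) = c := by rw [QuadraticMap.map_add (⇑Q), hv, hw, hp, add_zero, e2]
  have h2 : Q (v - w) = c := by
    rw [sub_eq_add_neg, QuadraticMap.map_add (⇑Q), QuadraticMap.map_neg, QuadraticMap.polar_neg_right, hv, hw, hp,
      neg_zero, add_zero, e2]
  obtain ⟨a, ha⟩ := exists_refl Q (v := v + w) (by rw [h1]; exact hc)
  obtain ⟨b, hb⟩ := exists_refl Q (v := v - w) (by rw [h2]; exact hc)
  have : g * h = a * b := by
    refine og_ext Q fun x => ?_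
    simp only [act_mul, hg.act_eq, hh.act_eq, ha.act_eq, hb.act_eq, hv, hw, h1, h2,
      QuadraticMap.polar_sub_right, QuadraticMap.polar_smul_right, QuadraticMap.polar_sub_left,
      QuadraticMap.polar_add_left, polar_self_two, hp, hwv, smul_eq_mul]
    simp only [inv_neg]
    have h3 : (3 : ZMod 3) = 0 := rfl
    match_scalars
    · ring1
    · linear_combination c⁻¹ * polar Q w x * h3
    · linear_combination c⁻¹ * polar Q v x * h3
  rw [this]
  exact mul_mem (mem_refl Q h1 ha) (mem_refl Q h2 hb)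

theorem index_reflectionSubgroup (hn : 5 ≤ n) (hQ : (QuadraticMap.polarBilin Q).Nondegenerate)
    {c : ZMod 3} (hc : c ≠ 0) : (Cfsg.reflectionSubgroup (⇑Q) c).index = 2 := by
  set R := Cfsg.reflectionSubgroup (⇑Q) c with hR
  have hN : R.Normal := reflectionSubgroup_normal Q c
  have hsep := sep_of_nondegenerate Q hQ
  have hc' : -c ≠ 0 := neg_ne_zero.2 hc
  obtain ⟨w, hw⟩ := exists_value Q two_ne hsep (by rw [Module.finrank_fin_fun]; omega) (-c) hc'
  have hw0 : Q w ≠ 0 := by rw [hw]; exact hc'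
  obtain ⟨r, hr⟩ := exists_refl Q hw0
  have hrr : r * r = 1 := (hr.sq_ne Q hw0).1
  have hpair : ∀ (g : Og Q) (v : Fin n → ZMod 3), IsRefl Q g v → Q v = -c → g * r ∈ R := by
    intro g v hg hv
    obtain ⟨z, hz, hvz, hwz⟩ := exists_value_perp Q hn hQ v w (by rw [hv]; exact hc') hc'
    obtain ⟨k, hk⟩ := exists_refl Q (v := z) (by rw [hz]; exact hc')
    have hkk : k * k = 1 := (hk.sq_ne Q (by rw [hz]; exact hc')).1
    have e : g * r = g * k * (k * r) := by rw [mul_assoc, ← mul_assoc k k r, hkk, one_mul]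
    rw [e]
    exact mul_mem (mul_mem_of_orth Q hc hg hk hv hz hvz)
      (mul_mem_of_orth Q hc hk hr hz hw (by rw [QuadraticMap.polar_comm]; exact hwz))
  have hnot : r ∉ R := by
    intro hmem
    let ψ := spinorHom Q hsep (exGen_of_odd two_ne)
    let K := Subgroup.zpowers ((Multiplicative.ofAdd (1 : ZMod 2), sqClass hc) :
      Multiplicative (ZMod 2) × SqClass (ZMod 3))
    have hle : R ≤ K.comap ψ := (Subgroup.closure_le _).2 fun g ⟨v, hv, hg⟩ => by
      show ψ g ∈ K
      rw [spinorHom_refl Q hsep _ g (by rw [hv]; exact hc) hg]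
      simp only [hv]
      exact Subgroup.mem_zpowers _
    have hk : ψ r ∈ K := hle hmem
    rw [spinorHom_refl Q hsep _ r hw0 hr] at hk
    have key : ∀ x ∈ K, x = 1 ∨ x = (Multiplicative.ofAdd (1 : ZMod 2), sqClass hc) := by
      intro x hx
      have hsq : ((Multiplicative.ofAdd (1 : ZMod 2), sqClass hc) : Multiplicative (ZMod 2) × SqClass (ZMod 3)) *
          (Multiplicative.ofAdd (1 : ZMod 2), sqClass hc) = 1 :=
        Prod.ext (show Multiplicative.ofAdd (1 : ZMod 2) * Multiplicative.ofAdd (1 : ZMod 2) = 1 by decide)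
          (sqClass_mul_self _)
      obtain ⟨i, rfl⟩ := Subgroup.mem_zpowers_iff.1 hx
      rcases Int.even_or_odd' i with ⟨k, rfl | rfl⟩
      · exact Or.inl (by rw [_root_.zpow_mul, _root_.zpow_two, hsq, _root_.one_zpow])
      · exact Or.inr (by rw [_root_.zpow_add_one, _root_.zpow_mul, _root_.zpow_two, hsq, _root_.one_zpow, one_mul])
    rcases key _ hk with h | h
    · have h' : (Multiplicative.ofAdd (1 : ZMod 2)) = 1 := congrArg Prod.fst h
      exact absurd h' (by decide)
    · obtain ⟨t, ht, he⟩ := (sqClass_eq_iff hw0 hc).1 (congrArg Prod.snd h)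
      rw [hw] at he
      have hz : ∀ a t : ZMod 3, t ≠ 0 → -a = t * t * a → a = 0 := by decide
      exact hc (hz c t ht he)
  have hall : ∀ b : Og Q, b ∈ R ∨ b * r ∈ R := by
    intro b
    have hb : b ∈ R ⊔ Subgroup.zpowers r := by
      have htop := closure_reflectionMatrix_eq_top Q hQ (Or.inl ⟨-1, by decide, by decide⟩)
      refine ((Subgroup.closure_le _).2 ?_ : _ ≤ _) (htop ▸ Subgroup.mem_top b)
      rintro g ⟨v, hv, hg⟩
      have hval : ∀ a d : ZMod 3, a ≠ 0 → d ≠ 0 → a = d ∨ a = -d := by decide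
      rcases hval _ _ hv hc with h | h
      · exact Subgroup.mem_sup_left (mem_refl Q h hg)
      · have e : g = g * r * r := by rw [mul_assoc, hrr, mul_one]
        rw [e]
        exact mul_mem (Subgroup.mem_sup_left (hpair g v hg h)) (Subgroup.mem_sup_right (Subgroup.mem_zpowers r))
    have hb' : b ∈ (R : Set (Og Q)) * (Subgroup.zpowers r : Set (Og Q)) := by
      rw [← Subgroup.normal_mul]; exact hb
    obtain ⟨x, hx, y, ⟨i, rfl⟩, rfl⟩ := hb'
    rcases Int.even_or_odd' i with ⟨k, rfl | rfl⟩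
    · left
      show x * r ^ (2 * k) ∈ R
      rw [_root_.zpow_mul, _root_.zpow_two, hrr, _root_.one_zpow, mul_one]
      exact hx
    · right
      show x * r ^ (2 * k + 1) * r ∈ R
      rw [_root_.zpow_add_one, _root_.zpow_mul, _root_.zpow_two, hrr, _root_.one_zpow, one_mul, mul_assoc, hrr, mul_one]
      exact hx
  refine Subgroup.index_eq_two_iff.2 ⟨r, fun b => ?_⟩
  by_cases hb : b ∈ R
  · exact Or.inr ⟨hb, fun h => hnot ((Subgroup.mul_mem_cancel_left R hb).1 h)⟩
  · exact Or.inl ⟨(hall b).resolve_left hb, hb⟩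

end CfsgLib.Geom.ReflThree
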