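import Mathlib
import Cfsg.Agent.Lib.Geom.RegUnipGen

/-!
The polynomial bases used for `RegPolys`, and the conjugating matrix between `L` and `U`.
-/

set_option autoImplicit false

namespace CfsgLib.Geom

open Matrix Polynomial CfsgLib.MaxSub

variable {F : Type*} [Field F]

/-- Monic polynomials `≡ (X-1)^k`, adjusted by one parameter. -/
noncomputable def ruBase (c : ℕ → F) : ℕ → F[X]
  | 0 => 1
  | 1 => X - 1
  | 2 => (X - 1) ^ 2 + C (c 2) * X
  | k + 3 => (X - 1) ^ (k + 3) + C (c (k + 3)) * (X ^ (k + 1) * (X - 1))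

theorem ruBase_natDegree_le (c : ℕ → F) (k : ℕ) :
    (ruBase c k - (X - 1) ^ k).natDegree ≤ k - 1 ∨ ruBase c k = (X - 1) ^ k := by
  match k with
  | 0 => right; simp [ruBase]
  | 1 => right; simp [ruBase]
  | 2 => left; simp only [ruBase, add_sub_cancel_left]; compute_degree
  | k + 3 =>
    left
    simp only [ruBase, add_sub_cancel_left]
    compute_degree
    omega

theorem ruBase_monic_deg (c : ℕ → F) (k : ℕ) :
    (ruBase c k).Monic ∧ (ruBase c k).natDegree = k := by
  have hX1 : ((X : F[X]) - 1) = X - C 1 := by rw [map_one]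
  have hm : ((X - 1 : F[X]) ^ k).Monic := by rw [hX1]; exact (monic_X_sub_C _).pow k
  have hd : ((X - 1 : F[X]) ^ k).natDegree = k := by rw [hX1, natDegree_pow, natDegree_X_sub_C,
    mul_one]
  rcases ruBase_natDegree_le c k with h | h
  · rcases Nat.eq_zero_or_pos k with rfl | hk
    · simp [ruBase]
    · have hlt : (ruBase c k - (X - 1) ^ k).degree < ((X - 1 : F[X]) ^ k).degree := by
        rw [degree_eq_natDegree hm.ne_zero, hd]
        exact lt_of_le_of_lt degree_le_natDegree (by exact_mod_cast (by omega))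
      rw [show ruBase c k = (X - 1) ^ k + (ruBase c k - (X - 1) ^ k) by ring]
      exact ⟨hm.add_of_left hlt, by rw [natDegree_add_eq_left_of_degree_lt hlt, hd]⟩
  · rw [h]; exact ⟨hm, hd⟩

theorem ruBase_eval_zero (c : ℕ → F) (k : ℕ) : (ruBase c k).eval 0 = (-1) ^ k := by
  match k with
  | 0 => simp [ruBase]
  | 1 => simp [ruBase]
  | 2 => simp [ruBase]
  | k + 3 => simp [ruBase]

theorem ruBase_coeff_pred (c : ℕ → F) {k : ℕ} (hk : 2 ≤ k) :
    (ruBase c k).coeff (k - 1) = c k - k := by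
  have hp : ∀ m : ℕ, ((X - 1 : F[X]) ^ (m + 1)).coeff m = -((m + 1 : ℕ) : F) := by
    intro m
    have hX1 : ((X : F[X]) - 1) = X + C (-1) := by rw [map_neg, map_one, sub_eq_add_neg]
    rw [hX1, coeff_X_add_C_pow, show m + 1 - m = 1 by omega, pow_one, Nat.choose_succ_self_right]
    simp
  match k, hk with
  | 2, _ =>
    rw [ruBase, coeff_add, hp 1]
    simp
    ring
  | k + 3, _ =>
    rw [ruBase, coeff_add, show k + 3 - 1 = k + 2 by omega, hp (k + 2), coeff_C_mul, mul_sub,
      mul_one, coeff_sub, ← pow_succ, coeff_X_pow, coeff_X_pow, if_pos rfl, if_neg (by omega)]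
    push_cast
    ring

theorem ruBase_eval_one (c : ℕ → F) {k : ℕ} (hk : 3 ≤ k) :
    (ruBase c k).eval 1 = 0 ∧ (ruBase c k).derivative.eval 1 = c k := by
  obtain ⟨m, rfl⟩ : ∃ m, k = m + 3 := ⟨k - 3, by omega⟩
  constructor
  · simp [ruBase]
  · simp [ruBase, derivative_mul, derivative_pow]

/-- The parameters of a basis. -/
structure RuParam (F : Type*) [Field F] (n : ℕ) where
  /-- The irreducible factor. -/
  h : F[X]
  /-- The lower parameters. -/
  c : ℕ → F
  /-- Coefficient of `h` in `(X-1) h`. -/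
  ε : F
  /-- Coefficient of `p (n-3)` in `(X-1) h`. -/
  γ : F
  /-- Constant part. -/
  δ : F
  hn : 4 ≤ n
  hmon : h.Monic
  hdeg : h.natDegree = n - 2
  h0 : h.eval 0 = (-1) ^ (n - 2)
  hδ : ε * (-1) ^ (n - 2) + γ * (-1) ^ (n - 3) + δ = 0

namespace RuParam

variable {n : ℕ} (P : RuParam F n)

/-- The polynomials. -/
noncomputable def poly (k : ℕ) : F[X] :=
  if k = n then (X - 1) * ((X - 1) * P.h)
  else if k = n - 1 then (X - 1) * P.h - C P.ε * P.h - C P.γ * ruBase P.c (n - 3) - C P.δ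
  else if k = n - 2 then P.h else ruBase P.c k

theorem poly_top : P.poly n = (X - 1) * ((X - 1) * P.h) := if_pos rfl

theorem poly_pred : P.poly (n - 1) =
    (X - 1) * P.h - C P.ε * P.h - C P.γ * ruBase P.c (n - 3) - C P.δ := by
  have := P.hn
  rw [poly, if_neg (by omega), if_pos rfl]

theorem poly_pred₂ : P.poly (n - 2) = P.h := by
  have := P.hn
  rw [poly, if_neg (by omega), if_neg (by omega), if_pos rfl]

theorem poly_low {k : ℕ} (hk : k ≤ n - 3) : P.poly k = ruBase P.c k := by
  have := P.hn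
  rw [poly, if_neg (by omega), if_neg (by omega), if_neg (by omega)]

theorem tail_degree_lt :
    (-(C P.ε * P.h) - C P.γ * ruBase P.c (n - 3) - C P.δ).natDegree ≤ n - 2 := by
  have := P.hn
  refine (natDegree_sub_le _ _).trans (max_le ((natDegree_sub_le _ _).trans (max_le ?_ ?_)) ?_)
  · rw [natDegree_neg]; exact (natDegree_C_mul_le _ _).trans P.hdeg.le
  · exact (natDegree_C_mul_le _ _).trans (by rw [(ruBase_monic_deg P.c _).2]; omega)
  · rw [natDegree_C]; omega

theorem q1_monic_deg : ((X - 1) * P.h).Monic ∧ ((X - 1) * P.h).natDegree = n - 1 := by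
  have := P.hn
  have hX1 : ((X : F[X]) - 1) = X - C 1 := by rw [map_one]
  have hm : ((X : F[X]) - 1).Monic := by rw [hX1]; exact monic_X_sub_C _
  refine ⟨hm.mul P.hmon, ?_⟩
  rw [hm.natDegree_mul P.hmon, hX1, natDegree_X_sub_C, P.hdeg]
  omega

theorem poly_monic_deg {k : ℕ} (hk : k ≤ n) : (P.poly k).Monic ∧ (P.poly k).natDegree = k := by
  have := P.hn
  have hX1 : ((X : F[X]) - 1) = X - C 1 := by rw [map_one]
  have hm : ((X : F[X]) - 1).Monic := by rw [hX1]; exact monic_X_sub_C _
  obtain ⟨hq, hqd⟩ := P.q1_monic_deg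
  rcases (show k = n ∨ k = n - 1 ∨ k = n - 2 ∨ k ≤ n - 3 by omega) with rfl | rfl | rfl | h
  · rw [poly_top]
    refine ⟨hm.mul hq, ?_⟩
    rw [hm.natDegree_mul hq, hqd, hX1, natDegree_X_sub_C]
    omega
  · rw [poly_pred, show (X - 1) * P.h - C P.ε * P.h - C P.γ * ruBase P.c (n - 3) - C P.δ =
      (X - 1) * P.h + (-(C P.ε * P.h) - C P.γ * ruBase P.c (n - 3) - C P.δ) by ring]
    have hlt : (-(C P.ε * P.h) - C P.γ * ruBase P.c (n - 3) - C P.δ).degree <
        ((X - 1) * P.h).degree := by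
      rw [degree_eq_natDegree hq.ne_zero, hqd]
      refine lt_of_le_of_lt degree_le_natDegree ?_
      have := P.tail_degree_lt
      exact_mod_cast (by omega :
        (-(C P.ε * P.h) - C P.γ * ruBase P.c (n - 3) - C P.δ).natDegree < n - 1)
    exact ⟨hq.add_of_left hlt, by rw [natDegree_add_eq_left_of_degree_lt hlt, hqd]⟩
  · rw [poly_pred₂]; exact ⟨P.hmon, P.hdeg⟩
  · rw [P.poly_low h]; exact ruBase_monic_deg _ _

theorem poly_eval_zero {k : ℕ} (hk : k ≤ n) : (P.poly k).eval 0 = (-1) ^ k := by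
  have := P.hn
  have e1 : (-1 : F) ^ (n - 1) = -(-1) ^ (n - 2) := by
    rw [show n - 1 = n - 2 + 1 by omega, pow_succ, mul_neg_one]
  have e2 : (-1 : F) ^ n = (-1) ^ (n - 2) := by
    conv_lhs => rw [show n = n - 2 + 2 by omega, pow_add]
    simp
  rcases (show k = n ∨ k = n - 1 ∨ k = n - 2 ∨ k ≤ n - 3 by omega) with rfl | rfl | rfl | h
  · rw [poly_top, e2]; simp [P.h0]
  · rw [poly_pred, e1]
    simp only [eval_sub, eval_mul, eval_C, eval_X, eval_one, P.h0, ruBase_eval_zero]
    linear_combination -P.hδ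
  · rw [poly_pred₂, P.h0]
  · rw [P.poly_low h, ruBase_eval_zero]

/-- The associated `RegPolys`. -/
noncomputable def polys : RegPolys F n where
  p := P.poly
  monic _ hk := (P.poly_monic_deg hk).1
  deg _ hk := (P.poly_monic_deg hk).2
  eval_zero _ hk := P.poly_eval_zero hk

theorem evOne_zero (i : Fin n) (hi : (i : ℕ) = 0) : P.polys.evOne i = 1 := by
  simp [RegPolys.evOne, polys, hi, P.poly_low, ruBase]

theorem evOne_one (i : Fin n) (hi : (i : ℕ) = 1) : P.polys.evOne i = 0 := by
  have := P.hn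
  simp [RegPolys.evOne, polys, hi, P.poly_low (k := 1) (by omega), ruBase]

theorem evOne_pred₂ (i : Fin n) (hi : (i : ℕ) = n - 2) : P.polys.evOne i = P.h.eval 1 := by
  simp [RegPolys.evOne, polys, hi, poly_pred₂]

theorem evOne_pred₃ (i : Fin n) (hi : (i : ℕ) = n - 3) :
    P.polys.evOne i = (ruBase P.c (n - 3)).eval 1 := by
  simp [RegPolys.evOne, polys, hi, P.poly_low]

theorem evOne_pred (i : Fin n) (hi : (i : ℕ) = n - 1) :
    P.polys.evOne i = -(P.ε * P.h.eval 1) - P.γ * (ruBase P.c (n - 3)).eval 1 - P.δ := by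
  simp [RegPolys.evOne, polys, hi, poly_pred]

/-- `-(coefficient of degree n-3)` of `h`. -/
def hTrace : F := -P.h.coeff (n - 3)

theorem sCoeff_top : P.polys.sCoeff n = 2 + P.hTrace := by
  have hn := P.hn
  have hh := P.hmon.coeff_natDegree
  rw [P.hdeg] at hh
  have hz : P.h.coeff (n - 1) = 0 := coeff_eq_zero_of_natDegree_lt (by rw [P.hdeg]; omega)
  have e : (X - 1) * ((X - 1) * P.h) = X * (X * P.h) - C 2 * (X * P.h) + P.h := by
    rw [show (C (2 : F)) = 2 from map_ofNat C 2]; ring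
  rw [RegPolys.sCoeff, show P.polys.p n = P.poly n from rfl, poly_top, e, coeff_add, coeff_sub,
    coeff_C_mul, hz, show n - 1 = n - 2 + 1 by omega, coeff_X_mul, coeff_X_mul, hh,
    show n - 2 = n - 3 + 1 by omega, coeff_X_mul, hTrace]
  ring

theorem sCoeff_pred : P.polys.sCoeff (n - 1) = 1 + P.hTrace + P.ε := by
  have hn := P.hn
  have hh := P.hmon.coeff_natDegree
  rw [P.hdeg] at hh
  have hb : (ruBase P.c (n - 3)).coeff (n - 2) = 0 :=
    coeff_eq_zero_of_natDegree_lt (by rw [(ruBase_monic_deg P.c _).2]; omega)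
  have hx : (X * P.h).coeff (n - 2) = P.h.coeff (n - 3) := by
    rw [show n - 2 = n - 3 + 1 by omega, coeff_X_mul]
  rw [RegPolys.sCoeff, show P.polys.p (n - 1) = P.poly (n - 1) from rfl, poly_pred,
    show n - 1 - 1 = n - 2 by omega, show (X - 1) * P.h = X * P.h - P.h by ring, coeff_sub,
    coeff_sub, coeff_sub, coeff_sub, coeff_C_mul, coeff_C_mul, hh, hb, hx, coeff_C,
    if_neg (by omega), hTrace]
  ring

theorem sCoeff_pred₂ : P.polys.sCoeff (n - 2) = P.hTrace := by
  have hn := P.hn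
  rw [RegPolys.sCoeff, show P.polys.p (n - 2) = P.poly (n - 2) from rfl, poly_pred₂,
    show n - 2 - 1 = n - 3 by omega, hTrace]

theorem sCoeff_one : P.polys.sCoeff 1 = 1 := by
  have hn := P.hn
  rw [RegPolys.sCoeff, show P.polys.p 1 = P.poly 1 from rfl, P.poly_low (by omega)]
  simp [ruBase]

theorem sCoeff_low {k : ℕ} (h2 : 2 ≤ k) (hk : k ≤ n - 3) : P.polys.sCoeff k = k - P.c k := by
  rw [RegPolys.sCoeff, show P.polys.p k = P.poly k from rfl, P.poly_low hk, ruBase_coeff_pred _ h2]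
  ring

theorem uEntry_pred : P.polys.uEntry (n - 1) = -P.ε := by
  have hn := P.hn
  rw [RegPolys.uEntry, show n - 1 + 1 = n by omega, sCoeff_top, sCoeff_pred]
  ring

theorem uEntry_pred₂ : P.polys.uEntry (n - 2) = P.ε := by
  have hn := P.hn
  rw [RegPolys.uEntry, show n - 2 + 1 = n - 1 by omega, sCoeff_pred, sCoeff_pred₂]
  ring

end RuParam

/-! ### `U` is conjugate to `L` -/

namespace RegPolys

variable {n : ℕ} (D : RegPolys F n)

/-- The columns of the conjugating matrix are `(U-1)^j e_{n-1}`. -/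
noncomputable def conjMat : Matrix (Fin n) (Fin n) F :=
  Matrix.of fun i j => ((D.uMat - 1) ^ (j : ℕ)) i ⟨n - 1, Nat.sub_lt j.pos zero_lt_one⟩

theorem conjMat_mul_lMat : D.conjMat * lMat n = D.uMat * D.conjMat := by
  have key : D.conjMat * (lMat n - 1) = (D.uMat - 1) * D.conjMat := by
    ext i j
    rw [Matrix.mul_apply, Matrix.mul_apply]
    have hR : ∑ l, (D.uMat - 1) i l * D.conjMat l j =
        ((D.uMat - 1) ^ ((j : ℕ) + 1)) i ⟨n - 1, Nat.sub_lt j.pos zero_lt_one⟩ := by
      rw [pow_succ', Matrix.mul_apply]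
      rfl
    rw [hR]
    by_cases h : (j : ℕ) + 1 < n
    · rw [Finset.sum_eq_single ⟨(j : ℕ) + 1, h⟩]
      · rw [lMat_sub_one_apply, if_pos rfl, mul_one]; rfl
      · intro l _ hl
        rw [lMat_sub_one_apply, if_neg (fun e => hl (Fin.ext e)), mul_zero]
      · intro h'; exact absurd (Finset.mem_univ _) h'
    · rw [ru_pow_apply_eq_zero (fun a b hab => by rw [uMat_sub_one_apply, D.uCol_zero b a hab]) _ i
        ⟨n - 1, Nat.sub_lt j.pos zero_lt_one⟩ (by simp only; omega)]
      refine Finset.sum_eq_zero fun l _ => ?_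
      rw [lMat_sub_one_apply, if_neg (by omega), mul_zero]
  rw [mul_sub, sub_mul, mul_one, one_mul] at key
  exact sub_left_inj.1 key

theorem uMat_pow_apply (k : ℕ) : ∀ i j : Fin n, (j : ℕ) = i + k →
    ((D.uMat - 1) ^ k) i j = ∏ t ∈ Finset.range k, D.uEntry (j - t) := by
  induction k with
  | zero =>
    intro i j h
    have : j = i := Fin.ext (by omega)
    subst this
    simp
  | succ k ih =>
    intro i j h
    rw [pow_succ, Matrix.mul_apply, Finset.sum_eq_single ⟨(i : ℕ) + k, by omega⟩]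
    · rw [ih i _ rfl, uMat_sub_one_apply, D.uCol_pred _ j (by simp only; omega),
        Finset.prod_range_succ']
      simp only [Nat.sub_zero]
      congr 1
      refine Finset.prod_congr rfl fun t ht => ?_
      congr 1
      have := Finset.mem_range.1 ht
      omega
    · intro l _ hl
      have hN : ∀ a b : Fin n, (b : ℕ) ≤ a → (D.uMat - 1) a b = 0 := fun a b hab => by
        rw [uMat_sub_one_apply, D.uCol_zero b a hab]
      rcases Nat.lt_or_ge (l : ℕ) (i + k) with h' | h'
      · rw [ru_pow_apply_eq_zero hN k i l h', zero_mul]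
      · have : (l : ℕ) ≠ i + k := fun e => hl (Fin.ext e)
        rw [hN l j (by omega), mul_zero]
    · intro hl; exact absurd (Finset.mem_univ _) hl

theorem ru_prod_prod (f : ℕ → F) (m : ℕ) :
    ∏ i ∈ Finset.range (m + 1), ∏ t ∈ Finset.range i, f (m - t) =
      ∏ k ∈ Finset.range (m + 1), f k ^ k := by
  induction m with
  | zero => simp
  | succ m ih =>
    rw [Finset.prod_range_succ', Finset.prod_range_succ (f := fun k => f k ^ k) (n := m + 1),
      ← ih]
    simp only [Finset.range_zero, Finset.prod_empty, mul_one]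
    rw [Finset.prod_congr rfl fun i _ => Finset.prod_range_succ' (fun t => f (m + 1 - t)) i]
    rw [Finset.prod_mul_distrib]
    simp [Nat.add_sub_add_right]

theorem det_conjMat (hn : 0 < n) :
    D.conjMat.det = ((Equiv.Perm.sign (Fin.revPerm : Equiv.Perm (Fin n)) : ℤ) : F) *
      ∏ k ∈ Finset.range n, D.uEntry k ^ k := by
  have hsub : (D.conjMat.submatrix Fin.revPerm id).det = ∏ k ∈ Finset.range n, D.uEntry k ^ k := by
    rw [Matrix.det_of_lowerTriangular]
    · simp only [Matrix.submatrix_apply, id, Fin.revPerm_apply]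
      obtain ⟨m, rfl⟩ : ∃ m, n = m + 1 := ⟨n - 1, by omega⟩
      rw [← ru_prod_prod, Finset.prod_range]
      refine Finset.prod_congr rfl fun i _ => ?_
      rw [conjMat, Matrix.of_apply, D.uMat_pow_apply _ _ _ (by simp [Fin.val_rev]; omega)]
      simp
    · intro i j hij
      have h' : (i : ℕ) < j := hij
      simp only [Matrix.submatrix_apply, id, Fin.revPerm_apply, conjMat, Matrix.of_apply]
      refine ru_pow_apply_eq_zero
        (fun a b hab => by rw [uMat_sub_one_apply, D.uCol_zero b a hab]) _ _ _ ?_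
      simp only [Fin.val_rev]
      omega
  rw [Matrix.det_permute] at hsub
  rw [← hsub, ← mul_assoc, ← Int.cast_mul, ← Units.val_mul, Int.units_mul_self]
  simp

theorem exists_conj_det_one (hn : 0 < n) {lam : F}
    (hlam : lam ^ n * (((Equiv.Perm.sign (Fin.revPerm : Equiv.Perm (Fin n)) : ℤ) : F) *
      ∏ k ∈ Finset.range n, D.uEntry k ^ k) = 1) :
    ∃ g : Matrix.SpecialLinearGroup (Fin n) F, ∀ u v : Matrix.SpecialLinearGroup (Fin n) F,
      (u : Matrix (Fin n) (Fin n) F) = lMat n → (v : Matrix (Fin n) (Fin n) F) = D.uMat →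
      g * u * g⁻¹ = v := by
  refine ⟨⟨lam • D.conjMat, by rw [Matrix.det_smul, Fintype.card_fin, D.det_conjMat hn, hlam]⟩,
    fun u v hu hv => ?_⟩
  apply mul_inv_eq_iff_eq_mul.2
  apply Subtype.ext
  show lam • D.conjMat * (u : Matrix (Fin n) (Fin n) F) =
    (v : Matrix (Fin n) (Fin n) F) * (lam • D.conjMat)
  rw [hu, hv]
  simp only [Matrix.smul_mul, Matrix.mul_smul, D.conjMat_mul_lMat]

end RegPolys

end CfsgLib.Geom
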