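import Mathlib

/-!
Elements generating an extension of a finite field as a ring: minimal polynomial data, elements of
norm one, elements of trace one.
-/

set_option autoImplicit false

namespace CfsgLib.Geom

open Polynomial

variable {F : Type*} [Field F] [Fintype F] {K : Type*} [Field K] [Algebra F K] [Finite K]

/-- A subring of a finite field is a subfield. -/
noncomputable def ruSubfield (R : Subring K) : Subfield K where
  toSubring := R
  inv_mem' a ha := by
    classical
    haveI := Fintype.ofFinite K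
    rcases eq_or_ne a 0 with rfl | h0
    · rw [inv_zero]; exact R.zero_mem
    · have h1 := FiniteField.pow_card_sub_one_eq_one a h0
      have hc := Fintype.one_lt_card (α := K)
      rw [show a⁻¹ = a ^ (Fintype.card K - 2) from inv_eq_of_mul_eq_one_left (by
        rw [← pow_succ, show Fintype.card K - 2 + 1 = Fintype.card K - 1 by omega, h1])]
      exact R.pow_mem ha _

theorem ru_natCard_eq (R : Subring K) :
    ∃ e, Nat.card K = Nat.card R ^ e ∧ (R ≠ ⊤ → 2 ≤ e) := by
  refine ⟨Module.finrank (ruSubfield R) K,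
    Module.natCard_eq_pow_finrank (K := ruSubfield R) (V := K), fun hR => ?_⟩
  have hpos : 0 < Module.finrank (ruSubfield R) K := Module.finrank_pos
  by_contra hlt
  apply hR
  have h1 : Nat.card K = Nat.card (ruSubfield R) := by
    rw [Module.natCard_eq_pow_finrank (K := ruSubfield R) (V := K),
      show Module.finrank (ruSubfield R) K = 1 by omega, pow_one]
  refine SetLike.coe_injective ?_
  rw [Subring.coe_top]
  refine Set.eq_univ_of_forall fun a => ?_
  have hs := (Function.Injective.bijective_of_nat_card_le (f := fun b : ruSubfield R => (b : K))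
    Subtype.val_injective h1.le).2
  obtain ⟨b, rfl⟩ := hs a
  exact b.2

theorem ru_pow_natCard {R : Subring K} {a : K} (ha : a ∈ R) : a ^ Nat.card R = a := by
  haveI := Fintype.ofFinite (ruSubfield R)
  have h := FiniteField.pow_card (⟨a, ha⟩ : ruSubfield R)
  have h' := congrArg (fun b : ruSubfield R => (b : K)) h
  simp only [SubmonoidClass.coe_pow] at h'
  have hc : Nat.card R = Fintype.card (ruSubfield R) := by
    rw [← Nat.card_eq_fintype_card]; rfl
  rw [hc]; exact h'

theorem ru_closure_eq_top_of_orderOf {r : ℕ} (hr : 2 ≤ r) (hK : Nat.card K = Fintype.card F ^ r)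
    {θ : K} (hθ : Fintype.card F ^ (r - 1) < orderOf θ) : Subring.closure {θ} = ⊤ := by
  by_contra hne
  set R := Subring.closure ({θ} : Set K) with hR
  obtain ⟨e, he, he2⟩ := ru_natCard_eq R
  have hmem : θ ∈ R := Subring.subset_closure rfl
  haveI := Fintype.ofFinite R
  have hle : orderOf θ ≤ Nat.card R := by
    have := Nat.card_le_card_of_injective
      (fun i : Fin (orderOf θ) => (⟨θ ^ (i : ℕ), pow_mem hmem _⟩ : R)) (fun i j h => by
        exact Fin.ext (pow_injOn_Iio_orderOf (Set.mem_Iio.2 i.2) (Set.mem_Iio.2 j.2)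
          (congrArg Subtype.val h)))
    simpa using this
  have hq : 2 ≤ Fintype.card F := Fintype.one_lt_card
  have h1 : (Fintype.card F ^ (r - 1)) ^ 2 < Nat.card R ^ 2 :=
    Nat.pow_lt_pow_left (lt_of_lt_of_le hθ hle) (by norm_num)
  have h2 : Nat.card R ^ 2 ≤ Nat.card K := by
    rw [he]; exact Nat.pow_le_pow_right (by omega) (he2 hne)
  rw [hK] at h2
  have h3 : Fintype.card F ^ r ≤ Fintype.card F ^ ((r - 1) * 2) :=
    Nat.pow_le_pow_right (by omega) (by omega)
  rw [pow_mul] at h3
  omega

variable {θ : K}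

theorem ru_adjoin_eq_top (hθ : Subring.closure {θ} = ⊤) : IntermediateField.adjoin F {θ} = ⊤ := by
  rw [eq_top_iff]
  intro a _
  have h1 : Subring.closure ({θ} : Set K) ≤ (IntermediateField.adjoin F {θ}).toSubfield.toSubring := by
    rw [Subring.closure_le]
    exact IntermediateField.subset_adjoin F {θ}
  exact h1 (hθ ▸ Subring.mem_top a)

theorem ru_minpoly_natDegree (hθ : Subring.closure {θ} = ⊤) :
    (minpoly F θ).natDegree = Module.finrank F K :=
  (Field.primitive_element_iff_minpoly_natDegree_eq F θ).1 (ru_adjoin_eq_top hθ)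

theorem ru_finrank {r : ℕ} (hK : Nat.card K = Fintype.card F ^ r) : Module.finrank F K = r := by
  have h := Module.natCard_eq_pow_finrank (K := F) (V := K)
  rw [hK, Nat.card_eq_fintype_card] at h
  exact (Nat.pow_right_injective Fintype.one_lt_card h).symm

theorem ru_minpoly_eval_zero (hθ : Subring.closure {θ} = ⊤) {r : ℕ}
    (hK : Nat.card K = Fintype.card F ^ r)
    (h1 : θ ^ (∑ i ∈ Finset.range r, Fintype.card F ^ i) = 1) :
    (minpoly F θ).eval 0 = (-1) ^ r := by
  have hN : Algebra.norm F θ = 1 := by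
    apply (algebraMap F K).injective
    rw [FiniteField.algebraMap_norm_eq_pow_sum, ru_finrank hK, Nat.card_eq_fintype_card, h1, map_one]
  have hint : IsIntegral F θ := IsIntegral.of_finite F θ
  have h2 := Algebra.norm_eq_norm_adjoin F θ
  have h3 : Module.finrank (IntermediateField.adjoin F {θ}) K = 1 := by
    rw [ru_adjoin_eq_top hθ]; exact IntermediateField.finrank_top
  rw [hN, h3, pow_one, ← IntermediateField.adjoin.powerBasis_gen hint,
    Algebra.PowerBasis.norm_gen_eq_coeff_zero_minpoly] at h2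
  rw [IntermediateField.adjoin.powerBasis_gen, IntermediateField.minpoly_gen,
    IntermediateField.adjoin.powerBasis_dim, ru_minpoly_natDegree hθ, ru_finrank hK] at h2
  rw [← coeff_zero_eq_eval_zero]
  calc (minpoly F θ).coeff 0
      = (-1) ^ r * ((-1) ^ r * (minpoly F θ).coeff 0) := by
        rw [← mul_assoc, ← mul_pow]; simp
    _ = (-1) ^ r := by rw [← h2, mul_one]

theorem ru_trace_eq (hθ : Subring.closure {θ} = ⊤) :
    Algebra.trace F K θ = -(minpoly F θ).coeff ((minpoly F θ).natDegree - 1) := by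
  rw [trace_eq_finrank_mul_minpoly_nextCoeff]
  have h3 : Module.finrank (IntermediateField.adjoin F {θ}) K = 1 := by
    rw [ru_adjoin_eq_top hθ]; exact IntermediateField.finrank_top
  rw [h3, Nat.cast_one, one_mul, nextCoeff_of_natDegree_pos]
  exact minpoly.natDegree_pos (IsIntegral.of_finite F θ)

omit [Fintype F] [Finite K] in
theorem ru_geom_sum_gt (q r : ℕ) (hr : 2 ≤ r) :
    q ^ (r - 1) < ∑ i ∈ Finset.range r, q ^ i := by
  obtain ⟨r, rfl⟩ : ∃ s, r = s + 1 := ⟨r - 1, by omega⟩
  rw [Finset.sum_range_succ, Nat.add_sub_cancel]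
  have : q ^ 0 ≤ ∑ i ∈ Finset.range r, q ^ i :=
    Finset.single_le_sum (f := fun i => q ^ i) (fun _ _ => Nat.zero_le _)
      (Finset.mem_range.2 (by omega : 0 < r))
  simp only [pow_zero] at this
  omega

variable (F K) in
/-- A generator of norm one, and so is its inverse. -/
theorem ru_exists_norm_one {r : ℕ} (hr : 2 ≤ r) (hK : Nat.card K = Fintype.card F ^ r) :
    ∃ θ : K, orderOf θ = ∑ i ∈ Finset.range r, Fintype.card F ^ i := by
  obtain ⟨g, hg⟩ := IsCyclic.exists_ofOrder_eq_natCard (α := Kˣ)
  rw [Nat.card_units, hK] at hg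
  set q := Fintype.card F
  set k := ∑ i ∈ Finset.range r, q ^ i with hk
  have hq : 2 ≤ q := Fintype.one_lt_card
  have hmul : (q - 1) * k = q ^ r - 1 := by
    rw [hk, Nat.geomSum_eq hq, Nat.mul_div_cancel']
    simpa using Nat.sub_dvd_pow_sub_pow q 1 r
  refine ⟨((g ^ (q - 1) : Kˣ) : K), ?_⟩
  rw [orderOf_units, orderOf_pow_of_dvd (by omega) (by rw [hg, ← hmul]; exact Dvd.intro _ rfl), hg,
    ← hmul, Nat.mul_div_cancel_left _ (by omega)]

theorem ru_trace_inv_ne (hK : Nat.card K = Fintype.card F ^ 4)
    (hord : orderOf θ = ∑ i ∈ Finset.range 4, Fintype.card F ^ i) {a : F}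
    (h1 : Algebra.trace F K θ = a) (h2 : Algebra.trace F K θ⁻¹ = a) : False := by
  set q := Fintype.card F with hq
  have hgt := ru_geom_sum_gt q 4 (by norm_num)
  have hθ0 : θ ≠ 0 := fun e => by
    rw [e, orderOf_zero, Finset.sum_range_succ'] at hord
    simp at hord
  have hgen : Subring.closure {θ} = ⊤ :=
    ru_closure_eq_top_of_orderOf (by norm_num) hK (by rw [hord]; exact hgt)
  have hord' : orderOf θ⁻¹ = orderOf θ := by
    have := orderOf_inv (Units.mk0 θ hθ0)
    rw [← orderOf_units, ← orderOf_units] at this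
    simpa using this
  have hgen' : Subring.closure {θ⁻¹} = ⊤ :=
    ru_closure_eq_top_of_orderOf (by norm_num) hK (by rw [hord', hord]; exact hgt)
  have hpow : θ ^ (∑ i ∈ Finset.range 4, q ^ i) = 1 := by rw [← hord, pow_orderOf_eq_one]
  have hdeg : (minpoly F θ).natDegree = 4 := by rw [ru_minpoly_natDegree hgen, ru_finrank hK]
  have hdeg' : (minpoly F θ⁻¹).natDegree = 4 := by rw [ru_minpoly_natDegree hgen', ru_finrank hK]
  have h0 := ru_minpoly_eval_zero hgen hK hpow
  rw [ru_trace_eq hgen, hdeg] at h1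
  rw [ru_trace_eq hgen', hdeg'] at h2
  set f := minpoly F θ with hf
  have hmon : f.Monic := minpoly.monic (IsIntegral.of_finite F θ)
  rw [← coeff_zero_eq_eval_zero] at h0
  have hf4 : f.coeff 4 = 1 := by rw [← hdeg]; exact hmon
  have hz : (aeval θ) f = 0 := minpoly.aeval F θ
  rw [aeval_eq_sum_range, hdeg] at hz
  simp only [Finset.sum_range_succ, Finset.sum_range_zero, zero_add, hf4, h0, Algebra.smul_def,
    map_one, one_mul] at hz
  let g : F[X] := X ^ 4 + C (f.coeff 1) * X ^ 3 + C (f.coeff 2) * X ^ 2 + C (f.coeff 3) * X + 1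
  have hgm : g.Monic := by unfold g; monicity!
  have hgd : g.natDegree = 4 := by unfold g; compute_degree!
  have hgz : aeval θ⁻¹ g = 0 := by
    simp only [g, map_add, map_mul, map_pow, aeval_X, aeval_C, map_one]
    field_simp
    simp only [map_pow, map_neg, map_one] at hz
    linear_combination hz
  have heq : g = minpoly F θ⁻¹ :=
    eq_of_monic_of_dvd_of_natDegree_le (minpoly.monic (IsIntegral.of_finite F _)) hgm
      (minpoly.dvd F _ hgz) (by rw [hgd, hdeg'])
  rw [← heq] at h2
  have hg3 : g.coeff 3 = f.coeff 1 := by simp [g, coeff_X_pow, coeff_X, coeff_one]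
  have hsym : f = g := by
    refine Polynomial.ext fun i => ?_
    rcases Nat.lt_or_ge 4 i with hi | hi
    · rw [coeff_eq_zero_of_natDegree_lt (by omega), coeff_eq_zero_of_natDegree_lt (by omega)]
    · have h13 : f.coeff 1 = f.coeff 3 := by
        have e1 : f.coeff 3 = -a := by rw [← h1, neg_neg]
        have e2 : g.coeff 3 = -a := by rw [← h2, neg_neg]
        rw [e1, ← hg3, e2]
      interval_cases i <;> simp [g, coeff_X_pow, coeff_X, coeff_one, h0, hf4, h13] <;> norm_num
  have hroot : (minpoly F θ).aeval θ⁻¹ = 0 := by rw [← hf, hsym]; exact hgz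
  haveI : Fintype K := Fintype.ofFinite K
  obtain ⟨σ, hσ⟩ := minpoly.exists_algEquiv_of_root' (K := F) (L := K)
    (Algebra.IsAlgebraic.isAlgebraic θ) hroot
  obtain ⟨i, hi⟩ := (FiniteField.bijective_frobeniusAlgEquivOfAlgebraic_pow F K).2 σ
  have hiσ : σ θ = θ ^ (q ^ (i : ℕ)) := by
    rw [← hi, AlgEquiv.coe_pow, FiniteField.coe_frobeniusAlgEquivOfAlgebraic_iterate]
  rw [hσ] at hiσ
  have h5 : θ ^ (q ^ (i : ℕ) + 1) = 1 := by rw [pow_succ, ← hiσ, inv_mul_cancel₀ hθ0]
  have h6 := Nat.le_of_dvd (by positivity) (orderOf_dvd_of_pow_eq_one h5)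
  have hi4 : (i : ℕ) ≤ 3 := by
    have h7 := i.2
    have h8 := ru_finrank (F := F) (K := K) hK
    omega
  have hq2 : 2 ≤ q := Fintype.one_lt_card
  have h9 : q ^ (i : ℕ) ≤ q ^ 3 := Nat.pow_le_pow_right (by omega) hi4
  rw [hord] at h6
  simp only [Finset.sum_range_succ, Finset.sum_range_zero, zero_add, pow_zero, pow_one] at h6
  omega

variable (F K) in
/-- For two-element fields: a ring generator of trace one. -/
theorem ru_exists_trace_one {r : ℕ} (hr : 4 ≤ r) (h2 : Fintype.card F = 2)
    (hK : Nat.card K = Fintype.card F ^ r) :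
    ∃ θ : K, θ ≠ 0 ∧ Subring.closure {θ} = ⊤ ∧ Algebra.trace F K θ = 1 := by
  classical
  haveI := Fintype.ofFinite K
  have hsurj := Algebra.trace_surjective F K
  set tr : K →+ F := (Algebra.trace F K).toAddMonoidHom with htr
  have hker : 2 * Nat.card tr.ker = 2 ^ r := by
    have h := AddSubgroup.card_eq_card_quotient_mul_card_addSubgroup tr.ker
    rw [Nat.card_congr (QuotientAddGroup.quotientKerEquivOfSurjective tr hsurj).toEquiv,
      Nat.card_eq_fintype_card (α := F), h2, hK, h2] at h
    omega
  obtain ⟨a₀, ha₀⟩ := hsurj 1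
  set A : Finset K := Finset.univ.filter fun a => Algebra.trace F K a = 1 with hA
  have hAcard : Nat.card tr.ker ≤ A.card := by
    have := Nat.card_le_card_of_injective (fun a : tr.ker => (⟨a₀ + a, by
      have ha : Algebra.trace F K (a : K) = 0 := a.2
      rw [hA, Finset.mem_filter]
      exact ⟨Finset.mem_univ _, by rw [map_add, ha₀, ha, add_zero]⟩⟩ : A)) (fun a b h => by
        have h' := congrArg Subtype.val h
        exact Subtype.ext (add_left_cancel h'))
    rwa [Nat.card_eq_fintype_card (α := A), Fintype.card_coe] at this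
  by_contra hcon
  push Not at hcon
  set B : Finset K :=
    (Finset.range (r / 2)).biUnion fun d => (X ^ (2 ^ (d + 1)) - X : K[X]).roots.toFinset
  have hsub : A ⊆ B := by
    intro a ha
    have ha1 := (Finset.mem_filter.1 ha).2
    have ha0 : a ≠ 0 := fun e => by simp [e] at ha1
    have hR : Subring.closure {a} ≠ ⊤ := fun e => hcon a ha0 e ha1
    obtain ⟨e, he, he2⟩ := ru_natCard_eq (Subring.closure ({a} : Set K))
    rw [hK, h2] at he
    have hdvd : Nat.card (Subring.closure ({a} : Set K)) ∣ 2 ^ r := by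
      rw [he]; exact dvd_pow_self _ (by have := he2 hR; omega)
    obtain ⟨d, hd, hdc⟩ := (Nat.dvd_prime_pow Nat.prime_two).1 hdvd
    rw [hdc, ← pow_mul] at he
    have hde := Nat.pow_right_injective le_rfl he
    have hd0 : d ≠ 0 := fun e => by subst e; simp at hde; omega
    rw [Finset.mem_biUnion]
    refine ⟨d - 1, Finset.mem_range.2 ?_, ?_⟩
    · have h1 : d * 2 ≤ d * e := Nat.mul_le_mul_left d (he2 hR)
      omega
    · rw [Multiset.mem_toFinset, mem_roots', show d - 1 + 1 = d by omega]
      refine ⟨FiniteField.X_pow_card_sub_X_ne_zero K (Nat.one_lt_two_pow hd0), ?_⟩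
      have := ru_pow_natCard (Subring.subset_closure (Set.mem_singleton a))
      rw [hdc] at this
      simp [this]
  have hB : B.card ≤ ∑ d ∈ Finset.range (r / 2), 2 ^ (d + 1) := by
    refine Finset.card_biUnion_le.trans (Finset.sum_le_sum fun d _ => ?_)
    refine (Multiset.toFinset_card_le _).trans ((card_roots' _).trans_eq ?_)
    exact FiniteField.X_pow_card_sub_X_natDegree_eq K (Nat.one_lt_two_pow (by omega))
  have hsum : ∑ d ∈ Finset.range (r / 2), 2 ^ (d + 1) < 2 ^ (r / 2 + 1) := by
    have hg := Nat.geomSum_lt (m := 2) (n := r / 2 + 1)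
      (s := (Finset.range (r / 2)).map ⟨fun d => d + 1, fun a b h => by simpa using h⟩) le_rfl
      (fun k hk => by
        rw [Finset.mem_map] at hk
        obtain ⟨d, hd, rfl⟩ := hk
        rw [Finset.mem_range] at hd
        show d + 1 < _
        omega)
    rwa [Finset.sum_map] at hg
  have := Finset.card_le_card hsub
  have hpow : 2 ^ (r / 2 + 1) * 2 ≤ 2 ^ r := by
    rw [← pow_succ]
    exact Nat.pow_le_pow_right (by norm_num) (by omega)
  omega

end CfsgLib.Geom
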