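import Mathlib
import Cfsg.Agent.Lib.Geom.RegUnipPolys
import Cfsg.Agent.Lib.Geom.RegUnipTheta

/-!
Packaging: parameters that make the pair `L`, `U` generate `SL_n`.
-/

set_option autoImplicit false

namespace CfsgLib.Geom

open Matrix Polynomial CfsgLib.MaxSub

variable {F : Type*} [Field F] [Fintype F]

/-- An irreducible polynomial of degree `r` and norm one whose root generates the extension as a
ring. -/
def RuDatum (r : ℕ) (h : F[X]) : Prop :=
  h.Monic ∧ Irreducible h ∧ h.natDegree = r ∧ h.eval 0 = (-1) ^ r ∧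
    ∃ (K : Type) (_ : Field K) (_ : Algebra F K) (θ : K), Nat.card K = Fintype.card F ^ r ∧
      Subring.closure {θ} = ⊤ ∧ aeval θ h = 0 ∧ θ ^ (Fintype.card F ^ r - 1) = 1

theorem ru_datum_of_generator {K : Type} [Field K] [Algebra F K] [Finite K] {r : ℕ}
    (hK : Nat.card K = Fintype.card F ^ r) {θ : K} (hθ : Subring.closure {θ} = ⊤)
    (h0 : θ ≠ 0) (h1 : θ ^ (∑ i ∈ Finset.range r, Fintype.card F ^ i) = 1) :
    RuDatum r (minpoly F θ) := by
  haveI := Fintype.ofFinite K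
  refine ⟨minpoly.monic (IsIntegral.of_finite F θ), minpoly.irreducible (IsIntegral.of_finite F θ),
    by rw [ru_minpoly_natDegree hθ, ru_finrank hK], ru_minpoly_eval_zero hθ hK h1,
    K, inferInstance, inferInstance, θ, hK, hθ, minpoly.aeval F θ, ?_⟩
  rw [← hK, Nat.card_eq_fintype_card]
  exact FiniteField.pow_card_sub_one_eq_one θ h0

theorem ru_exists_extension {r : ℕ} (hr : 0 < r) :
    ∃ (K : Type) (_ : Field K) (_ : Algebra F K) (_ : Finite K),
      Nat.card K = Fintype.card F ^ r := by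
  obtain ⟨p, hp⟩ := CharP.exists F
  haveI : Fact p.Prime := ⟨CharP.char_is_prime F p⟩
  haveI : NeZero r := ⟨hr.ne'⟩
  exact ⟨FiniteField.Extension F p r, inferInstance, inferInstance, inferInstance,
    by rw [FiniteField.natCard_extension, Nat.card_eq_fintype_card]⟩

theorem ru_datum_of_orderOf {K : Type} [Field K] [Algebra F K] [Finite K] {r : ℕ} (hr : 2 ≤ r)
    (hK : Nat.card K = Fintype.card F ^ r) {θ : K}
    (hθ : orderOf θ = ∑ i ∈ Finset.range r, Fintype.card F ^ i) :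
    RuDatum r (minpoly F θ) ∧ Subring.closure {θ} = ⊤ := by
  have hgt := ru_geom_sum_gt (Fintype.card F) r hr
  have hgen : Subring.closure {θ} = ⊤ := ru_closure_eq_top_of_orderOf hr hK (by rw [hθ]; exact hgt)
  refine ⟨ru_datum_of_generator hK hgen ?_ (by rw [← hθ, pow_orderOf_eq_one]), hgen⟩
  intro e
  rw [e, orderOf_zero] at hθ
  omega

theorem ru_exists_datum {r : ℕ} (hr : 2 ≤ r) : ∃ h : F[X], RuDatum r h := by
  obtain ⟨K, _, _, _, hK⟩ := ru_exists_extension (F := F) (r := r) (by omega)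
  obtain ⟨θ, hθ⟩ := ru_exists_norm_one F K hr hK
  exact ⟨_, (ru_datum_of_orderOf hr hK hθ).1⟩

theorem ru_exists_datum_four (a : F) :
    ∃ h : F[X], RuDatum 4 h ∧ -h.coeff 3 ≠ a := by
  obtain ⟨K, _, _, _, hK⟩ := ru_exists_extension (F := F) (r := 4) (by omega)
  obtain ⟨θ, hθ⟩ := ru_exists_norm_one F K (by norm_num) hK
  have hθ' : orderOf θ⁻¹ = ∑ i ∈ Finset.range 4, Fintype.card F ^ i := by
    rcases eq_or_ne θ 0 with rfl | h0
    · simpa using hθ
    · rw [← hθ]
      have := orderOf_inv (Units.mk0 θ h0)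
      rw [← orderOf_units, ← orderOf_units] at this
      simpa using this
  obtain ⟨hd, hg⟩ := ru_datum_of_orderOf (by norm_num) hK hθ
  obtain ⟨hd', hg'⟩ := ru_datum_of_orderOf (by norm_num) hK hθ'
  by_contra hcon
  push Not at hcon
  have e1 := hcon _ hd
  have e2 := hcon _ hd'
  refine ru_trace_inv_ne hK hθ (a := a) ?_ ?_
  · rw [ru_trace_eq hg, hd.2.2.1]; exact e1
  · rw [ru_trace_eq hg', hd'.2.2.1]; exact e2

theorem ru_exists_datum_two (h2 : Fintype.card F = 2) {r : ℕ} (hr : 4 ≤ r) :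
    ∃ h : F[X], RuDatum r h ∧ -h.coeff (r - 1) = 1 := by
  obtain ⟨K, _, _, _, hK⟩ := ru_exists_extension (F := F) (r := r) (by omega)
  obtain ⟨θ, h0, hgen, htr⟩ := ru_exists_trace_one F K hr h2 hK
  have hd : RuDatum r (minpoly F θ) := by
    refine ru_datum_of_generator hK hgen h0 ?_
    haveI := Fintype.ofFinite K
    have hsum : ∑ i ∈ Finset.range r, Fintype.card F ^ i = Fintype.card F ^ r - 1 := by
      rw [h2, Nat.geomSum_eq le_rfl]
      simp
    rw [hsum, ← hK, Nat.card_eq_fintype_card]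
    exact FiniteField.pow_card_sub_one_eq_one θ h0
  refine ⟨_, hd, ?_⟩
  rw [ru_trace_eq hgen, hd.2.2.1] at htr
  exact htr

/-- The regular unipotent predicate of the statement. -/
def RuReg {n : ℕ} (u : Matrix.SpecialLinearGroup (Fin n) F) : Prop :=
  IsNilpotent ((u : Matrix (Fin n) (Fin n) F) - 1) ∧
    ((u : Matrix (Fin n) (Fin n) F) - 1) ^ (n - 1) ≠ 0

namespace RuParam

variable {n : ℕ} (P : RuParam F n)

/-- The vector with `psi = (X-1) h`. -/
noncomputable def xVec : Fin n → F :=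
  have := P.hn
  Pi.single ⟨0, by omega⟩ P.δ + Pi.single ⟨n - 3, by omega⟩ P.γ +
    Pi.single ⟨n - 2, by omega⟩ P.ε + Pi.single ⟨n - 1, by omega⟩ 1

omit [Fintype F] in
theorem psi_xVec : P.polys.psi P.xVec = (X - 1) * P.h := by
  have := P.hn
  simp only [xVec, map_add, RegPolys.psi_single, smul_eq_C_mul]
  rw [show P.polys.p = P.poly from rfl]
  rw [P.poly_low (k := 0) (by omega), P.poly_low (k := n - 3) le_rfl, poly_pred₂, poly_pred]
  simp only [ruBase, map_one]
  ring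

omit [Fintype F] in
theorem psi_lMat_xVec : P.polys.psi (RegPolys.lMat n *ᵥ P.xVec) =
    C P.δ * (1 + (X - 1)) + C P.γ * (ruBase P.c (n - 3) + P.h) +
      C P.ε * (P.h + P.poly (n - 1)) + P.poly (n - 1) := by
  have := P.hn
  simp only [xVec, mulVec_add, map_add]
  rw [P.polys.psi_lMat_single (j := ⟨0, by omega⟩) (by simp only; omega),
    P.polys.psi_lMat_single (j := ⟨n - 3, by omega⟩) (by simp only; omega),
    P.polys.psi_lMat_single (j := ⟨n - 2, by omega⟩) (by simp only; omega),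
    P.polys.psi_lMat_single_last (j := ⟨n - 1, by omega⟩) (by simp only; omega)]
  rw [show P.polys.p = P.poly from rfl]
  simp only [smul_eq_C_mul, map_one, one_mul, show n - 3 + 1 = n - 2 by omega,
    show n - 2 + 1 = n - 1 by omega, zero_add]
  rw [P.poly_low (k := 0) (by omega), P.poly_low (k := 1) (by omega),
    P.poly_low (k := n - 3) le_rfl, poly_pred₂]
  simp [ruBase]

omit [Fintype F] in
theorem evOne_lMat_xVec : P.polys.evOne ⬝ᵥ (RegPolys.lMat n *ᵥ P.xVec) =
    P.γ * P.h.eval 1 -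
      P.ε * (P.ε * P.h.eval 1 + P.γ * (ruBase P.c (n - 3)).eval 1 + P.δ) := by
  rw [RegPolys.evOne_dot, psi_lMat_xVec, poly_pred]
  simp
  ring

omit [Fintype F] in
theorem deriv_lMat_xVec : (P.polys.psi (RegPolys.lMat n *ᵥ P.xVec)).derivative.eval 1 =
    P.δ + (1 + P.ε) * P.h.eval 1 + (P.γ - P.ε ^ 2) * P.h.derivative.eval 1 -
      P.ε * P.γ * (ruBase P.c (n - 3)).derivative.eval 1 := by
  rw [psi_lMat_xVec, poly_pred]
  simp [derivative_mul]
  ring

omit [Fintype F] in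
theorem poly_two (hn : 5 ≤ n) : P.poly 2 = (X - 1) ^ 2 + C (P.c 2) * X := by
  rw [P.poly_low (by omega)]; rfl

omit [Fintype F] in
theorem psi_test (z : Fin n → F) (hz : RegPolys.lMat n *ᵥ z = P.xVec) (c : F)
    (h2 : P.poly 2 = (X - 1) ^ 2 + C c * X) :
    ∃ w : Fin n → F, (X - 1) ^ 2 ∣ P.polys.psi (RegPolys.lMat n *ᵥ w) ∧
      P.polys.evOne ⬝ᵥ w = P.polys.evOne ⬝ᵥ z + P.h.eval 1 * c := by
  have := P.hn
  set β := P.h.eval 1 with hβ
  refine ⟨z + β • (Pi.single ⟨0, by omega⟩ c - Pi.single ⟨1, by omega⟩ 1), ?_, ?_⟩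
  · rw [mulVec_add, hz, map_add, psi_xVec, mulVec_smul, mulVec_sub, map_smul, map_sub,
      P.polys.psi_lMat_single (j := ⟨0, by omega⟩) (by simp only; omega),
      P.polys.psi_lMat_single (j := ⟨1, by omega⟩) (by simp only; omega)]
    rw [show P.polys.p = P.poly from rfl]
    simp only [zero_add, show (1 : ℕ) + 1 = 2 from rfl, h2, smul_eq_C_mul]
    rw [P.poly_low (k := 0) (by omega), P.poly_low (k := 1) (by omega)]
    simp only [ruBase, map_one]
    obtain ⟨d, hd⟩ : X - C (1 : F) ∣ P.h - C β := dvd_iff_isRoot.2 (by simp [IsRoot.def, hβ])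
    refine ⟨d - C β, ?_⟩
    rw [map_one] at hd
    linear_combination ((X : F[X]) - 1) * hd
  · rw [dotProduct_add, dotProduct_smul, dotProduct_sub, dotProduct_single, dotProduct_single,
      P.evOne_zero _ rfl, P.evOne_one _ rfl, smul_eq_mul]
    ring

/-- The criterion in terms of the parameters. -/
theorem generates (hd : RuDatum (n - 2) P.h)
    (hu : ∀ k, 1 ≤ k → k < n → P.polys.uEntry k ≠ 0)
    (z : Fin n → F) (hz : RegPolys.lMat n *ᵥ z = P.xVec)
    (hy : P.γ * P.h.eval 1 -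
      P.ε * (P.ε * P.h.eval 1 + P.γ * (ruBase P.c (n - 3)).eval 1 + P.δ) = 0)
    (hzne : P.polys.evOne ⬝ᵥ z ≠ 0)
    (hfull : (Fintype.card F).Prime ∨ ∃ c : F, P.poly 2 = (X - 1) ^ 2 + C c * X ∧
      P.δ + (1 + P.ε) * P.h.eval 1 + (P.γ - P.ε ^ 2) * P.h.derivative.eval 1 -
        P.ε * P.γ * (ruBase P.c (n - 3)).derivative.eval 1 ≠ 0 ∧
      P.polys.evOne ⬝ᵥ z + P.h.eval 1 * c ≠ 0) :
    ∃ u v : Matrix.SpecialLinearGroup (Fin n) F, RuReg u ∧ RuReg v ∧
      Subgroup.closure ({u, v} : Set (Matrix.SpecialLinearGroup (Fin n) F)) = ⊤ ∧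
      (u : Matrix (Fin n) (Fin n) F) = RegPolys.lMat n ∧
      (v : Matrix (Fin n) (Fin n) F) = P.polys.uMat := by
  have hn := P.hn
  obtain ⟨hmon, hirr, hdeg, -, K, _, _, θ, -, hgen, hθ, hpow⟩ := hd
  let u : Matrix.SpecialLinearGroup (Fin n) F := ⟨RegPolys.lMat n, RegPolys.det_lMat⟩
  let v : Matrix.SpecialLinearGroup (Fin n) F := ⟨P.polys.uMat, P.polys.det_uMat⟩
  refine ⟨u, v, ⟨RegPolys.isNilpotent_lMat_sub_one,
      RegPolys.lMat_sub_one_pow_ne_zero (by omega)⟩,
    ⟨P.polys.isNilpotent_uMat_sub_one, P.polys.uMat_sub_one_pow_ne_zero (by omega) hu⟩, ?_, rfl, rfl⟩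
  set H := Subgroup.closure ({u, v} : Set (Matrix.SpecialLinearGroup (Fin n) F)) with hH
  let φ : Matrix.SpecialLinearGroup (Fin n) F →* GL (Fin n) F := Matrix.SpecialLinearGroup.toGL
  have hinj : Function.Injective φ := fun a b e => Subtype.ext (congrArg Units.val e)
  have hN1 : ((Fintype.card F ^ (n - 2) - 1 : ℕ) : F) + 1 = 0 := by
    have : 1 ≤ Fintype.card F ^ (n - 2) := Nat.one_le_pow _ _ Fintype.card_pos
    rw [Nat.cast_sub this, Nat.cast_pow, Nat.cast_one, sub_add_cancel]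
    rw [show ((Fintype.card F : ℕ) : F) = 0 from FiniteField.cast_card_eq_zero F,
      zero_pow (by omega)]
  have hfull' : (Fintype.card F).Prime ∨
      ((P.polys.psi (RegPolys.lMat n *ᵥ (RegPolys.lMat n *ᵥ z))).derivative.eval 1 ≠ 0 ∧
        ∃ w : Fin n → F, (X - 1) ^ 2 ∣ P.polys.psi (RegPolys.lMat n *ᵥ w) ∧
          P.polys.evOne ⬝ᵥ w ≠ 0) := by
    rcases hfull with h | ⟨c, h2, hD, hw⟩
    · exact .inl h
    · refine .inr ⟨by rw [hz, deriv_lMat_xVec]; exact hD, ?_⟩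
      obtain ⟨w, hw1, hw2⟩ := P.psi_test z hz c h2
      exact ⟨w, hw1, by rw [hw2]; exact hw⟩
  have hle : Cfsg.Geo.specialLinear (Fin n) F ≤ H.map φ :=
    ru_specialLinear_le hn P.polys hu hgen hmon hirr hdeg hθ hpow hN1 P.poly_top z
      (by rw [hz, psi_xVec]) (by rw [hz, evOne_lMat_xVec]; exact hy) hzne hfull'
      (H.map φ) (gL := φ u) (gU := φ v) rfl rfl
      (Subgroup.mem_map_of_mem _ (Subgroup.subset_closure (Set.mem_insert _ _)))
      (Subgroup.mem_map_of_mem _ (Subgroup.subset_closure (Set.mem_insert_of_mem _ rfl)))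
  rw [eq_top_iff]
  intro g _
  have hg : φ g ∈ Cfsg.Geo.specialLinear (Fin n) F := by
    show Matrix.GeneralLinearGroup.det (φ g) = 1
    exact Units.ext g.2
  obtain ⟨g', hg', he⟩ := hle hg
  exact hinj he ▸ hg'

end RuParam

end CfsgLib.Geom
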