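import Mathlib
import Cfsg.Agent.Lib.Geom.RegUnipPair

/-!
Two regular unipotent generators of `SL_4` and `SL_5` (apart from `SL_4(3)`, `SL_5(2)` in the
conjugate form).
-/

set_option autoImplicit false

namespace CfsgLib.Geom

open Matrix Polynomial

variable (F : Type*) [Field F] [Fintype F] (n : ℕ)

/-- Two regular unipotent elements generate. -/
def RuGood : Prop :=
  ∃ u v : Matrix.SpecialLinearGroup (Fin n) F, RuReg u ∧ RuReg v ∧
    Subgroup.closure ({u, v} : Set (Matrix.SpecialLinearGroup (Fin n) F)) = ⊤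

/-- Two conjugate regular unipotent elements generate. -/
def RuGoodConj : Prop :=
  ∃ u g : Matrix.SpecialLinearGroup (Fin n) F, RuReg u ∧ RuReg (g * u * g⁻¹) ∧
    Subgroup.closure ({u, g * u * g⁻¹} : Set (Matrix.SpecialLinearGroup (Fin n) F)) = ⊤

variable {F n}

theorem RuGoodConj.good (h : RuGoodConj F n) : RuGood F n := by
  obtain ⟨u, g, h1, h2, h3⟩ := h
  exact ⟨u, g * u * g⁻¹, h1, h2, h3⟩

theorem ru_goodConj_of_pair (P : RuParam F n)
    (h : ∃ u v : Matrix.SpecialLinearGroup (Fin n) F, RuReg u ∧ RuReg v ∧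
      Subgroup.closure ({u, v} : Set (Matrix.SpecialLinearGroup (Fin n) F)) = ⊤ ∧
      (u : Matrix (Fin n) (Fin n) F) = RegPolys.lMat n ∧
      (v : Matrix (Fin n) (Fin n) F) = P.polys.uMat)
    {lam : F} (hlam : lam ^ n * (((Equiv.Perm.sign (Fin.revPerm : Equiv.Perm (Fin n)) : ℤ) : F) *
      ∏ k ∈ Finset.range n, P.polys.uEntry k ^ k) = 1) : RuGoodConj F n := by
  obtain ⟨u, v, h1, h2, h3, hu, hv⟩ := h
  obtain ⟨g, hg⟩ := P.polys.exists_conj_det_one (by have := P.hn; omega) hlam
  have e := hg u v hu hv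
  exact ⟨u, g, h1, e ▸ h2, e ▸ h3⟩

omit [Fintype F] in
theorem ru_sign_rev_four :
    ((Equiv.Perm.sign (Fin.revPerm : Equiv.Perm (Fin 4)) : ℤ) : F) = 1 := by
  rw [show Equiv.Perm.sign (Fin.revPerm : Equiv.Perm (Fin 4)) = 1 by decide]; simp

omit [Fintype F] in
theorem ru_sign_rev_five :
    ((Equiv.Perm.sign (Fin.revPerm : Equiv.Perm (Fin 5)) : ℤ) : F) = 1 := by
  rw [show Equiv.Perm.sign (Fin.revPerm : Equiv.Perm (Fin 5)) = 1 by decide]; simp

omit [Fintype F] in
theorem ru_monic_eq_four {h : F[X]} (hm : h.Monic) (hd : h.natDegree = 2) (h0 : h.eval 0 = 1) :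
    h = X ^ 2 + C (h.coeff 1) * X + 1 := by
  rw [← coeff_zero_eq_eval_zero] at h0
  conv_lhs => rw [hm.as_sum, hd]
  simp [Finset.sum_range_succ, h0]
  ring

omit [Fintype F] in
theorem ru_monic_eq_five {h : F[X]} (hm : h.Monic) (hd : h.natDegree = 3) (h0 : h.eval 0 = -1) :
    h = X ^ 3 + C (h.coeff 2) * X ^ 2 + C (h.coeff 1) * X - 1 := by
  rw [← coeff_zero_eq_eval_zero] at h0
  conv_lhs => rw [hm.as_sum, hd]
  simp [Finset.sum_range_succ, h0]
  ring

/-- A ring-generator of a big extension has no minimal polynomial over the prime field of small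
degree. -/
theorem ru_gen_card {K : Type} [Field K] {θ : K} (hgen : Subring.closure {θ} = ⊤) (p : ℕ)
    [Fact p.Prime] [CharP K p] (a b : ZMod p) :
    (θ ^ 2 + ZMod.castHom dvd_rfl K a * θ + ZMod.castHom dvd_rfl K b = 0 → Nat.card K ≤ p ^ 2) ∧
    (∀ c : ZMod p, θ ^ 3 + ZMod.castHom dvd_rfl K a * θ ^ 2 + ZMod.castHom dvd_rfl K b * θ +
      ZMod.castHom dvd_rfl K c = 0 → Nat.card K ≤ p ^ 3) := by
  set f := ZMod.castHom dvd_rfl K with hf
  constructor
  · intro h
    let R : Subring K :=
      { carrier := {x | ∃ u v : ZMod p, x = f u + f v * θ}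
        one_mem' := ⟨1, 0, by simp⟩
        zero_mem' := ⟨0, 0, by simp⟩
        add_mem' := by
          rintro _ _ ⟨u, v, rfl⟩ ⟨u', v', rfl⟩
          exact ⟨u + u', v + v', by simp only [map_add]; ring⟩
        neg_mem' := by
          rintro _ ⟨u, v, rfl⟩
          exact ⟨-u, -v, by simp only [map_neg]; ring⟩
        mul_mem' := by
          rintro _ _ ⟨u, v, rfl⟩ ⟨u', v', rfl⟩
          exact ⟨u * u' - b * (v * v'), u * v' + v * u' - a * (v * v'), by
            simp only [map_add, map_sub, map_mul]; linear_combination (f v * f v') * h⟩ }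
    have hR : ⊤ ≤ R := by
      rw [← hgen, Subring.closure_le]
      rintro x rfl
      exact ⟨0, 1, by simp⟩
    have hs : Function.Surjective (fun x : ZMod p × ZMod p => f x.1 + f x.2 * θ) := fun x => by
      obtain ⟨u, v, e⟩ := hR (Subring.mem_top x)
      exact ⟨(u, v), e.symm⟩
    have := Nat.card_le_card_of_surjective _ hs
    simpa [Nat.card_prod, sq] using this
  · intro c h
    let R : Subring K :=
      { carrier := {x | ∃ u v w : ZMod p, x = f u + f v * θ + f w * θ ^ 2}
        one_mem' := ⟨1, 0, 0, by simp⟩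
        zero_mem' := ⟨0, 0, 0, by simp⟩
        add_mem' := by
          rintro _ _ ⟨u, v, w, rfl⟩ ⟨u', v', w', rfl⟩
          exact ⟨u + u', v + v', w + w', by simp only [map_add]; ring⟩
        neg_mem' := by
          rintro _ ⟨u, v, w, rfl⟩
          exact ⟨-u, -v, -w, by simp only [map_neg]; ring⟩
        mul_mem' := by
          rintro _ _ ⟨u, v, w, rfl⟩ ⟨u', v', w', rfl⟩
          exact ⟨u * u' - c * (v * w' + w * v') + a * c * (w * w'),
            u * v' + v * u' - b * (v * w' + w * v') + (a * b - c) * (w * w'),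
            u * w' + v * v' + w * u' - a * (v * w' + w * v') + (a * a - b) * (w * w'), by
            simp only [map_add, map_sub, map_mul]
            linear_combination (f v * f w' + f w * f v' - f a * f w * f w' + θ * f w * f w') * h⟩ }
    have hR : ⊤ ≤ R := by
      rw [← hgen, Subring.closure_le]
      rintro x rfl
      exact ⟨0, 1, 0, by simp⟩
    have hs : Function.Surjective
        (fun x : ZMod p × ZMod p × ZMod p => f x.1 + f x.2.1 * θ + f x.2.2 * θ ^ 2) := fun x => by
      obtain ⟨u, v, w, e⟩ := hR (Subring.mem_top x)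
      exact ⟨(u, v, w), e.symm⟩
    have := Nat.card_le_card_of_surjective _ hs
    simpa [Nat.card_prod, pow_succ, mul_assoc] using this

/-! ### `n = 4` -/

/-- The parameters for `n = 4`. -/
noncomputable def ruParamFour (h : F[X]) (hd : RuDatum 2 h) (ε γ : F) : RuParam F 4 where
  h := h
  c := fun _ => 0
  ε := ε
  γ := γ
  δ := γ - ε
  hn := le_rfl
  hmon := hd.1
  hdeg := hd.2.2.1
  h0 := hd.2.2.2.1
  hδ := by norm_num; ring

theorem ru_four_spec {h : F[X]} (hd : RuDatum 2 h) {ε γ : F} (hε : ε ≠ 0)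
    (hγ : γ * (h.eval 1 - ε) = ε ^ 2 * (h.eval 1 - 1)) :
    let P := ruParamFour h hd ε γ
    (((Fintype.card F).Prime ∨ (ε = 1 ∧ γ = 1 ∧ 2 * h.eval 1 ≠ 1 ∧ h.eval 1 ≠ 1)) →
      ∃ u v : Matrix.SpecialLinearGroup (Fin 4) F, RuReg u ∧ RuReg v ∧
        Subgroup.closure ({u, v} : Set (Matrix.SpecialLinearGroup (Fin 4) F)) = ⊤ ∧
        (u : Matrix (Fin 4) (Fin 4) F) = RegPolys.lMat 4 ∧
        (v : Matrix (Fin 4) (Fin 4) F) = P.polys.uMat) ∧
    ∏ k ∈ Finset.range 4, P.polys.uEntry k ^ k = h.eval 1 * ε ^ 5 := by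
  intro P
  set β := h.eval 1 with hβdef
  have hβ : β ≠ 0 := hd.2.1.not_isRoot_of_natDegree_ne_one (by rw [hd.2.2.1]; norm_num)
  have heq := ru_monic_eq_four hd.1 hd.2.2.1 (by simpa using hd.2.2.2.1)
  set a := h.coeff 1 with ha
  have hβa : β = 2 + a := by
    rw [hβdef, heq]
    simp only [eval_add, eval_pow, eval_X, eval_mul, eval_C, eval_one]
    ring
  have hu1 : P.polys.uEntry 1 = -β := by
    rw [RegPolys.uEntry, show (1 : ℕ) + 1 = 4 - 2 from rfl, P.sCoeff_pred₂, P.sCoeff_one, hβa]
    simp only [RuParam.hTrace, P, ruParamFour, show 4 - 3 = 1 from rfl, ← ha]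
    ring
  have hu2 : P.polys.uEntry 2 = ε := P.uEntry_pred₂
  have hu3 : P.polys.uEntry 3 = -ε := P.uEntry_pred
  refine ⟨fun hfull => ?_, ?_⟩
  · let z : Fin 4 → F := ![γ - ε, ε, 0, 1]
    have hz : RegPolys.lMat 4 *ᵥ z = P.xVec := by
      ext i
      fin_cases i <;>
        simp [z, RuParam.xVec, P, ruParamFour, RegPolys.lMat, mulVec, dotProduct,
          Fin.sum_univ_four, Pi.single_apply]
    have hπz : P.polys.evOne ⬝ᵥ z = -(ε * β) := by
      have e3 := P.evOne_pred (3 : Fin 4) rfl
      simp only [z, dotProduct, Fin.sum_univ_four, P.evOne_zero 0 rfl, P.evOne_one 1 rfl, e3]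
      simp [P, ruParamFour, ruBase, hβdef]
    refine P.generates hd ?_ z hz ?_ (by rw [hπz]; exact neg_ne_zero.2 (mul_ne_zero hε hβ)) ?_
    · intro k h1 h4
      interval_cases k
      · rw [hu1]; exact neg_ne_zero.2 hβ
      · rw [hu2]; exact hε
      · rw [hu3]; exact neg_ne_zero.2 hε
    · simp [P, ruParamFour, ruBase, ← hβdef]
      linear_combination hγ
    · rcases hfull with hp | ⟨rfl, rfl, h2, h1⟩
      · exact .inl hp
      · refine .inr ⟨β, ?_, ?_, ?_⟩
        · rw [show (2 : ℕ) = 4 - 2 from rfl, P.poly_pred₂]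
          show h = _
          conv_lhs => rw [heq]
          rw [hβa, map_add, show (C (2 : F)) = 2 from map_ofNat C 2]
          ring
        · simp [P, ruParamFour, ruBase, ← hβdef]
          intro e
          apply h2
          linear_combination e
        · rw [hπz]
          show -(1 * β) + β * β ≠ 0
          rw [show -(1 * β) + β * β = β * (β - 1) by ring]
          exact mul_ne_zero hβ (sub_ne_zero.2 h1)
  · simp only [Finset.prod_range_succ, Finset.prod_range_zero, pow_zero, pow_one, one_mul, hu1, hu2,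
      hu3]
    ring

theorem ru_goodConj_four (hp : (Fintype.card F).Prime) (h3 : Fintype.card F ≠ 3) :
    RuGoodConj F 4 := by
  obtain ⟨h, hd⟩ := ru_exists_datum (F := F) (r := 2) le_rfl
  set β := h.eval 1 with hβdef
  have hβ : β ≠ 0 := hd.2.1.not_isRoot_of_natDegree_ne_one (by rw [hd.2.2.1]; norm_num)
  by_cases hβ1 : β = 1
  · obtain ⟨H, hP⟩ := ru_four_spec hd (ε := 1) (γ := 1) one_ne_zero (by rw [← hβdef, hβ1]; ring)
    refine ru_goodConj_of_pair _ (H (.inl hp)) (lam := 1) ?_
    rw [ru_sign_rev_four, hP, ← hβdef, hβ1]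
    ring
  · obtain ⟨w, hw, hwne⟩ : ∃ w : F, w ≠ 0 ∧ w ^ 4 ≠ β ^ 2 := by
      haveI : Fact (Fintype.card F).Prime := ⟨hp⟩
      haveI hc : CharP F (Fintype.card F) := by
        have := FiniteField.cast_card_eq_zero F
        exact CharP.charP_iff_prime_eq_zero hp |>.2 this
      have hne : ∀ m : ℕ, ¬Fintype.card F ∣ m → (m : F) ≠ 0 := fun m hm e =>
        hm ((CharP.cast_eq_zero_iff F _ m).1 e)
      by_contra hcon
      push Not at hcon
      have e1 := hcon 1 one_ne_zero
      by_cases hp2 : Fintype.card F = 2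
      · apply hβ1
        have := FiniteField.pow_card β
        rw [hp2, ← e1, one_pow] at this
        exact this.symm
      · have h2 : (2 : F) ≠ 0 := by
          have := hne 2 (fun hd' => hp2 (((Nat.prime_dvd_prime_iff_eq hp Nat.prime_two).1 hd')))
          simpa using this
        have e2 := hcon 2 h2
        have h15 : ((15 : ℕ) : F) = 0 := by push_cast; linear_combination e2 - e1
        have hd15 : Fintype.card F ∣ 15 := (CharP.cast_eq_zero_iff F _ 15).1 h15
        have hc5 : Fintype.card F = 5 := by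
          have hle := Nat.le_of_dvd (by norm_num) hd15
          have hp1 := hp.one_lt
          interval_cases hq : Fintype.card F <;> first | omega | (norm_num at hp) | (norm_num at hd15)
        have hβm : β = -1 := by
          have : (β - 1) * (β + 1) = 0 := by linear_combination -e1
          rcases mul_eq_zero.1 this with h' | h'
          · exact absurd (sub_eq_zero.1 h') hβ1
          · linear_combination h'
        have heq := ru_monic_eq_four hd.1 hd.2.2.1 (by simpa using hd.2.2.2.1)
        refine hd.2.1.not_isRoot_of_natDegree_ne_one (by rw [hd.2.2.1]; norm_num) (x := -1) ?_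
        have h5 : ((5 : ℕ) : F) = 0 := by rw [← hc5]; exact FiniteField.cast_card_eq_zero F
        push_cast at h5
        have ha : 2 + h.coeff 1 = -1 := by
          rw [← hβm, hβdef]
          conv_rhs => rw [heq]
          simp
          ring
        rw [IsRoot.def, heq]
        simp
        linear_combination h5 - ha
    have hεβ : β - w ^ 4 / β ≠ 0 := by
      intro e
      field_simp at e
      exact hwne (by linear_combination -e)
    obtain ⟨H, hP⟩ := ru_four_spec hd (ε := w ^ 4 / β)
      (γ := (w ^ 4 / β) ^ 2 * (β - 1) / (β - w ^ 4 / β))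
      (div_ne_zero (pow_ne_zero _ hw) hβ) (by rw [← hβdef, div_mul_cancel₀ _ hεβ])
    refine ru_goodConj_of_pair _ (H (.inl hp)) (lam := β / w ^ 5) ?_
    rw [ru_sign_rev_four, hP, ← hβdef]
    field_simp

theorem ru_good_four (hp : ¬(Fintype.card F).Prime) : RuGood F 4 := by
  obtain ⟨h, hd⟩ := ru_exists_datum (F := F) (r := 2) le_rfl
  set β := h.eval 1 with hβdef
  obtain ⟨p, hchar⟩ := CharP.exists F
  haveI : Fact p.Prime := ⟨CharP.char_is_prime F p⟩
  obtain ⟨m, -, hcard⟩ := FiniteField.card F p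
  have hpq : p ^ 2 < Fintype.card F ^ 2 := by
    have hm : 1 < (m : ℕ) := by
      rcases Nat.lt_or_ge 1 (m : ℕ) with h | h
      · exact h
      · exfalso; apply hp
        rw [hcard, show (m : ℕ) = 1 by have := m.pos; omega, pow_one]
        exact Fact.out
    refine Nat.pow_lt_pow_left ?_ (by norm_num)
    rw [hcard]
    calc p = p ^ 1 := (pow_one p).symm
      _ < p ^ (m : ℕ) := Nat.pow_lt_pow_right (Nat.Prime.one_lt Fact.out) hm
  obtain ⟨hmon, hirr, hdeg, hev, K, _, _, θ, hcardK, hgen, hθ, hpow⟩ := id hd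
  haveI : CharP K p := charP_of_injective_algebraMap (algebraMap F K).injective p
  have heq := ru_monic_eq_four hmon hdeg (by simpa using hev)
  have hnot : ∀ k : ZMod p, β ≠ ZMod.castHom dvd_rfl F k := by
    intro k hk
    have hf : (algebraMap F K).comp (ZMod.castHom dvd_rfl F) = ZMod.castHom dvd_rfl K :=
      RingHom.ext_zmod _ _
    have hco : h.coeff 1 = ZMod.castHom dvd_rfl F (k - 2) := by
      rw [map_sub, ← hk, hβdef]
      conv_rhs => rw [heq]
      simp [map_ofNat]
      ring
    have hz : θ ^ 2 + ZMod.castHom dvd_rfl K (k - 2) * θ + ZMod.castHom dvd_rfl K 1 = 0 := by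
      rw [map_one, ← hf, RingHom.comp_apply, ← hco]
      have := hθ
      rw [heq] at this
      simpa using this
    have hle := (ru_gen_card hgen p (k - 2) 1).1 hz
    omega
  obtain ⟨H, -⟩ := ru_four_spec hd (ε := 1) (γ := 1) one_ne_zero (by ring)
  refine (fun ⟨u, v, h1, h2, h3, _, _⟩ => ⟨u, v, h1, h2, h3⟩) (H (.inr ⟨rfl, rfl, ?_, ?_⟩))
  · intro e
    rw [← hβdef] at e
    have h2 : (2 : F) ≠ 0 := fun e0 => by simp [e0] at e
    refine hnot (2 : ZMod p)⁻¹ ?_
    rw [map_inv₀, map_ofNat]
    field_simp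
    linear_combination e
  · intro e
    rw [← hβdef] at e
    exact hnot 1 (by rw [map_one, e])

end CfsgLib.Geom
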