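import Mathlib
import Cfsg.Agent.Lib.Geom.RegUnipSmall
import Cfsg.Agent.Lib.Classical.SLGen

/-!
`SL_5(2)` and `SL_4(3)` are generated by the lower Jordan block and its transpose: explicit words.
-/

set_option autoImplicit false

namespace CfsgLib.Geom

open Matrix

/-- One left multiplication, on a column given as a list. -/
def ruStep (p : ℕ) (b : Bool) (l : List ℕ) : List ℕ :=
  if b then List.zipWith (fun x y => (x + y) % p) l (l.tail ++ [0])
  else List.zipWith (fun x y => (x + y) % p) l (0 :: l.dropLast)

/-- The image of the `j`-th coordinate column under a word. -/
def ruColumn (n p : ℕ) (w : List Bool) (j : Fin n) : List ℕ :=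
  w.foldr (ruStep p) (List.ofFn fun i : Fin n => if i = j then 1 else 0)

/-- The column of an elementary transvection. -/
def ruTarget (n : ℕ) (i j k : Fin n) : List ℕ :=
  List.ofFn fun a : Fin n => if a = k ∨ (a = i ∧ k = j) then 1 else 0

/-- The matrix of a word in `L` and `Lᵀ`, by left multiplication. -/
def ruEval (n : ℕ) (R : Type*) [CommRing R] : List Bool → Matrix (Fin n) (Fin n) R
  | [] => 1
  | b :: w => Matrix.of fun i j =>
      if b then (if h : (i : ℕ) + 1 < n then ruEval n R w i j + ruEval n R w ⟨i + 1, h⟩ j
        else ruEval n R w i j)
      else (if h : 0 < (i : ℕ) then ruEval n R w i j + ruEval n R w ⟨i - 1, by omega⟩ j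
        else ruEval n R w i j)

theorem ruColumn_eq (n p : ℕ) (w : List Bool) (j : Fin n) :
    (ruColumn n p w j).map (fun x : ℕ => (x : ZMod p)) =
      List.ofFn fun i => ruEval n (ZMod p) w i j := by
  induction w with
  | nil => simp [ruColumn, ruEval, Matrix.one_apply, List.map_ofFn, Function.comp_def]
  | cons b w ih =>
    have e : ruColumn n p (b :: w) j = ruStep p b (ruColumn n p w j) := rfl
    have hlen : (ruColumn n p w j).length = n := by
      have := congrArg List.length ih
      simpa using this
    have hget : ∀ (i : ℕ) (h : i < n), ((ruColumn n p w j)[i]'(hlen.symm ▸ h) : ZMod p) =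
        ruEval n (ZMod p) w ⟨i, h⟩ j := by
      intro i h
      have := congrArg (fun l : List (ZMod p) => l[i]?) ih
      simpa [List.getElem?_ofFn, h, hlen] using this
    rw [e]
    refine List.ext_getElem (by cases b <;> simp [ruStep, hlen] <;> omega) fun i h1 h2 => ?_
    have hi : i < n := by simpa using h2
    simp only [List.getElem_ofFn, ruEval.eq_def n (ZMod p) (b :: w), Matrix.of_apply]
    cases b
    · simp only [Bool.false_eq_true, if_false, ruStep, List.getElem_map, List.getElem_zipWith,
        ZMod.natCast_mod, Nat.cast_add, hget i hi]
      rcases Nat.eq_zero_or_pos i with rfl | hpos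
      · simp
      · rw [dif_pos hpos, List.getElem_cons, dif_neg (by omega), List.getElem_dropLast,
          hget (i - 1) (by omega)]
    · simp only [if_true, ruStep, List.getElem_map, List.getElem_zipWith, ZMod.natCast_mod,
        Nat.cast_add, hget i hi, List.getElem_append, List.length_tail, hlen]
      by_cases hlt : i + 1 < n
      · rw [dif_pos hlt, dif_pos (by omega), List.getElem_tail, hget (i + 1) hlt]
      · rw [dif_neg hlt, dif_neg (by omega)]
        simp

theorem ruEval_of_check {n p : ℕ} {w : List Bool} {i j : Fin n} (hij : i ≠ j)
    (h : ∀ k, ruColumn n p w k = ruTarget n i j k) :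
    ruEval n (ZMod p) w = Matrix.transvection i j 1 := by
  ext a k
  have h1 := (ruColumn_eq n p w k).symm
  rw [h k, ruTarget, List.map_ofFn, List.ofFn_inj] at h1
  rw [congrFun h1 a, Function.comp_apply, Matrix.transvection, Matrix.add_apply, Matrix.one_apply,
    Matrix.single_apply]
  by_cases hk : a = k
  · subst hk
    rw [if_pos (.inl rfl), if_pos rfl, if_neg, add_zero, Nat.cast_one]
    rintro ⟨rfl, rfl⟩; exact hij rfl
  · rw [if_neg hk, zero_add]
    by_cases hp : a = i ∧ k = j
    · rw [if_pos (.inr hp), if_pos ⟨hp.1.symm, hp.2.symm⟩, Nat.cast_one]
    · rw [if_neg (by rintro (e | e); exacts [hk e, hp e]), if_neg (fun e => hp ⟨e.1.symm, e.2.symm⟩),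
        Nat.cast_zero]

/-- Words in the two generators giving the elementary transvections. -/
def ruWordsFiveTwo : Fin 5 → Fin 5 → List Bool :=
  ![![[],
      [false, true, true, true, false, false, false, false, false, false, false, true, false, true, true, false, true, false, false, true],
      [false, false, true, true, true, true, true, true, false, false, false, false, true, true, false, false, false, false, false, false],
      [false, false, true, false, false, false, false, true, false, true, false, false, false, true, false, false, false, false, false, true, false],
      [true, true, true, true]],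
    ![[false, true, true, false, true, false, false, true, false, true, true, true, true, true, true, true, false, false, false, true],
      [],
      [true, false, true, false, false, true, true, false, true, false, false, false, false, true, false, false, true, false, false, false, false, true, false, true],
      [false, false, false, false, true, true, false, false, true, false, true, true, false, false, false, false, true, true, false, true, false, false, true, true],
      [false, true, false, false, false, false, false, true, false, false, false, true, false, true, false, false, false, false, true, false, false]],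
    ![[true, true, true, true, true, true, false, false, true, true, true, true, false, false, false, false, false, false, true, true],
      [false, true, false, true, true, true, true, false, true, true, false, true, true, true, true, false, true, false, false, true, true, false, true, false],
      [],
      [false, false, true, true, false, false, true, false, true, true, true, true, true, true, false, false, true, false, true, true, false, false, true, true],
      [false, false, false, false, false, false, true, true, false, false, false, false, true, true, true, true, true, true, false, false]],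
    ![[true, false, true, true, true, true, true, false, true, true, true, false, true, false, true, true, true, true, false, true, true],
      [false, false, true, false, true, false, true, true, false, false, false, false, true, true, false, true, false, true, false, false, true, true, true, true],
      [false, false, true, true, false, false, true, false, true, true, false, false, false, false, false, false, true, false, true, true, false, false, true, true],
      [],
      [false, false, false, false, false, false, false, true, false, false, false, false, true, true, true, true, true, true, true, false]],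
    ![[false, false, false, false],
      [true, true, false, true, true, true, true, false, true, false, true, true, true, false, true, true, true, true, true, false, true],
      [true, true, false, false, false, false, false, false, true, true, true, true, false, false, true, true, true, true, true, true],
      [true, false, false, false, false, false, false, false, true, true, true, true, false, true, true, true, true, true, true, true],
      []]]

theorem ru_check_FiveTwo : ∀ i j : Fin 5, i ≠ j → ∀ k,
    ruColumn 5 2 (ruWordsFiveTwo i j) k = ruTarget 5 i j k := by
  decide +kernel

theorem ru_words_FiveTwo (i j : Fin 5) (h : i ≠ j) :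
    ruEval 5 (ZMod 2) (ruWordsFiveTwo i j) = Matrix.transvection i j 1 :=
  ruEval_of_check h (ru_check_FiveTwo i j h)

/-- Words in the two generators giving the elementary transvections. -/
def ruWordsFourThree : Fin 4 → Fin 4 → List Bool :=
  ![![[],
      [false, false, true, true, true, false, false, true, false, false, false, false, true, true, false, false, false, false, true, true, true, true],
      [true, false, true, true, true, true, true, true, false, false, true, false, false, true, false, false, false, true, true, false, true, false, false],
      [true, true, true]],
    ![[false, false, false, false, true, true, true, true, false, false, true, true, true, true, false, true, true, false, false, false, true, true],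
      [],
      [false, true, false, false, true, true, true, true, false, true, true, true, true, false, false, true, false],
      [false, false, true, false, true, true, false, false, false, true, false, false, true, false, false, true, true, true, true, true, true, false, true]],
    ![[true, true, false, true, false, false, true, true, true, false, true, true, false, true, true, false, false, false, false, false, false, true, false],
      [true, false, true, true, false, false, false, false, true, false, false, false, false, true, true, false, true],
      [],
      [true, false, false, false, false, true, true, false, false, false, false, true, false, false, true, true, true, false, false, true, true, true]],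
    ![[false, false, false],
      [false, true, false, false, false, false, false, false, true, true, false, true, true, false, true, true, true, false, false, true, false, true, true],
      [false, false, false, true, true, false, false, false, true, true, false, true, true, true, true, false, false, true, true, true, true, false],
      []]]

theorem ru_check_FourThree : ∀ i j : Fin 4, i ≠ j → ∀ k,
    ruColumn 4 3 (ruWordsFourThree i j) k = ruTarget 4 i j k := by
  decide +kernel

theorem ru_words_FourThree (i j : Fin 4) (h : i ≠ j) :
    ruEval 4 (ZMod 3) (ruWordsFourThree i j) = Matrix.transvection i j 1 :=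
  ruEval_of_check h (ru_check_FourThree i j h)

theorem ruEval_cons (n : ℕ) (R : Type*) [Field R] (b : Bool) (w : List Bool) :
    ruEval n R (b :: w) =
      (if b then (RegPolys.lMat n : Matrix (Fin n) (Fin n) R)ᵀ else RegPolys.lMat n) *
        ruEval n R w := by
  ext i j
  rw [ruEval.eq_def n R (b :: w)]
  simp only [Matrix.of_apply, Matrix.mul_apply]
  cases b
  · simp only [Bool.false_eq_true, if_false]
    by_cases h : 0 < (i : ℕ)
    · rw [dif_pos h, Fintype.sum_eq_add i ⟨(i : ℕ) - 1, by omega⟩
        (fun e => by have := congrArg Fin.val e; simp at this; omega)]
      · simp only [RegPolys.lMat, Matrix.of_apply, true_or, if_true, one_mul]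
        rw [if_pos (by omega), one_mul]
      · rintro x ⟨h1, h2⟩
        have h1' : (x : ℕ) ≠ i := fun e => h1 (Fin.ext e)
        have h2' : (x : ℕ) ≠ i - 1 := fun e => h2 (Fin.ext e)
        simp only [RegPolys.lMat, Matrix.of_apply]
        rw [if_neg (by omega), zero_mul]
    · rw [dif_neg h, Finset.sum_eq_single i]
      · simp [RegPolys.lMat]
      · intro x _ hx
        have : (x : ℕ) ≠ i := fun e => hx (Fin.ext e)
        simp only [RegPolys.lMat, Matrix.of_apply]
        rw [if_neg (by omega), zero_mul]
      · intro h'; exact absurd (Finset.mem_univ _) h'
  · simp only [if_true]
    by_cases h : (i : ℕ) + 1 < n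
    · rw [dif_pos h, Fintype.sum_eq_add i ⟨(i : ℕ) + 1, h⟩
        (fun e => by have := congrArg Fin.val e; simp at this)]
      · simp [RegPolys.lMat, Matrix.transpose_apply]
      · rintro x ⟨h1, h2⟩
        have h1' : (x : ℕ) ≠ i := fun e => h1 (Fin.ext e)
        have h2' : (x : ℕ) ≠ i + 1 := fun e => h2 (Fin.ext e)
        simp only [RegPolys.lMat, Matrix.transpose_apply, Matrix.of_apply]
        rw [if_neg (by omega), zero_mul]
    · rw [dif_neg h, Finset.sum_eq_single i]
      · simp [RegPolys.lMat]
      · intro x _ hx
        have : (x : ℕ) ≠ i := fun e => hx (Fin.ext e)
        simp only [RegPolys.lMat, Matrix.transpose_apply, Matrix.of_apply]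
        rw [if_neg (by omega), zero_mul]
      · intro h'; exact absurd (Finset.mem_univ _) h'

theorem ruEval_map {R S : Type*} [CommRing R] [CommRing S] (f : R →+* S) (n : ℕ) (w : List Bool) :
    (ruEval n R w).map f = ruEval n S w := by
  induction w with
  | nil => simp [ruEval]
  | cons b w ih =>
    ext i j
    have hih : ∀ a c, f (ruEval n R w a c) = ruEval n S w a c := fun a c => by rw [← ih]; rfl
    simp only [ruEval.eq_def n R (b :: w), ruEval.eq_def n S (b :: w), Matrix.map_apply,
      Matrix.of_apply]
    split_ifs <;> simp [map_add, hih]

variable {F : Type*} [Field F] [Fintype F]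

theorem ru_goodConj_of_words {n p : ℕ} [Fact p.Prime] (hn : 0 < n) (hF : Fintype.card F = p)
    (hrev : (Equiv.Perm.sign (Fin.revPerm : Equiv.Perm (Fin n))) = 1)
    (W : Fin n → Fin n → List Bool)
    (hW : ∀ i j : Fin n, i ≠ j → ruEval n (ZMod p) (W i j) = Matrix.transvection i j 1) :
    RuGoodConj F n := by
  haveI : CharP F p :=
    CharP.charP_iff_prime_eq_zero Fact.out |>.2 (hF ▸ FiniteField.cast_card_eq_zero F)
  let u : Matrix.SpecialLinearGroup (Fin n) F := ⟨RegPolys.lMat n, RegPolys.det_lMat⟩
  let v : Matrix.SpecialLinearGroup (Fin n) F :=
    ⟨(RegPolys.lMat n)ᵀ, by rw [Matrix.det_transpose]; exact RegPolys.det_lMat⟩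
  let g : Matrix.SpecialLinearGroup (Fin n) F :=
    ⟨(1 : Matrix (Fin n) (Fin n) F).submatrix Fin.revPerm id, by
      rw [Matrix.det_permute, Matrix.det_one, hrev]; simp⟩
  have hv : g * u * g⁻¹ = v := by
    apply mul_inv_eq_iff_eq_mul.2
    apply Subtype.ext
    show (1 : Matrix (Fin n) (Fin n) F).submatrix Fin.revPerm id * RegPolys.lMat n =
      (RegPolys.lMat n)ᵀ * (1 : Matrix (Fin n) (Fin n) F).submatrix Fin.revPerm id
    ext i j
    rw [Matrix.mul_apply, Matrix.mul_apply, Finset.sum_eq_single (Fin.rev i),
      Finset.sum_eq_single (Fin.rev j)]
    · simp [RegPolys.lMat, Matrix.one_apply, Fin.val_rev, Fin.rev_rev]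
      congr 1
      apply propext
      constructor <;> intro h <;> omega
    · intro x _ hx
      simp only [Matrix.submatrix_apply, Fin.revPerm_apply, id, Matrix.one_apply]
      rw [if_neg (fun e => hx (by rw [← e, Fin.rev_rev])), mul_zero]
    · intro h; exact absurd (Finset.mem_univ _) h
    · intro x _ hx
      simp only [Matrix.submatrix_apply, Fin.revPerm_apply, id, Matrix.one_apply]
      rw [if_neg (fun e => hx e.symm), zero_mul]
    · intro h; exact absurd (Finset.mem_univ _) h
  have hregu : RuReg u :=
    ⟨RegPolys.isNilpotent_lMat_sub_one, RegPolys.lMat_sub_one_pow_ne_zero hn⟩
  have hregv : RuReg v := by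
    have he : (v : Matrix (Fin n) (Fin n) F) - 1 =
        ((RegPolys.lMat n : Matrix (Fin n) (Fin n) F) - 1)ᵀ := by
      rw [Matrix.transpose_sub, Matrix.transpose_one]
    unfold RuReg
    rw [he, ← Matrix.transpose_pow]
    refine ⟨?_, fun e => hregu.2 (Matrix.transpose_eq_zero.1 e)⟩
    obtain ⟨k, hk⟩ := hregu.1
    exact ⟨k, by rw [← Matrix.transpose_pow]; exact Matrix.transpose_eq_zero.2 hk⟩
  refine ⟨u, g, hregu, hv ▸ hregv, ?_⟩
  rw [hv]
  set H := Subgroup.closure ({u, v} : Set (Matrix.SpecialLinearGroup (Fin n) F)) with hH
  have hword : ∀ w : List Bool, ∃ x ∈ H, (x : Matrix (Fin n) (Fin n) F) = ruEval n F w := by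
    intro w
    induction w with
    | nil => exact ⟨1, one_mem H, by simp [ruEval]⟩
    | cons b w ih =>
      obtain ⟨x, hx, he⟩ := ih
      refine ⟨(if b then v else u) * x, mul_mem ?_ hx, ?_⟩
      · cases b
        · exact Subgroup.subset_closure (Set.mem_insert _ _)
        · exact Subgroup.subset_closure (Set.mem_insert_of_mem _ rfl)
      · rw [Matrix.SpecialLinearGroup.coe_mul, he, ruEval_cons]
        cases b <;> rfl
  refine CfsgLib.Classical.sl_transvection_induction H fun i j hij c => ?_
  have h1 : Matrix.SpecialLinearGroup.transvection hij (1 : F) ∈ H := by
    obtain ⟨x, hx, he⟩ := hword (W i j)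
    have : (Matrix.transvection i j (1 : ZMod p)).map (ZMod.castHom dvd_rfl F) =
        Matrix.transvection i j (1 : F) := by
      ext a b
      simp [Matrix.transvection, Matrix.one_apply, Matrix.single_apply]
      split_ifs <;> simp_all
    rw [← hW i j hij, ruEval_map] at this
    rwa [show Matrix.SpecialLinearGroup.transvection hij (1 : F) = x from
      Subtype.ext (by rw [he, this]; rfl)]
  have hk : ∀ k : ℕ, Matrix.SpecialLinearGroup.transvection hij ((k : F)) ∈ H := by
    intro k
    induction k with
    | zero => rw [Nat.cast_zero, Matrix.SpecialLinearGroup.transvection_coeff_zero]; exact one_mem H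
    | succ k ih =>
      rw [show Matrix.SpecialLinearGroup.transvection hij (((k + 1 : ℕ) : F)) =
        Matrix.SpecialLinearGroup.transvection hij (k : F) *
          Matrix.SpecialLinearGroup.transvection hij (1 : F) from Subtype.ext (by
            show Matrix.transvection i j (((k + 1 : ℕ) : F)) =
              Matrix.transvection i j (k : F) * Matrix.transvection i j 1
            rw [Matrix.transvection_mul_transvection_same i j hij, Nat.cast_add, Nat.cast_one])]
      exact mul_mem ih h1
  have hbij : Function.Bijective (ZMod.castHom dvd_rfl F : ZMod p → F) :=
    (Fintype.bijective_iff_injective_and_card _).2 ⟨(ZMod.castHom dvd_rfl F).injective,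
      by rw [ZMod.card, hF]⟩
  obtain ⟨m, rfl⟩ := hbij.2 c
  rw [← ZMod.natCast_zmod_val m, map_natCast]
  exact hk _

theorem ru_goodConj_five_two (hF : Fintype.card F = 2) : RuGoodConj F 5 :=
  haveI : Fact (Nat.Prime 2) := ⟨Nat.prime_two⟩
  ru_goodConj_of_words (by norm_num) hF (by decide) ruWordsFiveTwo ru_words_FiveTwo

theorem ru_goodConj_four_three (hF : Fintype.card F = 3) : RuGoodConj F 4 :=
  haveI : Fact (Nat.Prime 3) := ⟨Nat.prime_three⟩
  ru_goodConj_of_words (by norm_num) hF (by decide) ruWordsFourThree ru_words_FourThree

end CfsgLib.Geom
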