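import Mathlib
import Cfsg.Agent.Lib.Geom.RegUnipSmall

/-!
Two regular unipotent generators of `SL_5(q)`, `q ≥ 3`; conjugate ones for `q` an odd prime.
-/

set_option autoImplicit false

namespace CfsgLib.Geom

open Matrix Polynomial

variable {F : Type*} [Field F] [Fintype F]

/-- The parameters for `n = 5`. -/
noncomputable def ruParamFive (h : F[X]) (hd : RuDatum 3 h) (ε γ ρ : F) : RuParam F 5 where
  h := h
  c := fun _ => ρ
  ε := ε
  γ := γ
  δ := ε - γ
  hn := by norm_num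
  hmon := hd.1
  hdeg := hd.2.2.1
  h0 := hd.2.2.2.1
  hδ := by norm_num

theorem ru_five_spec {h : F[X]} (hd : RuDatum 3 h) {ε γ ρ : F} (hε : ε ≠ 0) (hρ : ρ ≠ 0)
    (hu : -h.coeff 2 - 3 + ρ ≠ 0)
    (hγ : γ * h.eval 1 = ε * (ε * h.eval 1 + γ * ρ + (ε - γ)))
    (hne : ε * (ρ - h.eval 1) - γ * ρ ≠ 0) :
    let P := ruParamFive h hd ε γ ρ
    (((Fintype.card F).Prime ∨
      ((ε - γ) + (1 + ε) * h.eval 1 + (γ - ε ^ 2) * (3 + 2 * h.coeff 2 + h.coeff 1) - ε * γ * ρ ≠ 0 ∧
        ε * (ρ - h.eval 1) - γ * ρ + h.eval 1 * ρ ≠ 0)) →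
      ∃ u v : Matrix.SpecialLinearGroup (Fin 5) F, RuReg u ∧ RuReg v ∧
        Subgroup.closure ({u, v} : Set (Matrix.SpecialLinearGroup (Fin 5) F)) = ⊤ ∧
        (u : Matrix (Fin 5) (Fin 5) F) = RegPolys.lMat 5 ∧
        (v : Matrix (Fin 5) (Fin 5) F) = P.polys.uMat) ∧
    ∏ k ∈ Finset.range 5, P.polys.uEntry k ^ k =
      -ρ * (-h.coeff 2 - 3 + ρ) ^ 2 * ε ^ 7 := by
  intro P
  set β := h.eval 1 with hβdef
  have heq := ru_monic_eq_five hd.1 hd.2.2.1 (by simpa [pow_succ] using hd.2.2.2.1)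
  have hs2 : P.polys.sCoeff 2 = 2 - ρ := by
    rw [P.sCoeff_low le_rfl (by norm_num)]
    simp [P, ruParamFive]
  have hu1 : P.polys.uEntry 1 = -ρ := by
    rw [RegPolys.uEntry, hs2, P.sCoeff_one]
    ring
  have hu2 : P.polys.uEntry 2 = -h.coeff 2 - 3 + ρ := by
    rw [RegPolys.uEntry, hs2, show (2 : ℕ) + 1 = 5 - 2 from rfl, P.sCoeff_pred₂]
    simp [RuParam.hTrace, P, ruParamFive]
    ring
  have hu3 : P.polys.uEntry 3 = ε := P.uEntry_pred₂
  have hu4 : P.polys.uEntry 4 = -ε := P.uEntry_pred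
  refine ⟨fun hfull => ?_, ?_⟩
  · let z : Fin 5 → F := ![ε - γ, γ - ε, ε, 0, 1]
    have hz : RegPolys.lMat 5 *ᵥ z = P.xVec := by
      ext i
      fin_cases i <;>
        simp [z, RuParam.xVec, P, ruParamFive, RegPolys.lMat, mulVec, dotProduct,
          Fin.sum_univ_five, Pi.single_apply]
    have hπz : P.polys.evOne ⬝ᵥ z = ε * (ρ - β) - γ * ρ := by
      have e2 := P.evOne_pred₃ (2 : Fin 5) rfl
      have e4 := P.evOne_pred (4 : Fin 5) rfl
      simp only [z, dotProduct, Fin.sum_univ_five, P.evOne_zero 0 rfl, P.evOne_one 1 rfl, e2, e4]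
      simp [P, ruParamFive, ruBase, hβdef]
      ring
    refine P.generates hd ?_ z hz ?_ (by rw [hπz]; exact hne) ?_
    · intro k h1 h5
      interval_cases k
      · rw [hu1]; exact neg_ne_zero.2 hρ
      · rw [hu2]; exact hu
      · rw [hu3]; exact hε
      · rw [hu4]; exact neg_ne_zero.2 hε
    · simp [P, ruParamFive, ruBase, ← hβdef]
      linear_combination hγ
    · rcases hfull with hp | ⟨h1, h2⟩
      · exact .inl hp
      · refine .inr ⟨ρ, ?_, ?_, by rw [hπz]; exact h2⟩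
        · rw [P.poly_two le_rfl]; rfl
        · have hder : h.derivative.eval 1 = 3 + 2 * h.coeff 2 + h.coeff 1 := by
            conv_lhs => rw [heq]
            simp [derivative_pow]
            ring
          simp [P, ruParamFive, ruBase, ← hβdef, hder, derivative_pow]
          intro e
          apply h1
          linear_combination e
  · simp only [Finset.prod_range_succ, Finset.prod_range_zero, pow_zero, pow_one, one_mul, hu1, hu2,
      hu3, hu4]
    ring

theorem ru_eval_one_five {h : F[X]} (hd : RuDatum 3 h) :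
    h.eval 1 = h.coeff 2 + h.coeff 1 ∧ h.eval 1 ≠ 0 := by
  refine ⟨?_, hd.2.1.not_isRoot_of_natDegree_ne_one (by rw [hd.2.2.1]; norm_num)⟩
  conv_lhs => rw [ru_monic_eq_five hd.1 hd.2.2.1 (by simpa [pow_succ] using hd.2.2.2.1)]
  simp
  ring

/-- A datum of degree three whose linear coefficient is non-zero. -/
theorem ru_exists_datum_three : ∃ h : F[X], RuDatum 3 h ∧ h.coeff 1 ≠ 0 := by
  obtain ⟨K, _, _, _, hK⟩ := ru_exists_extension (F := F) (r := 3) (by omega)
  obtain ⟨θ, hθ⟩ := ru_exists_norm_one F K (by norm_num) hK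
  have h0 : θ ≠ 0 := fun e => by
    rw [e, orderOf_zero, Finset.sum_range_succ'] at hθ
    simp at hθ
  have hθ' : orderOf θ⁻¹ = ∑ i ∈ Finset.range 3, Fintype.card F ^ i := by
    rw [← hθ]
    have := orderOf_inv (Units.mk0 θ h0)
    rw [← orderOf_units, ← orderOf_units] at this
    simpa using this
  obtain ⟨hd, hg⟩ := ru_datum_of_orderOf (by norm_num) hK hθ
  obtain ⟨hd', hg'⟩ := ru_datum_of_orderOf (by norm_num) hK hθ'
  by_contra hcon
  push Not at hcon
  have e := hcon _ hd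
  have e' := hcon _ hd'
  set f := minpoly F θ with hf
  have heq := ru_monic_eq_five hd.1 hd.2.2.1 (by simpa [pow_succ] using hd.2.2.2.1)
  set a := f.coeff 2 with ha
  rw [e, map_zero, zero_mul, add_zero] at heq
  have hz : θ ^ 3 + algebraMap F K a * θ ^ 2 - 1 = 0 := by
    have := minpoly.aeval F θ
    rw [← hf, heq] at this
    simpa using this
  let g : F[X] := X ^ 3 - C a * X - 1
  have hgm : g.Monic := by unfold g; monicity!
  have hgd : g.natDegree = 3 := by unfold g; compute_degree!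
  have hgz : aeval θ⁻¹ g = 0 := by
    simp only [g, map_sub, map_mul, map_pow, aeval_X, aeval_C, map_one]
    field_simp
    linear_combination -hz
  have hg3 : g = minpoly F θ⁻¹ :=
    eq_of_monic_of_dvd_of_natDegree_le (minpoly.monic (IsIntegral.of_finite F _)) hgm
      (minpoly.dvd F _ hgz) (by rw [hgd, hd'.2.2.1])
  rw [← hg3] at e'
  have ha0 : a = 0 := by simpa [g, coeff_one, coeff_X_pow] using e'
  refine hd.2.1.not_isRoot_of_natDegree_ne_one (by rw [hd.2.2.1]; norm_num) (x := 1) ?_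
  rw [IsRoot.def, heq, ha0]
  simp

theorem ru_exists_avoid (Q : F[X]) (hQ : Q ≠ 0) (hdeg : Q.natDegree < Fintype.card F) :
    ∃ x : F, Q.eval x ≠ 0 := by
  by_contra hcon
  push Not at hcon
  exact hQ (Polynomial.eq_zero_of_natDegree_lt_card_of_eval_eq_zero' Q Finset.univ
    (fun x _ => hcon x) (by rwa [Finset.card_univ]))

theorem ru_good_five_large (h8 : 8 ≤ Fintype.card F) : RuGood F 5 := by
  obtain ⟨h, hd⟩ := ru_exists_datum (F := F) (r := 3) (by norm_num)
  obtain ⟨-, hβ⟩ := ru_eval_one_five hd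
  set β := h.eval 1 with hβdef
  set a := h.coeff 2
  set β' := 3 + 2 * a + h.coeff 1
  let A : F[X] := C (-a - 3) * X + C β * (1 - X)
  let B : F[X] := C β * (1 - X) - X ^ 2
  let D : F[X] := (1 + X) * C β + (X - X ^ 2) * C β' - X * (C β * (1 - X))
  have hA : A ≠ 0 := fun e => hβ (by simpa [A] using congrArg (eval (0 : F)) e)
  have hB : B ≠ 0 := fun e => hβ (by simpa [B] using congrArg (eval (0 : F)) e)
  have hD : D ≠ 0 := fun e => hβ (by simpa [D] using congrArg (eval (0 : F)) e)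
  have hdA : A.natDegree ≤ 1 := by unfold A; compute_degree
  have hdB : B.natDegree ≤ 2 := by unfold B; compute_degree
  have hdD : D.natDegree ≤ 2 := by unfold D; compute_degree
  obtain ⟨ε, hε⟩ := ru_exists_avoid (X * (X - C 1) * A * B * D)
    (by simp only [mul_ne_zero_iff]; exact ⟨⟨⟨⟨X_ne_zero, X_sub_C_ne_zero 1⟩, hA⟩, hB⟩, hD⟩) (by
      refine lt_of_le_of_lt (natDegree_mul_le.trans (Nat.add_le_add (natDegree_mul_le.trans
        (Nat.add_le_add (natDegree_mul_le.trans (Nat.add_le_add (natDegree_mul_le.trans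
          (Nat.add_le_add natDegree_X_le (natDegree_X_sub_C_le 1))) hdA)) hdB)) hdD)) ?_
      omega)
  simp only [eval_mul, eval_X, eval_sub, eval_C, mul_ne_zero_iff, A, B, D, eval_add, eval_pow,
    eval_one] at hε
  obtain ⟨⟨⟨⟨hε0, hε1⟩, hεA⟩, hεB⟩, hεD⟩ := hε
  set ρ := β * (1 - ε) / ε with hρ
  have hερ : ε * ρ = β * (1 - ε) := by rw [hρ]; field_simp
  obtain ⟨H, -⟩ := ru_five_spec hd (ε := ε) (γ := ε) (ρ := ρ) hε0
    (div_ne_zero (mul_ne_zero hβ (sub_ne_zero.2 (Ne.symm fun e => hε1 (sub_eq_zero.2 e)))) hε0)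
    (fun e => hεA (by linear_combination ε * e - hερ))
    (by rw [← hβdef]; linear_combination -ε * hερ)
    (by
      rw [← hβdef, show ε * (ρ - β) - ε * ρ = -(ε * β) by ring]
      exact neg_ne_zero.2 (mul_ne_zero hε0 hβ))
  obtain ⟨u, v, h1, h2, h3, -, -⟩ := H (.inr ⟨fun e => hεD (by
      rw [← hβdef] at e; linear_combination e + ε * hερ),
    fun e => hεB (by
      rw [← hβdef] at e
      have e' : β * (ρ - ε) = 0 := by linear_combination e
      have := (mul_eq_zero.1 e').resolve_left hβ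
      linear_combination ε * this - hερ)⟩)
  exact ⟨u, v, h1, h2, h3⟩

theorem ru_good_five_four (h4 : Fintype.card F = 4) : RuGood F 5 := by
  obtain ⟨h, hd⟩ := ru_exists_datum (F := F) (r := 3) (by norm_num)
  obtain ⟨hβe, hβ⟩ := ru_eval_one_five hd
  obtain ⟨hmon, hirr, hdeg, hev, K, _, _, θ, hcardK, hgen, hθ, hpow⟩ := id hd
  haveI hc2 : CharP F 2 := by
    obtain ⟨p, hp⟩ := CharP.exists F
    haveI : Fact p.Prime := ⟨CharP.char_is_prime F p⟩
    obtain ⟨m, hpp, hcard⟩ := FiniteField.card F p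
    rw [h4] at hcard
    have : p ∣ 2 ^ 2 := by rw [show (2 : ℕ) ^ 2 = p ^ (m : ℕ) from hcard]; exact dvd_pow_self p m.pos.ne'
    rwa [← (Nat.prime_dvd_prime_iff_eq hpp Nat.prime_two).1 (hpp.dvd_of_dvd_pow this)]
  haveI : CharP K 2 := charP_of_injective_algebraMap (algebraMap F K).injective 2
  have h2 : (2 : F) = 0 := CharTwo.two_eq_zero
  have heq := ru_monic_eq_five hmon hdeg (by simpa [pow_succ] using hev)
  set a := h.coeff 2 with ha
  set b := h.coeff 1 with hb
  have hpow4 : ∀ x : F, x ^ 4 = x := fun x => by rw [← h4]; exact FiniteField.pow_card x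
  have hroot : ∀ x : F, x ^ 3 + a * x ^ 2 + b * x + 1 ≠ 0 := fun x e => by
    refine hirr.not_isRoot_of_natDegree_ne_one (by rw [hdeg]; norm_num) (x := x) ?_
    rw [IsRoot.def, heq]
    simp
    linear_combination e - h2
  have hsub : ¬((a = 0 ∨ a = 1) ∧ (b = 0 ∨ b = 1)) := by
    rintro ⟨ha', hb'⟩
    have hlift : ∀ {x : F}, (x = 0 ∨ x = 1) →
        ∃ k : ZMod 2, algebraMap F K x = ZMod.castHom dvd_rfl K k := by
      rintro x (rfl | rfl)
      · exact ⟨0, by rw [map_zero, map_zero]⟩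
      · exact ⟨1, by rw [map_one, map_one]⟩
    obtain ⟨ka, hka⟩ := hlift ha'
    obtain ⟨kb, hkb⟩ := hlift hb'
    have hz : θ ^ 3 + ZMod.castHom dvd_rfl K ka * θ ^ 2 + ZMod.castHom dvd_rfl K kb * θ +
        ZMod.castHom dvd_rfl K (1 : ZMod 2) = 0 := by
      rw [← hka, ← hkb, map_one]
      have := hθ
      rw [heq] at this
      simp at this
      linear_combination this + (CharTwo.two_eq_zero : (2 : K) = 0)
    haveI : Fact (Nat.Prime 2) := ⟨Nat.prime_two⟩
    have := (ru_gen_card hgen 2 ka kb).2 1 hz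
    rw [hcardK, h4] at this
    norm_num at this
  -- `β` is outside the prime field and one of the two coefficients vanishes
  have hab : (a = 0 ∧ b ^ 2 = b + 1) ∨ (b = 0 ∧ a ^ 2 = a + 1) := by
    have hcl : ∀ x : F, x = 0 ∨ x = 1 ∨ x ^ 2 = x + 1 := fun x => by
      have : x * (x - 1) * (x ^ 2 - (x + 1)) = 0 := by
        linear_combination hpow4 x - h2 * (x ^ 3 - x)
      rcases mul_eq_zero.1 this with h' | h'
      · rcases mul_eq_zero.1 h' with h'' | h''
        · exact .inl h''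
        · exact .inr (.inl (sub_eq_zero.1 h''))
      · exact .inr (.inr (sub_eq_zero.1 h'))
    rcases hcl a with ha0 | ha1 | ha2 <;> rcases hcl b with hb0 | hb1 | hb2
    · exact absurd ⟨.inl ha0, .inl hb0⟩ hsub
    · exact absurd ⟨.inl ha0, .inr hb1⟩ hsub
    · exact .inl ⟨ha0, hb2⟩
    · exact absurd ⟨.inr ha1, .inl hb0⟩ hsub
    · exact absurd ⟨.inr ha1, .inr hb1⟩ hsub
    · exfalso; apply hroot b; rw [ha1]; linear_combination (b + 1) * hb2 + h2 * (b ^ 2 + b + 1)
    · exact .inr ⟨hb0, ha2⟩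
    · exfalso; apply hroot (a + 1); rw [hb1]; linear_combination 5 * ha2 + h2 * (a ^ 3 + 5 * a + 4)
    · exfalso
      have hor : (b - a) * (b - (a + 1)) = 0 := by
        linear_combination hb2 + ha2 + h2 * (1 - a * b + a)
      rcases mul_eq_zero.1 hor with h' | h'
      · exact hβ (by rw [hβe, sub_eq_zero.1 h']; linear_combination h2 * a)
      · apply hroot a
        rw [sub_eq_zero.1 h']
        linear_combination ha2 + h2 * (a ^ 3 + a + 1)
  obtain ⟨H, -⟩ := ru_five_spec hd (ε := 1) (γ := h.eval 1 + 1)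
    (ρ := h.eval 1) one_ne_zero hβ
    (by
      intro e
      rw [← ha, hβe] at e
      rcases hab with ⟨ha0, hb2⟩ | ⟨hb0, ha2⟩
      · rw [ha0] at e
        exact one_ne_zero (show (1 : F) = 0 by linear_combination hb2 - (b + 2) * e - 2 * h2)
      · rw [hb0] at e
        exact one_ne_zero (show (1 : F) = 0 by linear_combination -e - h2))
    (by ring)
    (by
      intro e
      have e' : (a + b) ^ 2 + (a + b) = 0 := by rw [← hβe]; linear_combination -e
      rcases hab with ⟨ha0, hb2⟩ | ⟨hb0, ha2⟩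
      · rw [ha0] at e'
        exact one_ne_zero (show (1 : F) = 0 by linear_combination e' - hb2 - h2 * b)
      · rw [hb0] at e'
        exact one_ne_zero (show (1 : F) = 0 by linear_combination e' - ha2 - h2 * a))
  obtain ⟨u, v, h1, h2', h3, -, -⟩ := H (.inr ⟨fun e => by
    rw [← ha, ← hb] at e
    have e' : h.eval 1 * (3 + a) = 0 := by linear_combination e + h.eval 1 * hβe
    have e3 := (mul_eq_zero.1 e').resolve_left hβ
    rcases hab with ⟨ha0, hb2⟩ | ⟨hb0, ha2⟩
    · exact one_ne_zero (show (1 : F) = 0 by linear_combination e3 - ha0 - h2)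
    · exact one_ne_zero (show (1 : F) = 0 by linear_combination ha2 - (a - 4) * e3 - 5 * h2),
    fun e => hβ (by linear_combination -e)⟩)
  exact ⟨u, v, h1, h2', h3⟩

theorem ru_exists_fifth {a : F} (ha : a ≠ 0) (hq : Fintype.card F = 3 ∨ Fintype.card F = 5) :
    ∃ lam : F, lam ^ 5 * a = 1 := by
  refine ⟨a⁻¹, ?_⟩
  have h5 : (a⁻¹) ^ 5 = a⁻¹ := by
    have := FiniteField.pow_card a⁻¹
    rcases hq with h | h <;> rw [h] at this
    · calc (a⁻¹) ^ 5 = (a⁻¹) ^ 3 * (a⁻¹) ^ 2 := by ring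
        _ = (a⁻¹) ^ 3 := by rw [this]; ring_nf; exact this
        _ = a⁻¹ := this
    · exact this
  rw [h5, inv_mul_cancel₀ ha]

/-- The scalar identity for the determinant of the twisted pair. -/
theorem ru_lam_identity {k w : F} (hk : k ≠ 0) (hw : w ^ 2 = 1) :
    (k ^ 4 * w) ^ 5 * (1 * (k * ((1 / k) ^ 3 * w) ^ 7)) = 1 := by
  calc (k ^ 4 * w) ^ 5 * (1 * (k * ((1 / k) ^ 3 * w) ^ 7))
      = (k * (1 / k)) ^ 21 * (w ^ 2) ^ 6 := by ring
    _ = 1 := by rw [hw, mul_one_div_cancel hk, one_pow, one_pow, one_mul]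

theorem ru_goodConj_five (hp : (Fintype.card F).Prime) (h2 : Fintype.card F ≠ 2) :
    RuGoodConj F 5 := by
  obtain ⟨h, hd, hb⟩ := ru_exists_datum_three (F := F)
  obtain ⟨hβe, hβ⟩ := ru_eval_one_five hd
  set β := h.eval 1 with hβdef
  set a := h.coeff 2 with ha
  haveI : Fact (Fintype.card F).Prime := ⟨hp⟩
  haveI : CharP F (Fintype.card F) :=
    CharP.charP_iff_prime_eq_zero hp |>.2 (FiniteField.cast_card_eq_zero F)
  have h2F : (2 : F) ≠ 0 := by
    intro e
    have := (CharP.cast_eq_zero_iff F (Fintype.card F) 2).1 (by exact_mod_cast e)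
    exact h2 ((Nat.prime_dvd_prime_iff_eq hp Nat.prime_two).1 this)
  by_cases hsmall : Fintype.card F = 3 ∨ Fintype.card F = 5
  · -- the one parameter family
    obtain ⟨ε, hε0, hε1, hεA⟩ : ∃ ε : F, ε ≠ 0 ∧ ε ≠ 1 ∧ (-a - 3) * ε + β * (1 - ε) ≠ 0 := by
      rcases hsmall with h3 | h5
      · have h30 : (3 : F) = 0 := by
          have := FiniteField.cast_card_eq_zero F
          rw [h3] at this
          exact_mod_cast this
        refine ⟨-1, neg_ne_zero.2 one_ne_zero, fun e => h2F (by linear_combination -e), fun e => hb ?_⟩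
        rw [hβe] at e
        linear_combination -e + (h.coeff 1 + a + 1) * h30
      · have h50 : (5 : F) = 0 := by
          have := FiniteField.cast_card_eq_zero F
          rw [h5] at this
          exact_mod_cast this
        by_cases hA : (-a - 3) * 2 + β * (1 - 2) = 0
        · refine ⟨3, fun e => ?_, fun e => h2F (by linear_combination e), fun e => hβ ?_⟩
          · have := (CharP.cast_eq_zero_iff F (Fintype.card F) 3).1 (by exact_mod_cast e)
            rw [h5] at this; norm_num at this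
          · linear_combination 3 * hA - 2 * e
        · exact ⟨2, h2F, fun e => one_ne_zero (by linear_combination e), hA⟩
    set ρ := β * (1 - ε) / ε with hρ
    have hερ : ε * ρ = β * (1 - ε) := by rw [hρ]; field_simp
    have hρ0 : ρ ≠ 0 := div_ne_zero (mul_ne_zero hβ (sub_ne_zero.2 hε1.symm)) hε0
    have hu : -a - 3 + ρ ≠ 0 := fun e => hεA (by linear_combination ε * e - hερ)
    obtain ⟨H, hP⟩ := ru_five_spec hd (ε := ε) (γ := ε) (ρ := ρ) hε0 hρ0 hu
      (by rw [← hβdef]; linear_combination -ε * hερ)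
      (by
        rw [← hβdef, show ε * (ρ - β) - ε * ρ = -(ε * β) by ring]
        exact neg_ne_zero.2 (mul_ne_zero hε0 hβ))
    obtain ⟨lam, hlam⟩ := ru_exists_fifth (a := -ρ * (-a - 3 + ρ) ^ 2 * ε ^ 7)
      (mul_ne_zero (mul_ne_zero (neg_ne_zero.2 hρ0) (pow_ne_zero _ hu)) (pow_ne_zero _ hε0)) hsmall
    refine ru_goodConj_of_pair _ (H (.inl hp)) (lam := lam) ?_
    rw [ru_sign_rev_five, hP, one_mul]
    exact hlam
  · -- `q ≥ 7`
    have h7 : 7 ≤ Fintype.card F := by
      push Not at hsmall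
      have := hp.two_le
      by_contra hlt
      interval_cases hq : Fintype.card F <;> first | omega | (norm_num at hp)
    let Q2 : F[X] := C 2 * X ^ 2 - C (1 + β) * X + C (2 * β)
    have hQ2 : Q2 ≠ 0 := fun e => mul_ne_zero h2F hβ (by simpa [Q2] using congrArg (eval (0 : F)) e)
    have hdQ2 : Q2.natDegree ≤ 2 := by unfold Q2; compute_degree
    obtain ⟨ρ, hρ⟩ := ru_exists_avoid (X * (X - C (a + 3)) * (X - C β) * Q2)
      (by simp only [mul_ne_zero_iff]; exact ⟨⟨⟨X_ne_zero, X_sub_C_ne_zero _⟩, X_sub_C_ne_zero _⟩, hQ2⟩) (by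
        refine lt_of_le_of_lt (natDegree_mul_le.trans (Nat.add_le_add (natDegree_mul_le.trans
          (Nat.add_le_add (natDegree_mul_le.trans (Nat.add_le_add natDegree_X_le
            (natDegree_X_sub_C_le _))) (natDegree_X_sub_C_le _))) hdQ2)) ?_
        omega)
    simp only [eval_mul, eval_X, eval_sub, eval_C, mul_ne_zero_iff, Q2, eval_add, eval_pow] at hρ
    obtain ⟨⟨⟨hρ0, hρu⟩, hρβ⟩, hρQ⟩ := hρ
    have hu : -a - 3 + ρ ≠ 0 := fun e => hρu (by linear_combination e)
    set K2 := -ρ * (-a - 3 + ρ) ^ 2 with hK2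
    have hK20 : K2 ≠ 0 := mul_ne_zero (neg_ne_zero.2 hρ0) (pow_ne_zero _ hu)
    set b₀ := (1 / K2) ^ 3 with hb₀
    have hb₀0 : b₀ ≠ 0 := pow_ne_zero _ (one_div_ne_zero hK20)
    obtain ⟨w, hw, hwd, hwn⟩ : ∃ w : F, w ^ 2 = 1 ∧ β + (1 - ρ) * (b₀ * w) ≠ 0 ∧
        (ρ - β) * β - (ρ ^ 2 + β) * (b₀ * w) ≠ 0 := by
      by_contra hcon
      push Not at hcon
      have e1 := hcon 1 (one_pow 2)
      have e2 := hcon (-1) (by ring)
      by_cases hd1 : β + (1 - ρ) * (b₀ * 1) = 0
      · by_cases hd2 : β + (1 - ρ) * (b₀ * -1) = 0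
        · exact mul_ne_zero h2F hβ (by linear_combination hd1 + hd2)
        · have := e2 hd2
          apply mul_ne_zero hρQ hb₀0
          linear_combination this - (ρ - β) * hd1
      · have h1 := e1 hd1
        by_cases hd2 : β + (1 - ρ) * (b₀ * -1) = 0
        · apply mul_ne_zero hρQ hb₀0
          linear_combination -h1 + (ρ - β) * hd2
        · have h2' := e2 hd2
          exact mul_ne_zero (mul_ne_zero h2F hρβ) hβ (by linear_combination h1 + h2')
    set ε := b₀ * w with hεdef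
    have hw0 : w ≠ 0 := fun e => by simp [e] at hw
    have hε0 : ε ≠ 0 := mul_ne_zero hb₀0 hw0
    set γ := ε ^ 2 * (β + 1) / (β + (1 - ρ) * ε) with hγdef
    have hγ : γ * (β + (1 - ρ) * ε) = ε ^ 2 * (β + 1) := div_mul_cancel₀ _ hwd
    obtain ⟨H, hP⟩ := ru_five_spec hd (ε := ε) (γ := γ) (ρ := ρ) hε0 hρ0 hu
      (by rw [← hβdef]; linear_combination hγ)
      (by
        rw [← hβdef]
        intro e
        refine mul_ne_zero hε0 hwn ?_
        linear_combination (β + (1 - ρ) * ε) * e + ρ * hγ)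
    refine ru_goodConj_of_pair _ (H (.inl hp)) (lam := K2 ^ 4 * w) ?_
    rw [ru_sign_rev_five, hP, ← ha, ← hK2, hεdef, hb₀]
    exact ru_lam_identity hK20 hw

end CfsgLib.Geom
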