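import Mathlib
import Cfsg.Agent.Lib.Geom.RegUnipSmall

/-!
Two regular unipotent generators of `SL_n(q)`, `n ≥ 6`.
-/

set_option autoImplicit false

namespace CfsgLib.Geom

open Matrix Polynomial

variable {F : Type*} [Field F] [Fintype F]

/-- The parameters for `n ≥ 6`, in terms of the superdiagonal of `U`. -/
noncomputable def ruParamLarge (n : ℕ) (hn : 6 ≤ n) (h : F[X]) (hd : RuDatum (n - 2) h)
    (u : ℕ → F) : RuParam F n where
  h := h
  c := fun k => -∑ i ∈ Finset.Ico 1 k, u i
  ε := 1
  γ := 1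
  δ := 0
  hn := by omega
  hmon := hd.1
  hdeg := hd.2.2.1
  h0 := hd.2.2.2.1
  hδ := by
    rw [show n - 2 = n - 3 + 1 by omega, pow_succ]
    ring

theorem ru_large_spec {n : ℕ} (hn : 6 ≤ n) {h : F[X]} (hd : RuDatum (n - 2) h) (u : ℕ → F)
    (hu : ∀ k, 1 ≤ k → k ≤ n - 3 → u k ≠ 0)
    (hsum : ∑ i ∈ Finset.Ico 1 (n - 2), u i = -h.coeff (n - 3) + 2 - n) :
    let P := ruParamLarge n hn h hd u
    (((Fintype.card F).Prime ∨
      (u 1 ≠ -1 ∧ u (n - 3) ≠ -h.coeff (n - 3) + 2 - n + 2 * h.eval 1)) →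
      ∃ a b : Matrix.SpecialLinearGroup (Fin n) F, RuReg a ∧ RuReg b ∧
        Subgroup.closure ({a, b} : Set (Matrix.SpecialLinearGroup (Fin n) F)) = ⊤ ∧
        (a : Matrix (Fin n) (Fin n) F) = RegPolys.lMat n ∧
        (b : Matrix (Fin n) (Fin n) F) = P.polys.uMat) ∧
    ∏ k ∈ Finset.range n, P.polys.uEntry k ^ k =
      (∏ k ∈ Finset.range (n - 2), u k ^ k) * (-1) ^ (n - 1) := by
  intro P
  set β := h.eval 1 with hβdef
  have hβ : β ≠ 0 := hd.2.1.not_isRoot_of_natDegree_ne_one (by rw [hd.2.2.1]; omega)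
  have hc : ∀ k, P.c k = -∑ i ∈ Finset.Ico 1 k, u i := fun k => rfl
  have hue : ∀ k, 1 ≤ k → k ≤ n - 3 → P.polys.uEntry k = u k := by
    intro k h1 h3
    rw [RegPolys.uEntry]
    rcases Nat.lt_or_ge k 2 with h' | h'
    · obtain rfl : k = 1 := by omega
      rw [P.sCoeff_one, P.sCoeff_low le_rfl (by omega), hc]
      simp
      ring
    · rw [P.sCoeff_low h' h3, hc]
      rcases Nat.lt_or_ge k (n - 3) with h'' | h''
      · rw [P.sCoeff_low (by omega) (by omega), hc, Finset.sum_Ico_succ_top (by omega)]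
        push_cast
        ring
      · obtain rfl : k = n - 3 := by omega
        rw [show n - 3 + 1 = n - 2 by omega, P.sCoeff_pred₂]
        rw [show n - 2 = n - 3 + 1 by omega, Finset.sum_Ico_succ_top (by omega)] at hsum
        show -h.coeff (n - 3) - _ - 1 = _
        rw [Nat.cast_sub (by omega : 3 ≤ n)]
        push_cast
        linear_combination -hsum
  refine ⟨fun hfull => ?_, ?_⟩
  · let z : Fin n → F := Pi.single ⟨n - 3, by omega⟩ 1 + Pi.single ⟨n - 1, by omega⟩ 1
    have hz : RegPolys.lMat n *ᵥ z = P.xVec := by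
      have h1 : ∀ (j : ℕ) (hj : j < n) (hj' : j + 1 < n), RegPolys.lMat n *ᵥ
          Pi.single (⟨j, hj⟩ : Fin n) (1 : F) =
          Pi.single ⟨j, hj⟩ 1 + Pi.single ⟨j + 1, hj'⟩ 1 := fun j hj hj' => by
        rw [RegPolys.lMat_mulVec_single, dif_pos hj']
      rw [mulVec_add, h1 (n - 3) (by omega) (by omega), RegPolys.lMat_mulVec_single,
        dif_neg (by simp only; omega)]
      simp only [show n - 3 + 1 = n - 2 by omega, RuParam.xVec, P, ruParamLarge, Pi.single_zero,
        zero_add, add_zero]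
    have hρ : (ruBase P.c (n - 3)).eval 1 = 0 ∧
        (ruBase P.c (n - 3)).derivative.eval 1 = P.c (n - 3) := ruBase_eval_one _ (by omega)
    have hπz : P.polys.evOne ⬝ᵥ z = -β := by
      rw [dotProduct_add, dotProduct_single, dotProduct_single, P.evOne_pred₃ _ rfl,
        P.evOne_pred _ rfl, hρ.1]
      simp [P, ruParamLarge, ← hβdef]
    refine P.generates hd ?_ z hz ?_ (by rw [hπz]; exact neg_ne_zero.2 hβ) ?_
    · intro k h1 hk
      rcases (show k ≤ n - 3 ∨ k = n - 2 ∨ k = n - 1 by omega) with h' | rfl | rfl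
      · rw [hue k h1 h']; exact hu k h1 h'
      · rw [P.uEntry_pred₂]; exact one_ne_zero
      · rw [P.uEntry_pred]; exact neg_ne_zero.2 one_ne_zero
    · rw [hρ.1]
      simp [P, ruParamLarge, ← hβdef]
    · rcases hfull with hp | ⟨h1, h3⟩
      · exact .inl hp
      · refine .inr ⟨P.c 2, P.poly_two (by omega), ?_, ?_⟩
        · rw [hρ.2, hc]
          simp only [P, ruParamLarge, ← hβdef]
          rw [show n - 2 = n - 3 + 1 by omega, Finset.sum_Ico_succ_top (by omega)] at hsum
          intro e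
          apply h3
          linear_combination hsum - e
        · rw [hπz, hc]
          simp
          intro e
          apply h1
          have e' : β * (u 1 + 1) = 0 := by
            show β * (u 1 + 1) = 0
            simp only [P, ruParamLarge, ← hβdef] at e
            linear_combination -e
          linear_combination (mul_eq_zero.1 e').resolve_left hβ
  · rw [show Finset.range n = Finset.range (n - 2 + 1 + 1) by congr 1; omega,
      Finset.prod_range_succ, Finset.prod_range_succ,
      show n - 2 + 1 = n - 1 by omega, P.uEntry_pred₂, P.uEntry_pred]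
    rw [show P.ε = 1 from rfl, one_pow, mul_one]
    congr 1
    refine Finset.prod_congr rfl fun k hk => ?_
    rcases Nat.eq_zero_or_pos k with rfl | hk0
    · simp
    · have := Finset.mem_range.1 hk
      rw [← hue k hk0 (by omega)]

theorem ru_exists_not_mem (s : Finset F) (hs : s.card < Fintype.card F) : ∃ x : F, x ∉ s := by
  by_contra hcon
  push Not at hcon
  have : s = Finset.univ := Finset.eq_univ_of_forall hcon
  rw [this, Finset.card_univ] at hs
  exact lt_irrefl _ hs

/-- Two non-zero summands of a given element. -/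
theorem ru_exists_two (hq : 3 ≤ Fintype.card F) (T : F) :
    ∃ a b : F, a ≠ 0 ∧ b ≠ 0 ∧ a + b = T := by
  classical
  obtain ⟨a, ha⟩ := ru_exists_not_mem ({0, T} : Finset F)
    (lt_of_le_of_lt (Finset.card_insert_le _ _) (by rw [Finset.card_singleton]; omega))
  simp only [Finset.mem_insert, Finset.mem_singleton, not_or] at ha
  exact ⟨a, T - a, ha.1, sub_ne_zero.2 (Ne.symm ha.2), by ring⟩

theorem ru_good_large {n : ℕ} (hn : 6 ≤ n) (hp : ¬(Fintype.card F).Prime) : RuGood F n := by
  classical
  have hq : 4 ≤ Fintype.card F := by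
    have h1 : 2 ≤ Fintype.card F := Fintype.one_lt_card
    by_contra hlt
    interval_cases hc : Fintype.card F <;> norm_num at hp
  obtain ⟨h, hd⟩ := ru_exists_datum (F := F) (r := n - 2) (by omega)
  obtain ⟨a, ha⟩ := ru_exists_not_mem ({0, -1} : Finset F)
    (lt_of_le_of_lt (Finset.card_insert_le _ _) (by rw [Finset.card_singleton]; omega))
  simp only [Finset.mem_insert, Finset.mem_singleton, not_or] at ha
  set S : F := -h.coeff (n - 3) + 2 - n with hS
  set T : F := S - a - ((n - 6 : ℕ) : F) with hT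
  obtain ⟨b, hb⟩ := ru_exists_not_mem ({0, T, S + 2 * h.eval 1} : Finset F)
    (lt_of_le_of_lt ((Finset.card_insert_le _ _).trans (Nat.add_le_add_right
      (Finset.card_insert_le _ _) 1)) (by rw [Finset.card_singleton]; omega))
  simp only [Finset.mem_insert, Finset.mem_singleton, not_or] at hb
  let u : ℕ → F := fun k => 1 + (if k = 1 then a - 1 else 0) + (if k = 2 then T - b - 1 else 0) +
    (if k = n - 3 then b - 1 else 0)
  have hu1 : u 1 = a := by
    simp only [u, if_pos, show (1 : ℕ) ≠ 2 by omega, show 1 ≠ n - 3 by omega, if_false]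
    ring
  have hu2 : u 2 = T - b := by
    simp only [u, show (2 : ℕ) ≠ 1 by omega, show 2 ≠ n - 3 by omega, if_false, if_pos]
    ring
  have hu3 : u (n - 3) = b := by
    simp only [u, show n - 3 ≠ 1 by omega, show n - 3 ≠ 2 by omega, if_false, if_pos]
    ring
  obtain ⟨H, -⟩ := ru_large_spec hn hd u (fun k hk1 hk3 => by
      rcases (show k = 1 ∨ k = 2 ∨ k = n - 3 ∨ (k ≠ 1 ∧ k ≠ 2 ∧ k ≠ n - 3) by omega) with
        rfl | rfl | rfl | ⟨e1, e2, e3⟩
      · rw [hu1]; exact ha.1
      · rw [hu2]; exact sub_ne_zero.2 (Ne.symm hb.2.1)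
      · rw [hu3]; exact hb.1
      · simp only [u, e1, e2, e3, if_false, add_zero]; exact one_ne_zero) (by
      simp only [u, Finset.sum_add_distrib, Finset.sum_ite_eq', Finset.mem_Ico, Finset.sum_const,
        Nat.card_Ico, nsmul_eq_mul, mul_one]
      rw [if_pos (by omega), if_pos (by omega), if_pos (by omega),
        show n - 2 - 1 = n - 6 + 3 by omega, hT, ← hS]
      push_cast
      ring)
  obtain ⟨x, y, h1, h2, h3, -, -⟩ := H (.inr ⟨by rw [hu1]; exact ha.2,
    by rw [hu3, ← hS]; exact hb.2.2⟩)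
  exact ⟨x, y, h1, h2, h3⟩

theorem ru_goodConj_large {n : ℕ} (hn : 6 ≤ n) (hp : (Fintype.card F).Prime) : RuGoodConj F n := by
  classical
  set sgn : F := ((Equiv.Perm.sign (Fin.revPerm : Equiv.Perm (Fin n)) : ℤ) : F) with hsgn
  have hsgn0 : sgn ≠ 0 := by
    rcases Int.units_eq_one_or (Equiv.Perm.sign (Fin.revPerm : Equiv.Perm (Fin n))) with e | e <;>
      simp [hsgn, e]
  by_cases h2 : Fintype.card F = 2
  · obtain ⟨h, hd, htr⟩ := ru_exists_datum_two (F := F) h2 (r := n - 2) (by omega)
    have h20 : (2 : F) = 0 := by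
      have := FiniteField.cast_card_eq_zero F
      rw [h2] at this
      exact_mod_cast this
    obtain ⟨H, hP⟩ := ru_large_spec hn hd (fun _ => 1) (fun _ _ _ => one_ne_zero) (by
      rw [show n - 2 - 1 = n - 3 by omega] at htr
      rw [Finset.sum_const, Nat.card_Ico, show n - 2 - 1 = n - 3 by omega, nsmul_eq_mul, mul_one,
        htr, Nat.cast_sub (by omega : 3 ≤ n)]
      push_cast
      linear_combination ((n : F) - 3) * h20)
    refine ru_goodConj_of_pair _ (H (.inl hp)) (lam := 1) ?_
    have hne : sgn * ∏ k ∈ Finset.range n, (ruParamLarge n hn h hd fun _ => (1 : F)).polys.uEntry k ^ k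
        ≠ 0 := by
      rw [hP]
      exact mul_ne_zero hsgn0 (mul_ne_zero (by simp) (pow_ne_zero _ (neg_ne_zero.2 one_ne_zero)))
    have h1 : ∀ x : F, x ≠ 0 → x = 1 := fun x hx => by
      have := FiniteField.pow_card_sub_one_eq_one x hx
      rw [h2] at this
      simpa using this
    rw [one_pow, one_mul]
    exact h1 _ hne
  · have hq : 3 ≤ Fintype.card F := by have := hp.two_le; omega
    by_cases h5 : 5 ∣ n
    · -- pairs `(1,3)` and `(2,5)`
      have hn10 : 10 ≤ n := by obtain ⟨m, rfl⟩ := h5; omega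
      obtain ⟨h, hd⟩ := ru_exists_datum (F := F) (r := n - 2) (by omega)
      set S : F := -h.coeff (n - 3) + 2 - n with hS
      obtain ⟨a, a', ha, ha', haa⟩ := ru_exists_two hq (S - ((n - 9 : ℕ) : F))
      set C := sgn * (a ^ 4 * a' ^ 6) * (-1) ^ (n - 1) with hC
      have hC0 : C ≠ 0 :=
        mul_ne_zero (mul_ne_zero hsgn0 (mul_ne_zero (pow_ne_zero _ ha) (pow_ne_zero _ ha')))
          (pow_ne_zero _ (neg_ne_zero.2 one_ne_zero))
      set b := (C⁻¹) ^ 2 with hb
      set c := C with hc
      have hb0 : b ≠ 0 := pow_ne_zero _ (inv_ne_zero hC0)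
      let u : ℕ → F := fun k => 1 + (if k = 1 then b - 1 else 0) + (if k = 3 then -b - 1 else 0) +
        (if k = 2 then c - 1 else 0) + (if k = 5 then -c - 1 else 0) +
        (if k = 4 then a - 1 else 0) + (if k = 6 then a' - 1 else 0)
      obtain ⟨H, hP⟩ := ru_large_spec hn hd u (fun k hk1 hk3 => by
          rcases (show k = 1 ∨ k = 2 ∨ k = 3 ∨ k = 4 ∨ k = 5 ∨ k = 6 ∨ 7 ≤ k by omega) with
            rfl | rfl | rfl | rfl | rfl | rfl | hk
          · simpa [u] using hb0
          · simpa [u] using hC0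
          · simpa [u] using hb0
          · simpa [u] using ha
          · simpa [u] using hC0
          · simpa [u] using ha'
          · simp [u, show k ≠ 1 by omega, show k ≠ 2 by omega, show k ≠ 3 by omega,
              show k ≠ 4 by omega, show k ≠ 5 by omega, show k ≠ 6 by omega]) (by
          simp only [u, Finset.sum_add_distrib, Finset.sum_ite_eq', Finset.mem_Ico, Finset.sum_const,
            Nat.card_Ico, nsmul_eq_mul, mul_one]
          rw [if_pos (by omega), if_pos (by omega), if_pos (by omega), if_pos (by omega),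
            if_pos (by omega), if_pos (by omega), show n - 2 - 1 = n - 9 + 6 by omega, ← hS]
          push_cast
          linear_combination haa)
      refine ru_goodConj_of_pair _ (H (.inl hp)) (lam := 1) ?_
      have hprod : ∏ k ∈ Finset.range (n - 2), u k ^ k = b * (-b) ^ 3 * (c ^ 2 * (-c) ^ 5) *
          (a ^ 4 * a' ^ 6) := by
        have hpt : ∀ k, u k ^ k = (if k = 1 then b else 1) * (if k = 3 then (-b) ^ 3 else 1) *
            ((if k = 2 then c ^ 2 else 1) * (if k = 5 then (-c) ^ 5 else 1)) *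
            ((if k = 4 then a ^ 4 else 1) * (if k = 6 then a' ^ 6 else 1)) := by
          intro k
          rcases (show k = 1 ∨ k = 2 ∨ k = 3 ∨ k = 4 ∨ k = 5 ∨ k = 6 ∨
            (k ≠ 1 ∧ k ≠ 2 ∧ k ≠ 3 ∧ k ≠ 4 ∧ k ≠ 5 ∧ k ≠ 6) by omega) with
            rfl | rfl | rfl | rfl | rfl | rfl | ⟨e1, e2, e3, e4, e5, e6⟩
          all_goals simp_all [u]
        simp only [hpt, Finset.prod_mul_distrib, Finset.prod_ite_eq', Finset.mem_range]
        rw [if_pos (by omega), if_pos (by omega), if_pos (by omega), if_pos (by omega),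
          if_pos (by omega), if_pos (by omega)]
      rw [← hsgn, hP, hprod, one_pow, one_mul]
      have hkey : b ^ 4 * c ^ 7 = C⁻¹ := by rw [hb, hc]; field_simp
      calc sgn * (b * (-b) ^ 3 * (c ^ 2 * (-c) ^ 5) * (a ^ 4 * a' ^ 6) * (-1) ^ (n - 1))
          = (b ^ 4 * c ^ 7) * (sgn * (a ^ 4 * a' ^ 6) * (-1) ^ (n - 1)) := by ring
        _ = C⁻¹ * C := by rw [hkey, ← hC]
        _ = 1 := inv_mul_cancel₀ hC0
    · -- the pair `(2,3)`
      obtain ⟨i, j, hij⟩ : ∃ i j : ℤ, 5 * i + (n : ℤ) * j = 1 := by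
        have hcop : Nat.gcd 5 n = 1 := (Nat.prime_five.coprime_iff_not_dvd).2 h5
        exact ⟨Nat.gcdA 5 n, Nat.gcdB 5 n, by
          have := Nat.gcd_eq_gcd_ab 5 n
          rw [hcop] at this
          push_cast at this
          linarith⟩
      obtain ⟨h, hd, hsix⟩ : ∃ h : F[X], RuDatum (n - 2) h ∧ (n = 6 → -h.coeff (n - 3) ≠ 4) := by
        by_cases h6 : n = 6
        · subst h6
          obtain ⟨h, hd, hne⟩ := ru_exists_datum_four (F := F) 4
          exact ⟨h, hd, fun _ => hne⟩
        · obtain ⟨h, hd⟩ := ru_exists_datum (F := F) (r := n - 2) (by omega)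
          exact ⟨h, hd, fun e => absurd e h6⟩
      set S : F := -h.coeff (n - 3) + 2 - n with hS
      obtain ⟨a, a', ha, ha', haa, ha6⟩ : ∃ a a' : F, a ≠ 0 ∧ a' ≠ 0 ∧
          (6 < n → a + a' = S - ((n - 7 : ℕ) : F)) ∧ (n = 6 → a = S) := by
        by_cases h6 : n = 6
        · refine ⟨S, 1, fun e => hsix h6 ?_, one_ne_zero, fun e => absurd e (by omega), fun _ => rfl⟩
          rw [hS, h6] at e
          rw [h6]
          push_cast at e
          linear_combination e
        · obtain ⟨a, a', ha, ha', h⟩ := ru_exists_two hq (S - ((n - 7 : ℕ) : F))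
          exact ⟨a, a', ha, ha', fun _ => h, fun e => absurd e h6⟩
      set a4 : F := if 6 < n then a' ^ 4 else 1 with ha4
      set C := sgn * (-(a * a4)) * (-1) ^ (n - 1) with hC
      have ha40 : a4 ≠ 0 := by
        rw [ha4]; split_ifs
        · exact pow_ne_zero _ ha'
        · exact one_ne_zero
      have hC0 : C ≠ 0 :=
        mul_ne_zero (mul_ne_zero hsgn0 (neg_ne_zero.2 (mul_ne_zero ha ha40)))
          (pow_ne_zero _ (neg_ne_zero.2 one_ne_zero))
      set b := (C⁻¹) ^ i with hb
      have hb0 : b ≠ 0 := zpow_ne_zero _ (inv_ne_zero hC0)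
      let u : ℕ → F := fun k => 1 + (if k = 1 then a - 1 else 0) + (if k = 2 then b - 1 else 0) +
        (if k = 3 then -b - 1 else 0) + (if k = 4 then a' - 1 else 0)
      obtain ⟨H, hP⟩ := ru_large_spec hn hd u (fun k hk1 hk3 => by
          rcases (show k = 1 ∨ k = 2 ∨ k = 3 ∨ k = 4 ∨ 5 ≤ k by omega) with
            rfl | rfl | rfl | rfl | hk
          · simpa [u] using ha
          · simpa [u] using hb0
          · simpa [u] using hb0
          · simpa [u] using ha'
          · simp [u, show k ≠ 1 by omega, show k ≠ 2 by omega, show k ≠ 3 by omega,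
              show k ≠ 4 by omega]) (by
          simp only [u, Finset.sum_add_distrib, Finset.sum_ite_eq', Finset.mem_Ico, Finset.sum_const,
            Nat.card_Ico, nsmul_eq_mul, mul_one]
          rcases (show n = 6 ∨ 6 < n by omega) with h6 | h6
          · rw [if_pos (by omega), if_pos (by omega), if_pos (by omega), if_neg (by omega),
              show n - 2 - 1 = 3 by omega, ← hS, ha6 h6]
            push_cast
            ring
          · rw [if_pos (by omega), if_pos (by omega), if_pos (by omega), if_pos (by omega),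
              show n - 2 - 1 = n - 7 + 4 by omega, ← hS]
            push_cast
            linear_combination haa h6)
      refine ru_goodConj_of_pair _ (H (.inl hp)) (lam := (C⁻¹) ^ j) ?_
      have hprod : ∏ k ∈ Finset.range (n - 2), u k ^ k = a * (b ^ 2 * (-b) ^ 3) * a4 := by
        have hpt : ∀ k, u k ^ k = (if k = 1 then a else 1) * ((if k = 2 then b ^ 2 else 1) *
            (if k = 3 then (-b) ^ 3 else 1)) * (if k = 4 then a' ^ 4 else 1) := by
          intro k
          rcases (show k = 1 ∨ k = 2 ∨ k = 3 ∨ k = 4 ∨ (k ≠ 1 ∧ k ≠ 2 ∧ k ≠ 3 ∧ k ≠ 4) by omega)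
            with rfl | rfl | rfl | rfl | ⟨e1, e2, e3, e4⟩
          all_goals simp_all [u]
        simp only [hpt, Finset.prod_mul_distrib, Finset.prod_ite_eq', Finset.mem_range]
        rw [if_pos (by omega), if_pos (by omega), if_pos (by omega), ha4]
        by_cases h6 : 6 < n
        · rw [if_pos (by omega), if_pos h6]
        · rw [if_neg (by omega), if_neg h6]
      rw [← hsgn, hP, hprod]
      have hK : ((C⁻¹) ^ j) ^ n * b ^ 5 = C⁻¹ := by
        rw [hb, ← zpow_natCast ((C⁻¹) ^ j) n, ← zpow_natCast ((C⁻¹) ^ i) 5, ← _root_.zpow_mul, ← _root_.zpow_mul,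
          ← zpow_add₀ (inv_ne_zero hC0)]
        conv_rhs => rw [← zpow_one (C⁻¹)]
        congr 1
        push_cast
        linear_combination hij
      calc ((C⁻¹) ^ j) ^ n * (sgn * (a * (b ^ 2 * (-b) ^ 3) * a4 * (-1) ^ (n - 1)))
          = (((C⁻¹) ^ j) ^ n * b ^ 5) * (sgn * (-(a * a4)) * (-1) ^ (n - 1)) := by ring
        _ = C⁻¹ * C := by rw [hK, ← hC]
        _ = 1 := inv_mul_cancel₀ hC0

end CfsgLib.Geom
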