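import Mathlib
import Cfsg.Agent.Lib.Geom.Solubilizer
import Cfsg.Agent.Lib.Geom.InvolGraph
import Cfsg.Agent.Lib.Geom.RedundantPSL
import Cfsg.Agent.Lib.Invol.TwoGroups
import Cfsg.Agent.Lib.Transfer.Q8SL
import Cfsg.Agent.Lib.Classical.SLTwoSylow

set_option autoImplicit false

/-!
`p`-elements of `SL_2(q)` acting on `p'`-subgroups, `p` the odd characteristic.
-/

namespace CfsgLib.Geom.Moebius

open Matrix
open scoped MatrixGroups
open SL2Anti (pr)

variable {F : Type*} [Field F] [Fintype F]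

local notation "PSL2" => ProjectiveSpecialLinearGroup (Fin 2) F
local notation "ψ" => Matrix.ProjectiveSpecialLinearGroup.toPGL (n := Fin 2) (R := F)

theorem altFour_comm_cube : ∀ g h : alternatingGroup (Fin 4), g ^ 3 = 1 → g = 1 ∨ g * h ≠ h * g ∨ h ^ 3 = 1 := by
  decide +kernel

/-- The centraliser of a nontrivial `p`-element is a `p`-group. -/
theorem centralizer_pElement {p : ℕ} [hp : Fact p.Prime] [CharP F p] (hp2 : p ≠ 2) {x : PSL2} (hx : x ≠ 1)
    {k : ℕ} (hk : orderOf x = p ^ k) : IsPGroup p (Subgroup.centralizer ({x} : Set PSL2)) := by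
  obtain ⟨E, _, _, f, hE, hQC⟩ := exists_quadExt F
  obtain ⟨n, hprime, hn⟩ := FiniteField.card F p
  have hk0 : k ≠ 0 := fun e => hx (by rw [e, pow_zero] at hk; exact orderOf_eq_one_iff.1 hk)
  by_cases h4 : 4 ≤ Fintype.card F
  swap
  · have hp3 : 3 ≤ p := by have := hp.out.two_le; omega
    have := Nat.le_self_pow n.pos.ne' p
    obtain rfl : p = 3 := by omega
    obtain ⟨e⟩ := psl_three_equiv (F := F) (by omega)
    have hx3 : (e x) ^ 3 = 1 := by
      rcases CfsgLib.Classical.altFour_facts.1 (e x) with h | h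
      · rw [← map_pow, MulEquiv.map_eq_one_iff] at h
        exact absurd (orderOf_eq_one_iff.1 (Nat.eq_one_of_dvd_coprimes (show Nat.Coprime (3 ^ k) 2 from
          Nat.Coprime.pow_left k (by norm_num)) hk.dvd (orderOf_dvd_of_pow_eq_one h))) hx
      · exact h
    intro z
    refine ⟨1, Subtype.ext (e.injective ?_)⟩
    rw [pow_one, SubmonoidClass.coe_pow, map_pow, Subgroup.coe_one, map_one]
    rcases altFour_comm_cube (e x) (e z) hx3 with h | h | h
    · exact absurd ((MulEquiv.map_eq_one_iff e).1 h) hx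
    · exact absurd (by rw [← map_mul, ← map_mul, Subgroup.mem_centralizer_singleton_iff.1 z.2]) h
    · exact h
  rcases card_centralizer_cases f hE hQC h4 x hx with h | ⟨j, hj, hd, -, -⟩
  · exact IsPGroup.of_card (n := (n : ℕ)) (h.trans hn)
  · exfalso
    have h1 : p ∣ Nat.gcd 2 (Fintype.card F - 1) * j :=
      dvd_mul_of_dvd_right ((dvd_pow_self p hk0).trans (hk ▸ hd)) _
    have h2 : p ∣ Fintype.card F := hn ▸ dvd_pow_self p n.pos.ne'
    rcases hj with e | e <;> rw [e] at h1
    · have := Nat.dvd_sub h2 h1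
      rw [show Fintype.card F - (Fintype.card F - 1) = 1 by omega] at this
      exact hp.out.one_lt.ne' (Nat.dvd_one.1 this)
    · have := Nat.dvd_sub h1 h2
      rw [show Fintype.card F + 1 - Fintype.card F = 1 by omega] at this
      exact hp.out.one_lt.ne' (Nat.dvd_one.1 this)

/-- A nontrivial `p`-element acting faithfully on a nontrivial `p'`-group forces `p = 3` and order twelve. -/
theorem image_is_tetrahedral {p : ℕ} [hp : Fact p.Prime] [CharP F p] (hp2 : p ≠ 2)
    (S : Subgroup PSL2) (hS : (Nat.card S).Coprime p) (x : PSL2) (hxS : x ∈ Subgroup.normalizer (S : Set PSL2))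
    {k : ℕ} (hk : orderOf x = p ^ k) (hnc : ∃ s ∈ S, x * s ≠ s * x) :
    p = 3 ∧ k = 1 ∧ Nat.card S = 4 ∧ ∀ s ∈ S, s * s = 1 := by
  obtain ⟨s0, hs0, hs0x⟩ := hnc
  have hx1 : x ≠ 1 := fun e => hs0x (by rw [e, one_mul, mul_one])
  have hk0 : k ≠ 0 := fun e => hx1 (by rw [e, pow_zero] at hk; exact orderOf_eq_one_iff.1 hk)
  set A := Subgroup.zpowers x with hA
  have hAc : Nat.card A = p ^ k := by rw [Nat.card_zpowers, hk]
  have hAS : A ≤ Subgroup.normalizer (S : Set PSL2) := Subgroup.zpowers_le.2 hxS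
  set H := S ⊔ A
  have hSH : S ≤ H := le_sup_left
  have hxH : x ∈ H := (le_sup_right : A ≤ H) (Subgroup.mem_zpowers x)
  have hdisj : ∀ z ∈ S, z ∈ A → z = 1 := fun z h1 h2 => orderOf_eq_one_iff.1 (Nat.eq_one_of_dvd_coprimes
    (hS.pow_right k) (Subgroup.orderOf_dvd_natCard S h1) (hAc ▸ Subgroup.orderOf_dvd_natCard A h2))
  have hHn : H ≤ Subgroup.normalizer (S : Set PSL2) := sup_le Subgroup.le_normalizer hAS
  have hcard : Nat.card H = Nat.card S * p ^ k := by
    rw [← hAc, ← Nat.card_prod]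
    refine (Nat.card_eq_of_bijective (fun q : S × A => (⟨q.1.1 * q.2.1, Subgroup.mul_mem_sup q.1.2 q.2.2⟩ : H))
      ⟨?_, ?_⟩).symm
    · rintro ⟨⟨a, ha⟩, ⟨b, hb⟩⟩ ⟨⟨c, hc⟩, ⟨d, hd⟩⟩ e
      have e' : a * b = c * d := congrArg Subtype.val e
      have h1 : c⁻¹ * a = d * b⁻¹ := by
        calc c⁻¹ * a = c⁻¹ * (a * b) * b⁻¹ := by group
          _ = d * b⁻¹ := by rw [e']; group
      have h2 := hdisj _ (mul_mem (inv_mem hc) ha) (h1 ▸ mul_mem hd (inv_mem hb))
      obtain rfl : c = a := inv_mul_eq_one.1 h2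
      obtain rfl : b = d := mul_left_cancel e'
      rfl
    · rintro ⟨z, hz⟩
      rw [← SetLike.mem_coe, Subgroup.coe_mul_of_right_le_normalizer_left _ _ hAS] at hz
      obtain ⟨a, ha, b, hb, rfl⟩ := hz
      exact ⟨(⟨a, ha⟩, ⟨b, hb⟩), rfl⟩
  have hC := centralizer_pElement hp2 hx1 hk
  have hfree : ∀ z ∈ S, z * x = x * z → z = 1 := by
    intro z hz hzx
    obtain ⟨j, hj⟩ := IsPGroup.iff_orderOf.1 hC ⟨z, Subgroup.mem_centralizer_singleton_iff.2 hzx⟩
    rw [Subgroup.orderOf_mk] at hj
    exact orderOf_eq_one_iff.1 (Nat.eq_one_of_dvd_coprimes (hS.pow_right j)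
      (Subgroup.orderOf_dvd_natCard S hz) (hj ▸ dvd_rfl))
  have hS1 : S ≠ ⊥ := fun e => hs0x (by
    have h : s0 ∈ (⊥ : Subgroup PSL2) := e ▸ hs0
    rw [Subgroup.mem_bot.1 h, one_mul, mul_one])
  have hmod : Nat.card S % p = 1 := by
    let φ : A →* MulAut S := S.normalizerMonoidHom.comp (Subgroup.inclusion hAS)
    let _ : MulAction A S := MulAction.compHom S φ
    have hAp : IsPGroup p A := IsPGroup.of_card (n := k) hAc
    have h := hAp.card_modEq_card_fixedPoints S
    have h1 : Nat.card (MulAction.fixedPoints A S) = 1 := by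
      rw [Nat.card_coe_set_eq, Set.ncard_eq_one]
      refine ⟨1, Set.eq_singleton_iff_unique_mem.2 ⟨fun a => map_one (φ a), fun z hz => ?_⟩⟩
      have e := congrArg Subtype.val (hz ⟨x, Subgroup.mem_zpowers x⟩)
      exact Subtype.ext (hfree z.1 z.2 (mul_inv_eq_iff_eq_mul.1 (show x * z.1 * x⁻¹ = z.1 from e)).symm)
    rw [h1] at h
    have h' : Nat.card S % p = 1 % p := h
    rwa [Nat.mod_eq_of_lt hp.out.one_lt] at h'
  have h2 : (2 : F) ≠ 0 := fun e => hp2 ((Nat.prime_dvd_prime_iff_eq hp.out Nat.prime_two).1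
    ((CharP.cast_eq_zero_iff F p 2).1 (by exact_mod_cast e)))
  have hpH : p ∣ Nat.card H := hcard ▸ dvd_mul_of_dvd_right (dvd_pow_self p hk0) _
  have hn' : (S.subgroupOf H).Normal := (Subgroup.normal_subgroupOf_iff_le_normalizer hSH).2 hHn
  have hScard : Nat.card (S.subgroupOf H) = Nat.card S := Nat.card_congr (Subgroup.subgroupOfEquivOfLe hSH).toEquiv
  have small : Nat.card S ≠ 1 := fun e => hS1 (Subgroup.card_eq_one.1 e)
  have big : Nat.card S ≠ Nat.card H := fun e => by
    rw [hcard] at e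
    have : 0 < Nat.card S := Nat.card_pos
    have h1 : 1 < p ^ k := Nat.one_lt_pow hk0 hp.out.one_lt
    nlinarith
  have simp_case : ∀ (L : Type _) [Group L], (H →* L) → ∀ (N : Subgroup H), N.Normal → IsSimpleGroup N →
      ¬ S.subgroupOf H ⊓ N = ⊥ → N ≤ S.subgroupOf H := by
    intro L _ _ N hN hsim hne
    have hn2 : ((S.subgroupOf H).subgroupOf N).Normal := inferInstance
    rcases hn2.eq_bot_or_eq_top with e | e
    · exact absurd (by rwa [Subgroup.subgroupOf_eq_bot, disjoint_iff] at e) hne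
    · exact Subgroup.subgroupOf_eq_top.1 e
  have htd : ∀ m, TorusDvd F m → ¬ p ∣ 2 * m := by
    intro m hm hd
    rcases (Nat.Prime.dvd_mul hp.out).1 hd with e | e
    · exact hp2 ((Nat.prime_dvd_prime_iff_eq hp.out Nat.prime_two).1 e)
    have hq : p ∣ Fintype.card F := by
      obtain ⟨n, -, hn⟩ := FiniteField.card F p
      exact hn ▸ dvd_pow_self p n.pos.ne'
    have hF1 := Fintype.one_lt_card (α := F)
    have hg1 := Nat.gcd_dvd_right 2 (Fintype.card F - 1)
    rcases hm with h | h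
    · have hg2 : Nat.gcd 2 (Fintype.card F - 1) ∣ Fintype.card F + 1 := by
        rw [show Fintype.card F + 1 = (Fintype.card F - 1) + 2 by omega]
        exact dvd_add hg1 (Nat.gcd_dvd_left _ _)
      have := Nat.dvd_sub ((e.trans h).trans (Nat.div_dvd_of_dvd hg2)) hq
      rw [show Fintype.card F + 1 - Fintype.card F = 1 by omega] at this
      exact hp.out.one_lt.ne' (Nat.dvd_one.1 this)
    · have := Nat.dvd_sub hq ((e.trans h).trans (Nat.div_dvd_of_dvd hg1))
      rw [show Fintype.card F - (Fintype.card F - 1) = 1 by omega] at this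
      exact hp.out.one_lt.ne' (Nat.dvd_one.1 this)
  have tetra : (H ≃* alternatingGroup (Fin 4)) → p = 3 ∧ k = 1 ∧ Nat.card S = 4 ∧ ∀ s ∈ S, s * s = 1 := by
    intro e
    have h12 : Nat.card H = 12 := (Nat.card_congr e.toEquiv).trans finset_card_altFour
    rw [h12] at hpH hcard
    have hp3 : p = 3 := by
      rcases (Nat.Prime.dvd_mul hp.out).1 (show p ∣ 4 * 3 from hpH) with h | h
      · exact absurd ((Nat.prime_dvd_prime_iff_eq hp.out Nat.prime_two).1 (hp.out.dvd_of_dvd_pow (show p ∣ 2 ^ 2 from h))) hp2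
      · exact (Nat.prime_dvd_prime_iff_eq hp.out Nat.prime_three).1 h
    subst hp3
    have hk1 : k = 1 := by
      by_contra hk1
      have h9 : 9 ∣ 3 ^ k := (show 3 ^ 2 ∣ 3 ^ k from pow_dvd_pow 3 (by omega))
      have := h9.trans (Dvd.intro_left _ hcard.symm)
      omega
    subst hk1
    rw [pow_one] at hcard
    have hS4 : Nat.card S = 4 := by omega
    refine ⟨rfl, rfl, hS4, fun s hs => ?_⟩
    have ho := Subgroup.orderOf_dvd_natCard S hs
    rw [hS4] at ho
    rcases CfsgLib.Classical.altFour_facts.1 (e ⟨s, hSH hs⟩) with h | h <;>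
      rw [← map_pow, MulEquiv.map_eq_one_iff, Subtype.ext_iff] at h
    · rw [← sq]; exact h
    · have h1 : orderOf s ∣ 3 := orderOf_dvd_of_pow_eq_one h
      rw [orderOf_eq_one_iff.1 (Nat.eq_one_of_dvd_coprimes (by norm_num) ho h1), one_mul]
  have card24 : Nat.card H = 24 → False := by
    intro h24
    rw [h24] at hpH hcard
    have hp3 : p = 3 := by
      rcases (Nat.Prime.dvd_mul hp.out).1 (show p ∣ 8 * 3 from hpH) with h | h
      · exact absurd ((Nat.prime_dvd_prime_iff_eq hp.out Nat.prime_two).1 (hp.out.dvd_of_dvd_pow (show p ∣ 2 ^ 3 from h))) hp2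
      · exact (Nat.prime_dvd_prime_iff_eq hp.out Nat.prime_three).1 h
    subst hp3
    have hk1 : k = 1 := by
      by_contra hk1
      have h9 : 9 ∣ 3 ^ k := (show 3 ^ 2 ∣ 3 ^ k from pow_dvd_pow 3 (by omega))
      have := h9.trans (Dvd.intro_left _ hcard.symm)
      omega
    subst hk1
    omega
  rcases dickson H with ⟨m, hm, hc, -⟩ | ⟨P, hP⟩ | ⟨m, hm, hd, -, hcard'⟩ | ⟨ha, -⟩ | ⟨-, hc'⟩ | ⟨hi, hc'⟩ |
    ⟨K, u, hu, hK, hi, hc'⟩ | ⟨K, u, hu, hK, hi, hc'⟩
  · exact absurd (congrArg Subtype.val (hc.commGroup.mul_comm (⟨x, hxH⟩ : H) ⟨s0, hSH hs0⟩)) hs0x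
  · -- Borel: commutators are translations
    exfalso
    obtain ⟨m, rfl⟩ := exists_map1 P
    have key : ∀ z : PSL2, z ∈ H → ∃ a b, m⁻¹ * ψ z * m = aff a b := fun z hz =>
      exists_aff_of_fix (by rw [mul_smul, mul_smul, hP z hz, inv_smul_smul])
    obtain ⟨a, b, hab⟩ := key s0 (hSH hs0)
    obtain ⟨c, d, hcd⟩ := key x hxH
    set w := x * s0 * x⁻¹ * s0⁻¹ with hw
    have hwS : w ∈ S := mul_mem ((Subgroup.mem_normalizer_iff.1 hxS s0).1 hs0) (inv_mem hs0)
    have hwa : ∃ t, m⁻¹ * ψ w * m = aff 1 t := by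
      have e : m⁻¹ * ψ w * m =
          (m⁻¹ * ψ x * m) * (m⁻¹ * ψ s0 * m) * (m⁻¹ * ψ x * m)⁻¹ * (m⁻¹ * ψ s0 * m)⁻¹ := by
        rw [hw, map_mul, map_mul, map_mul, map_inv, map_inv]; group
      rw [hab, hcd, aff_inv, aff_inv, aff_mul, aff_mul, aff_mul,
        show c * a * c⁻¹ * a⁻¹ = 1 by rw [mul_comm c a, mul_inv_cancel_right, mul_inv_cancel]] at e
      exact ⟨_, e⟩
    obtain ⟨t, ht⟩ := hwa
    have hwp : w ^ p = 1 := by
      refine Matrix.ProjectiveSpecialLinearGroup.toPGL_injective ?_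
      rw [map_pow, map_one]
      have h : (m⁻¹ * ψ w * m) ^ p = 1 := by
        rw [ht]
        have hpow : ∀ i : ℕ, (aff (1 : Fˣ) t) ^ i = aff 1 (i • t) := by
          intro i
          induction i with
          | zero => simp [aff_one]
          | succ i ih => rw [pow_succ, ih, aff_mul, succ_nsmul]; simp [add_comm]
        rw [hpow, nsmul_eq_mul, CharP.cast_eq_zero, zero_mul, aff_one]
      have := conj_pow (a := m⁻¹) (b := ψ w) (i := p)
      rw [inv_inv] at this
      rw [this, mul_eq_one_iff_eq_inv, inv_mul_eq_iff_eq_mul, mul_inv_cancel] at h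
      exact h
    have hw1 : w = 1 := orderOf_eq_one_iff.1 (Nat.eq_one_of_dvd_coprimes hS
      (Subgroup.orderOf_dvd_natCard S hwS) (orderOf_dvd_of_pow_eq_one hwp))
    exact hs0x (by rw [hw, mul_inv_eq_one, mul_inv_eq_iff_eq_mul] at hw1; exact hw1)
  · exact absurd (hcard' ▸ hpH) (htd m hd)
  · exact tetra ha.some
  · exact (card24 hc').elim
  · exfalso
    obtain ⟨i⟩ := hi
    have := i.isSimpleGroup_congr.2 inferInstance
    rcases hn'.eq_bot_or_eq_top with e | e
    · exact small (by rw [← hScard, e, Subgroup.card_bot])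
    · exact big (by rw [← hScard, e, Subgroup.card_top])
  · obtain ⟨i⟩ := hi
    let _ : Fintype K := Fintype.ofFinite K
    by_cases hu4 : 4 ≤ u
    · exfalso
      have hK4 : 4 ≤ Fintype.card K := by rw [← Nat.card_eq_fintype_card, hK]; exact hu4
      have := CfsgLib.ClassK.isSimpleGroup_psl_two (F := K) hK4
      let j : ProjectiveSpecialLinearGroup (Fin 2) K →* H :=
        i.symm.toMonoidHom.comp Matrix.ProjectiveSpecialLinearGroup.toPGL
      have hj : Function.Injective j := i.symm.injective.comp Matrix.ProjectiveSpecialLinearGroup.toPGL_injective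
      have hNn : j.range.Normal := by
        rw [show j.range = (imL K).map i.symm.toMonoidHom from MonoidHom.range_comp _ _]
        exact (imL_normal (F := K)).map _ i.symm.surjective
      have hsimN : IsSimpleGroup j.range := (MonoidHom.ofInjective hj).isSimpleGroup_congr.1 inferInstance
      have hNcard : Nat.card j.range * 2 = Nat.card H := by
        have hodd : Odd (Fintype.card K) := by
          by_contra he
          rw [Nat.not_odd_iff_even] at he
          have hd : u ∣ Fintype.card F := by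
            rw [← hK, ← Nat.card_eq_fintype_card]
            exact AddSubgroup.card_addSubgroup_dvd_card K.toSubring.toAddSubgroup
          obtain ⟨n, -, hn⟩ := FiniteField.card F p
          rw [← Nat.card_eq_fintype_card, hK] at he
          exact hp2 ((Nat.prime_dvd_prime_iff_eq Nat.prime_two hp.out).1
            (Nat.prime_two.dvd_of_dvd_pow (n := (n : ℕ)) (hn ▸ (even_iff_two_dvd.1 he).trans hd))).symm
        rw [← Nat.card_congr (MonoidHom.ofInjective hj).toEquiv]
        have h := card_psl_two_split (F := K)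
        rw [gcd_two_of_odd hodd, ← Nat.card_eq_fintype_card, hK] at h
        rw [hc', ← h, mul_comm]
      by_cases hne : S.subgroupOf H ⊓ j.range = ⊥
      · have hle := Subgroup.card_mul_index j.range
        have hidx : j.range.index = 2 := Nat.eq_of_mul_eq_mul_left Nat.card_pos (hle.trans hNcard.symm)
        have hS2 : Nat.card S ≤ 2 := by
          have hle2 : Nat.card (S.subgroupOf H) ≤ Nat.card (H ⧸ j.range) := by
            refine Nat.card_le_card_of_injective (fun z : S.subgroupOf H => (QuotientGroup.mk z.1 : H ⧸ j.range)) ?_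
            intro z w e
            have hm : z.1⁻¹ * w.1 ∈ S.subgroupOf H ⊓ j.range := ⟨(S.subgroupOf H).mul_mem ((S.subgroupOf H).inv_mem z.2) w.2, QuotientGroup.eq.1 e⟩
            rw [hne, Subgroup.mem_bot, inv_mul_eq_one] at hm
            exact Subtype.ext hm
          rw [← Subgroup.index_eq_card, hidx, hScard] at hle2
          exact hle2
        have h2p := hp.out.two_le
        have hlt : Nat.card S < p := by
          rcases Nat.lt_or_ge (Nat.card S) p with h | h
          · exact h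
          · omega
        rw [Nat.mod_eq_of_lt hlt] at hmod
        exact small hmod
      · have hle := simp_case PSL2 (H.subtype) j.range hNn hsimN hne
        have h1 := Subgroup.card_dvd_of_le hle
        rw [hScard] at h1
        have hpN : p ∣ Nat.card j.range := by
          rcases (Nat.Prime.dvd_mul hp.out).1 (hNcard ▸ hpH) with e | e
          · exact e
          · exact absurd ((Nat.prime_dvd_prime_iff_eq hp.out Nat.prime_two).1 e) hp2
        exact hp.out.one_lt.ne' (Nat.eq_one_of_dvd_coprimes hS (hpN.trans h1) dvd_rfl)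
    · obtain rfl : u = 3 := by omega
      exact (card24 (by rw [hc'])).elim
  · obtain ⟨i⟩ := hi
    let _ : Fintype K := Fintype.ofFinite K
    by_cases hu4 : 4 ≤ u
    · exfalso
      have := CfsgLib.ClassK.isSimpleGroup_psl_two (F := K) (by rw [← Nat.card_eq_fintype_card, hK]; exact hu4)
      have := i.isSimpleGroup_congr.2 inferInstance
      rcases hn'.eq_bot_or_eq_top with e | e
      · exact small (by rw [← hScard, e, Subgroup.card_bot])
      · exact big (by rw [← hScard, e, Subgroup.card_top])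
    · obtain rfl : u = 3 := by omega
      exact tetra (i.trans (psl_three_equiv (F := K) (by rw [← Nat.card_eq_fintype_card, hK])).some)

set_option maxHeartbeats 800000 in
/-- A group lifting a four-group is a quaternion group, and with an element of order three gives `SL_2(3)`. -/
theorem sl2_quaternion_extension (h2 : (2 : F) ≠ 0) (a : SL(2, F)) (ha3 : orderOf a = 3) (R : Subgroup SL(2, F))
    (hR : (Nat.card R).Coprime 3) (haR : a ∈ Subgroup.normalizer (R : Set SL(2, F)))
    (hS4 : Nat.card (R.map pr : Subgroup PSL2) = 4) (hS2 : ∀ s ∈ (R.map pr : Subgroup PSL2), s * s = 1)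
    (hnc : ∃ r ∈ R, a * r ≠ r * a) :
    Nonempty (↥R ≃* QuaternionGroup 2) ∧
      Nonempty (↥(R ⊔ Subgroup.zpowers a) ≃* Matrix.SpecialLinearGroup (Fin 2) (ZMod 3)) := by
  classical
  have hneg : (-1 : SL(2, F)) ∈ R := by
    have := Fact.mk Nat.prime_two
    obtain ⟨t, ht⟩ := exists_prime_orderOf_dvd_card' (G := R) 2
      ((show 2 ∣ 4 by norm_num).trans (hS4 ▸ Subgroup.card_map_dvd R pr))
    have htt : (t : SL(2, F)) * t = 1 := by
      have h := pow_orderOf_eq_one t
      rw [ht, sq] at h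
      exact congrArg Subtype.val h
    rcases SL2Anti.eq_or_eq_neg_of_sq_one h2 htt with e | e
    · have : t = 1 := Subtype.ext e
      rw [this, orderOf_one] at ht
      omega
    · exact e ▸ t.2
  have hkey : ∀ z ∈ R, (pr z : PSL2) ≠ 1 → z * z = -1 := by
    intro z hz hne
    have h : (pr (z * z) : PSL2) = pr 1 := by
      rw [map_mul, map_one, hS2 _ (Subgroup.mem_map_of_mem pr hz)]
    rcases (SL2Anti.pr_eq_iff h2).1 h with e | e
    · rcases SL2Anti.eq_or_eq_neg_of_sq_one h2 e with e' | e'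
      · exact absurd (by rw [e', map_one]) hne
      · exact absurd (by rw [e', SL2Anti.pr_neg h2, map_one]) hne
    · exact e
  have hR8 : Nat.card R = 8 := by
    have hf := Subgroup.card_mul_index (pr.subgroupMap R).ker
    rw [Subgroup.index_ker, MonoidHom.range_eq_top.2 (pr.subgroupMap_surjective R), Subgroup.card_top, hS4] at hf
    have hK : ((pr.subgroupMap R).ker : Set R) = {1, ⟨-1, hneg⟩} := by
      ext z
      simp only [SetLike.mem_coe, MonoidHom.mem_ker, Subtype.ext_iff, Set.mem_insert_iff, Set.mem_singleton_iff,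
        Subgroup.coe_one]
      show (pr (z : SL(2, F)) : PSL2) = 1 ↔ _
      rw [← map_one (pr (F := F)), SL2Anti.pr_eq_iff h2]
    have hc : Nat.card (pr.subgroupMap R).ker = 2 := by
      rw [← SetLike.coe_sort_coe, Nat.card_coe_set_eq, hK,
        Set.ncard_pair (fun e => SL2Anti.one_ne_neg_one h2 (congrArg Subtype.val e))]
    rw [hc] at hf
    omega
  -- two generators
  obtain ⟨r, hr, hr1⟩ : ∃ r ∈ R, (pr r : PSL2) ≠ 1 := by
    by_contra h
    push Not at h
    have : (R.map pr : Subgroup PSL2) = ⊥ := (Subgroup.map_eq_bot_iff R).2 fun z hz => h z hz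
    rw [this, Subgroup.card_bot] at hS4
    omega
  obtain ⟨w, hw, hw1, hwr⟩ : ∃ w ∈ R, (pr w : PSL2) ≠ 1 ∧ (pr w : PSL2) ≠ pr r := by
    by_contra h
    push Not at h
    have hsub : ((R.map pr : Subgroup PSL2) : Set PSL2) ⊆ {1, pr r} := by
      rintro _ ⟨z, hz, rfl⟩
      by_cases e : (pr z : PSL2) = 1
      · exact Or.inl e
      · exact Or.inr (h z hz e)
    have := Set.ncard_le_ncard hsub
    rw [Set.ncard_pair (Ne.symm hr1), ← Nat.card_coe_set_eq, SetLike.coe_sort_coe, hS4] at this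
    omega
  have hrr := hkey r hr hr1
  have hww := hkey w hw hw1
  have hrw := hkey (r * w) (mul_mem hr hw) (by
    rw [map_mul]
    intro e
    refine hwr ?_
    rw [eq_inv_of_mul_eq_one_right e, ← eq_inv_of_mul_eq_one_right (hS2 _ (Subgroup.mem_map_of_mem pr hr))])
  have hconj : w * r * w⁻¹ = r⁻¹ := by
    have hwi : w⁻¹ = -w := inv_eq_of_mul_eq_one_right (by rw [mul_neg, hww, neg_neg])
    have hri : r⁻¹ = -r := inv_eq_of_mul_eq_one_right (by rw [mul_neg, hrr, neg_neg])
    have h : w * r * w = r := by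
      refine mul_left_cancel (a := r) ?_
      rw [hrr, ← hrw]
      simp only [mul_assoc]
    rw [hwi, hri, mul_neg, h]
  have hro : orderOf r = 4 := by
    refine orderOf_eq_prime_pow (p := 2) (n := 1) ?_ ?_
    · rw [pow_one, sq, hrr]
      exact Ne.symm (SL2Anti.one_ne_neg_one h2)
    · rw [show (2 : ℕ) ^ (1 + 1) = 2 * 2 from rfl, pow_mul, sq, sq, hrr, neg_mul_neg, one_mul]
  have hwn : w ∉ Subgroup.zpowers r := by
    intro hm
    obtain ⟨i, rfl⟩ := Subgroup.mem_zpowers_iff.1 hm
    obtain ⟨m, rfl⟩ | ⟨m, rfl⟩ := Int.even_or_odd i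
    · refine hw1 ?_
      rw [← two_mul, _root_.zpow_mul, map_zpow, show r ^ (2 : ℤ) = r * r from zpow_two r, hrr, SL2Anti.pr_neg h2, map_one,
        _root_.one_zpow]
    · refine hwr ?_
      rw [_root_.zpow_add, _root_.zpow_mul, map_mul, map_zpow, show r ^ (2 : ℤ) = r * r from zpow_two r, hrr, SL2Anti.pr_neg h2,
        map_one, _root_.one_zpow, zpow_one, one_mul]
  obtain ⟨eQ⟩ := CfsgLib.Invol.exists_mulEquiv_quaternion (n := 2) hro (by rw [hww, sq, hrr]) hconj hwn
  have hcl : Subgroup.closure ({r, w} : Set SL(2, F)) = R := by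
    refine Subgroup.eq_of_le_of_card_ge ((Subgroup.closure_le _).2 (Set.insert_subset hr (Set.singleton_subset_iff.2 hw))) ?_
    rw [hR8, Nat.card_congr eQ.toEquiv, Nat.card_eq_fintype_card, QuaternionGroup.card]
  let e : R ≃* QuaternionGroup 2 := (MulEquiv.subgroupCongr hcl.symm).trans eQ
  refine ⟨⟨e⟩, ?_⟩
  set A := Subgroup.zpowers a with hA
  have hAn : A ≤ Subgroup.normalizer (R : Set SL(2, F)) := Subgroup.zpowers_le.2 haR
  let φ : A →* MulAut R := R.normalizerMonoidHom.comp (Subgroup.inclusion hAn)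
  have hφ : ∀ (t : A) (z : R), ((φ t z : R) : SL(2, F)) = t * z * (t : SL(2, F))⁻¹ := fun _ _ => rfl
  set ga : A := ⟨a, Subgroup.mem_zpowers a⟩ with hga
  have hga3 : ga ^ 3 = 1 := Subtype.ext (by rw [SubmonoidClass.coe_pow, ← ha3, pow_orderOf_eq_one, Subgroup.coe_one])
  let φ1 : MulAut (QuaternionGroup 2) := MulAut.congr e (φ ga)
  have hφ1 : ∀ z : R, φ1 (e z) = e (φ ga z) := fun z => by
    show e (φ ga (e.symm (e z))) = _
    rw [e.symm_apply_apply]
  have hne : φ1 ≠ 1 := by
    obtain ⟨r0, hr0, hr0a⟩ := hnc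
    intro h
    have := hφ1 ⟨r0, hr0⟩
    rw [h, MulAut.one_apply] at this
    refine hr0a ?_
    have h' := congrArg Subtype.val (e.injective this)
    rw [hφ] at h'
    exact eq_mul_inv_iff_mul_eq.1 h' |>.symm
  have hpow : φ1 ^ 3 = 1 := by
    show (MulAut.congr e (φ ga)) ^ 3 = 1
    rw [← map_pow, ← map_pow, hga3, map_one, map_one]
  obtain ⟨ι, s, hι, hs, -, hsc⟩ := CfsgLib.Transfer.QSL.exists_sl23_realization φ1 hne (by decide) hpow
  let f : R →* CfsgLib.Transfer.QSL.SL23 := ι.comp e.toMonoidHom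
  have hfs : ∀ z, f (φ ga z) = s * f z * s⁻¹ := fun z => by
    show ι (e (φ ga z)) = s * ι (e z) * s⁻¹
    rw [← hφ1, hsc]
  have hgen : ∀ t : A, t ∈ Subgroup.zpowers ga := by
    rintro ⟨t, ht⟩
    obtain ⟨i, rfl⟩ := Subgroup.mem_zpowers_iff.1 ht
    exact ⟨i, Subtype.ext (Subgroup.coe_zpow _ _ _)⟩
  have hgo : orderOf ga = 3 := by rw [← Subgroup.orderOf_coe, ha3]
  let g : A →* CfsgLib.Transfer.QSL.SL23 := monoidHomOfForallMemZpowers hgen (g' := s) (by rw [hs, hgo])
  have hg : g ga = s := monoidHomOfForallMemZpowers_apply_gen hgen _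
  have hcond : ∀ t : A, f.comp (φ t).toMonoidHom = (MulAut.conj (g t)).toMonoidHom.comp f := by
    have hnat : ∀ (i : ℕ) (z : R), f (φ (ga ^ i) z) = s ^ i * f z * (s ^ i)⁻¹ := by
      intro i
      induction i with
      | zero => intro z; simp
      | succ i ih =>
        intro z
        rw [pow_succ, map_mul, MulAut.mul_apply, ih, hfs, pow_succ, _root_.mul_inv_rev]
        group
    intro t
    obtain ⟨i, rfl⟩ : ∃ i : ℕ, ga ^ i = t := (isOfFinOrder_of_finite ga).mem_powers_iff_mem_zpowers.2 (hgen t)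
    ext1 z
    show f (φ (ga ^ i) z) = g (ga ^ i) * f z * (g (ga ^ i))⁻¹
    rw [hnat, map_pow, hg]
  let Ψ : R ⋊[φ] A →* CfsgLib.Transfer.QSL.SL23 := SemidirectProduct.lift f g hcond
  let Φ : R ⋊[φ] A →* SL(2, F) := SemidirectProduct.lift R.subtype A.subtype (fun t => by ext1 z; exact hφ t z)
  have hA3 : Nat.card A = 3 := by rw [Nat.card_zpowers, ha3]
  have hcop : (Nat.card R).Coprime (Nat.card A) := by rw [hA3]; exact hR
  have hΦ : Function.Injective Φ := by
    refine (injective_iff_map_eq_one Φ).2 fun q hq => ?_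
    change (q.left : SL(2, F)) * q.right = 1 at hq
    have h1 : orderOf (q.left : SL(2, F)) = 1 := Nat.eq_one_of_dvd_coprimes hcop
      (Subgroup.orderOf_dvd_natCard R q.left.2)
      (by rw [eq_inv_of_mul_eq_one_left hq, orderOf_inv]; exact Subgroup.orderOf_dvd_natCard A q.right.2)
    rw [orderOf_eq_one_iff] at h1
    rw [h1, one_mul] at hq
    exact SemidirectProduct.ext (Subtype.ext h1) (Subtype.ext hq)
  have hginj : Function.Injective g := by
    rw [← MonoidHom.ker_eq_bot_iff]
    have := Fact.mk Nat.prime_three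
    have : Fact (Nat.card A).Prime := ⟨hA3 ▸ Nat.prime_three⟩
    rcases g.ker.eq_bot_or_eq_top_of_prime_card with h | h
    · exact h
    · have : g ga = 1 := (MonoidHom.mem_ker).1 (h ▸ Subgroup.mem_top ga)
      rw [hg] at this
      rw [this, orderOf_one] at hs
      omega
  have hΨ : Function.Injective Ψ := by
    refine (injective_iff_map_eq_one Ψ).2 fun q hq => ?_
    change f q.left * g q.right = 1 at hq
    have h1 : orderOf (f q.left) = 1 := Nat.eq_one_of_dvd_coprimes hcop
      ((orderOf_map_dvd f q.left).trans (orderOf_dvd_natCard _))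
      (by rw [eq_inv_of_mul_eq_one_left hq, orderOf_inv]
          exact (orderOf_map_dvd g q.right).trans (orderOf_dvd_natCard _))
    rw [orderOf_eq_one_iff] at h1
    rw [h1, one_mul] at hq
    have hl : q.left = 1 := e.injective (hι (by rw [show ι (e q.left) = f q.left from rfl, h1, map_one, map_one]))
    exact SemidirectProduct.ext hl (hginj (hq.trans (map_one g).symm))
  have hsl : Nat.card CfsgLib.Transfer.QSL.SL23 = 24 := by
    rw [CfsgLib.Classical.card_sl_two_eq, ZMod.card]
    norm_num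
  have hbij : Function.Bijective Ψ := (Nat.bijective_iff_injective_and_card Ψ).2 ⟨hΨ, by
    rw [SemidirectProduct.card, hR8, hA3, hsl]⟩
  have hrange : Φ.range = R ⊔ A := by
    refine le_antisymm ?_ (sup_le ?_ ?_)
    · rintro _ ⟨q, rfl⟩
      exact Subgroup.mul_mem_sup q.left.2 q.right.2
    · intro z hz
      exact ⟨SemidirectProduct.inl ⟨z, hz⟩, SemidirectProduct.lift_inl ..⟩
    · intro z hz
      exact ⟨SemidirectProduct.inr ⟨z, hz⟩, SemidirectProduct.lift_inr ..⟩
  exact ⟨((MulEquiv.subgroupCongr hrange.symm).trans (MonoidHom.ofInjective hΦ).symm).trans (MulEquiv.ofBijective Ψ hbij)⟩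

/-- The subgroup is `Q_8` and the extension `SL_2(3)`. -/
theorem sl2_pElement_action {p : ℕ} [hp : Fact p.Prime] [CharP F p] (hp2 : p ≠ 2) (a : SL(2, F))
    (ha : IsPGroup p ↥(Subgroup.zpowers a)) (R : Subgroup SL(2, F)) (hR : (Nat.card R).Coprime p)
    (haR : a ∈ Subgroup.normalizer (R : Set SL(2, F))) (hnt : ⁅R, Subgroup.zpowers a⁆ ≠ ⊥) :
    p = 3 ∧ Nonempty (↥R ≃* QuaternionGroup 2) ∧
      Nonempty (↥(R ⊔ Subgroup.zpowers a) ≃* Matrix.SpecialLinearGroup (Fin 2) (ZMod 3)) := by
  classical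
  have h2 : (2 : F) ≠ 0 := fun e => hp2 ((Nat.prime_dvd_prime_iff_eq hp.out Nat.prime_two).1
    ((CharP.cast_eq_zero_iff F p 2).1 (by exact_mod_cast e)))
  obtain ⟨r0, hr0, hr0a⟩ : ∃ r ∈ R, a * r ≠ r * a := by
    by_contra h
    push Not at h
    refine hnt ?_
    rw [Subgroup.commutator_eq_bot_iff_le_centralizer]
    intro r hr
    rw [Subgroup.mem_centralizer_iff]
    intro z hz
    obtain ⟨i, rfl⟩ := Subgroup.mem_zpowers_iff.1 hz
    exact ((show Commute a r from h r hr).zpow_left i).eq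
  obtain ⟨k, hk⟩ := IsPGroup.iff_orderOf.1 ha ⟨a, Subgroup.mem_zpowers a⟩
  rw [Subgroup.orderOf_mk] at hk
  have hodd : Odd (p ^ k) := (hp.out.odd_of_ne_two hp2).pow
  set x : PSL2 := pr a with hx
  set S : Subgroup PSL2 := R.map pr with hS
  have hxo : ∃ j, orderOf x = p ^ j ∧ j ≤ k := by
    obtain ⟨j, hj, h⟩ := (Nat.dvd_prime_pow hp.out).1 (hk ▸ orderOf_map_dvd pr a)
    exact ⟨j, h, hj⟩
  obtain ⟨j, hj, hjk⟩ := hxo
  have hlift : ∀ r ∈ R, x * pr r = pr r * x → a * r = r * a := by
    intro r _ e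
    rw [hx, ← map_mul, ← map_mul, SL2Anti.pr_eq_iff h2] at e
    rcases e with e | e
    · exact e
    · exfalso
      have key : ∀ n : ℕ, a ^ n * r = if Even n then r * a ^ n else -(r * a ^ n) := by
        intro n
        induction n with
        | zero => simp
        | succ n ih =>
          rw [pow_succ, mul_assoc, e, mul_neg, ← mul_assoc, ih]
          rcases Nat.even_or_odd n with hn | hn
          · rw [if_pos hn, if_neg (Nat.not_even_iff_odd.2 hn.add_one), mul_assoc]
          · rw [if_neg (Nat.not_even_iff_odd.2 hn), if_pos hn.add_one, neg_mul, neg_neg, mul_assoc]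
      have h := key (p ^ k)
      rw [if_neg (Nat.not_even_iff_odd.2 hodd), ← hk, pow_orderOf_eq_one, one_mul, mul_one] at h
      exact SL2Anti.one_ne_neg_one h2 (mul_left_cancel (a := r) (by rw [mul_one, mul_neg, mul_one]; exact h))
  have hSc : (Nat.card S).Coprime p := hR.coprime_dvd_left (Subgroup.card_map_dvd R pr)
  have hxS : x ∈ Subgroup.normalizer (S : Set PSL2) :=
    Subgroup.le_normalizer_map pr (Subgroup.mem_map_of_mem pr haR)
  obtain ⟨hp3, hj1, hS4, hS2⟩ := image_is_tetrahedral hp2 S hSc x hxS hj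
    ⟨pr r0, Subgroup.mem_map_of_mem pr hr0, fun e => hr0a (hlift r0 hr0 e)⟩
  subst hp3
  refine ⟨rfl, ?_⟩
  rw [hj1] at hj
  -- `a` has order three
  have ha3 : orderOf a = 3 := by
    have h : (pr (a ^ 3) : PSL2) = pr 1 := by
      rw [map_pow, map_one, ← hx, ← pow_one 3, ← hj, pow_orderOf_eq_one]
    have h6 : orderOf a ∣ 3 * 2 := by
      refine orderOf_dvd_of_pow_eq_one ?_
      rw [pow_mul, sq]
      rcases (SL2Anti.pr_eq_iff h2).1 h with e | e <;> simp [e]
    have h3 : orderOf a ∣ 3 := (Nat.Coprime.dvd_of_dvd_mul_right (hk ▸ Nat.Coprime.pow_left k (by norm_num)) h6)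
    rcases (Nat.dvd_prime Nat.prime_three).1 h3 with e | e
    · exact absurd (by rw [orderOf_eq_one_iff.1 e, one_mul, mul_one]) hr0a
    · exact e
  exact sl2_quaternion_extension h2 a ha3 R hR haR hS4 hS2 ⟨r0, hr0, hr0a⟩

end CfsgLib.Geom.Moebius
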