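import Mathlib
import Cfsg.Prelude.Def_ClassicalGeometry
import Cfsg.Agent.Lib.Geom.SplitStab
import Cfsg.Agent.Lib.Geom.Symp
import Cfsg.Agent.Lib.Geom.GUEquiv

set_option autoImplicit false

/-!
Stabilisers in matrix groups as stabilisers in isometry groups.
-/

namespace CfsgLib.Geom

open CfsgLib.Classical (hermB)

variable {F : Type*} [Field F]

/-- Stabiliser of a subspace in `Sp`. -/
theorem nonempty_spStabEquiv (m : ℕ) (W : Submodule F (Fin m ⊕ Fin m → F)) :
    Nonempty {E : isomStab (sympBilin m F) W ≃*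
        Cfsg.stabilizing (Cfsg.spToMat m F) (W : Set (Fin m ⊕ Fin m → F)) //
      ∀ g v, ((E g : Matrix.symplecticGroup (Fin m) F) : Matrix (Fin m ⊕ Fin m) (Fin m ⊕ Fin m) F).mulVec v =
        g.1 v} := by
  have hmap : (isomStab (sympBilin m F) W).subgroupOf (formIsoms (sympBilin m F)) =
      (Cfsg.stabilizing (Cfsg.spToMat m F) (W : Set (Fin m ⊕ Fin m → F))).comap
        (spEquiv m F).toMonoidHom := by
    ext g
    show (g.1 ∈ formIsoms _ ∧ ∀ v, v ∈ W ↔ g.1 v ∈ W) ↔ ∀ v, v ∈ (W : Set (Fin m ⊕ Fin m → F)) ↔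
      (spEquiv m F g : Matrix (Fin m ⊕ Fin m) (Fin m ⊕ Fin m) F).mulVec v ∈ (W : Set _)
    simp only [spEquiv_mulVec, SetLike.mem_coe]
    exact ⟨fun h => h.2, fun h => ⟨g.2, h⟩⟩
  exact ⟨⟨(Subgroup.subgroupOfEquivOfLe
      (show isomStab (sympBilin m F) W ≤ formIsoms (sympBilin m F) from fun g hg => hg.1)).symm.trans
    ((MulEquiv.subgroupCongr hmap).trans (((spEquiv m F).subgroupMap _).trans (MulEquiv.subgroupCongr
      (Subgroup.map_comap_eq_self_of_surjective (spEquiv m F).surjective _)))),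
    fun g v => spEquiv_mulVec _ v⟩⟩

/-- Stabiliser of a subspace in `GU`. -/
theorem nonempty_guStabEquiv [Fintype F] {q : ℕ} (hF : Fintype.card F = q ^ 2) (n : ℕ)
    (W : Submodule F (Fin n → F)) :
    Nonempty (isomStab (hermB hF n) W ≃*
      (Cfsg.stabilizing (Cfsg.glToMat (Fin n) F) (W : Set (Fin n → F))).subgroupOf (Cfsg.GU n F q)) := by
  have hmap : (isomStab (hermB hF n) W).subgroupOf (formIsoms (hermB hF n)) =
      ((Cfsg.stabilizing (Cfsg.glToMat (Fin n) F) (W : Set (Fin n → F))).subgroupOf (Cfsg.GU n F q)).comap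
        (guEquiv hF n).symm.toMonoidHom := by
    ext g
    obtain ⟨h, rfl⟩ := (guEquiv hF n).surjective g
    rw [Subgroup.mem_comap, MulEquiv.coe_toMonoidHom, MulEquiv.symm_apply_apply,
      Subgroup.mem_subgroupOf, Subgroup.mem_subgroupOf, mem_isomStab]
    simp only [guEquiv_apply]
    exact ⟨fun h => h.2, fun hh => ⟨(guEquiv hF n h).2, hh⟩⟩
  exact ⟨(Subgroup.subgroupOfEquivOfLe
      (show isomStab (hermB hF n) W ≤ formIsoms (hermB hF n) from fun g hg => hg.1)).symm.trans
    ((MulEquiv.subgroupCongr hmap).trans (((guEquiv hF n).symm.subgroupMap _).trans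
      (MulEquiv.subgroupCongr (Subgroup.map_comap_eq_self_of_surjective
        (guEquiv hF n).symm.surjective _))))⟩

end CfsgLib.Geom
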