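import Mathlib
import Cfsg.Agent.Lib.Geom.Symp
import Cfsg.Agent.Lib.Geom.SympSpace
import Cfsg.Agent.Lib.Classical.SpSimple

/-!
A regular unipotent isometry of a symplectic space on the quadratic algebra `R[ω]`, `ω² = s + s ω`,
`R = F[s]/(s^n)`.
-/

set_option autoImplicit false

namespace CfsgLib.Geom

attribute [local simp] QuadraticAlgebra.re_one QuadraticAlgebra.im_one

variable {F : Type*} [Field F]

set_option maxHeartbeats 1000000 in
/-- The data: a regular unipotent `u`, an orbit with products `0, 1, γ`, a conjugate of `u` differing by a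
transvection, and over the field with two elements a unipotent chain. -/
theorem exists_symp_unip_data {n : ℕ} (hn : 2 ≤ n) {γ : F} (hγ0 : γ ≠ 0) (hγ2 : n = 2 → γ ≠ 2)
    (hθ : n = 2 → ∃ θ : F, θ ≠ 0 ∧ θ ≠ 1) :
    ∃ (u K : formIsoms (sympBilin n F)) (z x p : Fin n ⊕ Fin n → F) (δ : F),
      (((u.1 : (Fin n ⊕ Fin n → F) →ₗ[F] (Fin n ⊕ Fin n → F)) - 1) ^ (2 * n) = 0 ∧
        (((u.1 : (Fin n ⊕ Fin n → F) →ₗ[F] (Fin n ⊕ Fin n → F)) - 1) ^ (2 * n - 1)) z ≠ 0) ∧
      u.1 x = x ∧
      (sympBilin n F z (u.1 z) = 1 ∧ sympBilin n F z (u.1 (u.1 z)) = γ) ∧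
      (sympBilin n F x p = 1 ∧ sympBilin n F p (u.1 p) = γ⁻¹) ∧
      (LinearIndependent F ![z, u.1 z, u.1 (u.1 z)] ∧ LinearIndependent F ![x, u.1 p, p]) ∧
      (∀ v, (∀ j : ℕ, sympBilin n F ((u ^ j).1 z) v = 0) → v = 0) ∧
      (δ ≠ 0 ∧ ∀ y, (K * u * K⁻¹).1 y = u.1 y + (δ * sympBilin n F x (u.1 y)) • x) ∧
      ((∀ a : F, a = 0 ∨ a = 1) → ∃ c : ℕ → (Fin n ⊕ Fin n → F), c 0 = p ∧
        (∀ i, u.1 (c i) = c i + c (i + 1)) ∧ c (2 * n - 1) = x ∧
        (∀ i, 1 ≤ i → sympBilin n F x (c i) = 0) ∧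
        (∀ i, i < n → sympBilin n F (c i) (c (i + 1)) = 1) ∧
        sympBilin n F (c 1) (c (2 * n - 2)) = 1 ∧
        ∀ v, v - sympBilin n F x v • c 0 ∈ Submodule.span F (Set.range fun i => c (i + 1))) := by
  classical
  let R := AdjoinRoot (Polynomial.X ^ n : Polynomial F)
  have hX : (Polynomial.X ^ n : Polynomial F) ≠ 0 := pow_ne_zero _ Polynomial.X_ne_zero
  let pb : PowerBasis F R := AdjoinRoot.powerBasis hX
  have hdim : pb.dim = n := by simp [pb]
  have : FiniteDimensional F R := pb.finite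
  have hfrR : Module.finrank F R = n := by rw [pb.finrank, hdim]
  obtain ⟨s, hs⟩ : ∃ s : R, s = AdjoinRoot.root _ := ⟨_, rfl⟩
  have hsn : s ^ n = 0 := by
    have := AdjoinRoot.mk_self (f := (Polynomial.X ^ n : Polynomial F))
    rwa [map_pow, AdjoinRoot.mk_X, ← hs] at this
  have hhi : ∀ k, n ≤ k → s ^ k = 0 := fun k hk => by
    rw [← Nat.add_sub_cancel' hk, pow_add, hsn, zero_mul]
  -- the constant term
  let ε : R →+* F := AdjoinRoot.lift (RingHom.id F) 0 (by simp [show n ≠ 0 by omega])
  have hεc : ∀ c : F, ε (algebraMap F R c) = c := fun c => AdjoinRoot.lift_of _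
  have hεs : ε s = 0 := by rw [hs]; exact AdjoinRoot.lift_root _
  have htop : ∀ r : R, s ^ (n - 1) * r = s ^ (n - 1) * algebraMap F R (ε r) := by
    intro r
    induction r using AdjoinRoot.induction_on with
    | ih P =>
      induction P using Polynomial.induction_on' with
      | add p q hp hq => simp only [map_add, mul_add, hp, hq]
      | monomial k c =>
        rw [← Polynomial.C_mul_X_pow_eq_monomial, map_mul, map_pow, AdjoinRoot.mk_C, AdjoinRoot.mk_X,
          ← hs, ← AdjoinRoot.algebraMap_eq]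
        show s ^ (n - 1) * (algebraMap F R c * s ^ k) =
          s ^ (n - 1) * algebraMap F R (ε (algebraMap F R c * s ^ k))
        rw [map_mul ε, map_pow ε, hεc, hεs]
        rcases Nat.eq_zero_or_pos k with rfl | hk
        · simp
        · rw [mul_left_comm, ← pow_add, hhi _ (by omega), zero_pow (by omega)]
          simp
  -- the functional
  let f : ℕ → F := fun i => if i = 1 then γ - 2 else 1
  let ψ : R →ₗ[F] F := pb.basis.constr F fun i => f i
  have hψ : ∀ j, j < n → ψ (s ^ j) = f j := by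
    intro j hj
    have h := pb.basis.constr_basis F (fun i => f i) ⟨j, by omega⟩
    rw [pb.basis_eq_pow] at h
    rw [hs]
    exact h
  have hψ1 : ψ 1 = 1 := by simpa [f] using hψ 0 (by omega)
  have hψs : ψ s = γ - 2 := by simpa [f] using hψ 1 (by omega)
  have hψnat : ∀ (k : ℕ) (a : R), ψ ((k : R) * a) = (k : F) * ψ a := fun k a => by
    rw [← nsmul_eq_mul, map_nsmul, nsmul_eq_mul]
  obtain ⟨α, hα⟩ : ∃ α, α = ψ (s ^ (n - 1)) := ⟨_, rfl⟩
  have hα0 : α ≠ 0 := by
    rw [hα, hψ _ (by omega)]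
    by_cases h : n = 2
    · simp only [f, show n - 1 = 1 by omega, if_pos]
      exact sub_ne_zero.2 (hγ2 h)
    · simp [f, show n - 1 ≠ 1 by omega]
  have hψtop : ∀ r, ψ (s ^ (n - 1) * r) = α * ε r := fun r => by
    rw [htop, mul_comm, ← Algebra.smul_def, map_smul, smul_eq_mul, hα, mul_comm]
  have hsocle : ∀ g : R, (∀ r, ψ (g * r) = 0) → g = 0 := by
    intro g hg
    by_contra hg0
    obtain ⟨P, rfl⟩ := AdjoinRoot.mk_surjective g
    have hP : P ≠ 0 := fun h => hg0 (by rw [h, map_zero])
    obtain ⟨Q, hPQ, hQ⟩ := Polynomial.exists_eq_pow_rootMultiplicity_mul_and_not_dvd P hP 0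
    rw [map_zero, sub_zero] at hPQ hQ
    set j := P.rootMultiplicity 0
    have hj : j < n := by
      by_contra hj
      exact hg0 (AdjoinRoot.mk_eq_zero.2 (by
        rw [hPQ]; exact (pow_dvd_pow _ (by omega)).mul_right _))
    obtain ⟨a', b', hab⟩ :=
      ((Polynomial.irreducible_X (R := F)).coprime_iff_not_dvd.2 hQ).pow_left (m := n)
    have h1 := congrArg (AdjoinRoot.mk (Polynomial.X ^ n : Polynomial F)) hab
    rw [map_add, map_mul, map_mul, AdjoinRoot.mk_self, mul_zero, zero_add, map_one] at h1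
    refine hα0 ?_
    rw [hα, ← hg (AdjoinRoot.mk _ b' * s ^ (n - 1 - j))]
    congr 1
    rw [hPQ, map_mul, map_pow, AdjoinRoot.mk_X, ← hs]
    calc s ^ (n - 1) = s ^ (j + (n - 1 - j)) := by congr 1; omega
      _ = s ^ j * s ^ (n - 1 - j) * (AdjoinRoot.mk _ b' * AdjoinRoot.mk _ Q) := by
        rw [h1, mul_one, pow_add]
      _ = _ := by ring
  -- the algebra
  let eP : (QuadraticAlgebra R s s) ≃ₗ[F] R × R :=
    { toFun := fun a => (a.re, a.im)
      invFun := fun p => ⟨p.1, p.2⟩
      map_add' := fun _ _ => rfl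
      map_smul' := fun _ _ => rfl
      left_inv := fun _ => rfl
      right_inv := fun _ => rfl }
  have : FiniteDimensional F (QuadraticAlgebra R s s) := eP.symm.finiteDimensional
  have hfrV : Module.finrank F (QuadraticAlgebra R s s) = 2 * n := by
    rw [eP.finrank_eq, Module.finrank_prod, hfrR, two_mul]
  let av : R →+* (QuadraticAlgebra R s s) := algebraMap R (QuadraticAlgebra R s s)
  have hav : ∀ r, av r = (⟨r, 0⟩ : (QuadraticAlgebra R s s)) := fun r => rfl
  let ω : (QuadraticAlgebra R s s) := ⟨0, 1⟩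
  have hstar : ∀ (c : F) (a : (QuadraticAlgebra R s s)), star (c • a) = c • star a := fun c a => by
    ext <;> simp
  let B : (QuadraticAlgebra R s s) →ₗ[F] (QuadraticAlgebra R s s) →ₗ[F] F := LinearMap.mk₂ F (fun a b => ψ (star a * b).im)
    (fun a₁ a₂ b => by rw [star_add, add_mul, QuadraticAlgebra.im_add, map_add])
    (fun c a b => by rw [hstar, smul_mul_assoc, QuadraticAlgebra.im_smul, map_smul])
    (fun a b₁ b₂ => by rw [mul_add, QuadraticAlgebra.im_add, map_add])
    (fun c a b => by rw [mul_smul_comm, QuadraticAlgebra.im_smul, map_smul])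
  have hB : ∀ a b, B a b = ψ (star a * b).im := fun a b => rfl
  have hnorm : ∀ a : (QuadraticAlgebra R s s), star a * a = av (QuadraticAlgebra.norm a) := fun a => by
    rw [mul_comm]; exact (QuadraticAlgebra.algebraMap_norm_eq_mul_star a).symm
  have hBA : ∀ a, B a a = 0 := fun a => by
    rw [hB, hnorm, hav]; exact map_zero ψ
  have hBsep : ∀ a, (∀ b, B a b = 0) → a = 0 := by
    intro a ha
    have him : a.im = 0 := by
      have h := hsocle (-a.im) fun r => by
        have := ha (⟨r, 0⟩ : (QuadraticAlgebra R s s))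
        rw [hB] at this
        simpa using this
      exact neg_eq_zero.1 h
    have hre : a.re = 0 := hsocle _ fun r => by
      have := ha (⟨0, r⟩ : (QuadraticAlgebra R s s))
      rw [hB] at this
      simpa [him] using this
    ext <;> assumption
  have hnormω : star ω * ω = av (-s) := by
    rw [hav]; ext <;> simp [ω] <;> ring
  have hωω : ω * ω = av s * (1 + ω) := by
    rw [hav]; ext <;> simp [ω] <;> ring
  obtain ⟨sv, hsv⟩ : ∃ sv, sv = av s := ⟨_, rfl⟩
  have hsvn : sv ^ n = 0 := by rw [hsv, ← map_pow, hsn, map_zero]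
  have hω2n : ω ^ (2 * n) = 0 := by
    rw [pow_mul, pow_two, hωω, ← hsv, mul_pow, hsvn, zero_mul]
  have hωhi : ∀ k, 2 * n ≤ k → ω ^ k = 0 := fun k hk => by
    rw [← Nat.add_sub_cancel' hk, pow_add, hω2n, zero_mul]
  have hsvω : sv ^ (n - 1) * ω * ω = 0 := by
    rw [mul_assoc, hωω, ← hsv, ← mul_assoc, ← pow_succ, show n - 1 + 1 = n by omega, hsvn, zero_mul]
  have hωtop : ω ^ (2 * n - 1) = sv ^ (n - 1) * ω := by
    rw [show 2 * n - 1 = 2 * (n - 1) + 1 by omega, pow_succ, pow_mul, pow_two, hωω, ← hsv, mul_pow,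
      mul_assoc]
    generalize n - 1 = m at hsvω ⊢
    have : ∀ k : ℕ, sv ^ m * ((1 + ω) ^ k * ω) = sv ^ m * ω := by
      intro k
      induction k with
      | zero => simp
      | succ k ih => linear_combination (1 + ω) * ih + hsvω
    exact this m
  have hωtop' : ω ^ (2 * n - 1) = (⟨0, s ^ (n - 1)⟩ : (QuadraticAlgebra R s s)) := by
    rw [hωtop, hsv, ← map_pow, hav]; ext <;> simp [ω] <;> ring
  obtain ⟨x₀, hx₀⟩ : ∃ x₀ : (QuadraticAlgebra R s s), x₀ = (-α⁻¹) • ω ^ (2 * n - 1) := ⟨_, rfl⟩
  have hωx : ω * x₀ = 0 := by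
    rw [hx₀, mul_smul_comm, ← pow_succ', hωhi _ (by omega), smul_zero]
  have hBx : ∀ b : (QuadraticAlgebra R s s), B x₀ b = ε b.re := by
    intro b
    rw [hx₀, map_smul, LinearMap.smul_apply, hωtop', hB, smul_eq_mul]
    have : (star (⟨0, s ^ (n - 1)⟩ : (QuadraticAlgebra R s s)) * b).im = -(s ^ (n - 1) * b.re) := by
      simp only [QuadraticAlgebra.im_mul, QuadraticAlgebra.re_star, QuadraticAlgebra.im_star]
      ring
    rw [this, map_neg, hψtop]
    field_simp
  have hsw := alt_neg_swap B hBA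
  have hεI : ∀ a b : (QuadraticAlgebra R s s), ε (star a * b).im = ε a.re * ε b.im - ε a.im * ε b.re := fun a b => by
    simp only [QuadraticAlgebra.im_mul, QuadraticAlgebra.re_star, QuadraticAlgebra.im_star, map_add,
      map_mul, map_neg, hεs]
    ring
  -- `ω` generates
  have hgeom : (1 + ω) * ∑ i ∈ Finset.range (2 * n), (-ω) ^ i = 1 := by
    have h1 := mul_geom_sum (-ω) (2 * n)
    rw [neg_pow, hω2n, mul_zero] at h1
    linear_combination -h1
  have hadj : ∀ a : (QuadraticAlgebra R s s), a ∈ (Polynomial.aeval (R := F) ω).range := by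
    set S := (Polynomial.aeval (R := F) ω).range
    have hωS : ω ∈ S := ⟨Polynomial.X, Polynomial.aeval_X ω⟩
    have hsS : sv ∈ S := by
      have : sv = ω * ω * ∑ i ∈ Finset.range (2 * n), (-ω) ^ i := by
        rw [hωω, ← hsv, mul_assoc, hgeom, mul_one]
      rw [this]
      exact mul_mem (mul_mem hωS hωS) (sum_mem fun i _ => pow_mem (neg_mem hωS) i)
    have hrS : ∀ r, av r ∈ S := by
      intro r
      induction r using AdjoinRoot.induction_on with
      | ih P =>
        induction P using Polynomial.induction_on' with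
        | add p q hp hq => rw [map_add, map_add]; exact add_mem hp hq
        | monomial k c =>
          rw [← Polynomial.C_mul_X_pow_eq_monomial, map_mul, map_pow, AdjoinRoot.mk_C, AdjoinRoot.mk_X,
            ← hs, ← AdjoinRoot.algebraMap_eq]
          show av (algebraMap F R c * s ^ k) ∈ S
          rw [map_mul, map_pow, ← hsv]
          exact mul_mem (S.algebraMap_mem c) (pow_mem hsS k)
    intro a
    have : a = av a.re + av a.im * ω := by
      rw [hav, hav]; ext <;> simp [ω] <;> ring
    rw [this]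
    exact add_mem (hrS _) (mul_mem (hrS _) hωS)
  have hspanω : ∀ a : (QuadraticAlgebra R s s), a ∈ Submodule.span F (Set.range fun i : ℕ => ω ^ i) := by
    intro a
    obtain ⟨P, rfl⟩ := hadj a
    show Polynomial.aeval ω P ∈ _
    rw [Polynomial.aeval_eq_sum_range]
    exact Submodule.sum_mem _ fun i _ => Submodule.smul_mem _ _ (Submodule.subset_span ⟨i, rfl⟩)
  have hspanω1 : ∀ a : (QuadraticAlgebra R s s), a - ε a.re • (1 : (QuadraticAlgebra R s s)) ∈ Submodule.span F (Set.range fun i : ℕ => ω ^ (i + 1)) := by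
    intro a
    refine Submodule.span_induction ?_ ?_ ?_ ?_ (hspanω a)
    · rintro _ ⟨i, rfl⟩
      cases i with
      | zero =>
        simp only [pow_zero, QuadraticAlgebra.re_one, map_one, one_smul, sub_self]
        exact Submodule.zero_mem _
      | succ i =>
        have h0 : ε (ω ^ (i + 1)).re = 0 := by
          rw [pow_succ']
          simp [ω, hεs]
        simp only [h0, zero_smul, sub_zero]
        exact Submodule.subset_span ⟨i, rfl⟩
    · simp
    · intro a b _ _ ha hb
      convert add_mem ha hb using 1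
      simp only [QuadraticAlgebra.re_add, map_add, add_smul]
      abel
    · intro c a _ ha
      convert Submodule.smul_mem _ c ha using 1
      rw [QuadraticAlgebra.re_smul, Algebra.smul_def c a.re, map_mul, hεc, smul_sub, smul_smul]
  -- transport
  obtain ⟨e, he⟩ := exists_symp_isometry (2 * n) B (sympBilin n F) hBA hBsep sympBilin_self
    sympBilin_sep hfrV (by simp [two_mul])
  have lift : ∀ T : (QuadraticAlgebra R s s) →ₗ[F] (QuadraticAlgebra R s s), (∀ a b, B (T a) (T b) = B a b) →
      ∃ g : formIsoms (sympBilin n F), ∀ a, g.1 (e a) = e (T a) := by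
    intro T hT
    obtain ⟨g, hg, hga⟩ := exists_mem_formIsoms (sympBilin n F) sympBilin_sep
      (e.toLinearMap ∘ₗ T ∘ₗ e.symm.toLinearMap) (fun a b => by
        simp only [LinearMap.comp_apply, LinearEquiv.coe_coe]
        rw [he, hT, ← he, e.apply_symm_apply, e.apply_symm_apply])
    exact ⟨⟨g, hg⟩, fun a => by rw [hga]; simp⟩
  have hU1 : star (1 + ω) * (1 + ω) = 1 := by
    ext <;> simp [ω] <;> ring
  have hUiso : ∀ a b, B ((1 + ω) * a) ((1 + ω) * b) = B a b := fun a b => by
    rw [hB, hB, star_mul']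
    congr 2
    linear_combination (star a * b) * hU1
  obtain ⟨u, hu⟩ := lift (LinearMap.mulLeft F (1 + ω)) hUiso
  simp only [LinearMap.mulLeft_apply] at hu
  have hpow : ∀ (j : ℕ) (a : (QuadraticAlgebra R s s)), (u ^ j).1 (e a) = e ((1 + ω) ^ j * a) := by
    intro j
    induction j with
    | zero => intro a; simp
    | succ j ih =>
      intro a
      rw [pow_succ, Subgroup.coe_mul, LinearEquiv.mul_apply, hu, ih, ← mul_assoc]
      rfl
  have hN : ∀ (k : ℕ) (a : (QuadraticAlgebra R s s)),
      (((u.1 : (Fin n ⊕ Fin n → F) →ₗ[F] (Fin n ⊕ Fin n → F)) - 1) ^ k) (e a) = e (ω ^ k * a) := by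
    intro k
    induction k with
    | zero => intro a; simp
    | succ k ih =>
      intro a
      rw [pow_succ, Module.End.mul_apply,
        show ((u.1 : (Fin n ⊕ Fin n → F) →ₗ[F] (Fin n ⊕ Fin n → F)) - 1) (e a) = u.1 (e a) - e a from rfl,
        hu, ← map_sub, ih]
      congr 1
      ring
  -- the auxiliary vector `p`
  obtain ⟨p₀, hp₀re, hp₀N, hp₀one⟩ : ∃ p₀ : (QuadraticAlgebra R s s), ε p₀.re = 1 ∧ ψ (QuadraticAlgebra.norm p₀) = γ⁻¹ ∧
      (γ = 1 → 3 ≤ n → p₀ = 1) := by
    by_cases h : n = 2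
    · have hα' : α = γ - 2 := by rw [hα, show n - 1 = 1 by omega, pow_one, hψs]
      by_cases h2 : (2 : F) = 0
      · refine ⟨⟨1, algebraMap F R γ⁻¹⟩, map_one ε, ?_, fun _ h3 => by omega⟩
        rw [QuadraticAlgebra.norm_def,
          show (1 : R) * 1 + s * 1 * algebraMap F R γ⁻¹ - s * algebraMap F R γ⁻¹ * algebraMap F R γ⁻¹ =
            1 + algebraMap F R (γ⁻¹ - γ⁻¹ * γ⁻¹) * s by rw [map_sub, map_mul]; ring,
          map_add, hψ1, ← Algebra.smul_def, map_smul, hψs, smul_eq_mul]
        field_simp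
        linear_combination (γ ^ 2 - 2 * γ + 1) * h2
      · refine ⟨⟨1 + algebraMap F R ((γ⁻¹ - 1) / (2 * α)) * s, 0⟩, ?_, ?_, fun _ h3 => by omega⟩
        · simp [hεs]
        · rw [QuadraticAlgebra.norm_def]
          rw [show ∀ c : R, (1 + c * s) * (1 + c * s) + s * (1 + c * s) * 0 - s * 0 * 0 =
              1 + 2 * c * s + c * c * (s ^ 2) by intro c; ring,
            show (2 : R) = algebraMap F R 2 from (map_ofNat _ 2).symm, ← map_mul, hhi 2 (by omega),
            mul_zero, add_zero, map_add, hψ1, ← Algebra.smul_def, map_smul, hψs, ← hα', smul_eq_mul]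
          field_simp
          ring
    · refine ⟨⟨1, algebraMap F R ((γ⁻¹ - 1) / α) * s ^ (n - 2)⟩, map_one ε, ?_, fun h1 _ => ?_⟩
      · rw [QuadraticAlgebra.norm_def]
        have e1 : s * s ^ (n - 2) = s ^ (n - 1) := by rw [← pow_succ']; congr 1; omega
        have e2 : s * s ^ (n - 2) * s ^ (n - 2) = 0 := by rw [e1, ← pow_add, hhi _ (by omega)]
        have hc := hεc ((γ⁻¹ - 1) / α)
        generalize algebraMap F R ((γ⁻¹ - 1) / α) = c at *
        rw [show (1 : R) * 1 + s * 1 * (c * s ^ (n - 2)) - s * (c * s ^ (n - 2)) * (c * s ^ (n - 2)) =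
          1 + s ^ (n - 1) * c by linear_combination c * e1 - (c * c) * e2, map_add, hψ1, hψtop]
        rw [hc]
        field_simp
        ring
      · ext <;> simp [h1]
  -- the conjugator
  obtain ⟨P, ρ, hρ0, hPν⟩ : ∃ (P : (QuadraticAlgebra R s s)) (ρ : F), ρ ≠ 0 ∧
      QuadraticAlgebra.norm P = 1 + algebraMap F R ρ * s ^ (n - 1) := by
    by_cases h : n = 2
    · obtain ⟨θ, hθ0, hθ1⟩ := hθ h
      refine ⟨⟨1, algebraMap F R θ⟩, θ - θ * θ, ?_, ?_⟩
      · rw [show θ - θ * θ = θ * (1 - θ) by ring]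
        exact mul_ne_zero hθ0 (sub_ne_zero.2 (Ne.symm hθ1))
      · rw [QuadraticAlgebra.norm_def, show n - 1 = 1 by omega, pow_one, map_sub, map_mul]
        ring
    · refine ⟨⟨1, s ^ (n - 2)⟩, 1, one_ne_zero, ?_⟩
      have e1 : s * s ^ (n - 2) = s ^ (n - 1) := by rw [← pow_succ']; congr 1; omega
      have e2 : s * s ^ (n - 2) * s ^ (n - 2) = 0 := by rw [e1, ← pow_add, hhi _ (by omega)]
      rw [QuadraticAlgebra.norm_def, map_one]
      linear_combination e1 - e2
  obtain ⟨δ, hδ⟩ : ∃ δ, δ = -(ρ * α) := ⟨_, rfl⟩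
  obtain ⟨ν', hν'⟩ : ∃ ν', ν' = 1 - algebraMap F R ρ * s ^ (n - 1) := ⟨_, rfl⟩
  obtain ⟨Q, hQ⟩ : ∃ Q : (QuadraticAlgebra R s s), Q = star P * av ν' := ⟨_, rfl⟩
  have hQQ : star Q * Q = av ν' := by
    have hstarav : star (av ν') = av ν' := by rw [hav]; ext <;> simp
    have h1 : QuadraticAlgebra.norm P * ν' = 1 := by
      have h0 : s ^ (n - 1) * s ^ (n - 1) = 0 := by rw [← pow_add, hhi _ (by omega)]
      rw [hPν, hν']
      linear_combination (-(algebraMap F R ρ * algebraMap F R ρ)) * h0
    rw [hQ, star_mul', star_star, hstarav,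
      show P * av ν' * (star P * av ν') = (star P * P * av ν') * av ν' by ring, hnorm, ← map_mul, h1,
      map_one, one_mul]
  let C : (QuadraticAlgebra R s s) →ₗ[F] (QuadraticAlgebra R s s) := LinearMap.id +
    (δ • ((AlgHom.mk ε hεc : R →ₐ[F] F).toLinearMap ∘ₗ (LinearMap.snd F R R) ∘ₗ eP.toLinearMap)).smulRight x₀
  have hC : ∀ a, C a = a + (δ * ε a.im) • x₀ := fun a => rfl
  have hKiso : ∀ a b, B ((C ∘ₗ LinearMap.mulLeft F Q) a) ((C ∘ₗ LinearMap.mulLeft F Q) b) = B a b := by
    intro a b
    have hI : (star (Q * a) * (Q * b)).im = ν' * (star a * b).im := by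
      rw [show star (Q * a) * (Q * b) = (star Q * Q) * (star a * b) by rw [star_mul']; ring, hQQ, hav]
      simp
    have h1 : B (Q * a) (Q * b) = B a b - ρ * α * ε (star (Q * a) * (Q * b)).im := by
      rw [hB, hI, hB, map_mul ε, show ε ν' = 1 by rw [hν']; simp [hεs, show n - 1 ≠ 0 by omega], one_mul,
        hν', sub_mul, one_mul, map_sub, mul_assoc, ← Algebra.smul_def, map_smul, hψtop, smul_eq_mul]
      ring
    simp only [LinearMap.comp_apply, LinearMap.mulLeft_apply, hC]
    rw [hεI] at h1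
    generalize Q * a = a' at h1 ⊢
    generalize Q * b = b' at h1 ⊢
    simp only [map_add, map_smul, LinearMap.add_apply, LinearMap.smul_apply, smul_eq_mul, hBx,
      hsw x₀ a', h1, hδ, show ε x₀.re = 0 by rw [← hBx, hBA]]
    ring
  obtain ⟨K, hK⟩ := lift _ hKiso
  have hKu : ∀ y, (K * u * K⁻¹).1 y = u.1 y + (δ * sympBilin n F (e x₀) (u.1 y)) • e x₀ := by
    intro y
    obtain ⟨y', rfl⟩ := K.1.surjective y
    obtain ⟨a, rfl⟩ := e.surjective y'
    simp only [Subgroup.coe_mul, Subgroup.coe_inv, LinearEquiv.mul_apply, LinearEquiv.coe_inv,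
      LinearEquiv.symm_apply_apply]
    rw [hu, hK, hK, hu, he, ← map_smul, ← map_add]
    congr 1
    simp only [LinearMap.comp_apply, LinearMap.mulLeft_apply, hC]
    rw [show Q * ((1 + ω) * a) = (1 + ω) * (Q * a) by ring]
    generalize Q * a = b
    have h1 : (1 + ω) * x₀ = x₀ := by linear_combination hωx
    have h2 : B x₀ ((1 + ω) * (b + (δ * ε b.im) • x₀)) = ε b.re := by
      rw [mul_add, mul_smul_comm, h1, map_add, map_smul, hBA, smul_zero, add_zero]
      conv_lhs => rw [← h1, hUiso]
      exact hBx b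
    have h3 : ε ((1 + ω) * b).im = ε b.re + ε b.im := by
      simp [ω, hεs]
      ring
    rw [h2, h3, mul_add (1 + ω), mul_smul_comm, h1]
    module
  -- products along the orbit
  have hBe : ∀ a b, sympBilin n F (e a) (e b) = B a b := he
  have hB1 : ∀ b, B 1 b = ψ b.im := fun b => by rw [hB, star_one, one_mul]
  have hzz : B 1 (1 + ω) = 1 := by rw [hB1]; simp [ω, hψ1]
  have hzz2 : B 1 ((1 + ω) * (1 + ω)) = γ := by
    rw [hB1, show ((1 + ω) * (1 + ω)).im = ((2 : ℕ) : R) * 1 + s by simp [ω]; ring, map_add, hψnat, hψ1,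
      hψs]
    push_cast; ring
  have hpp : B p₀ ((1 + ω) * p₀) = γ⁻¹ := by
    rw [hB, show star p₀ * ((1 + ω) * p₀) = (1 + ω) * (star p₀ * p₀) by ring, hnorm, hav, ← hp₀N]
    simp [ω]
  refine ⟨u, K, e 1, e x₀, e p₀, δ, ⟨?_, ?_⟩, ?_, ⟨?_, ?_⟩, ⟨?_, ?_⟩, ⟨?_, ?_⟩, ?_,
    ⟨by rw [hδ]; exact neg_ne_zero.2 (mul_ne_zero hρ0 hα0), hKu⟩, ?_⟩
  · refine LinearMap.ext fun v => ?_
    obtain ⟨a, rfl⟩ := e.surjective v
    rw [hN, hω2n, zero_mul, map_zero]
    rfl
  · rw [hN, mul_one]
    intro h
    rw [e.map_eq_zero_iff, hωtop'] at h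
    refine hα0 ?_
    rw [hα, show s ^ (n - 1) = 0 from congrArg QuadraticAlgebra.im h, map_zero]
  · rw [hu, show (1 + ω) * x₀ = x₀ by linear_combination hωx]
  · rw [hu, hBe, mul_one, hzz]
  · rw [hu, hu, hBe, mul_one, hzz2]
  · rw [hBe, hBx, hp₀re]
  · rw [hu, hBe, hpp]
  · rw [hu, hu, mul_one, Fintype.linearIndependent_iff]
    intro g hg
    have hg' : g 0 • (1 : QuadraticAlgebra R s s) + g 1 • (1 + ω) + g 2 • ((1 + ω) * (1 + ω)) = 0 := by
      refine e.map_eq_zero_iff.1 ?_
      rw [map_add, map_add, map_smul, map_smul, map_smul]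
      rw [Fin.sum_univ_three] at hg
      exact hg
    have him : algebraMap F R (g 1) + algebraMap F R (g 2) * (2 + s) = 0 := by
      have := congrArg QuadraticAlgebra.im hg'
      simp [ω] at this
      simp only [Algebra.smul_def] at this
      linear_combination this
    have hre : g 0 + g 1 + g 2 = 0 := by
      have := congrArg (fun a => ε (QuadraticAlgebra.re a)) hg'
      simp [ω] at this
      simp [Algebra.smul_def, hεs, hεc] at this
      linear_combination this
    have h2 : g 1 + 2 * g 2 = 0 := by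
      have := congrArg ε him
      simp [hεs, hεc, map_ofNat] at this
      linear_combination this
    have hg2 : g 2 = 0 := by
      have e : algebraMap F R (g 2) * s = 0 := by
        have h := congrArg (algebraMap F R) h2
        rw [map_add, map_mul, map_ofNat, map_zero] at h
        linear_combination him - h
      have e1 : s ^ (n - 2) * s = s ^ (n - 1) := by rw [← pow_succ]; congr 1; omega
      have h4 := congrArg (fun r : R => ψ (s ^ (n - 2) * r)) e
      simp only [mul_zero, map_zero] at h4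
      rw [show s ^ (n - 2) * (algebraMap F R (g 2) * s) = s ^ (n - 1) * algebraMap F R (g 2) by
        linear_combination (algebraMap F R (g 2)) * e1, hψtop, hεc] at h4
      exact (mul_eq_zero.1 h4).resolve_left hα0
    have hg1 : g 1 = 0 := by linear_combination h2 - 2 * hg2
    intro i
    fin_cases i
    · show g 0 = 0
      linear_combination hre - hg1 - hg2
    · exact hg1
    · exact hg2
  · rw [hu, Fintype.linearIndependent_iff]
    intro g hg
    have hg' : g 0 • x₀ + g 1 • ((1 + ω) * p₀) + g 2 • p₀ = 0 := by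
      refine e.map_eq_zero_iff.1 ?_
      rw [map_add, map_add, map_smul, map_smul, map_smul]
      rw [Fin.sum_univ_three] at hg
      exact hg
    have h1 : g 1 + g 2 = 0 := by
      have := congrArg (B x₀) hg'
      simp [hBx, ω] at this
      simp [Algebra.smul_def, hεc, hp₀re, hεs, show ε x₀.re = 0 by rw [← hBx, hBA]] at this
      linear_combination this
    have h2 : g 1 • (ω * (ω * p₀)) = 0 := by
      have := congrArg (fun a => ω * a) hg'
      simp only [mul_add, mul_smul_comm, hωx, smul_zero, zero_add, mul_zero] at this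
      rw [show g 2 = -g 1 by linear_combination h1] at this
      linear_combination (norm := skip) this
      simp only [add_mul, one_mul, mul_add, smul_add, neg_smul]
      abel
    have hω2 : ω * (ω * p₀) ≠ 0 := by
      intro h
      have h5 : sv ^ (n - 1) * p₀ = 0 := by
        have h' := congrArg (fun a => sv ^ (n - 2) * (star (1 + ω) * a)) h
        simp only [mul_zero] at h'
        rw [← mul_assoc ω, hωω, ← hsv] at h'
        rw [show n - 1 = n - 2 + 1 by omega, pow_succ]
        linear_combination h' - (sv ^ (n - 2) * sv * p₀) * hU1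
      rw [hsv, ← map_pow, hav] at h5
      have h6 := congrArg (fun a : QuadraticAlgebra R s s => ψ a.re) h5
      simp [hψtop, hp₀re] at h6
      exact hα0 h6
    have hg1 : g 1 = 0 := (smul_eq_zero.1 h2).resolve_right hω2
    have hg2 : g 2 = 0 := by linear_combination h1 - hg1
    rw [hg1, hg2, zero_smul, zero_smul, add_zero, add_zero] at hg'
    have hx0 : x₀ ≠ 0 := fun h => one_ne_zero (α := F) (by
      rw [← hp₀re, ← hBx p₀, h]; simp)
    intro i
    fin_cases i
    · exact (smul_eq_zero.1 hg').resolve_right hx0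
    · exact hg1
    · exact hg2
  · intro v hv
    obtain ⟨a, rfl⟩ := e.surjective v
    have key : ∀ k j : ℕ, B (ω ^ k * (1 + ω) ^ j) a = 0 := by
      intro k
      induction k with
      | zero =>
        intro j
        have h := hv j
        rw [hpow, mul_one, hBe] at h
        rw [pow_zero, one_mul]
        exact h
      | succ k ih =>
        intro j
        rw [show ω ^ (k + 1) * (1 + ω) ^ j = ω ^ k * (1 + ω) ^ (j + 1) - ω ^ k * (1 + ω) ^ j by ring,
          map_sub, LinearMap.sub_apply, ih, ih, sub_zero]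
    have hle : Submodule.span F (Set.range fun i : ℕ => ω ^ i) ≤ LinearMap.ker (B.flip a) :=
      Submodule.span_le.2 (Set.range_subset_iff.2 fun i => by simpa using key i 0)
    rw [hBsep a fun b => by rw [hsw b a, ← LinearMap.flip_apply B, LinearMap.mem_ker.1 (hle (hspanω b)),
      neg_zero], map_zero]
  · intro h01
    have hn3 : 3 ≤ n := by
      by_contra h
      obtain ⟨θ, h0, h1⟩ := hθ (by omega)
      exact (h01 θ).elim h0 h1
    have h20 : (2 : F) = 0 := by
      rcases h01 2 with h | h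
      · exact h
      · exact absurd (show (1 : F) = 0 by linear_combination h) one_ne_zero
    have hneg : ∀ a : F, -a = a := fun a => by linear_combination (-a) * h20
    have hγ1 : γ = 1 := (h01 γ).resolve_left hγ0
    have hf1 : ∀ i, f i = 1 := fun i => by
      simp only [f]; split_ifs
      · rw [hγ1]; linear_combination -h20
      · rfl
    have hα1 : α = 1 := (h01 α).resolve_left hα0
    refine ⟨fun i => e (ω ^ i), ?_, fun i => ?_, ?_, fun i hi => ?_, fun i hi => ?_, ?_, fun v => ?_⟩
    · simp [hp₀one hγ1 hn3]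
    · show u.1 (e (ω ^ i)) = e (ω ^ i) + e (ω ^ (i + 1))
      rw [hu, ← map_add]; congr 1; ring
    · show e (ω ^ (2 * n - 1)) = e x₀
      rw [hx₀, hα1, inv_one, hneg, one_smul]
    · rw [hBe, hBx, show i = (i - 1) + 1 by omega, pow_succ']
      simp [ω, hεs]
    · rw [hBe, hB, show star (ω ^ i) * ω ^ (i + 1) = (star ω * ω) ^ i * ω by rw [star_pow, mul_pow]; ring,
        hnormω, ← map_pow, hav]
      simp only [QuadraticAlgebra.im_mul, ω, mul_one, mul_zero, zero_mul, add_zero, zero_add]
      rw [neg_pow, show (-1 : R) = algebraMap F R (-1) by simp, hneg, map_one, one_pow, one_mul,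
        hψ i hi, hf1]
    · rw [hBe, hB, pow_one, show ω ^ (2 * n - 2) = sv ^ (n - 1) * (1 + ω) ^ (n - 1) by
        rw [show 2 * n - 2 = 2 * (n - 1) by omega, pow_mul, pow_two, hωω, ← hsv, mul_pow]]
      have hz : sv ^ (n - 1) * sv = 0 := by rw [← pow_succ, show n - 1 + 1 = n by omega, hsvn]
      have e : star ω * (sv ^ (n - 1) * (1 + ω) ^ (n - 1)) = -(sv ^ (n - 1) * ω) := by
        generalize n - 1 = m at hz hsvω ⊢
        have hso : star ω = sv - ω := by rw [hsv, hav]; ext <;> simp [ω] <;> ring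
        have : ∀ k : ℕ, sv ^ m * ω * (1 + ω) ^ k = sv ^ m * ω := by
          intro k
          induction k with
          | zero => simp
          | succ k ih => linear_combination (1 + ω) * ih + hsvω
        rw [hso]
        linear_combination ((1 + ω) ^ m) * hz - this m
      rw [e, ← hωtop, hωtop']
      simp [← hα, hα1, hneg]
    · obtain ⟨a, rfl⟩ := e.surjective v
      rw [hBe, hBx, ← map_smul, pow_zero, ← map_sub]
      have hsub : Submodule.span F (Set.range fun i : ℕ => ω ^ (i + 1)) ≤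
          (Submodule.span F (Set.range fun i : ℕ => e (ω ^ (i + 1)))).comap e.toLinearMap :=
        Submodule.span_le.2 (Set.range_subset_iff.2 fun i => Submodule.subset_span ⟨i, rfl⟩)
      exact hsub (hspanω1 a)

end CfsgLib.Geom
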