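import Mathlib
import Cfsg.Agent.Lib.Geom.AltTransvClosure
import Cfsg.Agent.Lib.Geom.SympUnipModel
import Cfsg.Agent.Lib.Geom.RegUnipGen
import Cfsg.Agent.Lib.Geom.RegUnipTheta

/-!
Three conjugate regular unipotent elements generating a symplectic group.
-/

set_option autoImplicit false

namespace CfsgLib.Geom

variable {F : Type*} [Field F] [Fintype F]

/-- A parameter whose square generates the field, different from two. -/
theorem exists_square_param :
    ∃ γ : F, γ ≠ 0 ∧ γ ≠ 2 ∧ Subring.closure {γ * γ} = ⊤ := by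
  obtain ⟨G, hG⟩ := IsCyclic.exists_generator (α := Fˣ)
  have hord : orderOf G = Nat.card F - 1 := by
    rw [orderOf_eq_card_of_forall_mem_zpowers hG, Nat.card_units]
  obtain ⟨g, hg⟩ : ∃ g : F, g = G := ⟨_, rfl⟩
  have hg0 : g ≠ 0 := hg ▸ G.ne_zero
  have hgen : Subring.closure {g * g} = ⊤ := by
    by_contra hne
    set R := Subring.closure ({g * g} : Set F)
    obtain ⟨e, he, he2⟩ := ru_natCard_eq R
    have hmem : g * g ∈ R := Subring.subset_closure rfl
    have h1 : orderOf (g * g) + 1 ≤ Nat.card R := by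
      let f : Option (Fin (orderOf (g * g))) → R := fun o =>
        o.elim 0 fun i => ⟨(g * g) ^ (i : ℕ), pow_mem hmem _⟩
      have hf : Function.Injective f := by
        rintro (_ | i) (_ | j) h
        · rfl
        · exact absurd (congrArg Subtype.val h).symm (pow_ne_zero _ (mul_ne_zero hg0 hg0))
        · exact absurd (congrArg Subtype.val h) (pow_ne_zero _ (mul_ne_zero hg0 hg0))
        · exact congrArg some (Fin.ext (pow_injOn_Iio_orderOf (Set.mem_Iio.2 i.2) (Set.mem_Iio.2 j.2)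
            (congrArg Subtype.val h)))
      simpa [Nat.card_eq_fintype_card] using Nat.card_le_card_of_injective f hf
    have h2 : Nat.card F - 1 ≤ 2 * orderOf (g * g) := by
      refine Nat.le_of_dvd (Nat.mul_pos two_pos (orderOf_pos_iff.2 ?_)) ?_
      · exact isOfFinOrder_iff_pow_eq_one.2 ⟨orderOf G, orderOf_pos G, by
          rw [← pow_two, ← pow_mul, mul_comm, pow_mul, hg, ← Units.val_pow_eq_pow_val,
            pow_orderOf_eq_one, Units.val_one, one_pow]⟩
      · rw [← hord]
        refine orderOf_dvd_of_pow_eq_one (Units.ext ?_)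
        rw [Units.val_pow_eq_pow_val, ← hg, pow_mul, pow_two, pow_orderOf_eq_one, Units.val_one]
    have h3 : Nat.card R * Nat.card R ≤ Nat.card F := by
      rw [he, ← pow_two]
      exact Nat.pow_le_pow_right (by omega) (he2 hne)
    have h4 : 2 * Nat.card R ≤ Nat.card R * Nat.card R := Nat.mul_le_mul_right _ Finite.one_lt_card
    omega
  by_cases h2 : g = 2
  · refine ⟨-g, neg_ne_zero.2 hg0, fun h => hg0 ?_, by rwa [neg_mul_neg]⟩
    have h4 : (2 : F) * 2 = 0 := by linear_combination -h - h2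
    rw [h2]
    exact mul_self_eq_zero.1 h4
  · exact ⟨g, hg0, h2, hgen⟩

/-- The symplectic group in the language of isometries. -/
theorem exists_three_unipotent_symp {n : ℕ} (hn : 2 ≤ n) (h22 : ¬ (n = 2 ∧ Fintype.card F = 2)) :
    ∃ u k s : formIsoms (sympBilin n F),
      (((u.1 : (Fin n ⊕ Fin n → F) →ₗ[F] (Fin n ⊕ Fin n → F)) - 1) ^ (2 * n) = 0 ∧
        ((u.1 : (Fin n ⊕ Fin n → F) →ₗ[F] (Fin n ⊕ Fin n → F)) - 1) ^ (2 * n - 1) ≠ 0) ∧
      Subgroup.closure ({u, k * u * k⁻¹, s * u * s⁻¹} : Set (formIsoms (sympBilin n F))) = ⊤ := by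
  classical
  obtain ⟨γ, hγ0, hγ2, hgen⟩ := exists_square_param (F := F)
  have hθ : n = 2 → ∃ θ : F, θ ≠ 0 ∧ θ ≠ 1 := by
    intro h2
    by_contra hno
    push Not at hno
    refine h22 ⟨h2, le_antisymm ?_ Fintype.one_lt_card⟩
    calc Fintype.card F = (Finset.univ : Finset F).card := rfl
      _ ≤ ({0, 1} : Finset F).card := Finset.card_le_card fun a _ => by
          rcases eq_or_ne a 0 with rfl | ha
          · simp
          · simp [hno a ha]
      _ ≤ 2 := Finset.card_le_two
  obtain ⟨u, K, z, x, p, δ, ⟨hnil, hnz⟩, hux, ⟨hz1, hz2⟩, ⟨hxp, hpu⟩, ⟨hli, hlib⟩, hsep, ⟨hδ0, hKu⟩,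
    hchain⟩ := exists_symp_unip_data hn hγ0 (fun _ => hγ2) hθ
  have hA : ∀ v, (sympBilin n F) v v = 0 := sympBilin_self
  have hBsep : ∀ v, (∀ w, (sympBilin n F) v w = 0) → v = 0 := sympBilin_sep
  have hsw := alt_swap (sympBilin n F) hA
  have uu : ∀ a b, (sympBilin n F) (u.1 a) (u.1 b) = (sympBilin n F) a b := u.2
  obtain ⟨za, hza⟩ : ∃ t, t = (u⁻¹).1 z := ⟨_, rfl⟩
  obtain ⟨zb, hzb⟩ : ∃ t, t = (u⁻¹).1 za := ⟨_, rfl⟩
  have hu1 : u.1 za = z := by rw [hza]; exact u.1.apply_symm_apply z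
  have hu2 : u.1 zb = za := by rw [hzb]; exact u.1.apply_symm_apply _
  have a01 : (sympBilin n F) z za = -1 := by rw [← uu, hu1, hsw z (u.1 z), hz1]
  have a02 : (sympBilin n F) z zb = -γ := by rw [← uu, hu2, ← uu, hu1, hsw z (u.1 (u.1 z)), hz2]
  have a12 : (sympBilin n F) za zb = -1 := by rw [← uu, hu1, hu2, a01]
  let a : Fin 3 → (Fin n ⊕ Fin n → F) := ![z, za, zb]
  let b : Fin 3 → (Fin n ⊕ Fin n → F) := ![x, -u.1 p, (-γ) • p]
  have hxup : (sympBilin n F) x (u.1 p) = 1 := by rw [← hux, uu, hxp]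
  have hG : ∀ i j, (sympBilin n F) (b i) (b j) = (sympBilin n F) (a i) (a j) := by
    have e01 : (sympBilin n F) (b 0) (b 1) = (sympBilin n F) (a 0) (a 1) := by simp [a, b, hxup, a01]
    have e02 : (sympBilin n F) (b 0) (b 2) = (sympBilin n F) (a 0) (a 2) := by simp [a, b, hxp, a02]
    have e12 : (sympBilin n F) (b 1) (b 2) = (sympBilin n F) (a 1) (a 2) := by
      simp [a, b, hsw p (u.1 p), hpu, a12]
      field_simp
    intro i j
    fin_cases i <;> fin_cases j
    · exact (hA _).trans (hA _).symm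
    · exact e01
    · exact e02
    · show (sympBilin n F) (b 1) (b 0) = (sympBilin n F) (a 1) (a 0)
      rw [hsw (b 0), hsw (a 0), e01]
    · exact (hA _).trans (hA _).symm
    · exact e12
    · show (sympBilin n F) (b 2) (b 0) = (sympBilin n F) (a 2) (a 0)
      rw [hsw (b 0), hsw (a 0), e02]
    · show (sympBilin n F) (b 2) (b 1) = (sympBilin n F) (a 2) (a 1)
      rw [hsw (b 1), hsw (a 1), e12]
    · exact (hA _).trans (hA _).symm
  have ha : LinearIndependent F a := by
    rw [Fintype.linearIndependent_iff]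
    intro g hg
    have h := congrArg u.1 (congrArg u.1 hg)
    simp only [Fin.sum_univ_three, a, Matrix.cons_val_zero, Matrix.cons_val_one, Matrix.cons_val_two,
      Matrix.head_cons, Matrix.tail_cons, map_add, map_smul, map_zero, hu2, hu1] at h
    have h' := Fintype.linearIndependent_iff.1 hli ![g 2, g 1, g 0] (by
      simp only [Fin.sum_univ_three, Matrix.cons_val_zero, Matrix.cons_val_one, Matrix.cons_val_two,
        Matrix.head_cons, Matrix.tail_cons]
      rw [← h]; abel)
    intro i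
    fin_cases i
    · exact h' 2
    · exact h' 1
    · exact h' 0
  have hb : LinearIndependent F b := by
    rw [Fintype.linearIndependent_iff]
    intro g hg
    have h' := Fintype.linearIndependent_iff.1 hlib ![g 0, -g 1, -(γ * g 2)] (by
      rw [← hg]
      simp [Fin.sum_univ_three, b, smul_smul, mul_comm])
    intro i
    fin_cases i
    · exact h' 0
    · simpa using h' 1
    · simpa [hγ0] using h' 2
  let ba := Module.Basis.span ha
  let φ : Submodule.span F (Set.range a) →ₗ[F] (Fin n ⊕ Fin n → F) := ba.constr F b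
  have hφ : ∀ t, φ t = ∑ j, ba.repr t j • b j := fun t => ba.constr_apply_fintype F b t
  have hts : ∀ t : Submodule.span F (Set.range a), (t : Fin n ⊕ Fin n → F) = ∑ j, ba.repr t j • a j := by
    intro t
    conv_lhs => rw [← ba.sum_repr t]
    rw [AddSubmonoidClass.coe_finsetSum]
    exact Finset.sum_congr rfl fun j _ => by rw [Submodule.coe_smul, Module.Basis.span_apply]
  obtain ⟨k₀, -, hk₀, hkφ⟩ := witt_alternating (sympBilin n F) hA hBsep _ φ
    (by
      rw [← LinearMap.ker_eq_bot, Submodule.eq_bot_iff]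
      intro t ht
      rw [LinearMap.mem_ker, hφ] at ht
      have := Fintype.linearIndependent_iff.1 hb _ ht
      exact ba.ext_elem fun i => by rw [this i]; simp)
    (fun t t' => by
      rw [hφ, hφ, hts t, hts t']
      simp only [map_sum, LinearMap.sum_apply, map_smul, LinearMap.smul_apply, hG])
  have hkab : ∀ i, k₀ (a i) = b i := fun i => by
    have h1 : (ba i : Fin n ⊕ Fin n → F) = a i := by simp [ba, Module.Basis.span_apply]
    rw [← h1, hkφ]
    exact ba.constr_basis F b i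
  let k : formIsoms (sympBilin n F) := ⟨k₀, hk₀⟩
  have kz : k₀ z = x := hkab 0
  have kza : k₀ za = -u.1 p := hkab 1
  have kzb : k₀ zb = (-γ) • p := hkab 2
  refine ⟨u, k, K, ⟨hnil, fun h => hnz (by rw [h]; rfl)⟩, ?_⟩
  set M₀ := Subgroup.closure ({u, k * u * k⁻¹, K * u * K⁻¹} : Set (formIsoms (sympBilin n F))) with hM₀
  let M := M₀.map (formIsoms (sympBilin n F)).subtype
  have hM : M ≤ formIsoms (sympBilin n F) := Subgroup.map_subtype_le _
  have hmem : ∀ g ∈ M₀, (g : (Fin n ⊕ Fin n → F) ≃ₗ[F] _) ∈ M := fun g hg =>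
    Subgroup.mem_map_of_mem _ hg
  have huM : u.1 ∈ M := hmem _ (Subgroup.subset_closure (by simp))
  obtain ⟨v, hv⟩ : ∃ v, v = (k * u * k⁻¹ : formIsoms (sympBilin n F)).1 := ⟨_, rfl⟩
  have hvM : v ∈ M := hv ▸ hmem _ (Subgroup.subset_closure (by simp))
  have hwM : (K * u * K⁻¹ : formIsoms (sympBilin n F)).1 ∈ M := hmem _ (Subgroup.subset_closure (by simp))
  have hvk : ∀ t, v (k₀ t) = k₀ (u.1 t) := fun t => by
    rw [hv]
    simp [Subgroup.coe_mul, LinearEquiv.mul_apply, LinearEquiv.coe_inv, k]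
  have hvk' : ∀ t, v⁻¹ (k₀ t) = k₀ ((u⁻¹).1 t) := fun t => by
    rw [LinearEquiv.coe_inv, LinearEquiv.symm_apply_eq, hvk]
    congr 1
    exact (u.1.apply_symm_apply t).symm
  have hgx : (v * u.1 * v⁻¹ * v⁻¹) x = γ • x := by
    simp only [LinearEquiv.mul_apply]
    conv_lhs => rw [← kz]
    rw [hvk', ← hza, hvk', ← hzb, kzb, map_smul, show u.1 p = -(k₀ za) by rw [kza, neg_neg], smul_neg,
      neg_smul, neg_neg, map_smul, hvk, hu1, kz]
  have ht : ∃ t ∈ M, ∀ y, t y = y + (δ * (sympBilin n F) x y) • x := by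
    refine ⟨_, mul_mem hwM (inv_mem huM), fun y => ?_⟩
    rw [LinearEquiv.mul_apply, hKu, LinearEquiv.coe_inv, LinearEquiv.apply_symm_apply]
  have hx : AtFull (sympBilin n F) M x := atFull_of_multiplier hM
    (mul_mem (mul_mem (mul_mem hvM huM) (inv_mem hvM)) (inv_mem hvM)) hgx ht hA
    (fun S hS hmul => ru_addSubgroup_eq_top hgen S hmul hS hδ0)
  have hy : ∀ j : ℕ, (v ^ j) x = k₀ ((u ^ j).1 z) := by
    intro j
    induction j with
    | zero => simp [kz]
    | succ j ih =>
      rw [pow_succ', pow_succ', LinearEquiv.mul_apply, ih, hvk]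
      rfl
  have hyc : ∀ j : ℕ, (sympBilin n F) ((v ^ j) x) ((v ^ (j + 1)) x) = 1 := fun j => by
    rw [hy, hy, hk₀, pow_succ, Subgroup.coe_mul, LinearEquiv.mul_apply, (u ^ j).2, hz1]
  have hall : ∀ y, AtFull (sympBilin n F) M y := by
    by_cases h01 : ∀ a : F, a = 0 ∨ a = 1
    · obtain ⟨c, hc0, huc, hcx, hxc, hch, hpair, hspan⟩ := hchain h01
      have hp : AtFull (sympBilin n F) M p := by
        have h := (hx.map hM (mul_mem (inv_mem hvM) (inv_mem hvM))).smul (-γ)⁻¹
        rw [LinearEquiv.mul_apply] at h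
        conv at h => arg 3; rw [← kz, hvk', ← hza, hvk', ← hzb, kzb, inv_smul_smul₀ (neg_ne_zero.2 hγ0)]
        exact h
      exact atFull_all_of_chain hM hA hBsep h01 hn huM c hx (hc0 ▸ hp) huc hux hcx (hc0 ▸ hxp) hxc hch
        hpair hspan
    · push Not at h01
      obtain ⟨θ, hθ0, hθ1⟩ := h01
      refine atFull_all_of_orbit hM hA hBsep hθ0 hθ1 (fun j => (v ^ j) x)
        (fun j => hx.map hM (pow_mem hvM j)) (fun j => by rw [hyc]; exact one_ne_zero) fun t ht' => ?_
      obtain ⟨t', rfl⟩ := k₀.surjective t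
      rw [hsep t' fun j => by rw [← hk₀, ← hy]; exact ht' j, map_zero]
  have hle : formIsoms (sympBilin n F) ≤ M := by
    rw [formIsoms_eq_closure_alt (sympBilin n F) hA hBsep, Subgroup.closure_le]
    rintro g ⟨q, c, hg⟩
    obtain ⟨t, htM, htz⟩ := hall q (-c)
    have : g = t := LinearEquiv.ext fun y => by rw [hg, htz, hsw q y, neg_mul, mul_neg]
    exact this ▸ htM
  rw [eq_top_iff]
  intro g _
  obtain ⟨g', hg', he⟩ := Subgroup.mem_map.1 (hle g.2)
  exact Subtype.ext he ▸ hg'

end CfsgLib.Geom
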