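import Mathlib
import Cfsg.Agent.Lib.Geom.DicksonPSL

set_option autoImplicit false

/-!
Groups of transformations containing two parabolic elements with different fixed points.
-/

namespace CfsgLib.Geom.Moebius

open Matrix
open scoped MatrixGroups
open MulAction (orbit)

variable {E : Type*} [Field E] [Fintype (Line E)] (G : Subgroup PGL(2, E))

theorem same_orbit [Finite G] (p : ℕ) [Fact p.Prime] [CharP E p]
    (hfix : ∀ g ∈ G, ∃ P : Line E, g • P = P) {P Q : Line E} (hP : (paraAt G P).Nonempty)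
    (hQ : (paraAt G Q).Nonempty) : Q ∈ orbit G P := by
  classical
  by_contra hne
  have hcP := (Set.ncard_pos (finite_paraAt G P)).2 hP
  have hcQ := (Set.ncard_pos (finite_paraAt G Q)).2 hQ
  have wP : wt G P ≠ 0 := by unfold wt; omega
  have wQ : wt G Q ≠ 0 := by unfold wt; omega
  obtain ⟨o, u, k, d⟩ := exists_pointData G p wP
  obtain ⟨o', u', k', d'⟩ := exists_pointData G p wQ
  have b := d.bound.2 (by have := d.para_eq; omega)
  have b' := d'.bound.2 (by have := d'.para_eq; omega)
  have hT : ∀ g ∈ G, ∀ S ∈ (Finset.univ : Finset (Line E)), g • S ∈ (Finset.univ : Finset (Line E)) :=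
    fun _ _ _ _ => Finset.mem_univ _
  have hs := sum_wt G hfix
  rw [sum_split G hT (Finset.mem_univ P), d.orb_eq, sum_split G (invariant_filter G hT P) (P := Q)
    (Finset.mem_filter.2 ⟨Finset.mem_univ Q, hne⟩), d'.orb_eq] at hs
  have := Nat.card_pos (α := G)
  omega

set_option synthInstance.maxSize 4096 in
set_option synthInstance.maxHeartbeats 200000 in
theorem divisor_cases : ∀ g ∈ ([12, 24, 60] : List ℕ), ∀ u ∈ Finset.range 61, ∀ o ∈ Finset.range 61,
    u ∣ g → o ∣ g → o * u ∣ g → o % u = 1 → 3 ≤ u → u % 2 = 1 → 2 ≤ o → o = u + 1 ∨ (g = 60 ∧ u = 3) := by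
  decide +kernel

variable (p : ℕ) [Fact p.Prime] [CharP E p]

/-- Two translations with different fixed points give a subline, apart from the icosahedral case. -/
theorem two_para_cases [Finite G] (hp : p ≠ 2) (hfix : ∀ g ∈ G, ∃ P : Line E, g • P = P) {t : E} (ht : t ≠ 0)
    (hgt : aff 1 t ∈ G) (hg1 : low 1 ∈ G) :
    (∃ u k, PointData G inf (u + 1) u k ∧ pt (0 : E) ∈ orbit G (inf : Line E) ∧ pt (1 : E) ∈ orbit G (inf : Line E)) ∨
      (Nat.card G = 60 ∧ p = 3 ∧ Nonempty (G ≃* alternatingGroup (Fin 5))) := by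
  classical
  have h1 : pt (1 : E) ∈ orbit G (inf : Line E) := ⟨⟨low 1, hg1⟩, by
    show low (1 : E) • (inf : Line E) = pt 1
    rw [low_smul_inf one_ne_zero, inv_one]⟩
  have hpinf : (paraAt G inf).Nonempty := ⟨aff 1 t, hgt, aff_smul_inf _ _, fun Q hQ => by
    rcases fixed_aff_cases hQ with e | ⟨e, -⟩ | ⟨-, e⟩
    · exact e
    · exact absurd rfl e
    · exact absurd e ht⟩
  have hp0 : (paraAt G (pt 0)).Nonempty := by
    refine ⟨low 1, hg1, low_smul_zero 1, fun Q hQ => ?_⟩
    rw [low, mul_smul, mul_smul] at hQ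
    have hQ' : aff (1 : Eˣ) (1 : E) • (swapElem : PGL(2, E)) • Q = (swapElem : PGL(2, E)) • Q := by
      have := congrArg (fun T => (swapElem : PGL(2, E)) • T) hQ
      rwa [← mul_smul (swapElem : PGL(2, E)) swapElem, swap_mul_swap, one_smul] at this
    rcases fixed_aff_cases hQ' with e | ⟨e, -⟩ | ⟨-, e⟩
    · rw [← swap_smul_inf, ← e, ← mul_smul, swap_mul_swap, one_smul]
    · exact absurd rfl e
    · exact absurd e one_ne_zero
  have h0 := same_orbit G p hfix hpinf hp0
  have hwt : wt G inf ≠ 0 := by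
    have := (Set.ncard_pos (finite_paraAt G inf)).2 hpinf
    unfold wt; omega
  obtain ⟨o, u, k, d⟩ := exists_pointData G p hwt
  have hu2 : 2 ≤ u := by
    have := (Set.ncard_pos (finite_paraAt G inf)).2 hpinf
    have := d.para_eq
    omega
  have hA : Nat.card (transSet G) = u := by rw [← ncard_paraAt_inf, d.para_eq]
  have := finite_transSet G
  have hdiv : ∀ r : ℕ, r.Prime → r ∣ u → r = p := by
    intro r hr hru
    have := Fact.mk hr
    obtain ⟨x, hx⟩ := exists_prime_addOrderOf_dvd_card' (G := transSet G) r (hA ▸ hru)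
    rw [← AddSubgroup.addOrderOf_coe] at hx
    have hd : addOrderOf (x : E) ∣ p := addOrderOf_dvd_of_nsmul_eq_zero (by simp [nsmul_eq_mul])
    rw [hx] at hd
    exact (Nat.prime_dvd_prime_iff_eq hr Fact.out).1 hd
  have huodd : u % 2 = 1 := by
    by_contra h
    exact hp (hdiv 2 Nat.prime_two (by omega)).symm
  obtain ⟨j, hj⟩ := d.omod
  have ho2 : 2 ≤ o := by
    by_contra h
    have he : (orbit G (inf : Line E)).ncard = 1 := by
      have := d.orb_eq; omega
    have := fixed_of_orbit_one G he _ hg1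
    rw [low_smul_inf one_ne_zero] at this
    exact pt_ne_inf _ this
  by_cases hgood : o = u + 1
  · exact Or.inl ⟨u, k, hgood ▸ d, h0, h1⟩
  have small : Nat.card G = 12 ∨ Nat.card G = 24 ∨ Nat.card G = 60 → Nat.card G = 60 ∧ p = 3 := by
    intro hg
    have hmem : Nat.card G ∈ ([12, 24, 60] : List ℕ) := by simpa using hg
    have hdu : u ∣ Nat.card G := ⟨o * k, by rw [← d.mul_eq]; ring⟩
    have hdo : o ∣ Nat.card G := ⟨u * k, d.mul_eq.symm⟩
    have hdou : o * u ∣ Nat.card G := ⟨k, by rw [← d.mul_eq]; ring⟩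
    have hle : ∀ x, x ∣ Nat.card G → x ∈ Finset.range 61 := fun x hx => by
      have := Nat.le_of_dvd Nat.card_pos hx
      rw [Finset.mem_range]; omega
    have hmod : o % u = 1 := by
      rw [hj, Nat.add_mul_mod_self_left, Nat.one_mod_eq_one.2 (by omega)]
    rcases divisor_cases _ hmem u (hle u hdu) o (hle o hdo) hdu hdo hdou hmod (by omega) huodd ho2 with e | ⟨e, e3⟩
    · exact absurd e hgood
    · exact ⟨e, (hdiv 3 Nat.prime_three (by rw [e3])).symm⟩
  cases orbit_cases G p hfix with
  | fixedPoint P hP =>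
    exfalso
    have e := hpinf.choose_spec.2.2 P (hP _ hpinf.choose_spec.1)
    subst e
    have := hP _ hg1
    rw [low_smul_inf one_ne_zero] at this
    exact pt_ne_inf _ this
  | dihedral P e1 e2 e3 =>
    exfalso
    have ha : (aff 1 t : PGL(2, E)) • P ∈ orbit G P := ⟨⟨_, hgt⟩, rfl⟩
    by_cases hfixP : (aff 1 t : PGL(2, E)) • P = P
    · have := hpinf.choose_spec
      rcases fixed_aff_cases hfixP with e | ⟨e, -⟩ | ⟨-, e⟩
      · subst e; exact hpinf.ne_empty e1
      · exact absurd rfl e
      · exact absurd e ht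
    · have hpair := fixed_of_orbit_pair e2.le ha hfixP
      have hb : (aff 1 t : PGL(2, E)) • ((aff 1 t : PGL(2, E)) • P) ∈ orbit G P :=
        ⟨⟨_, mul_mem hgt hgt⟩, by show (aff 1 t * aff 1 t : PGL(2, E)) • P = _; rw [mul_smul]⟩
      rw [hpair] at hb
      rcases hb with e | e
      · rw [← mul_smul, aff_mul] at e
        rcases fixed_aff_cases e with e' | ⟨e', -⟩ | ⟨-, e'⟩
        · subst e'; exact hfixP (aff_smul_inf _ _)
        · exact absurd (mul_one 1) e'
        · have h2 : (2 : E) ≠ 0 := fun h => hp (by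
            have h' : p ∣ 2 := (CharP.cast_eq_zero_iff E p 2).1 (by exact_mod_cast h)
            exact (Nat.prime_dvd_prime_iff_eq Fact.out Nat.prime_two).1 h')
          rw [Units.val_one, one_mul, ← two_mul] at e'
          exact mul_ne_zero h2 ht e'
      · exact hfixP (smul_left_cancel _ (Set.mem_singleton_iff.1 e))
  | tetrahedral P h hP => have := small (Or.inl h); omega
  | octahedral P h hP => have := small (Or.inr (Or.inl h)); omega
  | icosahedral P Q R h hP hQ hR hcov =>
    exact Or.inr ⟨h, (small (Or.inr (Or.inr h))).2,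
      icosahedral_type p hfix h (Or.inl ⟨P, Q, R, hP, hQ, hR, hcov⟩)⟩
  | icosahedralThree P Q h hP hQ hcov =>
    exact Or.inr ⟨h, (small (Or.inr (Or.inr h))).2, icosahedral_type p hfix h (Or.inr ⟨P, Q, hP, hQ, hcov⟩)⟩
  | subline P u' k' hu hP hk =>
    exfalso
    have hne : (paraAt G P).Nonempty := (Set.ncard_pos (finite_paraAt G P)).1 (by have := hP.para_eq; omega)
    obtain ⟨g, hg⟩ := same_orbit G p hfix hne hpinf
    have eu := ncard_paraAt_smul G g.2 P
    rw [show g.1 • P = (inf : Line E) from hg] at eu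
    have eo : orbit G (inf : Line E) = orbit G P := MulAction.orbit_eq_iff.2 ⟨g, hg⟩
    have e1 := d.orb_eq
    rw [eo, hP.orb_eq] at e1
    have e2 := d.para_eq
    have e3 := hP.para_eq
    omega

end CfsgLib.Geom.Moebius
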