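import Mathlib
import Cfsg.Agent.Lib.Classical.SUCenter

set_option autoImplicit false

/-!
Explicit elements of `SU_3(2)`.
-/

namespace CfsgLib.Geom.UThreeTwo

open Matrix

/-- `a + b w` with `w ^ 2 = w + 1`. -/
abbrev Four : Type := ZMod 2 × ZMod 2

def fmul (x y : Four) : Four := (x.1 * y.1 + x.2 * y.2, x.1 * y.2 + x.2 * y.1 + x.2 * y.2)

def fsq (x : Four) : Four := fmul x x

abbrev Mat : Type := Fin 3 → Fin 3 → Four

def mat (a b c d e f g h i : Four) : Mat := ![![a, b, c], ![d, e, f], ![g, h, i]]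

def mmul (A B : Mat) : Mat := fun i j => fmul (A i 0) (B 0 j) + fmul (A i 1) (B 1 j) + fmul (A i 2) (B 2 j)

def one : Mat := mat (1, 0) (0, 0) (0, 0) (0, 0) (1, 0) (0, 0) (0, 0) (0, 0) (1, 0)

def scal (c : Four) (A : Mat) : Mat := fun i j => fmul c (A i j)

def IsUnitary (A : Mat) : Prop :=
  (∀ i j, fmul (A 0 i) (fsq (A 0 j)) + fmul (A 1 i) (fsq (A 1 j)) + fmul (A 2 i) (fsq (A 2 j)) = one i j) ∧
    fmul (fmul (A 0 0) (A 1 1)) (A 2 2) + fmul (fmul (A 0 1) (A 1 2)) (A 2 0) + fmul (fmul (A 0 2) (A 1 0)) (A 2 1) +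
      (fmul (fmul (A 0 2) (A 1 1)) (A 2 0) + fmul (fmul (A 0 0) (A 1 2)) (A 2 1) +
        fmul (fmul (A 0 1) (A 1 0)) (A 2 2)) = (1, 0)

/-- The quaternion elements. -/
def quat : QuaternionGroup 2 → Mat
  | .a i => (![
      mat (1, 0) (0, 0) (0, 0) (0, 0) (1, 0) (0, 0) (0, 0) (0, 0) (1, 0),
      mat (1, 0) (1, 0) (1, 0) (1, 0) (0, 1) (1, 1) (1, 0) (1, 1) (0, 1),
      mat (1, 0) (0, 0) (0, 0) (0, 0) (0, 0) (1, 0) (0, 0) (1, 0) (0, 0),
      mat (1, 0) (1, 0) (1, 0) (1, 0) (1, 1) (0, 1) (1, 0) (0, 1) (1, 1)] : Fin 4 → Mat) i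
  | .xa i => (![
      mat (1, 0) (1, 1) (1, 1) (0, 1) (0, 1) (1, 1) (0, 1) (1, 1) (0, 1),
      mat (1, 0) (0, 1) (0, 1) (1, 1) (1, 1) (0, 1) (1, 1) (0, 1) (1, 1),
      mat (1, 0) (1, 1) (1, 1) (0, 1) (1, 1) (0, 1) (0, 1) (0, 1) (1, 1),
      mat (1, 0) (0, 1) (0, 1) (1, 1) (0, 1) (1, 1) (1, 1) (1, 1) (0, 1)] : Fin 4 → Mat) i

def diagW : Fin 3 → Mat :=
  ![one, mat (1, 0) (0, 0) (0, 0) (0, 0) (0, 1) (0, 0) (0, 0) (0, 0) (1, 1),
    mat (1, 0) (0, 0) (0, 0) (0, 0) (1, 1) (0, 0) (0, 0) (0, 0) (0, 1)]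

def cyc : Fin 3 → Mat :=
  ![one, mat (0, 0) (1, 0) (0, 0) (0, 0) (0, 0) (1, 0) (1, 0) (0, 0) (0, 0),
    mat (0, 0) (0, 0) (1, 0) (1, 0) (0, 0) (0, 0) (0, 0) (1, 0) (0, 0)]

def nine (x : ZMod 3 × ZMod 3) : Mat := mmul (diagW x.1) (cyc x.2)

/-- The three cube roots of one. -/
def roots : List Four := [(1, 0), (0, 1), (1, 1)]

theorem quat_unitary : ∀ x, IsUnitary (quat x) := by unfold IsUnitary; decide +kernel

theorem nine_unitary : ∀ x, IsUnitary (nine x) := by unfold IsUnitary; decide +kernel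

theorem quat_one : quat 1 = one := by decide +kernel

theorem quat_mul : ∀ x y, mmul (quat x) (quat y) = quat (x * y) := by decide +kernel

theorem nine_mul : ∀ x y, ∃ c ∈ roots, mmul (nine x) (nine y) = scal c (nine (x + y)) := by decide +kernel

theorem nine_normal : ∀ q x, ∃ y, ∃ c ∈ roots, mmul (quat q) (nine x) = scal c (mmul (nine y) (quat q)) := by
  decide +kernel

theorem nine_faithful : ∀ x, mmul (nine x) (nine (1, 0)) = mmul (nine (1, 0)) (nine x) →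
    mmul (nine x) (nine (0, 1)) = mmul (nine (0, 1)) (nine x) → x = 0 := by decide +kernel

theorem quat_faithful : ∀ q, mmul (quat q) (nine (1, 0)) = mmul (nine (1, 0)) (quat q) →
    mmul (quat q) (nine (0, 1)) = mmul (nine (0, 1)) (quat q) → q = 1 := by decide +kernel

end CfsgLib.Geom.UThreeTwo
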